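import Mathlib

set_option autoImplicit false

namespace Groth.Agent.H5.CA

open TensorProduct

/-- A "weak colimit" presentation of a `K`-algebra `A` by a family of `K`-algebras `G i`:
compatible maps `g i : G i → A`, a class of admissible (compatible) transition homomorphisms closed
under composition and making the family directed, such that the `g i` are jointly surjective and
every element of a kernel is killed by an admissible transition. No functoriality is assumed. -/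
structure WeakColimit (K : Type*) [CommRing K] {ι : Type*} (G : ι → Type*)
    [∀ i, CommRing (G i)] [∀ i, Algebra K (G i)] (A : Type*) [CommRing A] [Algebra K A] where
  g : ∀ i, G i →ₐ[K] A
  Adm : ∀ ⦃i j : ι⦄, (G i →ₐ[K] G j) → Prop
  adm_id : ∀ i, Adm (AlgHom.id K (G i))
  adm_comp : ∀ ⦃i j k : ι⦄ (φ : G i →ₐ[K] G j) (ψ : G j →ₐ[K] G k), Adm φ → Adm ψ →
    Adm (ψ.comp φ)
  adm_compat : ∀ ⦃i j : ι⦄ (φ : G i →ₐ[K] G j), Adm φ → (g j).comp φ = g i
  nonempty : Nonempty ι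
  directed : ∀ i j : ι, ∃ (k : ι) (φ : G i →ₐ[K] G k) (ψ : G j →ₐ[K] G k), Adm φ ∧ Adm ψ
  surj : ∀ a : A, ∃ (i : ι) (x : G i), g i x = a
  ker : ∀ (i : ι) (x : G i), g i x = 0 → ∃ (j : ι) (φ : G i →ₐ[K] G j), Adm φ ∧ φ x = 0

namespace WeakColimit

variable {K : Type*} [CommRing K] {ι : Type*} {G : ι → Type*} [∀ i, CommRing (G i)]
  [∀ i, Algebra K (G i)] {A : Type*} [CommRing A] [Algebra K A] (W : WeakColimit K G A)

lemma g_adm {i j : ι} (φ : G i →ₐ[K] G j) (h : W.Adm φ) (x : G i) : W.g j (φ x) = W.g i x := by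
  rw [← W.adm_compat φ h]; rfl

lemma exists_kill {i : ι} (s : Finset (G i)) (hs : ∀ x ∈ s, W.g i x = 0) :
    ∃ (j : ι) (φ : G i →ₐ[K] G j), W.Adm φ ∧ ∀ x ∈ s, φ x = 0 := by
  classical
  induction s using Finset.induction with
  | empty => exact ⟨i, AlgHom.id K _, W.adm_id i, by simp⟩
  | insert a s _ ih =>
    obtain ⟨j, φ, hφ, h1⟩ := ih (fun x hx => hs x (Finset.mem_insert_of_mem hx))
    obtain ⟨k, ψ, hψ, h2⟩ := W.ker j (φ a) (by
      rw [W.g_adm φ hφ]; exact hs a (Finset.mem_insert_self _ _))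
    refine ⟨k, ψ.comp φ, W.adm_comp φ ψ hφ hψ, ?_⟩
    intro x hx
    rw [Finset.mem_insert] at hx
    rcases hx with rfl | hx
    · exact h2
    · simp [h1 x hx]

lemma exists_kill_family {σ : Type*} [Finite σ] {i : ι} (x : σ → G i)
    (hx : ∀ s, W.g i (x s) = 0) :
    ∃ (j : ι) (φ : G i →ₐ[K] G j), W.Adm φ ∧ ∀ s, φ (x s) = 0 := by
  classical
  have := Fintype.ofFinite σ
  obtain ⟨j, φ, hφ, h⟩ := W.exists_kill (Finset.univ.image x) (by
    intro y hy
    obtain ⟨s, -, rfl⟩ := Finset.mem_image.mp hy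
    exact hx s)
  exact ⟨j, φ, hφ, fun s => h _ (Finset.mem_image_of_mem _ (Finset.mem_univ s))⟩

lemma exists_eq {i : ι} (x y : G i) (h : W.g i x = W.g i y) :
    ∃ (j : ι) (φ : G i →ₐ[K] G j), W.Adm φ ∧ φ x = φ y := by
  obtain ⟨j, φ, hφ, h1⟩ := W.ker i (x - y) (by rw [map_sub, h, sub_self])
  exact ⟨j, φ, hφ, by rwa [map_sub, sub_eq_zero] at h1⟩

lemma exists_eq_family {σ : Type*} [Finite σ] {i : ι} (x y : σ → G i)
    (h : ∀ s, W.g i (x s) = W.g i (y s)) :
    ∃ (j : ι) (φ : G i →ₐ[K] G j), W.Adm φ ∧ ∀ s, φ (x s) = φ (y s) := by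
  obtain ⟨j, φ, hφ, h1⟩ := W.exists_kill_family (fun s => x s - y s) (fun s => by
    rw [map_sub, h, sub_self])
  exact ⟨j, φ, hφ, fun s => by have := h1 s; rwa [map_sub, sub_eq_zero] at this⟩

lemma exists_lift (i₀ : ι) (s : Finset A) :
    ∃ (j : ι) (φ : G i₀ →ₐ[K] G j), W.Adm φ ∧ ∀ a ∈ s, ∃ x : G j, W.g j x = a := by
  classical
  induction s using Finset.induction with
  | empty => exact ⟨i₀, AlgHom.id K _, W.adm_id i₀, by simp⟩
  | insert a s _ ih =>
    obtain ⟨j, φ, hφ, h1⟩ := ih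
    obtain ⟨i, x, hx⟩ := W.surj a
    obtain ⟨k, φ', ψ', hφ', hψ'⟩ := W.directed j i
    refine ⟨k, φ'.comp φ, W.adm_comp φ φ' hφ hφ', ?_⟩
    intro b hb
    rw [Finset.mem_insert] at hb
    rcases hb with rfl | hb
    · exact ⟨ψ' x, by rw [W.g_adm ψ' hψ', hx]⟩
    · obtain ⟨y, hy⟩ := h1 b hb
      exact ⟨φ' y, by rw [W.g_adm φ' hφ', hy]⟩

lemma exists_lift_family {σ : Type*} [Finite σ] (i₀ : ι) (a : σ → A) :
    ∃ (j : ι) (φ : G i₀ →ₐ[K] G j), W.Adm φ ∧ ∃ x : σ → G j, ∀ s, W.g j (x s) = a s := by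
  classical
  have := Fintype.ofFinite σ
  obtain ⟨j, φ, hφ, h⟩ := W.exists_lift i₀ (Finset.univ.image a)
  choose x hx using fun s => h (a s) (Finset.mem_image_of_mem _ (Finset.mem_univ s))
  exact ⟨j, φ, hφ, x, hx⟩

/-- Joint surjectivity for `M ⊗ G i → M ⊗ A`. -/
lemma exists_lTensor_lift (M : Type*) [AddCommGroup M] [Module K M] (i₀ : ι) (y : M ⊗[K] A) :
    ∃ (j : ι) (φ : G i₀ →ₐ[K] G j), W.Adm φ ∧
      ∃ x : M ⊗[K] G j, (W.g j).toLinearMap.lTensor M x = y := by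
  obtain ⟨k, m, n, rfl⟩ := TensorProduct.exists_sum_tmul_eq y
  obtain ⟨j, φ, hφ, x, hx⟩ := W.exists_lift_family i₀ n
  exact ⟨j, φ, hφ, ∑ l, m l ⊗ₜ x l, by simp [hx]⟩

/-- Kernels die for `M ⊗ G i → M ⊗ A`. -/
lemma exists_lTensor_kill (M : Type*) [AddCommGroup M] [Module K M] {i : ι} (x : M ⊗[K] G i)
    (hx : (W.g i).toLinearMap.lTensor M x = 0) :
    ∃ (j : ι) (φ : G i →ₐ[K] G j), W.Adm φ ∧ φ.toLinearMap.lTensor M x = 0 := by
  classical
  obtain ⟨r, m, a, rfl⟩ := TensorProduct.exists_sum_tmul_eq x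
  let P : Submodule K M := Submodule.span K (Set.range m)
  have hP : P.FG := Submodule.fg_span (Set.finite_range m)
  let mP : Fin r → P := fun k => ⟨m k, Submodule.subset_span ⟨k, rfl⟩⟩
  let t : P ⊗[K] A := ∑ k, mP k ⊗ₜ W.g i (a k)
  have ht : LinearMap.rTensor A P.subtype t = 0 := by
    simpa [t, mP] using hx
  obtain ⟨Q, hPQ, hQ, hQt⟩ := TensorProduct.eq_zero_of_fg_of_subtype_eq_zero hP ht
  obtain ⟨sQ, hsQ⟩ := hQ
  let m' : Fin r ⊕ sQ → Q := Sum.elim (fun k => Submodule.inclusion hPQ (mP k))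
    (fun q => ⟨q.1, hsQ ▸ Submodule.subset_span q.2⟩)
  let n' : Fin r ⊕ sQ → A := Sum.elim (fun k => W.g i (a k)) (fun _ => 0)
  have hspan : Submodule.span K (Set.range m') = ⊤ := by
    rw [eq_top_iff]
    rintro ⟨q, hq⟩ -
    have hq' : q ∈ Submodule.span K (sQ : Set M) := hsQ ▸ hq
    have : ∀ z (hz : z ∈ Submodule.span K (sQ : Set M)),
        (⟨z, hsQ ▸ hz⟩ : Q) ∈ Submodule.span K (Set.range m') := by
      intro z hz
      induction hz using Submodule.span_induction with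
      | mem z hz => exact Submodule.subset_span ⟨Sum.inr ⟨z, hz⟩, rfl⟩
      | zero => exact Submodule.zero_mem _
      | add z w _ _ h1 h2 => exact Submodule.add_mem _ h1 h2
      | smul c z _ h1 => exact Submodule.smul_mem _ c h1
    exact this q hq'
  have hsum : ∑ l, m' l ⊗ₜ[K] n' l = 0 := by
    rw [Fintype.sum_sum_type]
    simpa [m', n', t] using hQt
  obtain ⟨κ, c, y, hy, hc⟩ := TensorProduct.vanishesTrivially_of_sum_tmul_eq_zero K hspan hsum
  obtain ⟨j₁, φ₁, hφ₁, y', hy'⟩ := W.exists_lift_family i y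
  let a' : Fin r ⊕ sQ → G j₁ := Sum.elim (fun k => φ₁ (a k)) (fun _ => 0)
  have he : ∀ l, W.g j₁ (a' l - ∑ j, c l j • y' j) = 0 := by
    intro l
    rw [map_sub, map_sum, sub_eq_zero]
    simp only [map_smul, hy']
    rw [← hy l]
    rcases l with k | q
    · simp [a', n', W.g_adm φ₁ hφ₁]
    · simp [a', n']
  obtain ⟨j₂, φ₂, hφ₂, hkill⟩ := W.exists_kill_family _ he
  refine ⟨j₂, φ₂.comp φ₁, W.adm_comp _ _ hφ₁ hφ₂, ?_⟩
  have hv : TensorProduct.VanishesTrivially K (fun l => (m' l : M)) (fun l => φ₂ (a' l)) := by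
    refine ⟨κ, c, fun j => φ₂ (y' j), ?_, ?_⟩
    · intro l
      have := hkill l
      rw [map_sub, sub_eq_zero, map_sum] at this
      change φ₂ (a' l) = _
      rw [this]
      simp
    · intro j
      have := congrArg (Submodule.subtype Q) (hc j)
      simpa using this
  have := TensorProduct.sum_tmul_eq_zero_of_vanishesTrivially K hv
  rw [Fintype.sum_sum_type] at this
  simpa [m', mP, a'] using this

omit W in
lemma lTensor_comm_apply {M N N' : Type*} [AddCommGroup M] [Module K M] [AddCommGroup N]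
    [Module K N] [AddCommGroup N'] [Module K N'] (f : N →ₗ[K] N') (z : N ⊗[K] M) :
    f.lTensor M (TensorProduct.comm K N M z) = TensorProduct.comm K N' M (f.rTensor M z) := by
  induction z using TensorProduct.induction_on with
  | zero => simp
  | tmul m a => simp
  | add x y hx hy => simp only [map_add, hx, hy]

lemma exists_rTensor_lift (M : Type*) [AddCommGroup M] [Module K M] (i₀ : ι) (y : A ⊗[K] M) :
    ∃ (j : ι) (φ : G i₀ →ₐ[K] G j), W.Adm φ ∧
      ∃ x : G j ⊗[K] M, (W.g j).toLinearMap.rTensor M x = y := by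
  obtain ⟨j, φ, hφ, x, hx⟩ := W.exists_lTensor_lift M i₀ (TensorProduct.comm K A M y)
  refine ⟨j, φ, hφ, (TensorProduct.comm K (G j) M).symm x, ?_⟩
  apply (TensorProduct.comm K A M).injective
  rw [← hx, ← lTensor_comm_apply, LinearEquiv.apply_symm_apply]

lemma exists_rTensor_kill (M : Type*) [AddCommGroup M] [Module K M] {i : ι} (x : G i ⊗[K] M)
    (hx : (W.g i).toLinearMap.rTensor M x = 0) :
    ∃ (j : ι) (φ : G i →ₐ[K] G j), W.Adm φ ∧ φ.toLinearMap.rTensor M x = 0 := by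
  obtain ⟨j, φ, hφ, h⟩ := W.exists_lTensor_kill M (TensorProduct.comm K (G i) M x) (by
    rw [lTensor_comm_apply, hx, map_zero])
  refine ⟨j, φ, hφ, ?_⟩
  rw [lTensor_comm_apply] at h
  exact (TensorProduct.comm K (G j) M).injective (by rw [h, map_zero])

omit W in
lemma map_id_apply_eq_lTensor {B : Type*} [CommRing B] [Algebra K B] {R R' : Type*} [CommRing R]
    [Algebra K R] [CommRing R'] [Algebra K R'] (φ : R →ₐ[K] R') (x : B ⊗[K] R) :
    Algebra.TensorProduct.map (AlgHom.id B B) φ x = φ.toLinearMap.lTensor B x := by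
  induction x using TensorProduct.induction_on with
  | zero => simp
  | tmul m a => simp
  | add x y hx hy => simp only [map_add, hx, hy]

omit W in
lemma map_id_apply_eq_rTensor {C : Type*} [CommRing C] [Algebra K C] {R R' : Type*} [CommRing R]
    [Algebra K R] [CommRing R'] [Algebra K R'] (φ : R →ₐ[K] R') (x : R ⊗[K] C) :
    Algebra.TensorProduct.map φ (AlgHom.id K C) x = φ.toLinearMap.rTensor C x := by
  induction x using TensorProduct.induction_on with
  | zero => simp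
  | tmul m a => simp
  | add x y hx hy => simp only [map_add, hx, hy]

/-- Base change of a weak colimit along `K → B`. -/
noncomputable def baseChange (B : Type*) [CommRing B] [Algebra K B] :
    WeakColimit B (fun i => B ⊗[K] G i) (B ⊗[K] A) where
  g i := Algebra.TensorProduct.map (AlgHom.id B B) (W.g i)
  Adm i j Φ := ∃ φ : G i →ₐ[K] G j, W.Adm φ ∧ Φ = Algebra.TensorProduct.map (AlgHom.id B B) φ
  adm_id i := ⟨AlgHom.id K _, W.adm_id i, by ext <;> simp⟩
  adm_comp := by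
    rintro i j k _ _ ⟨φ, hφ, rfl⟩ ⟨ψ, hψ, rfl⟩
    exact ⟨ψ.comp φ, W.adm_comp φ ψ hφ hψ, by ext <;> simp⟩
  adm_compat := by
    rintro i j _ ⟨φ, hφ, rfl⟩
    ext x <;> simp [W.g_adm φ hφ]
  nonempty := W.nonempty
  directed i j := by
    obtain ⟨k, φ, ψ, hφ, hψ⟩ := W.directed i j
    exact ⟨k, _, _, ⟨φ, hφ, rfl⟩, ⟨ψ, hψ, rfl⟩⟩
  surj y := by
    obtain ⟨i₀⟩ := W.nonempty
    obtain ⟨j, φ, hφ, x, hx⟩ := W.exists_lTensor_lift B i₀ y
    exact ⟨j, x, by rw [map_id_apply_eq_lTensor, hx]⟩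
  ker i x hx := by
    obtain ⟨j, φ, hφ, h⟩ := W.exists_lTensor_kill B x (by rwa [← map_id_apply_eq_lTensor])
    exact ⟨j, _, ⟨φ, hφ, rfl⟩, by rw [map_id_apply_eq_lTensor, h]⟩

/-- Tensoring a weak colimit on the right with a `K`-algebra. -/
noncomputable def tensorRight (C : Type*) [CommRing C] [Algebra K C] :
    WeakColimit K (fun i => G i ⊗[K] C) (A ⊗[K] C) where
  g i := Algebra.TensorProduct.map (W.g i) (AlgHom.id K C)
  Adm i j Φ := ∃ φ : G i →ₐ[K] G j, W.Adm φ ∧ Φ = Algebra.TensorProduct.map φ (AlgHom.id K C)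
  adm_id i := ⟨AlgHom.id K _, W.adm_id i, by ext <;> simp⟩
  adm_comp := by
    rintro i j k _ _ ⟨φ, hφ, rfl⟩ ⟨ψ, hψ, rfl⟩
    exact ⟨ψ.comp φ, W.adm_comp φ ψ hφ hψ, by ext <;> simp⟩
  adm_compat := by
    rintro i j _ ⟨φ, hφ, rfl⟩
    ext x <;> simp [W.g_adm φ hφ]
  nonempty := W.nonempty
  directed i j := by
    obtain ⟨k, φ, ψ, hφ, hψ⟩ := W.directed i j
    exact ⟨k, _, _, ⟨φ, hφ, rfl⟩, ⟨ψ, hψ, rfl⟩⟩
  surj y := by
    obtain ⟨i₀⟩ := W.nonempty
    obtain ⟨j, φ, hφ, x, hx⟩ := W.exists_rTensor_lift C i₀ y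
    exact ⟨j, x, by rw [map_id_apply_eq_rTensor, hx]⟩
  ker i x hx := by
    obtain ⟨j, φ, hφ, h⟩ := W.exists_rTensor_kill C x (by rwa [← map_id_apply_eq_rTensor])
    exact ⟨j, _, ⟨φ, hφ, rfl⟩, by rw [map_id_apply_eq_rTensor, h]⟩

end WeakColimit

end Groth.Agent.H5.CA
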