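import Mathlib

set_option autoImplicit false
universe u v

namespace Groth.Agent.H5.Nilp031L

open TensorProduct

/-- `S ⧸ K S` is flat over `R ⧸ K` when `S` is flat over `R`. -/
theorem flat_quotientMap {R : Type u} {S : Type v} [CommRing R] [CommRing S]
    (f : R →+* S) (hf : f.Flat) (K : Ideal R) :
    (Ideal.quotientMap (K.map f) f Ideal.le_comap_map : R ⧸ K →+* S ⧸ K.map f).Flat := by
  algebraize [f]
  have e := Algebra.TensorProduct.quotIdealMapEquivQuotTensor S K
  have : Module.Flat (R ⧸ K) (S ⧸ K.map (algebraMap R S)) :=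
    Module.Flat.of_linearEquiv e.toLinearEquiv
  have h2 : algebraMap (R ⧸ K) (S ⧸ K.map (algebraMap R S)) =
      Ideal.quotientMap (K.map f) f Ideal.le_comap_map := by
    ext x
    rfl
  have h3 : (algebraMap (R ⧸ K) (S ⧸ K.map (algebraMap R S))).Flat :=
    (RingHom.flat_algebraMap_iff).mpr this
  rw [h2] at h3
  exact h3

/-- Stacks 031L for a nilpotent ideal (exponent `2 ^ n`), ring-hom form. -/
theorem formallySmooth_of_flat_pow_two (n : ℕ) :
    ∀ {R R' : Type u} {S S' : Type v} [CommRing R] [CommRing R'] [CommRing S] [CommRing S']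
      (f : R →+* S) (_ : f.Flat) (qR : R →+* R') (qS : S →+* S') (g : R' →+* S')
      (_ : Function.Surjective qR) (_ : Function.Surjective qS)
      (_ : qS.comp f = g.comp qR) (_ : (RingHom.ker qR) ^ (2 ^ n) = ⊥)
      (_ : RingHom.ker qS = (RingHom.ker qR).map f) (_ : g.FormallySmooth), f.FormallySmooth := by
  induction n with
  | zero =>
    intro R R' S S' _ _ _ _ f flat qR qS g surjR surjS comm hpow eqmap smoothq
    refine RingHom.FormallySmooth.of_flat_of_ker_eq_map_of_square_zero f flat qR qS g surjR surjS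
      comm ?_ eqmap smoothq
    rw [pow_zero, pow_one] at hpow
    rw [hpow]; simp
  | succ n ih =>
    intro R R' S S' _ _ _ _ f flat qR qS g surjR surjS comm hpow eqmap smoothq
    set I := RingHom.ker qR with hI
    set K : Ideal R := I ^ 2 with hK
    have hKI : K ≤ I := Ideal.pow_le_self two_ne_zero
    -- the intermediate quotient
    let f₁ : R ⧸ K →+* S ⧸ K.map f := Ideal.quotientMap (K.map f) f Ideal.le_comap_map
    have flat₁ : f₁.Flat := flat_quotientMap f flat K
    let q₁R : R ⧸ K →+* R' := Ideal.Quotient.lift K qR (fun x hx => hKI hx)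
    have hKS : K.map f ≤ RingHom.ker qS := by
      rw [eqmap]; exact Ideal.map_mono hKI
    let q₁S : S ⧸ K.map f →+* S' := Ideal.Quotient.lift (K.map f) qS (fun x hx => hKS hx)
    have surj₁R : Function.Surjective q₁R := Ideal.Quotient.lift_surjective_of_surjective _ _ surjR
    have surj₁S : Function.Surjective q₁S := Ideal.Quotient.lift_surjective_of_surjective _ _ surjS
    have comm₁ : q₁S.comp f₁ = g.comp q₁R := by
      apply Ideal.Quotient.ringHom_ext
      ext x
      have := congrArg (fun φ => φ x) comm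
      simpa [f₁, q₁R, q₁S] using this
    have ker₁R : RingHom.ker q₁R = I.map (Ideal.Quotient.mk K) := by
      ext y
      obtain ⟨x, rfl⟩ := Ideal.Quotient.mk_surjective y
      rw [RingHom.mem_ker, Ideal.Quotient.lift_mk,
        Ideal.mem_map_iff_of_surjective _ Ideal.Quotient.mk_surjective]
      constructor
      · intro h; exact ⟨x, h, rfl⟩
      · rintro ⟨z, hz, hzx⟩
        have : z - x ∈ K := Ideal.Quotient.eq.mp hzx
        have hx : x ∈ I := by
          have := I.sub_mem hz (hKI this)
          simpa using this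
        exact hx
    have ker₁S : RingHom.ker q₁S = (RingHom.ker qS).map (Ideal.Quotient.mk (K.map f)) := by
      ext y
      obtain ⟨x, rfl⟩ := Ideal.Quotient.mk_surjective y
      rw [RingHom.mem_ker, Ideal.Quotient.lift_mk,
        Ideal.mem_map_iff_of_surjective _ Ideal.Quotient.mk_surjective]
      constructor
      · intro h; exact ⟨x, h, rfl⟩
      · rintro ⟨z, hz, hzx⟩
        have : z - x ∈ K.map f := Ideal.Quotient.eq.mp hzx
        have hx : x ∈ RingHom.ker qS := by
          have := (RingHom.ker qS).sub_mem hz (hKS this)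
          simpa using this
        exact hx
    have sq₁ : (RingHom.ker q₁R) ^ 2 = ⊥ := by
      rw [ker₁R, ← Ideal.map_pow, ← hK]
      exact Ideal.map_quotient_self K
    have eqmap₁ : RingHom.ker q₁S = (RingHom.ker q₁R).map f₁ := by
      rw [ker₁S, ker₁R, eqmap, Ideal.map_map, Ideal.map_map]
      congr 1
    have smooth₁ : f₁.FormallySmooth :=
      RingHom.FormallySmooth.of_flat_of_ker_eq_map_of_square_zero f₁ flat₁ q₁R q₁S g surj₁R surj₁S
        comm₁ sq₁ eqmap₁ smoothq
    refine ih f flat (Ideal.Quotient.mk K) (Ideal.Quotient.mk (K.map f)) f₁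
      Ideal.Quotient.mk_surjective Ideal.Quotient.mk_surjective ?_ ?_ ?_ smooth₁
    · rfl
    · rw [Ideal.mk_ker, hK, ← pow_mul, ← pow_succ']
      exact hpow
    · rw [Ideal.mk_ker, Ideal.mk_ker]

/-- Stacks 031L for a nilpotent ideal, ring-hom form. -/
theorem formallySmooth_of_flat_of_isNilpotent
    {R R' : Type u} {S S' : Type v} [CommRing R] [CommRing R'] [CommRing S] [CommRing S']
    (f : R →+* S) (flat : f.Flat) (qR : R →+* R') (qS : S →+* S') (g : R' →+* S')
    (surjR : Function.Surjective qR) (surjS : Function.Surjective qS)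
    (comm : qS.comp f = g.comp qR) (hnil : IsNilpotent (RingHom.ker qR))
    (eqmap : RingHom.ker qS = (RingHom.ker qR).map f) (smoothq : g.FormallySmooth) :
    f.FormallySmooth := by
  obtain ⟨n, hn⟩ := hnil
  refine formallySmooth_of_flat_pow_two n f flat qR qS g surjR surjS comm ?_ eqmap smoothq
  have : n ≤ 2 ^ n := Nat.lt_two_pow_self.le
  rw [← Ideal.zero_eq_bot, ← hn]
  have := Ideal.pow_le_pow_right (I := RingHom.ker qR) this
  rw [hn] at this
  exact le_antisymm this bot_le |>.trans hn.symm

end Groth.Agent.H5.Nilp031L
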