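import Mathlib

set_option autoImplicit false
universe u

open Polynomial IsLocalRing

namespace Groth.Agent.H5.CohenZorn

variable {𝒪 : Type u} [CommRing 𝒪] [IsDomain 𝒪] [IsLocalRing 𝒪] (q : ℕ) (D : Subring 𝒪)

/-- a subring of `D` all of whose nonzero elements are `q ^ n` times an element outside `𝔪`. -/
def Good (B : Subring 𝒪) : Prop :=
  B ≤ D ∧ ∀ x ∈ B, x ≠ 0 → ∃ n : ℕ, ∃ y ∈ B, y ∉ maximalIdeal 𝒪 ∧ x = (q : 𝒪) ^ n * y

variable {q D}

theorem exists_maximal (B₀ : Subring 𝒪) (h₀ : Good q D B₀) :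
    ∃ B, B₀ ≤ B ∧ Maximal (Good q D) B := by
  refine zorn_le_nonempty₀ {B | Good q D B} ?_ B₀ h₀
  intro c hc hchain y hy
  have hne : c.Nonempty := ⟨y, hy⟩
  have hdir : DirectedOn (· ≤ ·) c := hchain.directedOn
  refine ⟨sSup c, ⟨?_, ?_⟩, fun z hz => le_sSup hz⟩
  · exact sSup_le (fun B hB => (hc hB).1)
  · intro x hx hx0
    obtain ⟨B, hB, hxB⟩ := (Subring.mem_sSup_of_directedOn hne hdir).mp hx
    obtain ⟨n, y, hyB, hym, hxy⟩ := (hc hB).2 x hxB hx0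
    exact ⟨n, y, (le_sSup hB : B ≤ sSup c) hyB, hym, hxy⟩

/-- the localization of `B` at the elements outside `𝔪`, inside `𝒪`. -/
def loc (B : Subring 𝒪) : Subring 𝒪 where
  carrier := {x | ∃ y ∈ B, y ∉ maximalIdeal 𝒪 ∧ x * y ∈ B}
  mul_mem' := by
    rintro a b ⟨y, hy, hym, hay⟩ ⟨z, hz, hzm, hbz⟩
    refine ⟨y * z, B.mul_mem hy hz, ?_, ?_⟩
    · intro h
      rcases (Ideal.IsPrime.mem_or_mem inferInstance h) with h | h
      · exact hym h
      · exact hzm h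
    · have : a * b * (y * z) = (a * y) * (b * z) := by ring
      rw [this]; exact B.mul_mem hay hbz
  one_mem' := ⟨1, B.one_mem, by
    intro h; exact (Ideal.ne_top_iff_one _).mp (maximalIdeal.isMaximal 𝒪).ne_top h, by
    simpa using B.one_mem⟩
  add_mem' := by
    rintro a b ⟨y, hy, hym, hay⟩ ⟨z, hz, hzm, hbz⟩
    refine ⟨y * z, B.mul_mem hy hz, ?_, ?_⟩
    · intro h
      rcases (Ideal.IsPrime.mem_or_mem inferInstance h) with h | h
      · exact hym h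
      · exact hzm h
    · have : (a + b) * (y * z) = (a * y) * z + (b * z) * y := by ring
      rw [this]; exact B.add_mem (B.mul_mem hay hz) (B.mul_mem hbz hy)
  zero_mem' := ⟨1, B.one_mem, by
    intro h; exact (Ideal.ne_top_iff_one _).mp (maximalIdeal.isMaximal 𝒪).ne_top h, by
    simpa using B.zero_mem⟩
  neg_mem' := by
    rintro a ⟨y, hy, hym, hay⟩
    exact ⟨y, hy, hym, by rw [neg_mul]; exact B.neg_mem hay⟩

theorem le_loc (B : Subring 𝒪) : B ≤ loc B := fun x hx =>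
  ⟨1, B.one_mem, fun h => (Ideal.ne_top_iff_one _).mp (maximalIdeal.isMaximal 𝒪).ne_top h, by
    simpa using hx⟩

theorem good_loc (hDinv : ∀ y ∈ D, y ∉ maximalIdeal 𝒪 → ∀ x, x * y ∈ D → x ∈ D)
    {B : Subring 𝒪} (hB : Good q D B) : Good q D (loc B) := by
  refine ⟨?_, ?_⟩
  · rintro x ⟨y, hy, hym, hxy⟩
    exact hDinv y (hB.1 hy) hym x (hB.1 hxy)
  · rintro x ⟨y, hy, hym, hxy⟩ hx0
    have hy0 : y ≠ 0 := fun h => hym (h ▸ zero_mem _)
    obtain ⟨n, b', hb', hb'm, hb⟩ := hB.2 (x * y) hxy (mul_ne_zero hx0 hy0)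
    -- w = b' / y
    have hyu : IsUnit y := by
      by_contra h; exact hym ((mem_maximalIdeal y).mpr h)
    obtain ⟨u, rfl⟩ := hyu
    refine ⟨n, b' * ((u⁻¹ : 𝒪ˣ) : 𝒪), ⟨(u : 𝒪), hy, hym, ?_⟩, ?_, ?_⟩
    · rw [mul_assoc, Units.inv_mul, mul_one]; exact hb'
    · intro h
      apply hb'm
      have : b' = b' * ((u⁻¹ : 𝒪ˣ) : 𝒪) * u := by rw [mul_assoc, Units.inv_mul, mul_one]
      rw [this]
      exact Ideal.mul_mem_right _ _ h
    · have : x = x * u * ((u⁻¹ : 𝒪ˣ) : 𝒪) := by rw [mul_assoc, Units.mul_inv, mul_one]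
      rw [this, hb]; ring

theorem inv_mem_of_maximal (hDinv : ∀ y ∈ D, y ∉ maximalIdeal 𝒪 → ∀ x, x * y ∈ D → x ∈ D)
    {B : Subring 𝒪} (hB : Maximal (Good q D) B) (u : 𝒪ˣ) (hu : (u : 𝒪) ∈ B) :
    ((u⁻¹ : 𝒪ˣ) : 𝒪) ∈ B := by
  have h1 : loc B ≤ B := hB.2 (good_loc hDinv hB.1) (le_loc B)
  apply h1
  refine ⟨u, hu, ?_, by rw [Units.inv_mul]; exact B.one_mem⟩
  intro h
  exact (mem_maximalIdeal _).mp h u.isUnit

end Groth.Agent.H5.CohenZorn
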