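import Mathlib
import Groth.Agent.Lib.Helper5.CA.CZ1

set_option autoImplicit false
universe u

open Polynomial IsLocalRing

namespace Groth.Agent.H5.CohenZorn

variable {𝒪 : Type u} [CommRing 𝒪] [IsDomain 𝒪] [IsLocalRing 𝒪] {q : ℕ} {D : Subring 𝒪}

theorem dvd_of_mem_maximalIdeal {B : Subring 𝒪} (hB : Good q D B) (c : ↥B)
    (hc : (c : 𝒪) ∈ maximalIdeal 𝒪) : (q : ↥B) ∣ c := by
  by_cases hc0 : (c : 𝒪) = 0
  · have : c = 0 := Subtype.ext hc0
    rw [this]; exact dvd_zero _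
  · obtain ⟨n, y, hy, hym, hcy⟩ := hB.2 c c.2 hc0
    rcases Nat.eq_zero_or_pos n with rfl | hn
    · exfalso; apply hym; rw [pow_zero, one_mul] at hcy; rw [← hcy]; exact hc
    · refine ⟨⟨(q : 𝒪) ^ (n - 1) * y, B.mul_mem (B.pow_mem (natCast_mem B q) _) hy⟩, ?_⟩
      apply Subtype.ext
      simp only [Subring.coe_mul, Subring.coe_natCast]
      rw [hcy, ← mul_assoc, ← pow_succ', Nat.sub_add_cancel hn]

theorem exists_content (hq0 : (q : 𝒪) ≠ 0) (hqm : (q : 𝒪) ∈ maximalIdeal 𝒪)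
    {B : Subring 𝒪} (hB : Good q D B) (g : (↥B)[X]) (hg : g ≠ 0) :
    ∃ (n : ℕ) (g₁ : (↥B)[X]), g = C ((q : ↥B) ^ n) * g₁ ∧
      ∃ i, ((g₁.coeff i : ↥B) : 𝒪) ∉ maximalIdeal 𝒪 := by
  classical
  obtain ⟨j, hj⟩ : ∃ j, g.coeff j ≠ 0 := by
    by_contra h
    push_neg at h
    exact hg (Polynomial.ext (by simpa using h))
  have hj' : ((g.coeff j : ↥B) : 𝒪) ≠ 0 := fun h => hj (Subtype.ext h)
  obtain ⟨m, y, hy, hym, hcy⟩ := hB.2 _ (g.coeff j).2 hj'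
  have hbound : ∀ k, C ((q : ↥B) ^ k) ∣ g → k ≤ m := by
    intro k hk
    by_contra hkm
    push_neg at hkm
    obtain ⟨z, hz⟩ := (C_dvd_iff_dvd_coeff _ _).mp hk j
    have hz' : (q : 𝒪) ^ m * y = (q : 𝒪) ^ k * (z : 𝒪) := by
      rw [← hcy, hz]; simp
    have hk' : k = m + (k - m) := by omega
    rw [hk', pow_add, mul_assoc] at hz'
    have := mul_left_cancel₀ (pow_ne_zero m hq0) hz'
    apply hym
    rw [this]
    refine Ideal.mul_mem_right _ _ (Ideal.pow_mem_of_mem _ hqm _ (by omega))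
  let P : ℕ → Prop := fun n => C ((q : ↥B) ^ n) ∣ g
  have hP0 : P 0 := by simp [P]
  let n := Nat.findGreatest P m
  have hPn : P n := Nat.findGreatest_spec (Nat.zero_le m) hP0
  obtain ⟨g₁, hg₁⟩ := hPn
  refine ⟨n, g₁, hg₁, ?_⟩
  by_contra hall
  push_neg at hall
  have hdvd : C (q : ↥B) ∣ g₁ := by
    rw [C_dvd_iff_dvd_coeff]
    intro i
    exact dvd_of_mem_maximalIdeal hB _ (hall i)
  have hP1 : P (n + 1) := by
    obtain ⟨g₂, hg₂⟩ := hdvd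
    refine ⟨g₂, ?_⟩
    rw [hg₁, hg₂, pow_succ, C_mul]; ring
  have hle : n + 1 ≤ m := hbound _ hP1
  exact Nat.findGreatest_is_greatest (Nat.lt_succ_self n) hle hP1

end Groth.Agent.H5.CohenZorn
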