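import Mathlib
import Groth.Agent.Lib.Helper5.CA.CZ2

set_option autoImplicit false
universe u

open Polynomial IsLocalRing

namespace Groth.Agent.H5.CohenZorn

variable {𝒪 : Type u} [CommRing 𝒪] [IsDomain 𝒪] [IsLocalRing 𝒪] {q : ℕ} {D : Subring 𝒪}

/-- evaluation of polynomials over `B` at `α`. -/
noncomputable def ev (B : Subring 𝒪) (α : 𝒪) : (↥B)[X] →+* 𝒪 := Polynomial.eval₂RingHom B.subtype α

theorem ev_apply (B : Subring 𝒪) (α : 𝒪) (g : (↥B)[X]) : ev B α g = (g.map B.subtype).eval α := by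
  rw [Polynomial.eval_map]; rfl

theorem ev_C (B : Subring 𝒪) (α : 𝒪) (b : ↥B) : ev B α (C b) = (b : 𝒪) := by
  simp [ev]

theorem ev_X (B : Subring 𝒪) (α : 𝒪) : ev B α X = α := by
  simp [ev]

theorem ev_mem (B : Subring 𝒪) (α : 𝒪) (S : Subring 𝒪) (hBS : B ≤ S) (hα : α ∈ S) (g : (↥B)[X]) :
    ev B α g ∈ S := by
  show Polynomial.eval₂ B.subtype α g ∈ S
  rw [Polynomial.eval₂_eq_sum_range]
  exact S.sum_mem (fun i _ => S.mul_mem (hBS (g.coeff i).2) (S.pow_mem hα i))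

theorem ev_sub_ev_mem (B : Subring 𝒪) (α a : 𝒪) (h : α - a ∈ maximalIdeal 𝒪) (g : (↥B)[X]) :
    ev B α g - ev B a g ∈ maximalIdeal 𝒪 := by
  rw [ev_apply, ev_apply]
  obtain ⟨c, hc⟩ := Polynomial.sub_dvd_eval_sub α a (g.map B.subtype)
  rw [hc]
  exact Ideal.mul_mem_right _ _ h

theorem good_adjoin (hq0 : (q : 𝒪) ≠ 0) (hqm : (q : 𝒪) ∈ maximalIdeal 𝒪)
    {B : Subring 𝒪} (hB : Good q D B) (α : 𝒪) (hα : α ∈ D) (Q : (↥B)[X] → Prop)
    (hQ1 : ∀ g, ∃ r, Q r ∧ ev B α r = ev B α g)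
    (hQ2 : ∀ (r r₁ : (↥B)[X]) (n : ℕ), Q r → r = C ((q : ↥B) ^ n) * r₁ → Q r₁)
    (hQ3 : ∀ r, Q r → (∃ i, ((r.coeff i : ↥B) : 𝒪) ∉ maximalIdeal 𝒪) →
      ev B α r ∉ maximalIdeal 𝒪) :
    Good q D (ev B α).range := by
  refine ⟨?_, ?_⟩
  · rintro x ⟨g, rfl⟩
    exact ev_mem B α D hB.1 hα g
  · rintro x ⟨g, rfl⟩ hx0
    obtain ⟨r, hQr, hr⟩ := hQ1 g
    have hr0 : r ≠ 0 := by
      rintro rfl
      rw [map_zero] at hr
      exact hx0 hr.symm
    obtain ⟨n, r₁, hr₁, hi⟩ := exists_content hq0 hqm hB r hr0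
    refine ⟨n, ev B α r₁, ⟨r₁, rfl⟩, hQ3 r₁ (hQ2 r r₁ n hQr hr₁) hi, ?_⟩
    rw [← hr, hr₁, map_mul, ev_C]
    simp

end Groth.Agent.H5.CohenZorn

namespace Groth.Agent.H5.CohenZorn

variable {𝒪 : Type u} [CommRing 𝒪] [IsDomain 𝒪] [IsLocalRing 𝒪] {q : ℕ} {D : Subring 𝒪}

/-- from a polynomial with nonzero reduction vanishing at `a` mod `𝔪` to a monic one. -/
theorem exists_monic_of_vanishing {B : Subring 𝒪}
    (hinv : ∀ u : 𝒪ˣ, (u : 𝒪) ∈ B → ((u⁻¹ : 𝒪ˣ) : 𝒪) ∈ B) (a : 𝒪) :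
    ∀ (d : ℕ) (g : (↥B)[X]), g.natDegree = d → (∃ i, ((g.coeff i : ↥B) : 𝒪) ∉ maximalIdeal 𝒪) →
      ev B a g ∈ maximalIdeal 𝒪 →
      ∃ f : (↥B)[X], f.Monic ∧ f.natDegree ≤ d ∧ ev B a f ∈ maximalIdeal 𝒪 := by
  intro d
  induction d using Nat.strong_induction_on with
  | _ d ih =>
    intro g hgd hi hga
    by_cases hlead : ((g.leadingCoeff : ↥B) : 𝒪) ∈ maximalIdeal 𝒪
    · -- erase the leading term
      obtain ⟨i, hi⟩ := hi
      have hine : i ≠ g.natDegree := by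
        rintro rfl
        exact hi hlead
      have hcoeff : g.eraseLead.coeff i = g.coeff i := by
        rw [Polynomial.eraseLead_coeff, if_neg hine]
      have hg' : ev B a g.eraseLead ∈ maximalIdeal 𝒪 := by
        have h1 := Polynomial.eraseLead_add_C_mul_X_pow g
        have h2 : ev B a g = ev B a g.eraseLead +
            ((g.leadingCoeff : ↥B) : 𝒪) * a ^ g.natDegree := by
          conv_lhs => rw [← h1]
          rw [map_add, map_mul, map_pow, ev_C, ev_X]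
        have h3 : ev B a g.eraseLead = ev B a g - ((g.leadingCoeff : ↥B) : 𝒪) * a ^ g.natDegree := by
          rw [h2]; ring
        rw [h3]
        exact Ideal.sub_mem _ hga (Ideal.mul_mem_right _ _ hlead)
      rcases Polynomial.eraseLead_natDegree_lt_or_eraseLead_eq_zero g with hlt | h0
      · obtain ⟨f, hf1, hf2, hf3⟩ := ih g.eraseLead.natDegree (hgd ▸ hlt) g.eraseLead rfl
          ⟨i, by rw [hcoeff]; exact hi⟩ hg'
        exact ⟨f, hf1, hf2.trans (hgd ▸ hlt.le), hf3⟩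
      · exfalso
        apply hi
        rw [← hcoeff, h0, Polynomial.coeff_zero]
        exact zero_mem _
    · -- leading coefficient is a unit
      have hu : IsUnit ((g.leadingCoeff : ↥B) : 𝒪) := by
        by_contra h
        exact hlead ((mem_maximalIdeal _).mpr h)
      obtain ⟨u, hu⟩ := hu
      have huB : (u : 𝒪) ∈ B := by rw [hu]; exact (g.leadingCoeff).2
      let c : ↥B := ⟨((u⁻¹ : 𝒪ˣ) : 𝒪), hinv u huB⟩
      have hc : c * g.leadingCoeff = 1 := by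
        apply Subtype.ext
        simp only [Subring.coe_mul, Subring.coe_one, c]
        rw [← hu, Units.inv_mul]
      refine ⟨C c * g, Polynomial.monic_C_mul_of_mul_leadingCoeff_eq_one hc, ?_, ?_⟩
      · rw [← hgd]; exact Polynomial.natDegree_C_mul_le _ _
      · rw [map_mul, ev_C]
        exact Ideal.mul_mem_left _ _ hga

theorem exists_sub_mem_of_maximal (hq0 : (q : 𝒪) ≠ 0) (hqm : (q : 𝒪) ∈ maximalIdeal 𝒪)
    (hmD : ∀ x ∈ maximalIdeal 𝒪, x ∈ D)
    (hDinv : ∀ y ∈ D, y ∉ maximalIdeal 𝒪 → ∀ x, x * y ∈ D → x ∈ D)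
    (hRL : ∀ f : 𝒪[X], f.Monic → ∀ a, f.eval a ∈ maximalIdeal 𝒪 →
      ∃ α, f.eval α = 0 ∧ α - a ∈ maximalIdeal 𝒪)
    {B : Subring 𝒪} (hB : Maximal (Good q D) B) (a : 𝒪) (ha : a ∈ D) :
    ∃ b ∈ B, a - b ∈ maximalIdeal 𝒪 := by
  classical
  have hinv := fun u hu => inv_mem_of_maximal hDinv hB u hu
  -- it suffices to find a good extension containing some `α ≡ a`
  suffices h : ∃ α, α - a ∈ maximalIdeal 𝒪 ∧ Good q D (ev B α).range by
    obtain ⟨α, hαa, hgood⟩ := h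
    have hle : B ≤ (ev B α).range := fun b hb => ⟨C ⟨b, hb⟩, ev_C B α _⟩
    have hle' : (ev B α).range ≤ B := hB.2 hgood hle
    refine ⟨α, hle' ⟨X, ev_X B α⟩, ?_⟩
    have : a - α = -(α - a) := by ring
    rw [this]; exact Ideal.neg_mem_iff _ |>.mpr hαa
  by_cases hT : ∃ g : (↥B)[X], (∃ i, ((g.coeff i : ↥B) : 𝒪) ∉ maximalIdeal 𝒪) ∧
      ev B a g ∈ maximalIdeal 𝒪
  · -- algebraic case
    obtain ⟨g, hgi, hga⟩ := hT
    have hex : ∃ d, ∃ f : (↥B)[X], f.Monic ∧ f.natDegree = d ∧ ev B a f ∈ maximalIdeal 𝒪 := by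
      obtain ⟨f, hf1, _, hf3⟩ := exists_monic_of_vanishing hinv a _ g rfl hgi hga
      exact ⟨_, f, hf1, rfl, hf3⟩
    let d := Nat.find hex
    obtain ⟨f, hfm, hfd, hfa⟩ := Nat.find_spec hex
    replace hfd : f.natDegree = d := hfd
    have hmin : ∀ r : (↥B)[X], r.natDegree < d →
        (∃ i, ((r.coeff i : ↥B) : 𝒪) ∉ maximalIdeal 𝒪) → ev B a r ∉ maximalIdeal 𝒪 := by
      intro r hrd hri hra
      obtain ⟨f', hf1, hf2, hf3⟩ := exists_monic_of_vanishing hinv a _ r rfl hri hra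
      exact Nat.find_min hex (lt_of_le_of_lt hf2 hrd) ⟨f', hf1, rfl, hf3⟩
    have hf1 : f ≠ 1 := by
      rintro rfl
      rw [map_one] at hfa
      exact (Ideal.ne_top_iff_one _).mp (maximalIdeal.isMaximal 𝒪).ne_top hfa
    obtain ⟨α, hα0, hαa⟩ := hRL (f.map B.subtype) (hfm.map _) a (by rw [← ev_apply]; exact hfa)
    have hα0' : ev B α f = 0 := by rw [ev_apply]; exact hα0
    refine ⟨α, hαa, ?_⟩
    have hαD : α ∈ D := by
      have : α = (α - a) + a := by ring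
      rw [this]; exact D.add_mem (hmD _ hαa) ha
    have hqB : (q : ↥B) ≠ 0 := by
      intro h
      apply hq0
      have := congrArg (fun x : ↥B => (x : 𝒪)) h
      simpa using this
    refine good_adjoin hq0 hqm hB.1 α hαD (fun r => r.natDegree < d) ?_ ?_ ?_
    · intro g
      refine ⟨g %ₘ f, ?_, ?_⟩
      · rw [← hfd]; exact Polynomial.natDegree_modByMonic_lt g hfm hf1
      · conv_rhs => rw [← Polynomial.modByMonic_add_div g f]
        rw [map_add, map_mul, hα0', zero_mul, add_zero]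
    · intro r r₁ n hr hrr
      have : r.natDegree = r₁.natDegree := by
        rw [hrr, Polynomial.natDegree_C_mul (pow_ne_zero n hqB)]
      show r₁.natDegree < d
      rw [← this]; exact hr
    · intro r hr hri hrm
      apply hmin r hr hri
      have := ev_sub_ev_mem B α a hαa r
      have h2 : ev B a r = ev B α r - (ev B α r - ev B a r) := by ring
      rw [h2]
      exact Ideal.sub_mem _ hrm this
  · -- transcendental case
    push_neg at hT
    refine ⟨a, by simp, ?_⟩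
    refine good_adjoin hq0 hqm hB.1 a ha (fun _ => True) (fun g => ⟨g, trivial, rfl⟩)
      (fun _ _ _ _ _ => trivial) ?_
    intro r _ hri
    exact hT r hri

end Groth.Agent.H5.CohenZorn
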