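import Mathlib
import Groth.Agent.Lib.Helper5.CA.CZ3

set_option autoImplicit false
universe u

open Polynomial IsLocalRing

namespace Groth.Agent.H5.CohenZorn

section Base

variable {𝒪 : Type u} [CommRing 𝒪] [IsDomain 𝒪] [IsLocalRing 𝒪] {q : ℕ} {D : Subring 𝒪}

theorem good_bot (hq : q.Prime) (hqm : (q : 𝒪) ∈ maximalIdeal 𝒪) : Good q D ⊥ := by
  refine ⟨bot_le, ?_⟩
  intro x hx hx0
  obtain ⟨z, rfl⟩ := Subring.mem_bot.mp hx
  have hz0 : z ≠ 0 := by rintro rfl; simp at hx0
  have hfin : FiniteMultiplicity (q : ℤ) z :=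
    Int.finiteMultiplicity_iff.mpr ⟨by simpa using hq.ne_one, hz0⟩
  obtain ⟨z', hz', hndvd⟩ := hfin.exists_eq_pow_mul_and_not_dvd
  have hcop : IsCoprime (q : ℤ) z' :=
    (Nat.prime_iff_prime_int.mp hq).irreducible.coprime_iff_not_dvd.mpr hndvd
  obtain ⟨s, t, hst⟩ := hcop
  refine ⟨multiplicity (q : ℤ) z, (z' : 𝒪), Subring.mem_bot.mpr ⟨z', rfl⟩, ?_, ?_⟩
  · intro hm
    have h1 : ((s * q + t * z' : ℤ) : 𝒪) ∈ maximalIdeal 𝒪 := by
      push_cast
      exact Ideal.add_mem _ (Ideal.mul_mem_left _ _ hqm) (Ideal.mul_mem_left _ _ hm)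
    rw [hst] at h1
    exact (Ideal.ne_top_iff_one _).mp (maximalIdeal.isMaximal 𝒪).ne_top (by simpa using h1)
  · conv_lhs => rw [hz']
    push_cast
    rfl

end Base

section RootLift

variable {L : Type u} [Field L] [IsAlgClosed L] (O : ValuationSubring L)

theorem root_lift (f : (↥O)[X]) (hf : f.Monic) (a : ↥O) (ha : f.eval a ∈ maximalIdeal ↥O) :
    ∃ α : ↥O, f.eval α = 0 ∧ α - a ∈ maximalIdeal ↥O := by
  classical
  let fL : L[X] := f.map (algebraMap ↥O L)
  have hfL : fL.Monic := hf.map _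
  have hsplit : fL.Splits := IsAlgClosed.splits fL
  have hroots : ∀ r ∈ fL.roots, r ∈ O := by
    intro r hr
    have hint : IsIntegral ↥O r := by
      refine ⟨f, hf, ?_⟩
      have := (Polynomial.mem_roots hfL.ne_zero).mp hr
      rwa [Polynomial.IsRoot, Polynomial.eval_map] at this
    obtain ⟨y, hy⟩ := IsIntegrallyClosed.isIntegral_iff.mp hint
    rw [← hy]; exact y.2
  obtain ⟨s, hs⟩ : ∃ s : Multiset ↥O, s.map (algebraMap ↥O L) = fL.roots := by
    refine ⟨fL.roots.pmap (fun r hr => (⟨r, hr⟩ : ↥O)) hroots, ?_⟩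
    rw [Multiset.map_pmap]
    have : ∀ (a : L) (h : a ∈ O), (algebraMap ↥O L) ⟨a, h⟩ = a := fun a h => rfl
    simp only [this]
    exact Multiset.pmap_eq_map _ _ _ _ |>.trans (Multiset.map_id' _)
  have hfs : f = (s.map (fun r => X - C r)).prod := by
    apply Polynomial.map_injective (algebraMap ↥O L) (IsFractionRing.injective ↥O L)
    rw [Polynomial.map_multiset_prod, Multiset.map_map]
    have h1 : fL = (fL.roots.map (fun r => X - C r)).prod :=
      (Polynomial.Splits.eq_prod_roots_of_monic hsplit hfL)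
    show fL = _
    rw [h1, ← hs, Multiset.map_map]
    congr 1
    apply Multiset.map_congr rfl
    intro r _
    simp
  have heval : f.eval a = (s.map (fun r => a - r)).prod := by
    rw [hfs, Polynomial.eval_multiset_prod, Multiset.map_map]
    congr 1
    apply Multiset.map_congr rfl
    intro r _
    simp
  rw [heval] at ha
  obtain ⟨y, hy, hym⟩ := (Ideal.IsPrime.multiset_prod_mem_iff_exists_mem inferInstance _).mp ha
  obtain ⟨r, hr, rfl⟩ := Multiset.mem_map.mp hy
  refine ⟨r, ?_, ?_⟩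
  · rw [hfs, Polynomial.eval_multiset_prod, Multiset.map_map]
    apply Multiset.prod_eq_zero
    rw [Multiset.mem_map]
    exact ⟨r, hr, by simp⟩
  · have : r - a = -(a - r) := by ring
    rw [this]; exact (Ideal.neg_mem_iff _).mpr hym

end RootLift

end Groth.Agent.H5.CohenZorn
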