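import Mathlib
import Groth.Agent.Lib.Helper5.CA.CZ4

set_option autoImplicit false
universe u

open Polynomial IsLocalRing

namespace Groth.Agent.H5.CohenZorn

section Ambient

variable (p : ℕ) [Fact p.Prime] (k : Type u) [Field k] [CharP k p]

/-- an algebraically closed field of characteristic zero with a valuation ring whose residue
field contains `k`. -/
theorem exists_ambient :
    ∃ (L : Type u) (_ : Field L) (_ : IsAlgClosed L) (_ : CharZero L) (O : ValuationSubring L),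
      Nonempty (k →+* ResidueField ↥O) := by
  classical
  let R₀ := MvPolynomial k ℤ
  let φ : R₀ →+* k := MvPolynomial.eval₂Hom (Int.castRingHom k) id
  have hφ : Function.Surjective φ := fun c => ⟨MvPolynomial.X c, by
    show MvPolynomial.eval₂Hom (Int.castRingHom k) id (MvPolynomial.X c) = c
    rw [MvPolynomial.eval₂Hom_X']; rfl⟩
  let 𝔭 : Ideal R₀ := RingHom.ker φ
  haveI h𝔭 : 𝔭.IsPrime := RingHom.ker_isPrime φ
  let L := AlgebraicClosure (FractionRing R₀)
  let ι : R₀ →+* L := algebraMap R₀ L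
  have hι : Function.Injective ι := by
    have h1 : Function.Injective (algebraMap R₀ (FractionRing R₀)) := IsFractionRing.injective _ _
    have h2 : Function.Injective (algebraMap (FractionRing R₀) L) := RingHom.injective _
    have : ι = (algebraMap (FractionRing R₀) L).comp (algebraMap R₀ (FractionRing R₀)) :=
      IsScalarTower.algebraMap_eq _ _ _
    rw [this]; exact h2.comp h1
  let A : Subring L := ι.range
  let e : R₀ ≃+* ↥A := RingEquiv.ofBijective ι.rangeRestrict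
    ⟨fun x y h => hι (congrArg Subtype.val h), ι.rangeRestrict_surjective⟩
  let I : Ideal ↥A := 𝔭.map (e : R₀ →+* ↥A)
  have hI : I ≠ ⊤ := by
    intro h
    have h1 : 𝔭 = ⊤ := by
      have := Ideal.comap_map_of_bijective (e : R₀ →+* ↥A) e.bijective (I := 𝔭)
      rw [← this]
      show Ideal.comap _ I = ⊤
      rw [h, Ideal.comap_top]
    exact h𝔭.ne_top h1
  obtain ⟨O, hAO, hIO⟩ := Ideal.image_subset_nonunits_valuationSubring I hI
  let ψ : R₀ →+* ↥O := (Subring.inclusion hAO).comp (e : R₀ →+* ↥A)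
  have hψ : ∀ x ∈ 𝔭, ψ x ∈ maximalIdeal ↥O := by
    intro x hx
    have h1 : (e x : L) ∈ O.nonunits := hIO ⟨e x, Ideal.mem_map_of_mem _ hx, rfl⟩
    rw [mem_maximalIdeal, mem_nonunits_iff]
    intro hu
    rw [ValuationSubring.mem_nonunits_iff_exists_mem_maximalIdeal] at h1
    obtain ⟨ha, hm⟩ := h1
    exact (mem_maximalIdeal _).mp hm hu
  let θ₀ : R₀ ⧸ 𝔭 →+* ResidueField ↥O := Ideal.Quotient.lift 𝔭 ((residue ↥O).comp ψ)
    (fun x hx => (residue_eq_zero_iff _).mpr (hψ x hx))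
  let ε : k ≃+* R₀ ⧸ 𝔭 := (RingHom.quotientKerEquivOfSurjective hφ).symm
  exact ⟨L, inferInstance, inferInstance, inferInstance, O, ⟨θ₀.comp (ε : k →+* R₀ ⧸ 𝔭)⟩⟩

end Ambient

end Groth.Agent.H5.CohenZorn

namespace Groth.Agent.H5.CohenZorn

section Glue

variable (p : ℕ) [Fact p.Prime] (k : Type u) [Field k] [CharP k p]

/-- a subring `B` of a local domain `𝒪`, all of whose nonzero elements are `p ^ n` times a unit
of `B`, whose units are the elements outside `𝔪`, and whose residue classes are exactly `θ k`. -/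
theorem exists_subring :
    ∃ (𝒪 : Type u) (_ : CommRing 𝒪) (_ : IsDomain 𝒪) (_ : IsLocalRing 𝒪)
      (θ : k →+* ResidueField 𝒪) (B : Subring 𝒪), (p : 𝒪) ≠ 0 ∧ (p : 𝒪) ∈ maximalIdeal 𝒪 ∧
      (∀ x ∈ B, x ≠ 0 → ∃ n : ℕ, ∃ y ∈ B, y ∉ maximalIdeal 𝒪 ∧ x = (p : 𝒪) ^ n * y) ∧
      (∀ u : 𝒪ˣ, (u : 𝒪) ∈ B → ((u⁻¹ : 𝒪ˣ) : 𝒪) ∈ B) ∧
      (∀ c : k, ∃ b ∈ B, residue 𝒪 b = θ c) ∧ (∀ b ∈ B, ∃ c : k, residue 𝒪 b = θ c) := by
  obtain ⟨L, _, _, _, O, ⟨θ⟩⟩ := exists_ambient k
  let D : Subring ↥O := Subring.comap (residue ↥O) θ.range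
  have hp0 : (p : ↥O) ≠ 0 := by
    have : (p : L) ≠ 0 := Nat.cast_ne_zero.mpr (Fact.out : p.Prime).ne_zero
    intro h
    apply this
    have := congrArg (fun x : ↥O => (x : L)) h
    simpa using this
  have hpm : (p : ↥O) ∈ maximalIdeal ↥O := by
    rw [← residue_eq_zero_iff, map_natCast, ← map_natCast θ, CharP.cast_eq_zero k p, map_zero]
  have hmD : ∀ x ∈ maximalIdeal ↥O, x ∈ D := by
    intro x hx
    show residue ↥O x ∈ θ.range
    rw [(residue_eq_zero_iff _).mpr hx]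
    exact zero_mem _
  have hDinv : ∀ y ∈ D, y ∉ maximalIdeal ↥O → ∀ x, x * y ∈ D → x ∈ D := by
    rintro y ⟨c, hc⟩ hym x ⟨e, he⟩
    have hy0 : residue ↥O y ≠ 0 := fun h => hym ((residue_eq_zero_iff _).mp h)
    refine ⟨e / c, ?_⟩
    rw [map_div₀, hc, he, map_mul, mul_div_assoc, div_self hy0, mul_one]
  obtain ⟨B, -, hB⟩ := exists_maximal (q := p) (D := D) ⊥ (good_bot Fact.out hpm)
  refine ⟨↥O, inferInstance, inferInstance, inferInstance, θ, B, hp0, hpm, hB.1.2,
    fun u hu => inv_mem_of_maximal hDinv hB u hu, ?_, ?_⟩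
  · intro c
    obtain ⟨a, ha⟩ := residue_surjective (θ c)
    have haD : a ∈ D := ⟨c, ha.symm⟩
    obtain ⟨b, hb, hab⟩ := exists_sub_mem_of_maximal hp0 hpm hmD hDinv (root_lift O) hB a haD
    refine ⟨b, hb, ?_⟩
    rw [← ha]
    have := (residue_eq_zero_iff _).mpr hab
    rw [map_sub, sub_eq_zero] at this
    exact this.symm
  · intro b hb
    obtain ⟨c, hc⟩ := hB.1.1 hb
    exact ⟨c, hc.symm⟩

end Glue

end Groth.Agent.H5.CohenZorn
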