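import Mathlib
import Groth.Agent.Lib.Helper5.CA.CZ5

set_option autoImplicit false
universe u

open Polynomial IsLocalRing

namespace Groth.Agent.H5.CohenZorn

section DVR

variable {𝒪 : Type u} [CommRing 𝒪] [IsDomain 𝒪] [IsLocalRing 𝒪] {p : ℕ} (B : Subring 𝒪)
  (hp0 : (p : 𝒪) ≠ 0) (hpm : (p : 𝒪) ∈ maximalIdeal 𝒪)
  (h1 : ∀ x ∈ B, x ≠ 0 → ∃ n : ℕ, ∃ y ∈ B, y ∉ maximalIdeal 𝒪 ∧ x = (p : 𝒪) ^ n * y)
  (h2 : ∀ u : 𝒪ˣ, (u : 𝒪) ∈ B → ((u⁻¹ : 𝒪ˣ) : 𝒪) ∈ B)

include h2 in
theorem isUnit_iff (b : ↥B) : IsUnit b ↔ (b : 𝒪) ∉ maximalIdeal 𝒪 := by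
  constructor
  · intro hb hm
    exact (mem_maximalIdeal _).mp hm (hb.map B.subtype)
  · intro hb
    have hu : IsUnit (b : 𝒪) := by
      by_contra h; exact hb ((mem_maximalIdeal _).mpr h)
    obtain ⟨u, hu⟩ := hu
    have hmem : ((u⁻¹ : 𝒪ˣ) : 𝒪) ∈ B := h2 u (by rw [hu]; exact b.2)
    refine isUnit_iff_exists_inv.mpr ⟨⟨_, hmem⟩, ?_⟩
    apply Subtype.ext
    simp only [Subring.coe_mul, Subring.coe_one]
    rw [← hu, Units.mul_inv]

include h2 in
theorem isLocalRing_sub : IsLocalRing ↥B := by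
  refine IsLocalRing.of_nonunits_add ?_
  intro a b ha hb
  rw [mem_nonunits_iff, isUnit_iff B h2, not_not] at ha hb ⊢
  simpa using Ideal.add_mem _ ha hb

include h2 in
theorem isLocalHom_subtype : IsLocalHom B.subtype :=
  ⟨fun b hb => (isUnit_iff B h2 b).mpr (fun hm => (mem_maximalIdeal _).mp hm hb)⟩

include hpm h1 h2 in
theorem mem_maximalIdeal_sub_iff [IsLocalRing ↥B] (b : ↥B) :
    b ∈ maximalIdeal ↥B ↔ (p : ↥B) ∣ b := by
  rw [mem_maximalIdeal, mem_nonunits_iff, isUnit_iff B h2, not_not]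
  constructor
  · intro hb
    by_cases hb0 : (b : 𝒪) = 0
    · have : b = 0 := Subtype.ext hb0
      rw [this]; exact dvd_zero _
    · obtain ⟨n, y, hy, hym, hby⟩ := h1 b b.2 hb0
      rcases Nat.eq_zero_or_pos n with rfl | hn
      · exfalso; apply hym; rw [pow_zero, one_mul] at hby; rw [← hby]; exact hb
      · refine ⟨⟨(p : 𝒪) ^ (n - 1) * y, B.mul_mem (B.pow_mem (natCast_mem B p) _) hy⟩, ?_⟩
        apply Subtype.ext
        simp only [Subring.coe_mul, Subring.coe_natCast]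
        rw [hby, ← mul_assoc, ← pow_succ', Nat.sub_add_cancel hn]
  · rintro ⟨c, rfl⟩
    simp only [Subring.coe_mul, Subring.coe_natCast]
    exact Ideal.mul_mem_right _ _ hpm

include hp0 hpm h1 h2 in
theorem isDVR_sub : IsDiscreteValuationRing ↥B := by
  haveI := isLocalRing_sub B h2
  have hpB0 : (p : ↥B) ≠ 0 := by
    intro h
    apply hp0
    have := congrArg (fun x : ↥B => (x : 𝒪)) h
    simpa using this
  have hpnu : ¬ IsUnit (p : ↥B) := by
    rw [isUnit_iff B h2, not_not]; simpa using hpm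
  have hfact : ∀ x : ↥B, x ≠ 0 → ∃ n : ℕ, ∃ y : ↥B, IsUnit y ∧ x = (p : ↥B) ^ n * y := by
    intro x hx
    have hx0 : (x : 𝒪) ≠ 0 := fun h => hx (Subtype.ext h)
    obtain ⟨n, y, hy, hym, hxy⟩ := h1 x x.2 hx0
    refine ⟨n, ⟨y, hy⟩, (isUnit_iff B h2 _).mpr hym, ?_⟩
    apply Subtype.ext
    simp only [Subring.coe_mul, Subring.coe_pow, Subring.coe_natCast]
    exact hxy
  have hpow_nu : ∀ n : ℕ, n ≠ 0 → ∀ y : ↥B, ¬ IsUnit ((p : ↥B) ^ n * y) := by
    intro n hn y hu
    obtain ⟨m, rfl⟩ := Nat.exists_eq_succ_of_ne_zero hn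
    rw [pow_succ', mul_assoc] at hu
    exact hpnu (isUnit_of_mul_isUnit_left hu)
  have hirr : Irreducible (p : ↥B) := by
    refine ⟨hpnu, ?_⟩
    intro a b hab
    have ha0 : a ≠ 0 := by rintro rfl; rw [zero_mul] at hab; exact hpB0 hab
    have hb0 : b ≠ 0 := by rintro rfl; rw [mul_zero] at hab; exact hpB0 hab
    obtain ⟨i, u, hu, rfl⟩ := hfact a ha0
    obtain ⟨j, w, hw, rfl⟩ := hfact b hb0
    rcases Nat.eq_zero_or_pos i with rfl | hi
    · left; simpa using hu
    · rcases Nat.eq_zero_or_pos j with rfl | hj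
      · right; simpa using hw
      · exfalso
        -- p = p^(i+j) u w with i + j ≥ 2
        have h5 : (p : ↥B) ^ i * u * ((p : ↥B) ^ j * w) = (p : ↥B) ^ (i + j) * (u * w) := by
          rw [pow_add]; ring
        have h3 : (p : ↥B) * 1 = (p : ↥B) * ((p : ↥B) ^ (i + j - 1) * (u * w)) := by
          rw [mul_one, ← mul_assoc, ← pow_succ', Nat.sub_add_cancel (by omega), ← h5]
          exact hab
        have h4 := mul_left_cancel₀ hpB0 h3
        exact hpow_nu (i + j - 1) (by omega) (u * w) (h4 ▸ isUnit_one)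
  refine IsDiscreteValuationRing.ofHasUnitMulPowIrreducibleFactorization
    ⟨(p : ↥B), hirr, ?_⟩
  intro x hx
  obtain ⟨n, y, hy, rfl⟩ := hfact x hx
  obtain ⟨v, rfl⟩ := hy
  exact ⟨n, v, rfl⟩

end DVR

end Groth.Agent.H5.CohenZorn

namespace Groth.Agent.H5.CohenZorn

section Pack

variable (p : ℕ) [Fact p.Prime] (k : Type u) [Field k] [CharP k p]

theorem exists_dvr :
    ∃ (R : Type u) (_ : CommRing R) (_ : IsDomain R) (_ : IsDiscreteValuationRing R),
      maximalIdeal R = Ideal.span {(p : R)} ∧ Nonempty (ResidueField R ≃+* k) := by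
  obtain ⟨𝒪, _, _, _, θ, B, hp0, hpm, h1, h2, h3, h4⟩ := exists_subring p k
  haveI hdvr := isDVR_sub B hp0 hpm h1 h2
  refine ⟨↥B, inferInstance, inferInstance, hdvr, ?_, ?_⟩
  · ext b
    rw [mem_maximalIdeal_sub_iff B hpm h1 h2, Ideal.mem_span_singleton]
  · haveI := isLocalHom_subtype B h2
    let ρ : ResidueField ↥B →+* ResidueField 𝒪 := ResidueField.map B.subtype
    have hρ : ∀ b : ↥B, ρ (residue ↥B b) = residue 𝒪 (b : 𝒪) := fun b => rfl
    have hρinj : Function.Injective ρ := ρ.injective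
    have hθinj : Function.Injective θ := θ.injective
    -- for each class in the residue field of `B`, the unique preimage under `θ`
    have hex : ∀ x : ResidueField ↥B, ∃ c : k, θ c = ρ x := by
      intro x
      obtain ⟨b, rfl⟩ := residue_surjective x
      obtain ⟨c, hc⟩ := h4 b b.2
      exact ⟨c, by rw [hρ, hc]⟩
    choose g hg using hex
    have hg1 : g 1 = 1 := hθinj (by rw [hg, map_one, map_one])
    have hgmul : ∀ x y, g (x * y) = g x * g y := fun x y =>
      hθinj (by rw [hg, map_mul, map_mul, hg, hg])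
    have hg0 : g 0 = 0 := hθinj (by rw [hg, map_zero, map_zero])
    have hgadd : ∀ x y, g (x + y) = g x + g y := fun x y =>
      hθinj (by rw [hg, map_add, map_add, hg, hg])
    let G : ResidueField ↥B →+* k :=
      { toFun := g, map_one' := hg1, map_mul' := hgmul, map_zero' := hg0, map_add' := hgadd }
    have hGbij : Function.Bijective G := by
      refine ⟨G.injective, fun c => ?_⟩
      obtain ⟨b, hb, hbc⟩ := h3 c
      refine ⟨residue ↥B ⟨b, hb⟩, hθinj ?_⟩
      show θ (g _) = θ c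
      rw [hg, hρ, hbc]
    exact ⟨RingEquiv.ofBijective G hGbij⟩

end Pack

end Groth.Agent.H5.CohenZorn
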