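import Groth.Agent.Lib.Helper5.CA.AdicFS

set_option autoImplicit false
universe u

namespace Groth.Agent.H5.AdicFS

variable {A B C : Type u} [CommRing A] [CommRing B] [CommRing C] [Algebra A B] [Algebra A C]

/-- assembling a compatible system of maps to `C ⧸ 𝔠 ^ n` into a map to the complete ring `C`. -/
theorem exists_algHom_of_compatible (𝔠 : Ideal C) [IsAdicComplete 𝔠 C]
    (f : ∀ n : ℕ, B →ₐ[A] C ⧸ 𝔠 ^ n)
    (hf : ∀ n : ℕ, (Ideal.Quotient.factorₐ A (Ideal.pow_le_pow_right n.le_succ)).comp (f (n + 1)) =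
      f n) :
    ∃ v : B →ₐ[A] C, ∀ (n : ℕ) (b : B), Ideal.Quotient.mk (𝔠 ^ n) (v b) = f n b := by
  have hf' : ∀ {m n : ℕ} (hle : m ≤ n),
      (Ideal.Quotient.factorₐ A (Ideal.pow_le_pow_right hle)).comp (f n) = f m := by
    intro m n hle
    induction n, hle using Nat.le_induction with
    | base =>
      ext b
      obtain ⟨c, hc⟩ := Ideal.Quotient.mk_surjective (f m b)
      simp [← hc]
    | succ n hmn ih =>
      rw [← ih, ← hf n, ← AlgHom.comp_assoc]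
      congr 1
      ext c
      obtain ⟨c, rfl⟩ := Ideal.Quotient.mk_surjective c
      rfl
  let g : B →ₐ[A] AdicCompletion 𝔠 C := AdicCompletion.liftAlgHom 𝔠 f hf'
  refine ⟨((AdicCompletion.ofAlgEquiv 𝔠).symm.toAlgHom.restrictScalars A).comp g, fun n b => ?_⟩
  show Ideal.Quotient.mk (𝔠 ^ n) ((AdicCompletion.ofAlgEquiv 𝔠).symm (g b)) = f n b
  rw [AdicCompletion.mk_ofAlgEquiv_symm]
  exact AdicCompletion.evalₐ_liftAlgHom 𝔠 f hf' n b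

/-- continuity is detected after composing with a map with nilpotent kernel. -/
theorem continuous_of_comp {E E' : Type u} [CommRing E] [CommRing E'] [Algebra A E] [Algebra A E']
    (π : E →ₐ[A] E') (hnil : IsNilpotent (RingHom.ker π.toRingHom)) (𝔟 : Ideal B) (g : B →ₐ[A] E)
    (h : ∃ k : ℕ, ∀ x ∈ 𝔟 ^ k, π (g x) = 0) : ∃ k : ℕ, ∀ x ∈ 𝔟 ^ k, g x = 0 := by
  obtain ⟨n, hn⟩ := hnil
  obtain ⟨k, hk⟩ := h
  have h1 : (𝔟 ^ k).map g.toRingHom ≤ RingHom.ker π.toRingHom := by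
    rw [Ideal.map_le_iff_le_comap]
    intro x hx
    exact hk x hx
  refine ⟨k * n, fun x hx => ?_⟩
  have h2 : (𝔟 ^ (k * n)).map g.toRingHom ≤ ⊥ := by
    rw [pow_mul, Ideal.map_pow]
    refine (Ideal.pow_right_mono h1 n).trans ?_
    rw [hn]
    exact le_rfl
  have := h2 (Ideal.mem_map_of_mem g.toRingHom hx)
  simpa using this

section Complete

variable (𝔠 : Ideal C) (J : Ideal C)

/-- the natural map `C ⧸ 𝔠 ^ n → (C ⧸ J) ⧸ 𝔠 ^ n (C ⧸ J)`. -/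
noncomputable def rho (n : ℕ) :
    C ⧸ 𝔠 ^ n →ₐ[A] (C ⧸ J) ⧸ (𝔠 ^ n).map (Ideal.Quotient.mk J) :=
  Ideal.Quotient.liftₐ (𝔠 ^ n)
    ((Ideal.Quotient.mkₐ A ((𝔠 ^ n).map (Ideal.Quotient.mk J))).comp (Ideal.Quotient.mkₐ A J))
    (fun c hc => by
      show Ideal.Quotient.mk _ (Ideal.Quotient.mk J c) = 0
      rw [Ideal.Quotient.eq_zero_iff_mem]
      exact Ideal.mem_map_of_mem _ hc)

theorem rho_mk (n : ℕ) (c : C) :
    rho (A := A) 𝔠 J n (Ideal.Quotient.mk (𝔠 ^ n) c) =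
      Ideal.Quotient.mk _ (Ideal.Quotient.mk J c) := rfl

theorem mem_sup_of_mk_mem (n : ℕ) (c : C)
    (h : Ideal.Quotient.mk J c ∈ (𝔠 ^ n).map (Ideal.Quotient.mk J)) :
    ∃ x ∈ 𝔠 ^ n, ∃ j ∈ J, c = x + j := by
  have h1 : c ∈ ((𝔠 ^ n).map (Ideal.Quotient.mk J)).comap (Ideal.Quotient.mk J) := h
  rw [Ideal.comap_map_of_surjective' _ Ideal.Quotient.mk_surjective, Ideal.mk_ker] at h1
  obtain ⟨x, hx, j, hj, hxj⟩ := Submodule.mem_sup.mp h1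
  exact ⟨x, hx, j, hj, hxj.symm⟩

theorem ker_rho_le (n : ℕ) :
    RingHom.ker (rho (A := A) 𝔠 J n).toRingHom ≤ J.map (Ideal.Quotient.mk (𝔠 ^ n)) := by
  intro x hx
  obtain ⟨c, rfl⟩ := Ideal.Quotient.mk_surjective x
  have h0 : rho (A := A) 𝔠 J n (Ideal.Quotient.mk (𝔠 ^ n) c) = 0 := hx
  rw [rho_mk, Ideal.Quotient.eq_zero_iff_mem] at h0
  obtain ⟨y, hy, j, hj, rfl⟩ := mem_sup_of_mk_mem 𝔠 J n c h0
  rw [map_add, Ideal.Quotient.eq_zero_iff_mem.mpr hy, zero_add]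
  exact Ideal.mem_map_of_mem _ hj

theorem isNilpotent_ker_rho (hJ : ∃ t : ℕ, J ^ t ≤ 𝔠) (n : ℕ) :
    IsNilpotent (RingHom.ker (rho (A := A) 𝔠 J n).toRingHom) := by
  obtain ⟨t, ht⟩ := hJ
  refine ⟨t * n, le_bot_iff.mp ?_⟩
  refine (Ideal.pow_right_mono (ker_rho_le 𝔠 J n) (t * n)).trans ?_
  rw [← Ideal.map_pow, pow_mul]
  have : (J ^ t) ^ n ≤ 𝔠 ^ n := Ideal.pow_right_mono ht n
  refine (Ideal.map_mono this).trans ?_
  rw [Ideal.map_quotient_self]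

/-- the truncations of `u`. -/
noncomputable def un (u : B →ₐ[A] C ⧸ J) (n : ℕ) :
    B →ₐ[A] (C ⧸ J) ⧸ (𝔠 ^ n).map (Ideal.Quotient.mk J) :=
  (Ideal.Quotient.mkₐ A ((𝔠 ^ n).map (Ideal.Quotient.mk J))).comp u

theorem un_continuous (𝔟 : Ideal B) (u : B →ₐ[A] C ⧸ J)
    (hu : ∃ k : ℕ, (𝔟 ^ k).map u.toRingHom ≤ 𝔠.map (Ideal.Quotient.mk J)) (n : ℕ) :
    ∃ k : ℕ, ∀ x ∈ 𝔟 ^ k, un 𝔠 J u n x = 0 := by
  obtain ⟨k, hk⟩ := hu
  refine ⟨k * n, fun x hx => ?_⟩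
  show Ideal.Quotient.mk _ (u x) = 0
  rw [Ideal.Quotient.eq_zero_iff_mem, Ideal.map_pow]
  have h1 : (𝔟 ^ (k * n)).map u.toRingHom ≤ (𝔠.map (Ideal.Quotient.mk J)) ^ n := by
    rw [pow_mul, Ideal.map_pow]
    exact Ideal.pow_right_mono hk n
  exact h1 (Ideal.mem_map_of_mem u.toRingHom hx)

theorem discrete_quotient (𝔞 : Ideal A) (hAC : ∃ k : ℕ, (𝔞 ^ k).map (algebraMap A C) ≤ 𝔠) (n : ℕ) :
    ∃ k : ℕ, (𝔞 ^ k).map (algebraMap A (C ⧸ 𝔠 ^ n)) = ⊥ := by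
  obtain ⟨k, hk⟩ := hAC
  refine ⟨k * n, ?_⟩
  have h1 : (𝔞 ^ (k * n)).map (algebraMap A C) ≤ 𝔠 ^ n := by
    rw [pow_mul, Ideal.map_pow]
    exact Ideal.pow_right_mono hk n
  have h2 : algebraMap A (C ⧸ 𝔠 ^ n) = (Ideal.Quotient.mk (𝔠 ^ n)).comp (algebraMap A C) := rfl
  rw [h2, ← Ideal.map_map, eq_bot_iff]
  refine (Ideal.map_mono h1).trans ?_
  rw [Ideal.map_quotient_self]

theorem exists_step (𝔞 : Ideal A) (𝔟 : Ideal B) (hB : EGA41.IsFormallySmoothAdic A 𝔞 B 𝔟)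
    (hAC : ∃ k : ℕ, (𝔞 ^ k).map (algebraMap A C) ≤ 𝔠) (hJ : ∃ t : ℕ, J ^ t ≤ 𝔠)
    (u : B →ₐ[A] C ⧸ J) (hu : ∃ k : ℕ, (𝔟 ^ k).map u.toRingHom ≤ 𝔠.map (Ideal.Quotient.mk J))
    (n : ℕ) (v : B →ₐ[A] C ⧸ 𝔠 ^ n) (hv : (rho 𝔠 J n).comp v = un 𝔠 J u n) :
    ∃ v' : B →ₐ[A] C ⧸ 𝔠 ^ (n + 1), (rho 𝔠 J (n + 1)).comp v' = un 𝔠 J u (n + 1) ∧
      (Ideal.Quotient.factorₐ A (Ideal.pow_le_pow_right n.le_succ)).comp v' = v := by
  have hvc : ∃ k : ℕ, ∀ x ∈ 𝔟 ^ k, v x = 0 := by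
    refine continuous_of_comp (rho 𝔠 J n) (isNilpotent_ker_rho 𝔠 J hJ n) 𝔟 v ?_
    obtain ⟨k, hk⟩ := un_continuous 𝔠 J 𝔟 u hu n
    refine ⟨k, fun x hx => ?_⟩
    have := congrArg (fun φ => φ x) hv
    simp only [AlgHom.comp_apply] at this
    rw [this]
    exact hk x hx
  have hK : IsNilpotent
      (RingHom.ker (Ideal.Quotient.factorₐ A
        (Ideal.pow_le_pow_right (I := 𝔠) n.le_succ)).toRingHom ⊓
        RingHom.ker (rho (A := A) 𝔠 J (n + 1)).toRingHom) := by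
    obtain ⟨N, hN⟩ := isNilpotent_ker_rho (A := A) 𝔠 J hJ (n + 1)
    refine ⟨N, le_bot_iff.mp ?_⟩
    refine (Ideal.pow_right_mono inf_le_right N).trans ?_
    rw [hN]
    exact le_rfl
  have hcompat : ∀ b, ∃ e : C ⧸ 𝔠 ^ (n + 1),
      (Ideal.Quotient.factorₐ A (Ideal.pow_le_pow_right (I := 𝔠) n.le_succ)) e = v b ∧
      rho (A := A) 𝔠 J (n + 1) e = un 𝔠 J u (n + 1) b := by
    intro b
    obtain ⟨x, hx⟩ := Ideal.Quotient.mk_surjective (v b)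
    obtain ⟨y, hy⟩ := Ideal.Quotient.mk_surjective (u b)
    have h1 := congrArg (fun φ => φ b) hv
    simp only [AlgHom.comp_apply] at h1
    rw [← hx, rho_mk] at h1
    have h2 : un 𝔠 J u n b = Ideal.Quotient.mk _ (Ideal.Quotient.mk J y) := by
      show Ideal.Quotient.mk _ (u b) = _
      rw [hy]
    rw [h2, Ideal.Quotient.eq, ← map_sub] at h1
    obtain ⟨c, hc, j, hj, hcj⟩ := mem_sup_of_mk_mem 𝔠 J n (x - y) h1
    refine ⟨Ideal.Quotient.mk _ (x - c), ?_, ?_⟩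
    · show Ideal.Quotient.mk (𝔠 ^ n) (x - c) = v b
      rw [map_sub, Ideal.Quotient.eq_zero_iff_mem.mpr hc, sub_zero, hx]
    · rw [rho_mk]
      show _ = Ideal.Quotient.mk _ (u b)
      rw [← hy]
      congr 1
      rw [Ideal.Quotient.eq]
      have : x - c - y = j := by rw [sub_right_comm, hcj]; ring
      rw [this]
      exact hj
  obtain ⟨g, hg1, hg2⟩ := exists_lift_pair 𝔞 𝔟 hB (discrete_quotient 𝔠 𝔞 hAC (n + 1))
    (Ideal.Quotient.factorₐ A (Ideal.pow_le_pow_right (I := 𝔠) n.le_succ)) (rho 𝔠 J (n + 1)) hK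
    v (un 𝔠 J u (n + 1)) hvc (un_continuous 𝔠 J 𝔟 u hu (n + 1)) hcompat
  exact ⟨g, hg2, hg1⟩

/-- **Lifting to a complete algebra** (EGA 0_IV 19.3.10). -/
theorem exists_lift_of_isAdicComplete (𝔞 : Ideal A) (𝔟 : Ideal B)
    (hB : EGA41.IsFormallySmoothAdic A 𝔞 B 𝔟) [IsAdicComplete 𝔠 C]
    (hAC : ∃ k : ℕ, (𝔞 ^ k).map (algebraMap A C) ≤ 𝔠) (hJ : ∃ t : ℕ, J ^ t ≤ 𝔠)
    [IsHausdorff (𝔠.map (Ideal.Quotient.mk J)) (C ⧸ J)]
    (u : B →ₐ[A] C ⧸ J) (hu : ∃ k : ℕ, (𝔟 ^ k).map u.toRingHom ≤ 𝔠.map (Ideal.Quotient.mk J)) :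
    ∃ v : B →ₐ[A] C, (∃ k : ℕ, (𝔟 ^ k).map v.toRingHom ≤ 𝔠) ∧
      (Ideal.Quotient.mkₐ A J).comp v = u := by
  classical
  let P : ∀ n : ℕ, (B →ₐ[A] C ⧸ 𝔠 ^ n) → Prop := fun n v => (rho 𝔠 J n).comp v = un 𝔠 J u n
  have h0 : ∃ v : B →ₐ[A] C ⧸ 𝔠 ^ 0, P 0 v := by
    haveI : Subsingleton (C ⧸ 𝔠 ^ 0) := by
      rw [pow_zero]; exact Ideal.Quotient.subsingleton_iff.mpr Ideal.one_eq_top
    haveI : Subsingleton ((C ⧸ J) ⧸ (𝔠 ^ 0).map (Ideal.Quotient.mk J)) := by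
      rw [pow_zero, Ideal.one_eq_top, Ideal.map_top]
      exact Ideal.Quotient.subsingleton_iff.mpr rfl
    refine ⟨default, ?_⟩
    ext b
    exact Subsingleton.elim _ _
  let seq : ∀ n : ℕ, {v : B →ₐ[A] C ⧸ 𝔠 ^ n // P n v} := fun n =>
    Nat.rec (motive := fun n => {v : B →ₐ[A] C ⧸ 𝔠 ^ n // P n v}) ⟨h0.choose, h0.choose_spec⟩
      (fun n v => ⟨(exists_step 𝔠 J 𝔞 𝔟 hB hAC hJ u hu n v.1 v.2).choose,
        (exists_step 𝔠 J 𝔞 𝔟 hB hAC hJ u hu n v.1 v.2).choose_spec.1⟩) n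
  have hseq : ∀ n : ℕ, (Ideal.Quotient.factorₐ A (Ideal.pow_le_pow_right n.le_succ)).comp
      (seq (n + 1)).1 = (seq n).1 := fun n =>
    (exists_step 𝔠 J 𝔞 𝔟 hB hAC hJ u hu n (seq n).1 (seq n).2).choose_spec.2
  obtain ⟨v, hv⟩ := exists_algHom_of_compatible 𝔠 (fun n => (seq n).1) hseq
  refine ⟨v, ?_, ?_⟩
  · have hvc : ∃ k : ℕ, ∀ x ∈ 𝔟 ^ k, (seq 1).1 x = 0 := by
      refine continuous_of_comp (rho 𝔠 J 1) (isNilpotent_ker_rho 𝔠 J hJ 1) 𝔟 (seq 1).1 ?_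
      obtain ⟨k, hk⟩ := un_continuous 𝔠 J 𝔟 u hu 1
      refine ⟨k, fun x hx => ?_⟩
      have := congrArg (fun φ => φ x) (seq 1).2
      simp only [AlgHom.comp_apply] at this
      rw [this]
      exact hk x hx
    obtain ⟨k, hk⟩ := hvc
    refine ⟨k, ?_⟩
    rw [Ideal.map_le_iff_le_comap]
    intro x hx
    have h1 := hv 1 x
    rw [hk x hx, Ideal.Quotient.eq_zero_iff_mem, pow_one] at h1
    exact h1
  · ext b
    show Ideal.Quotient.mk J (v b) = u b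
    rw [← sub_eq_zero]
    apply IsHausdorff.haus' (I := 𝔠.map (Ideal.Quotient.mk J))
    intro n
    rw [SModEq.zero, smul_eq_mul, Ideal.mul_top, ← Ideal.map_pow]
    have h1 := congrArg (fun φ => φ b) (seq n).2
    simp only [AlgHom.comp_apply] at h1
    rw [← hv n b, rho_mk] at h1
    have h2 : un 𝔠 J u n b = Ideal.Quotient.mk _ (u b) := rfl
    rw [h2, Ideal.Quotient.eq] at h1
    exact h1

end Complete

end Groth.Agent.H5.AdicFS
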