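import Groth.Prelude.Def_EGA41
import Groth.Prelude.Def_CAlgX
import Mathlib

set_option autoImplicit false
universe u

namespace Groth.Agent.H5.AdicFS

variable {A B : Type u} [CommRing A] [CommRing B] [Algebra A B]

/-- a lift of a continuous map along a nilpotent ideal is continuous. -/
theorem continuous_of_lift {C : Type u} [CommRing C] [Algebra A C] (J : Ideal C) (hJ : IsNilpotent J)
    (𝔟 : Ideal B) (v : B →ₐ[A] C)
    (hv : ∃ k : ℕ, ∀ x ∈ 𝔟 ^ k, ((Ideal.Quotient.mkₐ A J).comp v) x = 0) :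
    ∃ k : ℕ, ∀ x ∈ 𝔟 ^ k, v x = 0 := by
  obtain ⟨n, hn⟩ := hJ
  obtain ⟨k, hk⟩ := hv
  have h1 : (𝔟 ^ k).map v.toRingHom ≤ J := by
    rw [Ideal.map_le_iff_le_comap]
    intro x hx
    have := hk x hx
    rw [AlgHom.comp_apply, Ideal.Quotient.mkₐ_eq_mk, Ideal.Quotient.eq_zero_iff_mem] at this
    exact this
  refine ⟨k * n, fun x hx => ?_⟩
  have h2 : (𝔟 ^ (k * n)).map v.toRingHom ≤ ⊥ := by
    rw [pow_mul, Ideal.map_pow]
    refine (Ideal.pow_right_mono h1 n).trans ?_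
    rw [hn]
    exact le_rfl
  have := h2 (Ideal.mem_map_of_mem v.toRingHom hx)
  simpa using this

/-- the square-zero form of adic formal smoothness. -/
def SqZeroLift (𝔞 : Ideal A) (𝔟 : Ideal B) : Prop :=
  ∀ (C : Type u) [CommRing C] [Algebra A C] (J : Ideal C), J ^ 2 = ⊥ →
    (∃ k : ℕ, (𝔞 ^ k).map (algebraMap A C) = ⊥) →
    ∀ u : B →ₐ[A] C ⧸ J, (∃ k : ℕ, ∀ x ∈ 𝔟 ^ k, u x = 0) →
      ∃ v : B →ₐ[A] C, (Ideal.Quotient.mkₐ A J).comp v = u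

theorem map_quotient_eq_bot {C : Type u} [CommRing C] [Algebra A C] (I : Ideal C) (𝔞 : Ideal A)
    (h : ∃ k : ℕ, (𝔞 ^ k).map (algebraMap A C) = ⊥) :
    ∃ k : ℕ, (𝔞 ^ k).map (algebraMap A (C ⧸ I)) = ⊥ := by
  obtain ⟨k, hk⟩ := h
  refine ⟨k, ?_⟩
  have : algebraMap A (C ⧸ I) = (Ideal.Quotient.mk I).comp (algebraMap A C) := rfl
  rw [this, ← Ideal.map_map, hk, Ideal.map_bot]

theorem isFormallySmoothAdic_of_sqZeroLift (𝔞 : Ideal A) (𝔟 : Ideal B) (h : SqZeroLift 𝔞 𝔟) :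
    EGA41.IsFormallySmoothAdic A 𝔞 B 𝔟 := by
  intro C _ _ J hJ
  suffices H : IsNilpotent J → ∀ [Algebra A C], (∃ k : ℕ, (𝔞 ^ k).map (algebraMap A C) = ⊥) →
      ∀ u : B →ₐ[A] C ⧸ J, (∃ k : ℕ, ∀ x ∈ 𝔟 ^ k, u x = 0) →
      ∃ v : B →ₐ[A] C, (Ideal.Quotient.mkₐ A J).comp v = u from H hJ
  apply Ideal.IsNilpotent.induction_on (S := C) J hJ
  · intro C _ I hI _ _ hC u hu
    exact h C I hI hC u hu
  · intro C _ I J hIJ h₁ h₂ hJ _ hC g hg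
    have hnil : IsNilpotent (J.map (Ideal.Quotient.mk I)) := by
      obtain ⟨n, hn⟩ := hJ
      refine ⟨n, ?_⟩
      rw [← Ideal.map_pow, hn]
      exact Ideal.map_bot
    have hnilI : IsNilpotent I := by
      obtain ⟨n, hn⟩ := hJ
      refine ⟨n, ?_⟩
      have := Ideal.pow_right_mono hIJ n
      rw [hn] at this
      exact le_bot_iff.mp this
    replace h₁ := h₁ hnilI
    replace h₂ := h₂ hnil
    let e : ((C ⧸ I) ⧸ J.map (Ideal.Quotient.mk I)) ≃ₐ[A] C ⧸ J :=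
      { (DoubleQuot.quotQuotEquivQuotSup I J).trans
          (Ideal.quotEquivOfEq (sup_eq_right.mpr hIJ)) with
        commutes' := fun x => rfl }
    obtain ⟨g', e'⟩ := h₂ (map_quotient_eq_bot I 𝔞 hC) (e.symm.toAlgHom.comp g) (by
      obtain ⟨k, hk⟩ := hg
      refine ⟨k, fun x hx => ?_⟩
      rw [AlgHom.comp_apply, hk x hx, map_zero])
    have hg' : ∃ k : ℕ, ∀ x ∈ 𝔟 ^ k, g' x = 0 := by
      refine continuous_of_lift _ hnil 𝔟 g' ?_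
      rw [e']
      obtain ⟨k, hk⟩ := hg
      refine ⟨k, fun x hx => ?_⟩
      rw [AlgHom.comp_apply, hk x hx, map_zero]
    obtain ⟨g'', rfl⟩ := h₁ hC g' hg'
    replace e' := congr_arg e.toAlgHom.comp e'
    conv_rhs at e' =>
      rw [← AlgHom.comp_assoc, AlgEquiv.comp_symm, AlgHom.id_comp]
    exact ⟨g'', e'⟩

theorem sqZeroLift_of_isFormallySmoothAdic (𝔞 : Ideal A) (𝔟 : Ideal B)
    (h : EGA41.IsFormallySmoothAdic A 𝔞 B 𝔟) : SqZeroLift 𝔞 𝔟 :=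
  fun C _ _ J hJ hC u hu => h C J ⟨2, hJ⟩ hC u hu

theorem isFormallySmoothAdic_iff_sqZeroLift (𝔞 : Ideal A) (𝔟 : Ideal B) :
    EGA41.IsFormallySmoothAdic A 𝔞 B 𝔟 ↔ SqZeroLift 𝔞 𝔟 :=
  ⟨sqZeroLift_of_isFormallySmoothAdic 𝔞 𝔟, isFormallySmoothAdic_of_sqZeroLift 𝔞 𝔟⟩

theorem isAdicFormallySmooth_iff_bot (𝔫 : Ideal B) :
    CAlgX.IsAdicFormallySmooth A B 𝔫 ↔ EGA41.IsFormallySmoothAdic A ⊥ B 𝔫 := by
  rw [isFormallySmoothAdic_iff_sqZeroLift]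
  constructor
  · intro h C _ _ J hJ _ u hu
    exact h C J hJ u hu
  · intro h C _ _ J hJ u hu
    exact h C J hJ ⟨1, by rw [pow_one, Ideal.map_bot]⟩ u hu

theorem isFormallySmoothAdic_of_formallySmooth [Algebra.FormallySmooth A B] (𝔞 : Ideal A)
    (𝔟 : Ideal B) : EGA41.IsFormallySmoothAdic A 𝔞 B 𝔟 :=
  fun _ _ _ J hJ _ u _ => Algebra.FormallySmooth.exists_lift J hJ u

/-- Lifting a compatible pair of maps to two quotients whose kernels have nilpotent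
intersection. -/
theorem exists_lift_pair (𝔞 : Ideal A) (𝔟 : Ideal B) (hB : EGA41.IsFormallySmoothAdic A 𝔞 B 𝔟)
    {E E₁ E₂ : Type u} [CommRing E] [CommRing E₁] [CommRing E₂] [Algebra A E] [Algebra A E₁]
    [Algebra A E₂] (hE : ∃ k : ℕ, (𝔞 ^ k).map (algebraMap A E) = ⊥)
    (π₁ : E →ₐ[A] E₁) (π₂ : E →ₐ[A] E₂)
    (hK : IsNilpotent (RingHom.ker π₁.toRingHom ⊓ RingHom.ker π₂.toRingHom))
    (g₁ : B →ₐ[A] E₁) (g₂ : B →ₐ[A] E₂)
    (hg₁ : ∃ k : ℕ, ∀ x ∈ 𝔟 ^ k, g₁ x = 0) (hg₂ : ∃ k : ℕ, ∀ x ∈ 𝔟 ^ k, g₂ x = 0)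
    (hcompat : ∀ b, ∃ e, π₁ e = g₁ b ∧ π₂ e = g₂ b) :
    ∃ g : B →ₐ[A] E, π₁.comp g = g₁ ∧ π₂.comp g = g₂ := by
  set K : Ideal E := RingHom.ker π₁.toRingHom ⊓ RingHom.ker π₂.toRingHom with hKdef
  let φ : E ⧸ K →ₐ[A] E₁ × E₂ := Ideal.Quotient.liftₐ K (π₁.prod π₂) (by
    intro a ha
    have h1 : π₁ a = 0 := ha.1
    have h2 : π₂ a = 0 := ha.2
    exact Prod.ext h1 h2)
  have hφmk : ∀ e, φ (Ideal.Quotient.mk K e) = (π₁ e, π₂ e) := fun e => rfl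
  have hφ : Function.Injective φ := by
    rw [injective_iff_map_eq_zero]
    intro x hx
    obtain ⟨e, rfl⟩ := Ideal.Quotient.mk_surjective x
    rw [hφmk] at hx
    rw [Ideal.Quotient.eq_zero_iff_mem]
    exact ⟨(Prod.ext_iff.mp hx).1, (Prod.ext_iff.mp hx).2⟩
  let G : B →ₐ[A] E₁ × E₂ := g₁.prod g₂
  have hG : ∀ b, G b ∈ φ.range := by
    intro b
    obtain ⟨e, h1, h2⟩ := hcompat b
    refine ⟨Ideal.Quotient.mk K e, ?_⟩
    show φ (Ideal.Quotient.mk K e) = G b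
    rw [hφmk, h1, h2]; rfl
  let gbar : B →ₐ[A] E ⧸ K :=
    (AlgEquiv.ofInjective φ hφ).symm.toAlgHom.comp (G.codRestrict φ.range hG)
  have hgbar : ∀ b, φ (gbar b) = G b := by
    intro b
    have := (AlgEquiv.ofInjective φ hφ).apply_symm_apply (G.codRestrict φ.range hG b)
    exact congrArg Subtype.val this
  have hcont : ∃ k : ℕ, ∀ x ∈ 𝔟 ^ k, gbar x = 0 := by
    obtain ⟨k₁, hk₁⟩ := hg₁
    obtain ⟨k₂, hk₂⟩ := hg₂
    refine ⟨max k₁ k₂, fun x hx => hφ ?_⟩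
    rw [hgbar, map_zero]
    exact Prod.ext (hk₁ x (Ideal.pow_le_pow_right (le_max_left _ _) hx))
      (hk₂ x (Ideal.pow_le_pow_right (le_max_right _ _) hx))
  obtain ⟨g, hg⟩ := hB E K hK hE gbar hcont
  refine ⟨g, ?_, ?_⟩
  · ext b
    have h1 : φ (Ideal.Quotient.mk K (g b)) = G b := by
      rw [← hgbar, ← hg]; rfl
    rw [hφmk] at h1
    exact (Prod.ext_iff.mp h1).1
  · ext b
    have h1 : φ (Ideal.Quotient.mk K (g b)) = G b := by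
      rw [← hgbar, ← hg]; rfl
    rw [hφmk] at h1
    exact (Prod.ext_iff.mp h1).2

end Groth.Agent.H5.AdicFS
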