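import Mathlib
import Groth.Agent.Lib.Helper5.CA.Nilp031L
import Groth.Agent.Lib.Helper5.CA.SepSmooth
import Groth.Agent.Lib.Helper5.CA.AdicFS
import Groth.Agent.S4536

set_option autoImplicit false
universe u

namespace Groth.Agent.H5.Cohen1

open IsLocalRing

/-- Algebra form of Stacks 031L for a nilpotent ideal. -/
theorem formallySmooth_of_flat_quotient {R S : Type u} [CommRing R] [CommRing S] [Algebra R S]
    [Module.Flat R S] (I : Ideal R) (hI : IsNilpotent I)
    (h : Algebra.FormallySmooth (R ⧸ I) (S ⧸ I.map (algebraMap R S))) :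
    Algebra.FormallySmooth R S := by
  rw [← RingHom.formallySmooth_algebraMap]
  refine Nilp031L.formallySmooth_of_flat_of_isNilpotent (algebraMap R S)
    (RingHom.flat_algebraMap_iff.mpr inferInstance) (Ideal.Quotient.mk I)
    (Ideal.Quotient.mk (I.map (algebraMap R S)))
    (algebraMap (R ⧸ I) (S ⧸ I.map (algebraMap R S)))
    Ideal.Quotient.mk_surjective Ideal.Quotient.mk_surjective rfl ?_ ?_
    (RingHom.formallySmooth_algebraMap.mpr h)
  · rw [Ideal.mk_ker]; exact hI
  · rw [Ideal.mk_ker, Ideal.mk_ker]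

variable {A B : Type u} [CommRing A] [IsLocalRing A] [CommRing B] [IsLocalRing B]
  [Algebra A B] [IsLocalHom (algebraMap A B)]

theorem formallySmooth_quotient_pow [Module.Flat A B]
    (hm : (maximalIdeal A).map (algebraMap A B) = maximalIdeal B)
    [Algebra.FormallySmooth (ResidueField A) (ResidueField B)] (n : ℕ) :
    Algebra.FormallySmooth (A ⧸ maximalIdeal A ^ n)
      (B ⧸ (maximalIdeal A ^ n).map (algebraMap A B)) := by
  rcases Nat.eq_zero_or_pos n with rfl | hn
  · -- trivial rings
    have h1 : Subsingleton (A ⧸ maximalIdeal A ^ 0) := by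
      rw [pow_zero, Ideal.one_eq_top]; exact Ideal.Quotient.subsingleton_iff.mpr rfl
    have h2 : Subsingleton (B ⧸ (maximalIdeal A ^ 0).map (algebraMap A B)) := by
      rw [pow_zero, Ideal.one_eq_top, Ideal.map_top]; exact Ideal.Quotient.subsingleton_iff.mpr rfl
    have hb : Function.Bijective (Algebra.ofId (A ⧸ maximalIdeal A ^ 0)
        (B ⧸ (maximalIdeal A ^ 0).map (algebraMap A B))) :=
      ⟨fun x y _ => Subsingleton.elim x y, fun y => ⟨0, Subsingleton.elim _ _⟩⟩
    exact Algebra.FormallySmooth.of_equiv (AlgEquiv.ofBijective _ hb)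
  · set 𝔪 := maximalIdeal A with h𝔪
    have hle : 𝔪 ^ n ≤ 𝔪 := Ideal.pow_le_self hn.ne'
    have hleB : (𝔪 ^ n).map (algebraMap A B) ≤ maximalIdeal B := by
      rw [← hm]; exact Ideal.map_mono hle
    rw [← RingHom.formallySmooth_algebraMap]
    have flat : (algebraMap (A ⧸ 𝔪 ^ n) (B ⧸ (𝔪 ^ n).map (algebraMap A B))).Flat :=
      Nilp031L.flat_quotientMap (algebraMap A B) (RingHom.flat_algebraMap_iff.mpr inferInstance)
        (𝔪 ^ n)
    have kerR : RingHom.ker (Ideal.Quotient.factor hle) = 𝔪.map (Ideal.Quotient.mk (𝔪 ^ n)) := by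
      ext y
      obtain ⟨x, rfl⟩ := Ideal.Quotient.mk_surjective y
      rw [RingHom.mem_ker, Ideal.Quotient.factor_mk, Ideal.Quotient.eq_zero_iff_mem,
        Ideal.mem_map_iff_of_surjective _ Ideal.Quotient.mk_surjective]
      constructor
      · intro h; exact ⟨x, h, rfl⟩
      · rintro ⟨z, hz, hzx⟩
        have : z - x ∈ 𝔪 ^ n := Ideal.Quotient.eq.mp hzx
        have := 𝔪.sub_mem hz (hle this)
        simpa using this
    have kerS : RingHom.ker (Ideal.Quotient.factor hleB) =
        (maximalIdeal B).map (Ideal.Quotient.mk ((𝔪 ^ n).map (algebraMap A B))) := by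
      ext y
      obtain ⟨x, rfl⟩ := Ideal.Quotient.mk_surjective y
      rw [RingHom.mem_ker, Ideal.Quotient.factor_mk, Ideal.Quotient.eq_zero_iff_mem,
        Ideal.mem_map_iff_of_surjective _ Ideal.Quotient.mk_surjective]
      constructor
      · intro h; exact ⟨x, h, rfl⟩
      · rintro ⟨z, hz, hzx⟩
        have : z - x ∈ (𝔪 ^ n).map (algebraMap A B) := Ideal.Quotient.eq.mp hzx
        have := (maximalIdeal B).sub_mem hz (hleB this)
        simpa using this
    refine Nilp031L.formallySmooth_of_flat_of_isNilpotent _ flat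
      (Ideal.Quotient.factor hle) (Ideal.Quotient.factor hleB)
      (algebraMap (ResidueField A) (ResidueField B))
      (Ideal.Quotient.factor_surjective hle) (Ideal.Quotient.factor_surjective hleB) ?_ ?_ ?_
      (RingHom.formallySmooth_algebraMap.mpr
        (inferInstanceAs (Algebra.FormallySmooth (ResidueField A) (ResidueField B))))
    · apply Ideal.Quotient.ringHom_ext
      ext x
      rfl
    · rw [kerR]
      refine ⟨n, ?_⟩
      rw [← Ideal.map_pow, Ideal.zero_eq_bot]
      exact Ideal.map_quotient_self _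
    · rw [kerR, kerS, ← hm, Ideal.map_map, Ideal.map_map]
      congr 1

theorem isFormallySmoothAdic_of_isCohenAlgebra (h : EGA41.IsCohenAlgebra A B) :
    EGA41.IsFormallySmoothAdic A (maximalIdeal A) B (maximalIdeal B) := by
  obtain ⟨_, _, _, hflat, hm, hgr⟩ := h
  have : Algebra.FormallySmooth (ResidueField A) (ResidueField B) :=
    Groth.Agent.H5.formallySmooth_of_isGeometricallyReduced' _ _
  rw [Groth.Agent.S4536.result (maximalIdeal A) (maximalIdeal B) ⟨1, by rw [pow_one, hm]⟩]
  intro n
  have := formallySmooth_quotient_pow (A := A) (B := B) hm n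
  exact AdicFS.isFormallySmoothAdic_of_formallySmooth _ _

end Groth.Agent.H5.Cohen1
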