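import Groth.Agent.Lib.Helper5.CA.SepSmooth
import Mathlib.RingTheory.Smooth.AdicCompletion

set_option autoImplicit false
universe u

namespace Groth.Agent.H5

open IsLocalRing in
/-- existence of coefficient fields containing a given field over which the residue field is
separable. -/
theorem exists_coefficientField {k A : Type u} [Field k] [CommRing A] [IsLocalRing A] [Algebra k A]
    [IsAdicComplete (maximalIdeal A) A] [Algebra.IsGeometricallyReduced k (ResidueField A)] :
    ∃ σ : ResidueField A →ₐ[k] A, ∀ x : ResidueField A, residue A (σ x) = x := by
  haveI : Algebra.FormallySmooth k (ResidueField A) :=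
    formallySmooth_of_isGeometricallyReduced' k _
  obtain ⟨g, hg⟩ := Algebra.FormallySmooth.exists_mkₐ_comp_eq_of_isAdicComplete
    (R := k) (A := ResidueField A) (S := A) (I := maximalIdeal A)
    (AlgHom.id k (ResidueField A))
  refine ⟨g, fun x => ?_⟩
  exact congrArg (fun φ : ResidueField A →ₐ[k] A ⧸ maximalIdeal A => φ x) hg

end Groth.Agent.H5
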