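import Groth.Agent.Lib.Helper5.CA.PSExists

set_option autoImplicit false
universe u

namespace Groth.Agent.H5.CA

open IsLocalRing in
theorem exists_algEquiv_mvPowerSeries_of_regular (R : Type u)
    [CommRing R] [IsRegularLocalRing R] [IsAdicComplete (IsLocalRing.maximalIdeal R) R]
    (k : Type u) [Field k] [Algebra k R]
    (hk : Function.Bijective (algebraMap k (IsLocalRing.ResidueField R))) :
    ∃ d : ℕ, Nonempty (R ≃ₐ[k] MvPowerSeries (Fin d) k) := by
  classical
  have hR : Function.Surjective ((IsLocalRing.residue R).comp (algebraMap k R)) := by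
    have : (IsLocalRing.residue R).comp (algebraMap k R) = algebraMap k (ResidueField R) := rfl
    rw [this]
    exact hk.2
  let B := Module.finBasis (ResidueField R) (CotangentSpace R)
  let d := Module.finrank (ResidueField R) (CotangentSpace R)
  have hsurj := (maximalIdeal R).toCotangent_surjective
  choose b' hb' using fun i : Fin d => hsurj (B i)
  let b : Fin d → R := fun i => (b' i : R)
  have hbm : ∀ i, b i ∈ maximalIdeal R := fun i => (b' i).2
  obtain ⟨ψ, hψX⟩ := exists_algHom_mvPowerSeries k R (maximalIdeal R) b hbm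
  have hψ : ∀ i, ψ (MvPowerSeries.X i) ∈ maximalIdeal R := fun i => by rw [hψX]; exact hbm i
  have hfun : (fun i : Fin d => (maximalIdeal R).toCotangent ⟨ψ (MvPowerSeries.X i), hψ i⟩) =
      fun i => B i := by
    funext i
    rw [← hb' i]
    congr 1
    exact Subtype.ext (hψX i)
  have hli : LinearIndependent (ResidueField R)
      (fun i : Fin d => (maximalIdeal R).toCotangent ⟨ψ (MvPowerSeries.X i), hψ i⟩) := by
    rw [hfun]
    exact B.linearIndependent
  have hsp : Submodule.span (ResidueField R)
      (Set.range (fun i : Fin d => (maximalIdeal R).toCotangent ⟨ψ (MvPowerSeries.X i), hψ i⟩)) = ⊤ := by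
    rw [hfun]
    exact B.span_eq
  have hbij := (Groth.Agent.H6.PSCot.regular_iff_bijective (Groth.Agent.H6.ResAug.aug hR) ψ hψ
    hli hsp).mp inferInstance
  exact ⟨d, ⟨(AlgEquiv.ofBijective ψ hbij).symm⟩⟩

end Groth.Agent.H5.CA
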