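import Groth.Agent.S9634
import Groth.Agent.Lib.Helper5.CA.CoeffField
import Groth.Agent.Lib.Helper5.CA.PSRegular

set_option autoImplicit false
universe u

open TensorProduct

namespace Groth.Agent.H5

/-- over a perfect field, reduced algebras are geometrically reduced. -/
theorem isGeometricallyReduced_of_perfectField (k S : Type u) [Field k] [PerfectField k]
    [CommRing S] [Algebra k S] [IsReduced S] : Algebra.IsGeometricallyReduced k S := by
  refine ((Groth.Agent.S9634.result (k := k) (S := S)).out 0 1).mp ?_
  intro k' _ _ _ _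
  haveI : Algebra.IsAlgebraic k k' := Algebra.IsAlgebraic.of_finite k k'
  haveI : Algebra.IsSeparable k k' := Algebra.IsAlgebraic.isSeparable_of_perfectField
  have hbij : Function.Bijective (algebraMap k k') :=
    ⟨(algebraMap k k').injective, IsPurelyInseparable.surjective_algebraMap_of_isSeparable k k'⟩
  let e : k ≃ₐ[k] k' := AlgEquiv.ofBijective (Algebra.ofId k k') hbij
  let E : k' ⊗[k] S ≃ₐ[k] S :=
    (Algebra.TensorProduct.congr e.symm (AlgEquiv.refl (R := k) (A₁ := S))).trans
      (Algebra.TensorProduct.lid k S)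
  exact isReduced_of_injective E.toRingEquiv.toRingHom E.injective

end Groth.Agent.H5

namespace Groth.Agent.H5

open IsLocalRing in
theorem exists_ringEquiv_mvPowerSeries_aux (R : Type u) [CommRing R] [IsRegularLocalRing R]
    [IsAdicComplete (maximalIdeal R) R] (K : Type u) [Field K] (e : K ≃+* ResidueField R)
    (σ : K →+* R) (hσ : ∀ x, residue R (σ x) = e x) :
    ∃ d : ℕ, Nonempty (R ≃+* MvPowerSeries (Fin d) K) := by
  letI : Algebra K R := σ.toAlgebra
  have hk : Function.Bijective (algebraMap K (ResidueField R)) := by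
    have : (algebraMap K (ResidueField R) : K → ResidueField R) = e := by
      funext x
      exact hσ x
    rw [this]
    exact e.bijective
  obtain ⟨d, ⟨E⟩⟩ := Groth.Agent.H5.CA.exists_algEquiv_mvPowerSeries_of_regular R K hk
  exact ⟨d, ⟨E.toRingEquiv⟩⟩

open IsLocalRing in
theorem exists_ringEquiv_mvPowerSeries_of_perfectField (R : Type u) [CommRing R]
    [IsRegularLocalRing R] [IsAdicComplete (maximalIdeal R) R] (F : Type u) [Field F]
    [PerfectField F] [Algebra F R] :
    ∃ d : ℕ, Nonempty (R ≃+* MvPowerSeries (Fin d) (ResidueField R)) := by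
  haveI : Algebra.IsGeometricallyReduced F (ResidueField R) :=
    isGeometricallyReduced_of_perfectField F _
  obtain ⟨σ, hσ⟩ := exists_coefficientField (k := F) (A := R)
  exact exists_ringEquiv_mvPowerSeries_aux R (ResidueField R) (RingEquiv.refl _) σ.toRingHom hσ

open IsLocalRing in
theorem exists_ringEquiv_mvPowerSeries_of_field (R : Type u) [CommRing R]
    [IsRegularLocalRing R] [IsAdicComplete (maximalIdeal R) R] (k₀ : Type u) [Field k₀]
    [Algebra k₀ R] :
    ∃ d : ℕ, Nonempty (R ≃+* MvPowerSeries (Fin d) (ResidueField R)) := by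
  obtain h0 | ⟨p, hp, hpk⟩ := CharP.exists' k₀
  · exact exists_ringEquiv_mvPowerSeries_of_perfectField R k₀
  · haveI := hp
    haveI : CharP R p := charP_of_injective_algebraMap (algebraMap k₀ R).injective p
    letI : Algebra (ZMod p) R := ZMod.algebra R p
    letI : Algebra (ULift.{u} (ZMod p)) R :=
      ((algebraMap (ZMod p) R).comp (ULift.ringEquiv : ULift.{u} (ZMod p) ≃+* ZMod p).toRingHom).toAlgebra
    haveI : PerfectField (ULift.{u} (ZMod p)) := PerfectField.ofFinite
    exact exists_ringEquiv_mvPowerSeries_of_perfectField R (ULift.{u} (ZMod p))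

end Groth.Agent.H5
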