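import Groth.Agent.Lib.Helper5.CA.PSAdicSmooth
import Groth.Agent.Lib.Helper5.CA.PerfGR

set_option autoImplicit false
universe u

namespace Groth.Agent.H5.CA

theorem formallySmooth_of_perfectField (k K : Type u) [Field k] [PerfectField k] [Field K]
    [Algebra k K] : Algebra.FormallySmooth k K := by
  haveI := Groth.Agent.H5.isGeometricallyReduced_of_perfectField k K
  exact Groth.Agent.H5.formallySmooth_of_isGeometricallyReduced' k K

theorem isAdicFormallySmooth_rat (K : Type) [Field K] [CharZero K] (n : ℕ) :
    CAlgX.IsAdicFormallySmooth ℚ (MvPowerSeries (Fin n) K)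
      (IsLocalRing.maximalIdeal (MvPowerSeries (Fin n) K)) := by
  haveI := formallySmooth_of_perfectField ℚ K
  exact isAdicFormallySmooth_mvPowerSeries ℚ K n

theorem isAdicFormallySmooth_zmod (p : ℕ) [Fact p.Prime] (L : Type) [Field L]
    [Algebra (ZMod p) L] (n : ℕ) :
    CAlgX.IsAdicFormallySmooth (ZMod p) (MvPowerSeries (Fin n) L)
      (IsLocalRing.maximalIdeal (MvPowerSeries (Fin n) L)) := by
  haveI : PerfectField (ZMod p) := PerfectField.ofFinite
  haveI := formallySmooth_of_perfectField (ZMod p) L
  exact isAdicFormallySmooth_mvPowerSeries (ZMod p) L n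

end Groth.Agent.H5.CA
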