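import Groth.Agent.Lib.Helper5.CA.PSAdicSmooth
import Groth.Prelude.Def_EGA41

set_option autoImplicit false
universe u

open MvPowerSeries

namespace Groth.Agent.H5.CA

/-- the kernel of the constant coefficient map is generated by the variables. -/
theorem ker_constantCoeff_eq_span {A : Type*} [CommRing A] (n : ℕ) :
    RingHom.ker (MvPowerSeries.constantCoeff : MvPowerSeries (Fin n) A →+* A) =
      Ideal.span (Set.range (X : Fin n → MvPowerSeries (Fin n) A)) := by
  ext φ
  rw [RingHom.mem_ker, Groth.Agent.H4.MvPSVars.mem_span_range_X_iff]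

/-- existence of a continuous algebra map out of a power series ring with prescribed nilpotent
values on the variables. -/
theorem exists_algHom_of_isNilpotent {A : Type u} [CommRing A] (n : ℕ) {E : Type u} [CommRing E]
    [Algebra A E] (z : Fin n → E) (hz : ∀ i, IsNilpotent (z i)) :
    ∃ (g : MvPowerSeries (Fin n) A →ₐ[A] E) (N : ℕ), (∀ i, g (X i) = z i) ∧
      ∀ x ∈ Ideal.span (Set.range (X : Fin n → MvPowerSeries (Fin n) A)) ^ N, g x = 0 := by
  classical
  let I : Ideal E := Ideal.span (Set.range z)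
  have hIfg : I.FG := ⟨Finset.univ.image z, by simp [I]⟩
  have hInil : IsNilpotent I := by
    rw [Ideal.FG.isNilpotent_iff_le_nilradical hIfg, Ideal.span_le]
    rintro _ ⟨i, rfl⟩
    exact hz i
  obtain ⟨N, hN⟩ := hInil
  haveI : IsAdicComplete I E := Groth.Agent.H1.isAdicComplete_of_pow_eq_bot I N hN
  obtain ⟨g, hg⟩ := exists_algHom_mvPowerSeries A E I z (fun i => Ideal.subset_span ⟨i, rfl⟩)
  refine ⟨g, N, hg, fun x hx => ?_⟩
  have h1 : Ideal.map g (Ideal.span (Set.range (X : Fin n → MvPowerSeries (Fin n) A))) ≤ I := by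
    rw [Ideal.map_span, Ideal.span_le]
    rintro _ ⟨_, ⟨i, rfl⟩, rfl⟩
    rw [hg]
    exact Ideal.subset_span ⟨i, rfl⟩
  have h2 := Ideal.mem_map_of_mem g hx
  rw [Ideal.map_pow] at h2
  have h3 := Ideal.pow_right_mono h1 N h2
  rw [hN] at h3
  exact h3

end Groth.Agent.H5.CA

namespace Groth.Agent.H5.CA

theorem span_X_le_sup {A : Type*} [CommRing A] (𝔞 : Ideal A) (n : ℕ) :
    Ideal.span (Set.range (X : Fin n → MvPowerSeries (Fin n) A)) ≤
      𝔞.map (MvPowerSeries.C : A →+* MvPowerSeries (Fin n) A) ⊔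
        RingHom.ker (MvPowerSeries.constantCoeff : MvPowerSeries (Fin n) A →+* A) := by
  rw [ker_constantCoeff_eq_span]
  exact le_sup_right

theorem isFormallySmoothAdic_mvPowerSeries (A : Type u) [CommRing A] (𝔞 : Ideal A) (n : ℕ) :
    EGA41.IsFormallySmoothAdic A 𝔞 (MvPowerSeries (Fin n) A)
      (𝔞.map (MvPowerSeries.C : A →+* MvPowerSeries (Fin n) A) ⊔
        RingHom.ker (MvPowerSeries.constantCoeff : MvPowerSeries (Fin n) A →+* A)) := by
  intro Cc _ _ J hJ _ u hu
  obtain ⟨k, hk⟩ := hu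
  obtain ⟨M, hM⟩ := hJ
  choose z hz using fun i : Fin n => Ideal.Quotient.mk_surjective (u (X i))
  have hXk : ∀ (i : Fin n) (m : ℕ), k ≤ m → u ((X i) ^ m) = 0 := by
    intro i m hkm
    apply hk
    refine Ideal.pow_le_pow_right hkm ?_
    exact Ideal.pow_mem_pow (span_X_le_sup 𝔞 n (Ideal.subset_span (Set.mem_range_self i))) m
  have hnil : ∀ i, IsNilpotent (z i) := by
    intro i
    refine ⟨k * M, ?_⟩
    have h1 : (z i) ^ k ∈ J := by
      rw [← Ideal.Quotient.eq_zero_iff_mem, map_pow, hz, ← map_pow]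
      exact hXk i k le_rfl
    have h2 : ((z i) ^ k) ^ M ∈ J ^ M := Ideal.pow_mem_pow h1 M
    rw [hM] at h2
    rw [pow_mul]
    exact h2
  obtain ⟨v, N, hv, hvN⟩ := exists_algHom_of_isNilpotent (A := A) n z hnil
  refine ⟨v, ?_⟩
  refine algHom_ext_of_pow _ _ (max N k) ?_ ?_ ?_
  · intro x hx
    have : v x = 0 := hvN x (Ideal.pow_le_pow_right (le_max_left _ _) hx)
    simp [this]
  · intro x hx
    apply hk
    refine Ideal.pow_le_pow_right (le_max_right N k) ?_
    exact Ideal.pow_right_mono (span_X_le_sup 𝔞 n) _ hx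
  · intro i
    show Ideal.Quotient.mk J (v (X i)) = u (X i)
    rw [hv, hz]

end Groth.Agent.H5.CA

namespace Groth.Agent.H5.CA

theorem continuous_algHom_mvPowerSeries_iff (A : Type u) [CommRing A] (𝔞 : Ideal A) (n : ℕ)
    (E : Type u) [CommRing E] [Algebra A E] (hE : ∃ k : ℕ, (𝔞 ^ k).map (algebraMap A E) = ⊥) :
    (∀ f : MvPowerSeries (Fin n) A →ₐ[A] E,
      (∃ m : ℕ, ∀ x ∈ (𝔞.map (MvPowerSeries.C : A →+* MvPowerSeries (Fin n) A) ⊔
        RingHom.ker (MvPowerSeries.constantCoeff : MvPowerSeries (Fin n) A →+* A)) ^ m, f x = 0) →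
      ∀ i, IsNilpotent (f (MvPowerSeries.X i))) ∧
    ∀ z : Fin n → E, (∀ i, IsNilpotent (z i)) →
      ∃! g : MvPowerSeries (Fin n) A →ₐ[A] E,
        (∃ m : ℕ, ∀ x ∈ (𝔞.map (MvPowerSeries.C : A →+* MvPowerSeries (Fin n) A) ⊔
          RingHom.ker (MvPowerSeries.constantCoeff : MvPowerSeries (Fin n) A →+* A)) ^ m, g x = 0) ∧
        ∀ i, g (MvPowerSeries.X i) = z i := by
  constructor
  · rintro f ⟨m, hm⟩ i
    refine ⟨m, ?_⟩
    rw [← map_pow]
    apply hm
    exact Ideal.pow_mem_pow (span_X_le_sup 𝔞 n (Ideal.subset_span (Set.mem_range_self i))) m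
  · intro z hz
    obtain ⟨k, hk⟩ := hE
    obtain ⟨g, N, hg, hgN⟩ := exists_algHom_of_isNilpotent (A := A) n z hz
    have hgcont : ∀ x ∈ (𝔞.map (MvPowerSeries.C : A →+* MvPowerSeries (Fin n) A) ⊔
        RingHom.ker (MvPowerSeries.constantCoeff : MvPowerSeries (Fin n) A →+* A)) ^ (k + N),
        g x = 0 := by
      intro x hx
      have h1 := Ideal.sup_pow_add_le_pow_sup_pow hx
      rw [ker_constantCoeff_eq_span] at h1
      obtain ⟨y, hy, w, hw, rfl⟩ := Submodule.mem_sup.mp h1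
      rw [map_add, hgN w hw, add_zero]
      -- y ∈ (𝔞 B)^k
      rw [← Ideal.map_pow] at hy
      have h2 : Ideal.map g (Ideal.map (MvPowerSeries.C : A →+* MvPowerSeries (Fin n) A) (𝔞 ^ k)) ≤
          (𝔞 ^ k).map (algebraMap A E) := by
        rw [Ideal.map_le_iff_le_comap, Ideal.map_le_iff_le_comap]
        intro a ha
        rw [Ideal.mem_comap, Ideal.mem_comap]
        have : g (MvPowerSeries.C a) = algebraMap A E a := by
          have h := g.commutes a
          rwa [MvPowerSeries.algebraMap_apply, Algebra.algebraMap_self, RingHom.id_apply] at h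
        rw [this]
        exact Ideal.mem_map_of_mem _ ha
      have h3 := h2 (Ideal.mem_map_of_mem g hy)
      rw [hk] at h3
      exact h3
    refine ⟨g, ⟨⟨k + N, hgcont⟩, hg⟩, ?_⟩
    rintro g' ⟨⟨m', hm'⟩, hg'⟩
    refine algHom_ext_of_pow _ _ (max m' (k + N)) ?_ ?_ ?_
    · intro x hx
      apply hm'
      exact Ideal.pow_le_pow_right (le_max_left _ _) (Ideal.pow_right_mono (span_X_le_sup 𝔞 n) _ hx)
    · intro x hx
      apply hgcont
      exact Ideal.pow_le_pow_right (le_max_right _ _) (Ideal.pow_right_mono (span_X_le_sup 𝔞 n) _ hx)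
    · intro i
      rw [hg, hg']

end Groth.Agent.H5.CA
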