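import Mathlib
import Groth.Agent.Lib.Helper5.CA.Cohen1
import Groth.Agent.Lib.Helper5.CA.PSCont
import Groth.Agent.Lib.Helper5.CA.PSAdicSmooth2
import Groth.Agent.S4534

set_option autoImplicit false
universe u

namespace Groth.Agent.H5.Cohen2

open IsLocalRing

/-- weaken the base topology to the discrete one. -/
theorem isFormallySmoothAdic_bot_of {A B : Type u} [CommRing A] [CommRing B] [Algebra A B]
    (𝔞 : Ideal A) (𝔟 : Ideal B) (hAB : ∃ k : ℕ, (𝔞 ^ k).map (algebraMap A B) ≤ 𝔟)
    (h : EGA41.IsFormallySmoothAdic A 𝔞 B 𝔟) : EGA41.IsFormallySmoothAdic A ⊥ B 𝔟 := by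
  intro C _ _ J hJ _ u hu
  refine h C J hJ ?_ u hu
  obtain ⟨c, hc⟩ := hAB
  obtain ⟨k, hk⟩ := hu
  obtain ⟨M, hM⟩ := hJ
  refine ⟨c * k * M, ?_⟩
  rw [pow_mul, Ideal.map_pow]
  have h1 : (𝔞 ^ (c * k)).map (algebraMap A C) ≤ J := by
    rw [Ideal.map_le_iff_le_comap]
    intro a ha
    rw [Ideal.mem_comap, ← Ideal.Quotient.eq_zero_iff_mem]
    have h2 : algebraMap A B a ∈ 𝔟 ^ k := by
      have : algebraMap A B a ∈ ((𝔞 ^ c) ^ k).map (algebraMap A B) := by
        rw [← pow_mul]; exact Ideal.mem_map_of_mem _ ha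
      rw [Ideal.map_pow] at this
      exact Ideal.pow_right_mono hc k this
    have h3 := hk _ h2
    rw [AlgHom.commutes] at h3
    exact h3
  have := Ideal.pow_right_mono h1 M
  rw [hM] at this
  exact le_antisymm (by simpa using this) bot_le

/-- the maximal ideal of a power series ring over a local ring. -/
theorem maximalIdeal_mvPowerSeries (A : Type u) [CommRing A] [IsLocalRing A] (n : ℕ) :
    maximalIdeal (MvPowerSeries (Fin n) A) =
      (maximalIdeal A).map (MvPowerSeries.C : A →+* MvPowerSeries (Fin n) A) ⊔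
        RingHom.ker (MvPowerSeries.constantCoeff : MvPowerSeries (Fin n) A →+* A) := by
  have hmem : ∀ f : MvPowerSeries (Fin n) A, f ∈ maximalIdeal (MvPowerSeries (Fin n) A) ↔
      MvPowerSeries.constantCoeff f ∈ maximalIdeal A := by
    intro f
    rw [mem_maximalIdeal, mem_maximalIdeal, mem_nonunits_iff, mem_nonunits_iff,
      MvPowerSeries.isUnit_iff_constantCoeff]
  apply le_antisymm
  · intro f hf
    have h1 : MvPowerSeries.C (MvPowerSeries.constantCoeff f) ∈
        (maximalIdeal A).map (MvPowerSeries.C : A →+* MvPowerSeries (Fin n) A) :=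
      Ideal.mem_map_of_mem _ ((hmem f).mp hf)
    have h2 : f - MvPowerSeries.C (MvPowerSeries.constantCoeff f) ∈
        RingHom.ker (MvPowerSeries.constantCoeff : MvPowerSeries (Fin n) A →+* A) := by
      rw [RingHom.mem_ker, map_sub, MvPowerSeries.constantCoeff_C, sub_self]
    have := Ideal.add_mem _ (Ideal.mem_sup_left h1) (Ideal.mem_sup_right h2)
    simpa using this
  · refine sup_le ?_ ?_
    · rw [Ideal.map_le_iff_le_comap]
      intro a ha
      rw [Ideal.mem_comap, hmem, MvPowerSeries.constantCoeff_C]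
      exact ha
    · intro f hf
      rw [hmem, RingHom.mem_ker.mp hf]
      exact zero_mem _

end Groth.Agent.H5.Cohen2

namespace Groth.Agent.H5.Cohen2

open IsLocalRing

/-- General (non-local) form: flat + fibre over `A ⧸ 𝔪` formally smooth ⇒ all the
infinitesimal quotients are formally smooth. -/
theorem formallySmooth_quotient_pow {A B : Type u} [CommRing A] [CommRing B] [Algebra A B]
    [Module.Flat A B] (𝔪 : Ideal A)
    [Algebra.FormallySmooth (A ⧸ 𝔪) (B ⧸ 𝔪.map (algebraMap A B))] (n : ℕ) :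
    Algebra.FormallySmooth (A ⧸ 𝔪 ^ n) (B ⧸ (𝔪 ^ n).map (algebraMap A B)) := by
  rcases Nat.eq_zero_or_pos n with rfl | hn
  · -- trivial rings
    have h1 : Subsingleton (A ⧸ 𝔪 ^ 0) := by
      rw [pow_zero, Ideal.one_eq_top]; exact Ideal.Quotient.subsingleton_iff.mpr rfl
    have h2 : Subsingleton (B ⧸ (𝔪 ^ 0).map (algebraMap A B)) := by
      rw [pow_zero, Ideal.one_eq_top, Ideal.map_top]; exact Ideal.Quotient.subsingleton_iff.mpr rfl
    have hb : Function.Bijective (Algebra.ofId (A ⧸ 𝔪 ^ 0)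
        (B ⧸ (𝔪 ^ 0).map (algebraMap A B))) :=
      ⟨fun x y _ => Subsingleton.elim x y, fun y => ⟨0, Subsingleton.elim _ _⟩⟩
    exact Algebra.FormallySmooth.of_equiv (AlgEquiv.ofBijective _ hb)
  · have hle : 𝔪 ^ n ≤ 𝔪 := Ideal.pow_le_self hn.ne'
    have hleB : (𝔪 ^ n).map (algebraMap A B) ≤ 𝔪.map (algebraMap A B) := Ideal.map_mono hle
    rw [← RingHom.formallySmooth_algebraMap]
    have flat : (algebraMap (A ⧸ 𝔪 ^ n) (B ⧸ (𝔪 ^ n).map (algebraMap A B))).Flat :=
      Nilp031L.flat_quotientMap (algebraMap A B) (RingHom.flat_algebraMap_iff.mpr inferInstance)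
        (𝔪 ^ n)
    have kerR : RingHom.ker (Ideal.Quotient.factor hle) = 𝔪.map (Ideal.Quotient.mk (𝔪 ^ n)) := by
      ext y
      obtain ⟨x, rfl⟩ := Ideal.Quotient.mk_surjective y
      rw [RingHom.mem_ker, Ideal.Quotient.factor_mk, Ideal.Quotient.eq_zero_iff_mem,
        Ideal.mem_map_iff_of_surjective _ Ideal.Quotient.mk_surjective]
      constructor
      · intro h; exact ⟨x, h, rfl⟩
      · rintro ⟨z, hz, hzx⟩
        have : z - x ∈ 𝔪 ^ n := Ideal.Quotient.eq.mp hzx
        have := 𝔪.sub_mem hz (hle this)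
        simpa using this
    have kerS : RingHom.ker (Ideal.Quotient.factor hleB) =
        (𝔪.map (algebraMap A B)).map (Ideal.Quotient.mk ((𝔪 ^ n).map (algebraMap A B))) := by
      ext y
      obtain ⟨x, rfl⟩ := Ideal.Quotient.mk_surjective y
      rw [RingHom.mem_ker, Ideal.Quotient.factor_mk, Ideal.Quotient.eq_zero_iff_mem,
        Ideal.mem_map_iff_of_surjective _ Ideal.Quotient.mk_surjective]
      constructor
      · intro h; exact ⟨x, h, rfl⟩
      · rintro ⟨z, hz, hzx⟩
        have : z - x ∈ (𝔪 ^ n).map (algebraMap A B) := Ideal.Quotient.eq.mp hzx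
        have := (𝔪.map (algebraMap A B)).sub_mem hz (hleB this)
        simpa using this
    refine Nilp031L.formallySmooth_of_flat_of_isNilpotent _ flat
      (Ideal.Quotient.factor hle) (Ideal.Quotient.factor hleB)
      (algebraMap (A ⧸ 𝔪) (B ⧸ 𝔪.map (algebraMap A B)))
      (Ideal.Quotient.factor_surjective hle) (Ideal.Quotient.factor_surjective hleB) ?_ ?_ ?_
      (RingHom.formallySmooth_algebraMap.mpr inferInstance)
    · apply Ideal.Quotient.ringHom_ext
      ext x
      rfl
    · rw [kerR]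
      refine ⟨n, ?_⟩
      rw [← Ideal.map_pow, Ideal.zero_eq_bot]
      exact Ideal.map_quotient_self _
    · rw [kerR, kerS, Ideal.map_map, Ideal.map_map]
      congr 1

theorem isFormallySmoothAdic_of_flat {A B : Type u} [CommRing A] [CommRing B] [Algebra A B]
    [Module.Flat A B] (𝔪 : Ideal A)
    [Algebra.FormallySmooth (A ⧸ 𝔪) (B ⧸ 𝔪.map (algebraMap A B))] :
    EGA41.IsFormallySmoothAdic A 𝔪 B (𝔪.map (algebraMap A B)) := by
  rw [Groth.Agent.S4536.result 𝔪 (𝔪.map (algebraMap A B)) ⟨1, by rw [pow_one]⟩]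
  intro n
  have := formallySmooth_quotient_pow (A := A) (B := B) 𝔪 n
  exact AdicFS.isFormallySmoothAdic_of_formallySmooth _ _

end Groth.Agent.H5.Cohen2
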