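import Mathlib
import Groth.Agent.Lib.Helper5.CA.Cohen2

set_option autoImplicit false
universe u

namespace Groth.Agent.H5.Cohen3

open IsLocalRing

theorem formallySmooth_of_isField {k K : Type u} [CommRing k] [CommRing K] [Algebra k K]
    (hk : IsField k) [Finite k] (hK : IsField K) : Algebra.FormallySmooth k K := by
  letI := hk.toField
  letI := hK.toField
  haveI : PerfectField k := PerfectField.ofFinite
  exact Groth.Agent.H5.CA.formallySmooth_of_perfectField k K

section CohenRing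

variable {Λ : Type u} [CommRing Λ] [IsLocalRing Λ]

theorem natCast_ne_zero_of_isCohenRing [IsDomain Λ] [IsDiscreteValuationRing Λ] {p : ℕ}
    (hm : maximalIdeal Λ = Ideal.span {(p : Λ)}) : (p : Λ) ≠ 0 := by
  intro h0
  have : maximalIdeal Λ = ⊥ := by rw [hm, h0]; simp
  exact IsDiscreteValuationRing.not_a_field Λ this

theorem charZero_of_isCohenRing [IsDomain Λ] [IsDiscreteValuationRing Λ] {p : ℕ} (hp : p.Prime)
    (hm : maximalIdeal Λ = Ideal.span {(p : Λ)}) : CharZero Λ := by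
  have hp0 := natCast_ne_zero_of_isCohenRing hm
  obtain ⟨q, hq⟩ := CharP.exists Λ
  rcases CharP.char_is_prime_or_zero Λ q with hqp | hq0
  · exfalso
    -- q = 0 in Λ, so q ∈ 𝔪 = (p); residue field has char p
    have hq0 : (q : Λ) = 0 := CharP.cast_eq_zero Λ q
    have hpm : (p : Λ) ∈ maximalIdeal Λ := by rw [hm]; exact Ideal.mem_span_singleton_self _
    by_cases hpq : p = q
    · exact hp0 (hpq ▸ hq0)
    · have hcop : Nat.Coprime p q := (Nat.coprime_primes hp hqp).mpr hpq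
      have h1 : ((p : ℤ) : Λ) * ((Nat.gcdA p q : ℤ) : Λ) + ((q : ℤ) : Λ) * ((Nat.gcdB p q : ℤ) : Λ) = 1 := by
        have := Nat.gcd_eq_gcd_ab p q
        rw [hcop] at this
        have h2 := congrArg (fun z : ℤ => (z : Λ)) this
        simp only [Int.cast_add, Int.cast_mul, Nat.cast_one, Int.cast_one] at h2
        simpa using h2.symm
      have h3 : (1 : Λ) ∈ maximalIdeal Λ := by
        rw [← h1]
        refine Ideal.add_mem _ (Ideal.mul_mem_right _ _ (by simpa using hpm)) ?_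
        simp [hq0]
      exact (Ideal.ne_top_iff_one _).mp (maximalIdeal.isMaximal Λ).ne_top h3
  · subst hq0
    exact CharP.charP_to_charZero Λ

end CohenRing

end Groth.Agent.H5.Cohen3

namespace Groth.Agent.H5.Cohen3

open IsLocalRing

section Main

variable {Λ : Type} [CommRing Λ] [IsLocalRing Λ]

theorem map_span_int (Λ : Type u) [CommRing Λ] (p : ℕ) :
    (Ideal.span {(p : ℤ)}).map (algebraMap ℤ Λ) = Ideal.span {(p : Λ)} := by
  rw [Ideal.map_span, Set.image_singleton]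
  simp

theorem isFormallySmoothAdic_int_cohenRing (hΛ : CAlg.IsCohenRing Λ) :
    ∃ p : ℕ, p.Prime ∧ maximalIdeal Λ = Ideal.span {(p : Λ)} ∧
      EGA41.IsFormallySmoothAdic ℤ (Ideal.span {(p : ℤ)}) Λ (maximalIdeal Λ) := by
  obtain ⟨hdom, hdvr, hc, p, hp, hm⟩ := hΛ
  refine ⟨p, hp, hm, ?_⟩
  haveI : Fact p.Prime := ⟨hp⟩
  haveI := charZero_of_isCohenRing hp hm
  haveI : Module.Flat ℤ Λ := inferInstance
  have hmap := map_span_int Λ p
  have hk : IsField (ℤ ⧸ Ideal.span {(p : ℤ)}) :=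
    (Ideal.Quotient.maximal_ideal_iff_isField_quotient _).mp inferInstance
  haveI : Finite (ℤ ⧸ Ideal.span {(p : ℤ)}) :=
    Finite.of_equiv _ (Int.quotientSpanNatEquivZMod p).symm.toEquiv
  have hK : IsField (Λ ⧸ (Ideal.span {(p : ℤ)}).map (algebraMap ℤ Λ)) := by
    rw [hmap, ← hm]
    exact (Ideal.Quotient.maximal_ideal_iff_isField_quotient _).mp inferInstance
  haveI := formallySmooth_of_isField hk hK
  have := Cohen2.isFormallySmoothAdic_of_flat (A := ℤ) (B := Λ) (Ideal.span {(p : ℤ)})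
  rw [hmap, ← hm] at this
  exact this

theorem isAdicFormallySmooth_int_mvPowerSeries (hΛ : CAlg.IsCohenRing Λ) (n : ℕ) :
    CAlgX.IsAdicFormallySmooth ℤ (MvPowerSeries (Fin n) Λ)
      (maximalIdeal (MvPowerSeries (Fin n) Λ)) := by
  obtain ⟨p, hp, hm, h1⟩ := isFormallySmoothAdic_int_cohenRing hΛ
  rw [AdicFS.isAdicFormallySmooth_iff_bot]
  have h2 := Groth.Agent.H5.CA.isFormallySmoothAdic_mvPowerSeries Λ (maximalIdeal Λ) n
  rw [← Cohen2.maximalIdeal_mvPowerSeries] at h2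
  have hAB : ∃ k : ℕ, ((Ideal.span {(p : ℤ)}) ^ k).map (algebraMap ℤ Λ) ≤ maximalIdeal Λ :=
    ⟨1, by rw [pow_one, map_span_int, hm]⟩
  have hBC : ∃ k : ℕ, ((maximalIdeal Λ) ^ k).map (algebraMap Λ (MvPowerSeries (Fin n) Λ)) ≤
      maximalIdeal (MvPowerSeries (Fin n) Λ) := by
    refine ⟨1, ?_⟩
    rw [pow_one, Cohen2.maximalIdeal_mvPowerSeries]
    exact le_sup_left
  have h3 := Groth.Agent.S4534.result (Ideal.span {(p : ℤ)}) (maximalIdeal Λ)
    (maximalIdeal (MvPowerSeries (Fin n) Λ)) hAB hBC h1 h2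
  refine Cohen2.isFormallySmoothAdic_bot_of _ _ ?_ h3
  refine ⟨1, ?_⟩
  rw [pow_one, IsScalarTower.algebraMap_eq ℤ Λ (MvPowerSeries (Fin n) Λ), ← Ideal.map_map]
  obtain ⟨k, hk⟩ := hAB
  rw [map_span_int, ← hm, Cohen2.maximalIdeal_mvPowerSeries]
  exact le_sup_left

end Main

end Groth.Agent.H5.Cohen3
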