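import Mathlib
import Groth.Agent.Lib.Helper5.CA.Cohen3
import Groth.Agent.Lib.Helper5.CA.AdicFS2

set_option autoImplicit false
universe u

namespace Groth.Agent.H5.Cohen4

open IsLocalRing

/-- lifting local homomorphisms from an adically formally smooth local algebra to a complete
Noetherian local ring through a quotient. -/
theorem exists_lift_local {P W C : Type u} [CommRing P] [CommRing W] [IsLocalRing W] [CommRing C]
    [IsLocalRing C] [IsNoetherianRing C] [IsAdicComplete (maximalIdeal C) C] [Algebra P W]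
    [Algebra P C] (hfs : EGA41.IsFormallySmoothAdic P ⊥ W (maximalIdeal W))
    (J : Ideal C) (hJ : J ≠ ⊤) [IsLocalRing (C ⧸ J)] (u : W →ₐ[P] C ⧸ J)
    [IsLocalHom u.toRingHom] :
    ∃ v : W →ₐ[P] C, IsLocalHom v.toRingHom ∧ (Ideal.Quotient.mkₐ P J).comp v = u := by
  have hJle : J ≤ maximalIdeal C := IsLocalRing.le_maximalIdeal hJ
  have hmax : (maximalIdeal C).map (Ideal.Quotient.mk J) = maximalIdeal (C ⧸ J) :=
    IsLocalRing.map_maximalIdeal_of_surjective _ Ideal.Quotient.mk_surjective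
  haveI : IsHausdorff ((maximalIdeal C).map (Ideal.Quotient.mk J)) (C ⧸ J) := by
    rw [hmax]; infer_instance
  obtain ⟨v, -, hv⟩ := AdicFS.exists_lift_of_isAdicComplete (maximalIdeal C) J (⊥ : Ideal P)
    (maximalIdeal W) hfs ⟨1, by simp⟩ ⟨1, by simpa using hJle⟩ u
    ⟨1, by rw [pow_one, hmax]; exact IsLocalRing.map_maximalIdeal_le u.toRingHom⟩
  refine ⟨v, ⟨fun x hx => ?_⟩, hv⟩
  have h1 : IsUnit (Ideal.Quotient.mk J (v x)) := hx.map _
  have h2 : u x = Ideal.Quotient.mk J (v x) := by rw [← hv]; rfl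
  rw [← h2] at h1
  exact IsLocalHom.map_nonunit (f := u.toRingHom) x h1

end Groth.Agent.H5.Cohen4

namespace Groth.Agent.H5.Cohen4

open IsLocalRing

section ULiftInt

/-- ring homs out of `ULift ℤ` are unique. -/
theorem ringHom_ulift_int_ext {R : Type*} [Semiring R] (f g : ULift.{u} ℤ →+* R) : f = g := by
  have h : f.comp (ULift.ringEquiv.symm : ℤ ≃+* ULift.{u} ℤ).toRingHom =
      g.comp (ULift.ringEquiv.symm : ℤ ≃+* ULift.{u} ℤ).toRingHom := RingHom.ext_int _ _
  ext x
  have := congrArg (fun φ => φ x.down) h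
  exact this

/-- every ring hom is a `ULift ℤ`-algebra hom. -/
def toULiftAlgHom {R S : Type*} [CommRing R] [CommRing S] [Algebra (ULift.{u} ℤ) R]
    [Algebra (ULift.{u} ℤ) S] (f : R →+* S) : R →ₐ[ULift.{u} ℤ] S :=
  { f with
    commutes' := fun r => by
      have := ringHom_ulift_int_ext (f.comp (algebraMap (ULift.{u} ℤ) R))
        (algebraMap (ULift.{u} ℤ) S)
      exact congrArg (fun φ => φ r) this }

@[simp] theorem toULiftAlgHom_apply {R S : Type*} [CommRing R] [CommRing S]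
    [Algebra (ULift.{u} ℤ) R] [Algebra (ULift.{u} ℤ) S] (f : R →+* S) (x : R) :
    toULiftAlgHom f x = f x := rfl

attribute [local instance] ULift.algebra'

theorem formallySmooth_ulift_int (W : Type u) [CommRing W] [Algebra.FormallySmooth ℤ W] :
    Algebra.FormallySmooth (ULift.{u} ℤ) W := by
  haveI : Algebra.FormallyUnramified ℤ (ULift.{u} ℤ) :=
    Algebra.FormallyUnramified.of_surjective (Algebra.ofId ℤ (ULift.{u} ℤ))
      (fun x => ⟨x.down, by ext; simp [Algebra.ofId_apply]⟩)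
  haveI : IsScalarTower ℤ (ULift.{u} ℤ) W := IsScalarTower.of_algebraMap_eq (fun x => by
    simp [ULift.algebraMap_apply'])
  exact Algebra.FormallySmooth.of_restrictScalars (R := ℤ) (A := ULift.{u} ℤ) (B := W)

end ULiftInt

end Groth.Agent.H5.Cohen4

namespace Groth.Agent.H5.Cohen4

open IsLocalRing

section Cases

attribute [local instance] ULift.algebra'

/-- a field of characteristic zero is formally smooth over `ℤ`. -/
theorem formallySmooth_int_of_charZero (W : Type u) [Field W] [CharZero W] :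
    Algebra.FormallySmooth ℤ W := by
  haveI : CharZero (ULift.{u} ℚ) :=
    (RingHom.charZero_iff (ϕ := (ULift.ringEquiv.symm : ℚ ≃+* ULift.{u} ℚ).toRingHom)
      (ULift.ringEquiv.symm : ℚ ≃+* ULift.{u} ℚ).injective).mp inferInstance
  haveI : PerfectField (ULift.{u} ℚ) := PerfectField.ofCharZero
  haveI : Algebra.FormallySmooth (ULift.{u} ℚ) W :=
    Groth.Agent.H5.CA.formallySmooth_of_perfectField (ULift.{u} ℚ) W
  haveI : Algebra.FormallySmooth ℤ ℚ :=
    Algebra.FormallySmooth.of_isLocalization (nonZeroDivisors ℤ)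
  haveI : Algebra.FormallySmooth ℤ (ULift.{u} ℚ) :=
    Algebra.FormallySmooth.of_equiv (ULift.algEquiv (R := ℤ) (A := ℚ)).symm
  exact Algebra.FormallySmooth.comp ℤ (ULift.{u} ℚ) W

end Cases

end Groth.Agent.H5.Cohen4

namespace Groth.Agent.H5.Cohen4

open IsLocalRing

section DVR

attribute [local instance] ULift.algebra'

variable {Λ : Type u} [CommRing Λ] [IsLocalRing Λ]

theorem map_span_ulift (Λ : Type u) [CommRing Λ] (p : ℕ) :
    (Ideal.span {(p : ULift.{u} ℤ)}).map (algebraMap (ULift.{u} ℤ) Λ) = Ideal.span {(p : Λ)} := by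
  rw [Ideal.map_span, Set.image_singleton]
  simp

theorem isFormallySmoothAdic_ulift_cohenRing (hΛ : CAlg.IsCohenRing Λ) :
    EGA41.IsFormallySmoothAdic (ULift.{u} ℤ) ⊥ Λ (maximalIdeal Λ) := by
  obtain ⟨hdom, hdvr, hc, p, hp, hm⟩ := hΛ
  haveI : Fact p.Prime := ⟨hp⟩
  haveI := Cohen3.charZero_of_isCohenRing hp hm
  haveI : Module.Flat (ULift.{u} ℤ) Λ := Module.Flat.ulift_left_iff.mpr inferInstance
  have hmap := map_span_ulift Λ p
  let e : (ULift.{u} ℤ ⧸ Ideal.span {(p : ULift.{u} ℤ)}) ≃+* ZMod p :=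
    (Ideal.quotientEquiv _ (Ideal.span {(p : ℤ)}) (ULift.ringEquiv : ULift.{u} ℤ ≃+* ℤ) (by
      rw [Ideal.map_span, Set.image_singleton]; simp)).trans (Int.quotientSpanNatEquivZMod p)
  have hk : IsField (ULift.{u} ℤ ⧸ Ideal.span {(p : ULift.{u} ℤ)}) :=
    MulEquiv.isField (Field.toIsField (ZMod p)) e.toMulEquiv
  haveI : Finite (ULift.{u} ℤ ⧸ Ideal.span {(p : ULift.{u} ℤ)}) :=
    Finite.of_equiv _ e.symm.toEquiv
  have hK : IsField (Λ ⧸ (Ideal.span {(p : ULift.{u} ℤ)}).map (algebraMap (ULift.{u} ℤ) Λ)) := by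
    rw [hmap, ← hm]
    exact (Ideal.Quotient.maximal_ideal_iff_isField_quotient _).mp inferInstance
  haveI := Cohen3.formallySmooth_of_isField hk hK
  have := Cohen2.isFormallySmoothAdic_of_flat (A := ULift.{u} ℤ) (B := Λ)
    (Ideal.span {(p : ULift.{u} ℤ)})
  rw [hmap, ← hm] at this
  refine Cohen2.isFormallySmoothAdic_bot_of _ _ ⟨1, ?_⟩ this
  rw [pow_one, hmap, hm]

theorem isFormallySmoothAdic_ulift_cohenRingEGA (hΛ : EGA41.IsCohenRingEGA Λ) :
    EGA41.IsFormallySmoothAdic (ULift.{u} ℤ) ⊥ Λ (maximalIdeal Λ) := by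
  rcases hΛ with ⟨hf, hc⟩ | h
  · letI := hf.toField
    haveI := formallySmooth_int_of_charZero Λ
    haveI := formallySmooth_ulift_int Λ
    exact AdicFS.isFormallySmoothAdic_of_formallySmooth _ _
  · exact isFormallySmoothAdic_ulift_cohenRing h

end DVR

end Groth.Agent.H5.Cohen4

namespace Groth.Agent.H5.Cohen4

open IsLocalRing

/-- EGA 0_IV 19.8.6 (i): lifting of local homomorphisms from a Cohen ring. -/
theorem exists_lift_cohenRing {W C : Type u} [CommRing W] [IsLocalRing W]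
    (hW : EGA41.IsCohenRingEGA W)
    [CommRing C] [IsLocalRing C] [IsNoetherianRing C] [IsAdicComplete (maximalIdeal C) C]
    (J : Ideal C) (hJ : J ≠ ⊤) [IsLocalRing (C ⧸ J)] (u : W →+* C ⧸ J) [IsLocalHom u] :
    ∃ v : W →+* C, IsLocalHom v ∧ (Ideal.Quotient.mk J).comp v = u := by
  letI : Algebra (ULift.{u} ℤ) W := ULift.algebra' ℤ W
  letI : Algebra (ULift.{u} ℤ) C := ULift.algebra' ℤ C
  have hfs := isFormallySmoothAdic_ulift_cohenRingEGA hW
  let u' : W →ₐ[ULift.{u} ℤ] C ⧸ J := toULiftAlgHom u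
  haveI : IsLocalHom u'.toRingHom := ‹IsLocalHom u›
  obtain ⟨v, hv1, hv2⟩ := exists_lift_local hfs J hJ u'
  refine ⟨v.toRingHom, hv1, ?_⟩
  ext x
  have := congrArg (fun φ => φ x) hv2
  exact this

end Groth.Agent.H5.Cohen4
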