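import Mathlib
import Groth.Agent.Lib.Helper5.CA.Cohen4

set_option autoImplicit false
universe u

namespace Groth.Agent.H5.Cohen5

open IsLocalRing

/-- two primes in the maximal ideal of a local ring coincide. -/
theorem prime_eq_of_mem_maximalIdeal {R : Type*} [CommRing R] [IsLocalRing R] {p q : ℕ}
    (hp : p.Prime) (hq : q.Prime) (hpm : (p : R) ∈ maximalIdeal R) (hqm : (q : R) ∈ maximalIdeal R) :
    p = q := by
  by_contra hpq
  have hcop : Nat.Coprime p q := (Nat.coprime_primes hp hq).mpr hpq
  have h1 : ((p : ℤ) : R) * ((Nat.gcdA p q : ℤ) : R) + ((q : ℤ) : R) * ((Nat.gcdB p q : ℤ) : R) = 1 := by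
    have := Nat.gcd_eq_gcd_ab p q
    rw [hcop] at this
    have h2 := congrArg (fun z : ℤ => (z : R)) this
    simp only [Int.cast_add, Int.cast_mul, Nat.cast_one, Int.cast_one] at h2
    simpa using h2.symm
  have h3 : (1 : R) ∈ maximalIdeal R := by
    rw [← h1]
    exact Ideal.add_mem _ (Ideal.mul_mem_right _ _ (by simpa using hpm))
      (Ideal.mul_mem_right _ _ (by simpa using hqm))
  exact (Ideal.ne_top_iff_one _).mp (maximalIdeal.isMaximal R).ne_top h3

variable {W W' : Type u} [CommRing W] [IsLocalRing W] [CommRing W'] [IsLocalRing W']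

theorem isNoetherianRing_of_isCohenRingEGA (hW : EGA41.IsCohenRingEGA W) : IsNoetherianRing W := by
  rcases hW with ⟨hf, -⟩ | ⟨hdom, hdvr, -⟩
  · letI := hf.toField
    infer_instance
  · infer_instance

theorem isAdicComplete_of_isCohenRingEGA (hW : EGA41.IsCohenRingEGA W) :
    IsAdicComplete (maximalIdeal W) W := by
  rcases hW with ⟨hf, -⟩ | ⟨hdom, hdvr, hc, -⟩
  · rw [IsLocalRing.isField_iff_maximalIdeal_eq.mp hf]
    infer_instance
  · exact hc

/-- a field of characteristic zero and a `p`-Cohen ring cannot have isomorphic residue fields. -/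
theorem false_of_field_of_cohenRing (hf : IsField W) [CharZero W] (hW' : CAlg.IsCohenRing W')
    (u : ResidueField W' ≃+* ResidueField W) : False := by
  obtain ⟨hdom, hdvr, hc, p, hp, hm⟩ := hW'
  have h1 : (p : ResidueField W') = 0 := by
    have : (p : W') ∈ maximalIdeal W' := by rw [hm]; exact Ideal.mem_span_singleton_self _
    rw [← map_natCast (residue W')]
    exact (residue_eq_zero_iff _).mpr this
  have h2 : (p : ResidueField W) = 0 := by
    rw [← map_natCast u, h1, map_zero]
  rw [← map_natCast (residue W), residue_eq_zero_iff,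
    IsLocalRing.isField_iff_maximalIdeal_eq.mp hf, Ideal.mem_bot] at h2
  exact hp.ne_zero (by exact_mod_cast h2)

end Groth.Agent.H5.Cohen5

namespace Groth.Agent.H5.Cohen5

open IsLocalRing

variable {W W' : Type u} [CommRing W] [IsLocalRing W] [CommRing W'] [IsLocalRing W']

/-- a local hom between complete local rings which is surjective on residue fields and maps
the maximal ideal onto a generating set of the maximal ideal is surjective. -/
theorem surjective_of_residue (v : W →+* W') [IsPrecomplete (maximalIdeal W) W]
    [IsHausdorff (maximalIdeal W') W'] (hm : (maximalIdeal W).map v = maximalIdeal W')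
    (hs : Function.Surjective ((residue W').comp v)) : Function.Surjective v := by
  haveI : IsHausdorff ((maximalIdeal W).map v) W' := by rw [hm]; infer_instance
  apply surjective_of_mk_map_comp_surjective (I := maximalIdeal W) v
  rw [hm]
  exact hs

theorem injective_of_dvr [IsDomain W] [IsDiscreteValuationRing W] [IsDomain W'] {p : ℕ}
    (hm : maximalIdeal W = Ideal.span {(p : W)}) (hp' : (p : W') ≠ 0) (v : W →+* W') :
    Function.Injective v := by
  rw [injective_iff_map_eq_zero]
  intro x hx
  by_contra hx0
  have hirr : Irreducible (p : W) :=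
    (IsDiscreteValuationRing.irreducible_iff_uniformizer _).mpr hm
  obtain ⟨n, c, hc⟩ := IsDiscreteValuationRing.eq_unit_mul_pow_irreducible hx0 hirr
  rw [hc, map_mul, map_pow, map_natCast] at hx
  rcases mul_eq_zero.mp hx with h | h
  · exact (c.isUnit.map v).ne_zero h
  · exact hp' (eq_zero_of_pow_eq_zero h)

theorem exists_equiv (hW : EGA41.IsCohenRingEGA W) (hW' : EGA41.IsCohenRingEGA W')
    (u : ResidueField W ≃+* ResidueField W') :
    ∃ v : W ≃+* W', ∀ x : W, residue W' (v x) = u (residue W x) := by
  haveI := isNoetherianRing_of_isCohenRingEGA hW'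
  haveI := isAdicComplete_of_isCohenRingEGA hW'
  haveI := isAdicComplete_of_isCohenRingEGA hW
  haveI : IsLocalRing (W' ⧸ maximalIdeal W') := inferInstanceAs (IsLocalRing (ResidueField W'))
  let u₁ : W →+* W' ⧸ maximalIdeal W' := (u : ResidueField W →+* ResidueField W').comp (residue W)
  haveI : IsLocalHom u₁ := by
    haveI : IsLocalHom (residue W) := (residue_surjective (R := W)).isLocalHom
    haveI : IsLocalHom (u : ResidueField W →+* ResidueField W') :=
      ⟨fun a ha => by
        have := ha.map (u.symm : ResidueField W' →+* ResidueField W)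
        simpa using this⟩
    exact RingHom.isLocalHom_comp _ _
  obtain ⟨v, hvl, hv⟩ := Cohen4.exists_lift_cohenRing hW (maximalIdeal W')
    (maximalIdeal.isMaximal W').ne_top u₁
  have hvx : ∀ x : W, residue W' (v x) = u (residue W x) := fun x => by
    have := congrArg (fun φ => φ x) hv
    exact this
  have hs : Function.Surjective ((residue W').comp v) := by
    intro y
    obtain ⟨x, hx⟩ := residue_surjective (u.symm y)
    refine ⟨x, ?_⟩
    rw [RingHom.comp_apply, hvx, hx, RingEquiv.apply_symm_apply]
  suffices hbij : Function.Bijective v from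
    ⟨RingEquiv.ofBijective v hbij, hvx⟩
  rcases hW with ⟨hf, hc⟩ | hWc
  · rcases hW' with ⟨hf', hc'⟩ | hWc'
    · have hmW : maximalIdeal W = ⊥ := IsLocalRing.isField_iff_maximalIdeal_eq.mp hf
      have hmW' : maximalIdeal W' = ⊥ := IsLocalRing.isField_iff_maximalIdeal_eq.mp hf'
      refine ⟨?_, surjective_of_residue v (by rw [hmW, hmW', Ideal.map_bot]) hs⟩
      letI := hf.toField
      exact v.injective
    · exact (false_of_field_of_cohenRing hf hWc' u.symm).elim
  · rcases hW' with ⟨hf', hc'⟩ | hWc'
    · exact (false_of_field_of_cohenRing hf' hWc u).elim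
    · obtain ⟨hdom, hdvr, hc, p, hp, hm⟩ := hWc
      obtain ⟨hdom', hdvr', hc', p', hp', hm'⟩ := hWc'
      have hpm : (p : W) ∈ maximalIdeal W := by rw [hm]; exact Ideal.mem_span_singleton_self _
      have hpm' : (p' : W') ∈ maximalIdeal W' := by rw [hm']; exact Ideal.mem_span_singleton_self _
      have hpm2 : (p : W') ∈ maximalIdeal W' := by
        rw [← residue_eq_zero_iff, ← map_natCast v, hvx, map_natCast,
          ← map_natCast (residue W), (residue_eq_zero_iff _).mpr hpm, map_zero]
      have hpp : p = p' := prime_eq_of_mem_maximalIdeal hp hp' hpm2 hpm'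
      subst hpp
      have hp0 : (p : W') ≠ 0 := Cohen3.natCast_ne_zero_of_isCohenRing hm'
      refine ⟨injective_of_dvr hm hp0 v, surjective_of_residue v ?_ hs⟩
      rw [hm, hm', Ideal.map_span, Set.image_singleton, map_natCast]

end Groth.Agent.H5.Cohen5
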