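import Mathlib
import Groth.Agent.Lib.Helper5.CA.Cohen5
import Groth.Agent.Lib.Helper5.CA.PerfGR

set_option autoImplicit false
universe u

namespace Groth.Agent.H5.Cohen7

open IsLocalRing

/-- A Noetherian local ring whose maximal ideal is generated by a regular element is a domain. -/
theorem isDomain_of_maximalIdeal_eq_span {A : Type*} [CommRing A] [IsLocalRing A]
    [IsNoetherianRing A] {π : A} (hm : maximalIdeal A = Ideal.span {π})
    (hreg : IsSMulRegular A π) : IsDomain A := by
  have hfact : ∀ x : A, x ≠ 0 → ∃ (n : ℕ) (c : A), IsUnit c ∧ x = c * π ^ n := by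
    intro x hx
    have hinf := Ideal.iInf_pow_eq_bot_of_isLocalRing (maximalIdeal A)
      (maximalIdeal.isMaximal A).ne_top
    have hex : ∃ n, x ∉ maximalIdeal A ^ n := by
      by_contra hall
      push_neg at hall
      have : x ∈ ⨅ n, maximalIdeal A ^ n := by
        rw [Ideal.mem_iInf]; exact hall
      rw [hinf] at this
      exact hx this
    classical
    let n := Nat.find hex
    have hn : x ∉ maximalIdeal A ^ n := Nat.find_spec hex
    have hn0 : n ≠ 0 := by
      intro h0
      rw [h0, pow_zero, Ideal.one_eq_top] at hn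
      exact hn trivial
    obtain ⟨k, hk⟩ := Nat.exists_eq_succ_of_ne_zero hn0
    have hk' : x ∈ maximalIdeal A ^ k := by
      by_contra h
      have := Nat.find_min' hex h
      omega
    rw [hm, Ideal.span_singleton_pow, Ideal.mem_span_singleton] at hk'
    obtain ⟨c, hc⟩ := hk'
    refine ⟨k, c, ?_, by rw [hc, mul_comm]⟩
    by_contra hcu
    have hcm : c ∈ maximalIdeal A := (mem_maximalIdeal c).mpr hcu
    rw [hm, Ideal.mem_span_singleton] at hcm
    obtain ⟨d, hd⟩ := hcm
    apply hn
    rw [hk, hm, Ideal.span_singleton_pow, Ideal.mem_span_singleton]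
    exact ⟨d, by rw [hc, hd, pow_succ]; ring⟩
  have hpow : ∀ n : ℕ, π ^ n ≠ 0 := by
    intro n
    induction n with
    | zero => simp
    | succ n ih =>
      intro h
      apply ih
      apply hreg
      show π • π ^ n = π • 0
      rw [smul_eq_mul, smul_zero, ← pow_succ']
      exact h
  haveI : NoZeroDivisors A := ⟨by
    intro x y hxy
    by_contra hne
    push_neg at hne
    obtain ⟨n, c, hc, hx⟩ := hfact x hne.1
    obtain ⟨m, d, hd, hy⟩ := hfact y hne.2
    have : (c * d) * π ^ (n + m) = 0 := by
      rw [← hxy, hx, hy, pow_add]; ring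
    exact hpow (n + m) ((hc.mul hd).mul_right_eq_zero.mp this)⟩
  exact NoZeroDivisors.to_isDomain A

end Groth.Agent.H5.Cohen7

namespace Groth.Agent.H5.Cohen7

open IsLocalRing

section Main

variable (p : ℕ) [hp : (Ideal.span {(p : ℤ)}).IsPrime]
  {A : Type} [CommRing A] [IsLocalRing A]
  [Algebra (Localization.AtPrime (Ideal.span {(p : ℤ)})) A]

local notation "P" => Localization.AtPrime (Ideal.span {(p : ℤ)})

theorem map_maximalIdeal_P :
    (maximalIdeal (Localization.AtPrime (Ideal.span {(p : ℤ)}))).map
      (algebraMap (Localization.AtPrime (Ideal.span {(p : ℤ)})) A) = Ideal.span {(p : A)} := by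
  have h1 : maximalIdeal (Localization.AtPrime (Ideal.span {(p : ℤ)})) =
      (Ideal.span {(p : ℤ)}).map (algebraMap ℤ (Localization.AtPrime (Ideal.span {(p : ℤ)}))) :=
    (Localization.AtPrime.map_eq_maximalIdeal).symm
  rw [h1, Ideal.map_map, Ideal.map_span, Set.image_singleton]
  simp

theorem flat_iff : Module.Flat (Localization.AtPrime (Ideal.span {(p : ℤ)})) A ↔ Module.Flat ℤ A := by
  refine @Module.flat_iff_of_isLocalization ℤ (Localization.AtPrime (Ideal.span {(p : ℤ)})) _ _ _
    (Ideal.span {(p : ℤ)}).primeCompl _ A _ _ _ ?_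
  exact IsScalarTower.of_algebraMap_eq' (RingHom.ext_int _ _)

theorem perfectField_residueField_P :
    PerfectField (ResidueField (Localization.AtPrime (Ideal.span {(p : ℤ)}))) := by
  rcases Nat.eq_zero_or_pos p with h0 | hpos
  · -- characteristic zero
    haveI : CharZero (ResidueField (Localization.AtPrime (Ideal.span {(p : ℤ)}))) := by
      refine charZero_of_inj_zero (fun n hn => ?_)
      rw [← map_natCast (residue _), residue_eq_zero_iff] at hn
      have h3 : ((n : ℤ) : Localization.AtPrime (Ideal.span {(p : ℤ)})) ∈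
          maximalIdeal (Localization.AtPrime (Ideal.span {(p : ℤ)})) := by
        simpa using hn
      rw [← eq_intCast (algebraMap ℤ (Localization.AtPrime (Ideal.span {(p : ℤ)}))),
        ← Ideal.mem_comap] at h3
      have h4 := Localization.AtPrime.under_maximalIdeal (I := Ideal.span {(p : ℤ)})
      rw [Ideal.under_def] at h4
      rw [h4, Ideal.mem_span_singleton] at h3
      rw [h0] at h3
      simpa using h3
    exact PerfectField.ofCharZero
  · haveI : Fact p.Prime := ⟨by
      have := (Ideal.span_singleton_prime (by exact_mod_cast hpos.ne')).mp hp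
      exact Nat.prime_iff_prime_int.mpr this⟩
    haveI : (Ideal.span {(p : ℤ)}).IsMaximal := Int.ideal_span_isMaximal_of_prime p
    let e := IsLocalization.AtPrime.equivQuotMaximalIdeal (Ideal.span {(p : ℤ)})
      (Localization.AtPrime (Ideal.span {(p : ℤ)}))
    haveI : Finite (ℤ ⧸ Ideal.span {(p : ℤ)}) :=
      Finite.of_equiv _ (Int.quotientSpanNatEquivZMod p).symm.toEquiv
    haveI : Finite (ResidueField (Localization.AtPrime (Ideal.span {(p : ℤ)}))) :=
      Finite.of_equiv _ e.toEquiv
    exact PerfectField.ofFinite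

end Main

end Groth.Agent.H5.Cohen7

namespace Groth.Agent.H5.Cohen7

open IsLocalRing

section Main2

variable (p : ℕ) [hp : (Ideal.span {(p : ℤ)}).IsPrime]
  {A : Type} [CommRing A] [IsLocalRing A] [CharP (ResidueField A) p]
  [Algebra (Localization.AtPrime (Ideal.span {(p : ℤ)})) A]
  [IsLocalHom (algebraMap (Localization.AtPrime (Ideal.span {(p : ℤ)})) A)]

theorem cohenRingEGA_of_cohenAlgebra
    (h : EGA41.IsCohenAlgebra (Localization.AtPrime (Ideal.span {(p : ℤ)})) A) :
    EGA41.IsCohenRingEGA A := by
  obtain ⟨nP, nA, hc, hflat, hm, hgr⟩ := h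
  have hmA : maximalIdeal A = Ideal.span {(p : A)} := by rw [← hm, map_maximalIdeal_P]
  rcases Nat.eq_zero_or_pos p with h0 | hpos
  · left
    have hbot : maximalIdeal A = ⊥ := by rw [hmA, h0]; simp
    refine ⟨isField_iff_maximalIdeal_eq.mpr hbot, ?_⟩
    haveI : CharP (ResidueField A) 0 := h0 ▸ ‹CharP (ResidueField A) p›
    haveI : CharZero (ResidueField A) := CharP.charP_to_charZero _
    exact (residue A).charZero
  · right
    have hpp : p.Prime := by
      have := (Ideal.span_singleton_prime (by exact_mod_cast hpos.ne')).mp hp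
      exact Nat.prime_iff_prime_int.mpr this
    haveI flatZ : Module.Flat ℤ A := (flat_iff p).mp hflat
    have hreg : IsSMulRegular A (p : A) := by
      have h1 : IsSMulRegular A (p : ℤ) :=
        Module.IsTorsionFree.isSMulRegular (isRegular_of_ne_zero (by exact_mod_cast hpos.ne'))
      intro a b hab
      apply h1
      simpa [zsmul_eq_mul] using hab
    haveI := isDomain_of_maximalIdeal_eq_span hmA hreg
    have hp0 : (p : A) ≠ 0 := by
      intro h0
      have := hreg (show (p : A) • (1 : A) = (p : A) • 0 by simp [h0])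
      exact one_ne_zero this
    have hnf : ¬ IsField A := by
      rw [isField_iff_maximalIdeal_eq, hmA, Ideal.span_singleton_eq_bot]
      exact hp0
    haveI : IsDiscreteValuationRing A :=
      ((IsDiscreteValuationRing.TFAE A hnf).out 0 4).mpr
        (⟨⟨(p : A), hmA⟩⟩ : (maximalIdeal A).IsPrincipal)
    exact ⟨inferInstance, inferInstance, hc, p, hpp, hmA⟩

theorem cohenAlgebra_of_cohenRingEGA (h : EGA41.IsCohenRingEGA A) :
    EGA41.IsCohenAlgebra (Localization.AtPrime (Ideal.span {(p : ℤ)})) A := by
  have nP : IsNoetherianRing (Localization.AtPrime (Ideal.span {(p : ℤ)})) :=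
    IsLocalization.isNoetherianRing (Ideal.span {(p : ℤ)}).primeCompl _ inferInstance
  haveI := perfectField_residueField_P p
  have hgr : Algebra.IsGeometricallyReduced
      (ResidueField (Localization.AtPrime (Ideal.span {(p : ℤ)}))) (ResidueField A) :=
    Groth.Agent.H5.isGeometricallyReduced_of_perfectField _ _
  have nA := Cohen5.isNoetherianRing_of_isCohenRingEGA h
  have hc := Cohen5.isAdicComplete_of_isCohenRingEGA h
  refine ⟨nP, nA, hc, ?_, ?_, hgr⟩
  · rw [flat_iff]
    rcases h with ⟨hf, hc0⟩ | ⟨hdom, hdvr, hc, q, hq, hmq⟩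
    · letI := hf.toField
      infer_instance
    · haveI := Cohen3.charZero_of_isCohenRing hq hmq
      infer_instance
  · rw [map_maximalIdeal_P]
    rcases h with ⟨hf, hc0⟩ | ⟨hdom, hdvr, hc, q, hq, hmq⟩
    · have hbot : maximalIdeal A = ⊥ := isField_iff_maximalIdeal_eq.mp hf
      haveI : CharZero (ResidueField A) := by
        refine charZero_of_inj_zero (fun n hn => ?_)
        rw [← map_natCast (residue A), residue_eq_zero_iff, hbot, Ideal.mem_bot] at hn
        exact_mod_cast hn
      have hp0 : p = 0 := CharP.eq (ResidueField A) ‹CharP _ p› (CharP.ofCharZero _)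
      rw [hbot, hp0]; simp
    · have hq0 : (q : ResidueField A) = 0 := by
        rw [← map_natCast (residue A), residue_eq_zero_iff, hmq]
        exact Ideal.mem_span_singleton_self _
      have hdvd : p ∣ q := (CharP.cast_eq_zero_iff (ResidueField A) p q).mp hq0
      have hp1 : p ≠ 1 := CharP.char_ne_one (ResidueField A) p
      have hpq : p = q := (Nat.dvd_prime hq).mp hdvd |>.resolve_left hp1
      rw [hmq, hpq]

theorem isCohenAlgebra_iff :
    EGA41.IsCohenAlgebra (Localization.AtPrime (Ideal.span {(p : ℤ)})) A ↔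
      EGA41.IsCohenRingEGA A :=
  ⟨cohenRingEGA_of_cohenAlgebra p, cohenAlgebra_of_cohenRingEGA p⟩

end Main2

end Groth.Agent.H5.Cohen7
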