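import Mathlib
import Groth.Agent.Lib.Helper5.CA.CZ6
import Groth.Agent.Lib.Helper5.CA.Cohen7
import Groth.Agent.S0543
import Groth.Prelude.Def_Found

set_option autoImplicit false
universe u

open IsLocalRing

namespace Groth.Agent.H5.CohenZorn

/-- the completion of a DVR with uniformizer a prime number is a Cohen ring. -/
theorem isCohenRing_completion (p : ℕ) (hp : p.Prime) (R : Type u) [CommRing R] [IsDomain R]
    [IsDiscreteValuationRing R] (hm : maximalIdeal R = Ideal.span {(p : R)}) :
    CAlg.IsCohenRing (AdicCompletion (maximalIdeal R) R) := by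
  haveI : IsNoetherianRing (AdicCompletion (maximalIdeal R) R) :=
    Groth.Agent.S0543.result R (maximalIdeal R)
  have hmΛ : maximalIdeal (AdicCompletion (maximalIdeal R) R) =
      Ideal.span {(p : AdicCompletion (maximalIdeal R) R)} := by
    rw [AdicCompletion.maximalIdeal_eq_map, hm, Ideal.map_span, Set.image_singleton, map_natCast]
  have hp0 : (p : R) ≠ 0 := by
    intro h0
    have : maximalIdeal R = ⊥ := by rw [hm, h0]; simp
    exact IsDiscreteValuationRing.not_a_field R this
  have hreg : IsSMulRegular (AdicCompletion (maximalIdeal R) R)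
      (p : AdicCompletion (maximalIdeal R) R) := by
    have h1 : IsSMulRegular (AdicCompletion (maximalIdeal R) R) (p : R) :=
      Module.Flat.isSMulRegular_of_isRegular (isRegular_of_ne_zero hp0)
    intro a b hab
    apply h1
    simp only [smul_eq_mul] at hab
    show (p : R) • a = (p : R) • b
    rw [Algebra.smul_def, Algebra.smul_def, map_natCast]
    exact hab
  haveI hdom := Cohen7.isDomain_of_maximalIdeal_eq_span hmΛ hreg
  have hpΛ0 : (p : AdicCompletion (maximalIdeal R) R) ≠ 0 := by
    intro h0
    have := hreg (show (p : AdicCompletion (maximalIdeal R) R) • (1 : AdicCompletion (maximalIdeal R) R) =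
      (p : AdicCompletion (maximalIdeal R) R) • 0 by simp [h0])
    exact one_ne_zero this
  have hnf : ¬ IsField (AdicCompletion (maximalIdeal R) R) := by
    rw [isField_iff_maximalIdeal_eq, hmΛ, Ideal.span_singleton_eq_bot]
    exact hpΛ0
  haveI : IsDiscreteValuationRing (AdicCompletion (maximalIdeal R) R) :=
    ((IsDiscreteValuationRing.TFAE _ hnf).out 0 4).mpr
      (⟨⟨_, hmΛ⟩⟩ : (maximalIdeal (AdicCompletion (maximalIdeal R) R)).IsPrincipal)
  exact ⟨inferInstance, inferInstance, inferInstance, p, hp, hmΛ⟩

/-- existence of Cohen rings. -/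
theorem exists_cohenRing (p : ℕ) [Fact p.Prime] (k : Type u) [Field k] [CharP k p] :
    ∃ (Λ : Type u) (_ : CommRing Λ) (_ : IsLocalRing Λ), CAlg.IsCohenRing Λ ∧
      Nonempty (IsLocalRing.ResidueField Λ ≃+* k) := by
  obtain ⟨R, _, _, _, hm, ⟨e⟩⟩ := exists_dvr p k
  refine ⟨AdicCompletion (maximalIdeal R) R, inferInstance, inferInstance,
    isCohenRing_completion p Fact.out R hm, ?_⟩
  have hbij := AdicCompletion.residueField_map_bijective R
  exact ⟨(RingEquiv.ofBijective _ hbij).symm.trans e⟩

end Groth.Agent.H5.CohenZorn
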