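import Mathlib
import Groth.Agent.Lib.Helper5.CA.CZ7

set_option autoImplicit false
universe u

open IsLocalRing

namespace Groth.Agent.H5.Cohen8

variable {A : Type u} [CommRing A] [IsLocalRing A]

/-- the residue characteristic of a Cohen ring is its prime. -/
theorem charP_eq_of_isCohenRing {W : Type u} [CommRing W] [IsLocalRing W] {q : ℕ} (hq : q.Prime)
    (hm : maximalIdeal W = Ideal.span {(q : W)}) (p : ℕ) {K : Type*} [Field K] [CharP K p]
    (ε : ResidueField W →+* K) : p = q := by
  have hq0 : (q : ResidueField W) = 0 := by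
    rw [← map_natCast (residue W), residue_eq_zero_iff, hm]
    exact Ideal.mem_span_singleton_self _
  have hqA : (q : K) = 0 := by
    rw [← map_natCast ε, hq0, map_zero]
  have hdvd : p ∣ q := (CharP.cast_eq_zero_iff K p q).mp hqA
  have hp1 : p ≠ 1 := CharP.char_ne_one K p
  exact ((Nat.dvd_prime hq).mp hdvd).resolve_left hp1

theorem exists_quotient_of_maximalIdeal_eq [IsArtinianRing A] (p : ℕ) [CharP (ResidueField A) p]
    (hm : maximalIdeal A = Ideal.span {(p : A)}) :
    ∃ (W : Type u) (_ : CommRing W) (I : Ideal W), EGA41.IsCohenRingEGA W ∧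
      Nonempty (A ≃+* W ⧸ I) := by
  rcases CharP.char_is_prime_or_zero (ResidueField A) p with hp | hp0
  · haveI : Fact p.Prime := ⟨hp⟩
    obtain ⟨W, _, _, hW, ⟨ε⟩⟩ := CohenZorn.exists_cohenRing p (ResidueField A)
    have hWE : EGA41.IsCohenRingEGA W := Or.inr hW
    haveI := Cohen5.isAdicComplete_of_isCohenRingEGA hWE
    obtain ⟨hdom, hdvr, hc, q, hq, hmq⟩ := hW
    have hpq : p = q := charP_eq_of_isCohenRing hq hmq p (ε : ResidueField W →+* ResidueField A)
    subst hpq
    haveI : IsLocalRing (A ⧸ maximalIdeal A) := inferInstanceAs (IsLocalRing (ResidueField A))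
    let u₁ : W →+* A ⧸ maximalIdeal A := (ε : ResidueField W →+* ResidueField A).comp (residue W)
    haveI : IsLocalHom u₁ := by
      haveI : IsLocalHom (residue W) := (residue_surjective (R := W)).isLocalHom
      haveI : IsLocalHom (ε : ResidueField W →+* ResidueField A) :=
        ⟨fun a ha => by
          have := ha.map (ε.symm : ResidueField A →+* ResidueField W)
          simpa using this⟩
      exact RingHom.isLocalHom_comp _ _
    obtain ⟨v, hvl, hv⟩ := Cohen4.exists_lift_cohenRing hWE (maximalIdeal A)
      (maximalIdeal.isMaximal A).ne_top u₁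
    have hvx : ∀ x : W, residue A (v x) = ε (residue W x) := fun x => by
      have := congrArg (fun φ => φ x) hv
      exact this
    have hs : Function.Surjective ((residue A).comp v) := by
      intro y
      obtain ⟨x, hx⟩ := residue_surjective (ε.symm y)
      refine ⟨x, ?_⟩
      rw [RingHom.comp_apply, hvx, hx, RingEquiv.apply_symm_apply]
    have hvs : Function.Surjective v := by
      refine Cohen5.surjective_of_residue v ?_ hs
      rw [hmq, hm, Ideal.map_span, Set.image_singleton, map_natCast]
    exact ⟨W, inferInstance, RingHom.ker v, hWE,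
      ⟨(RingHom.quotientKerEquivOfSurjective hvs).symm⟩⟩
  · subst hp0
    have hbot : maximalIdeal A = ⊥ := by rw [hm]; simp
    have hf : IsField A := isField_iff_maximalIdeal_eq.mpr hbot
    haveI : CharZero (ResidueField A) := CharP.charP_to_charZero _
    haveI : CharZero A := (residue A).charZero
    exact ⟨A, inferInstance, ⊥, Or.inl ⟨hf, inferInstance⟩, ⟨(RingEquiv.quotientBot A).symm⟩⟩

theorem maximalIdeal_eq_of_quotient (p : ℕ) [CharP (ResidueField A) p]
    {W : Type u} [CommRing W] (I : Ideal W) (hW : EGA41.IsCohenRingEGA W) (e : A ≃+* W ⧸ I) :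
    maximalIdeal A = Ideal.span {(p : A)} := by
  haveI : IsLocalRing (W ⧸ I) := e.isLocalRing
  have hmA : maximalIdeal A = (maximalIdeal (W ⧸ I)).map (e.symm : W ⧸ I →+* A) :=
    (IsLocalRing.map_ringEquiv_maximalIdeal e.symm).symm
  have hI : I ≠ ⊤ := by
    intro h
    have : Subsingleton (W ⧸ I) := Ideal.Quotient.subsingleton_iff.mpr h
    exact not_subsingleton (W ⧸ I) this
  rcases hW with ⟨hf, hc⟩ | ⟨hdom, hdvr, hc, q, hq, hmq⟩
  · -- field of characteristic zero
    letI := hf.toField
    have hIbot : I = ⊥ := (Ideal.eq_bot_or_top I).resolve_right hI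
    have hinj : Function.Injective (Ideal.Quotient.mk I) := by
      rw [RingHom.injective_iff_ker_eq_bot, Ideal.mk_ker, hIbot]
    have hfA : IsField A := by
      have hfQ : IsField (W ⧸ I) := by
        rw [← Ideal.Quotient.maximal_ideal_iff_isField_quotient, hIbot]
        exact Ideal.bot_isMaximal
      exact MulEquiv.isField hfQ e.toMulEquiv
    have hbot : maximalIdeal A = ⊥ := isField_iff_maximalIdeal_eq.mp hfA
    haveI : CharZero A := by
      refine charZero_of_inj_zero (fun n hn => ?_)
      have h1 : (n : W ⧸ I) = 0 := by rw [← map_natCast e, hn, map_zero]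
      rw [← map_natCast (Ideal.Quotient.mk I)] at h1
      have h2 : (n : W) = 0 := hinj (by rw [h1, map_zero])
      exact_mod_cast h2
    haveI : CharZero (ResidueField A) := by
      refine charZero_of_inj_zero (fun n hn => ?_)
      rw [← map_natCast (residue A), residue_eq_zero_iff, hbot, Ideal.mem_bot] at hn
      exact_mod_cast hn
    have hp0 : p = 0 := CharP.eq (ResidueField A) ‹CharP _ p› (CharP.ofCharZero _)
    rw [hbot, hp0]; simp
  · haveI : IsLocalRing W := inferInstance
    have hmQ : maximalIdeal (W ⧸ I) = Ideal.span {(q : W ⧸ I)} := by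
      rw [← IsLocalRing.map_maximalIdeal_of_surjective (Ideal.Quotient.mk I)
        Ideal.Quotient.mk_surjective, hmq, Ideal.map_span, Set.image_singleton, map_natCast]
    have hmAq : maximalIdeal A = Ideal.span {(q : A)} := by
      rw [hmA, hmQ, Ideal.map_span, Set.image_singleton]
      congr 2
      exact map_natCast (e.symm : W ⧸ I →+* A) q
    -- p = q
    have hq0 : (q : ResidueField A) = 0 := by
      rw [← map_natCast (residue A), residue_eq_zero_iff, hmAq]
      exact Ideal.mem_span_singleton_self _
    have hdvd : p ∣ q := (CharP.cast_eq_zero_iff (ResidueField A) p q).mp hq0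
    have hp1 : p ≠ 1 := CharP.char_ne_one (ResidueField A) p
    have hpq : p = q := ((Nat.dvd_prime hq).mp hdvd).resolve_left hp1
    rw [hpq]; exact hmAq

end Groth.Agent.H5.Cohen8
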