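import Groth.Agent.Lib.Helper5.CA.PSAdicSmooth
import Mathlib.RingTheory.MvPowerSeries.Rename

set_option autoImplicit false

namespace Groth.Agent.H5.CA

open MvPowerSeries

/-- power series can be evaluated at elements of `I` in an `I`-adically complete ring
(universe-polymorphic, arbitrary finite index type). -/
theorem exists_algHom_mvPowerSeries' {σ : Type*} [Finite σ] (k : Type*) [CommRing k] (R : Type*)
    [CommRing R] [Algebra k R] (I : Ideal R) [IsAdicComplete I R] (b : σ → R) (hb : ∀ i, b i ∈ I) :
    ∃ ψ : MvPowerSeries σ k →ₐ[k] R, ∀ i, ψ (MvPowerSeries.X i) = b i := by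
  letI : WithIdeal R := ⟨I⟩
  have hI : IsAdic I := rfl
  obtain ⟨hc, ht⟩ := hI.isAdicComplete_iff.mp inferInstance
  letI : UniformSpace k := ⊥
  haveI : DiscreteTopology k := ⟨rfl⟩
  haveI : ContinuousSMul k R := continuousSMul_of_algebraMap k R continuous_of_discreteTopology
  have ha : MvPowerSeries.HasEval b := by
    refine ⟨fun i => ?_, ?_⟩
    · rw [IsTopologicallyNilpotent, hI.hasBasis_nhds_zero.tendsto_right_iff]
      intro n _
      filter_upwards [Filter.eventually_ge_atTop n] with m hm
      exact Ideal.pow_le_pow_right hm (Ideal.pow_mem_pow (hb i) m)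
    · rw [Filter.cofinite_eq_bot]
      exact Filter.tendsto_bot
  refine ⟨MvPowerSeries.aeval ha, fun i => ?_⟩
  rw [MvPowerSeries.coe_aeval]
  exact MvPowerSeries.eval₂_X _ _ i

/-- two algebra maps out of a power series ring into a separated ring, sending the variables
into the ideal and agreeing on the variables, are equal. -/
theorem algHom_ext_of_isHausdorff_fin {K : Type*} [CommRing K] {n : ℕ} {B : Type*} [CommRing B]
    [Algebra K B] (I : Ideal B) [IsHausdorff I B] (f g : MvPowerSeries (Fin n) K →ₐ[K] B)
    (hf : ∀ i, f (X i) ∈ I) (hX : ∀ i, f (X i) = g (X i)) : f = g := by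
  have hpoly : f.comp (MvPolynomial.coeToMvPowerSeries.algHom (σ := Fin n) K) =
      g.comp (MvPolynomial.coeToMvPowerSeries.algHom (σ := Fin n) K) := by
    apply MvPolynomial.algHom_ext
    intro i
    simp [hX i]
  have hmap : ∀ (h : MvPowerSeries (Fin n) K →ₐ[K] B), (∀ i, h (X i) ∈ I) → ∀ m : ℕ,
      ∀ x ∈ Ideal.span (Set.range (X : Fin n → MvPowerSeries (Fin n) K)) ^ m, h x ∈ I ^ m := by
    intro h hh m x hx
    have h1 : (Ideal.span (Set.range (X : Fin n → MvPowerSeries (Fin n) K)) ^ m).map h.toRingHom
        ≤ I ^ m := by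
      rw [Ideal.map_pow]
      refine Ideal.pow_right_mono ?_ m
      rw [Ideal.map_span, Ideal.span_le]
      rintro _ ⟨_, ⟨i, rfl⟩, rfl⟩
      exact hh i
    exact h1 (Ideal.mem_map_of_mem h.toRingHom hx)
  have hg : ∀ i, g (X i) ∈ I := fun i => by rw [← hX]; exact hf i
  ext s
  rw [← sub_eq_zero]
  apply IsHausdorff.haus' (I := I)
  intro m
  rw [SModEq.zero, smul_eq_mul, Ideal.mul_top]
  have h1 := sub_truncTotal_mem_pow m s
  have h2 : f s - g s = f (s - ((truncTotal m s : MvPolynomial (Fin n) K) :
      MvPowerSeries (Fin n) K)) - g (s - ((truncTotal m s : MvPolynomial (Fin n) K) :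
      MvPowerSeries (Fin n) K)) := by
    have e : f ((truncTotal m s : MvPolynomial (Fin n) K) : MvPowerSeries (Fin n) K) =
        g ((truncTotal m s : MvPolynomial (Fin n) K) : MvPowerSeries (Fin n) K) :=
      congrArg (fun φ : MvPolynomial (Fin n) K →ₐ[K] B => φ (truncTotal m s)) hpoly
    rw [map_sub, map_sub, e]
    ring
  rw [h2]
  exact Ideal.sub_mem _ (hmap f hf m _ h1) (hmap g hg m _ h1)

theorem algHom_ext_of_isHausdorff {σ : Type*} [Finite σ] {K : Type*} [CommRing K] {B : Type*}
    [CommRing B] [Algebra K B] (I : Ideal B) [IsHausdorff I B] (f g : MvPowerSeries σ K →ₐ[K] B)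
    (hf : ∀ i, f (X i) ∈ I) (hX : ∀ i, f (X i) = g (X i)) : f = g := by
  classical
  cases nonempty_fintype σ
  let e := Fintype.equivFin σ
  have key : f.comp (renameEquiv K e).symm.toAlgHom = g.comp (renameEquiv K e).symm.toAlgHom := by
    apply algHom_ext_of_isHausdorff_fin I
    · intro i
      have h1 : (renameEquiv K e).symm (X i) = X (e.symm i) := by
        rw [renameEquiv_symm]
        exact rename_X _ i
      show f ((renameEquiv K e).symm (X i)) ∈ I
      rw [h1]
      exact hf _
    · intro i
      have h1 : (renameEquiv K e).symm (X i) = X (e.symm i) := by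
        rw [renameEquiv_symm]
        exact rename_X _ i
      show f ((renameEquiv K e).symm (X i)) = g ((renameEquiv K e).symm (X i))
      rw [h1]
      exact hX _
  ext s
  have := congrArg (fun φ => φ (renameEquiv K e s)) key
  simpa using this

end Groth.Agent.H5.CA
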