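import Mathlib
import Groth.Agent.Lib.Helper5.CA.Cohen8
import Groth.Agent.Lib.Helper5.CA.CohenQuot2
import Groth.Agent.S0579

set_option autoImplicit false
universe u

open IsLocalRing

namespace Groth.Agent.H5.Cohen9

/-- lifting a local homomorphism from a Cohen ring to the residue field of a complete local
ring (no Noetherian hypothesis). -/
theorem exists_lift_residue {W C : Type u} [CommRing W] [IsLocalRing W]
    (hW : EGA41.IsCohenRingEGA W) [CommRing C] [IsLocalRing C]
    [IsAdicComplete (maximalIdeal C) C] (u : W →+* ResidueField C) [IsLocalHom u] :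
    ∃ v : W →+* C, (residue C).comp v = u := by
  letI : Algebra (ULift.{u} ℤ) W := ULift.algebra' ℤ W
  letI : Algebra (ULift.{u} ℤ) C := ULift.algebra' ℤ C
  have hfs := Cohen4.isFormallySmoothAdic_ulift_cohenRingEGA hW
  let u' : W →ₐ[ULift.{u} ℤ] C ⧸ maximalIdeal C := Cohen4.toULiftAlgHom u
  haveI : IsHausdorff ((maximalIdeal C).map (Ideal.Quotient.mk (maximalIdeal C)))
      (C ⧸ maximalIdeal C) := by
    rw [Ideal.map_quotient_self]; infer_instance
  obtain ⟨v, -, hv⟩ := AdicFS.exists_lift_of_isAdicComplete (maximalIdeal C) (maximalIdeal C)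
    (⊥ : Ideal (ULift.{u} ℤ)) (maximalIdeal W) hfs ⟨1, by simp⟩ ⟨1, by simp⟩ u'
    ⟨1, by
      rw [pow_one, Ideal.map_quotient_self, Ideal.map_le_iff_le_comap]
      intro x hx
      rw [Ideal.mem_comap, Ideal.mem_bot]
      have h1 : ¬ IsUnit (u x) := fun h =>
        (mem_maximalIdeal x).mp hx (IsLocalHom.map_nonunit (f := u) x h)
      by_contra h0
      exact h1 (isUnit_iff_ne_zero.mpr h0)⟩
  refine ⟨v.toRingHom, ?_⟩
  ext x
  have := congrArg (fun φ => φ x) hv
  exact this

end Groth.Agent.H5.Cohen9

namespace Groth.Agent.H5.Cohen9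

/-- Cohen structure theorem: a complete local ring with finitely generated maximal ideal is a
quotient of a power series ring over a field or a Cohen ring. -/
theorem cohen_structure (R : Type u) [CommRing R] [IsLocalRing R]
    [IsAdicComplete (maximalIdeal R) R] (hfg : (maximalIdeal R).FG) :
    ∃ (Λ : Type u) (_ : CommRing Λ) (n : ℕ) (f : MvPowerSeries (Fin n) Λ →+* R),
      (IsField Λ ∨ CAlg.IsCohenRing Λ) ∧ Function.Surjective f := by
  obtain ⟨p, hp⟩ := CharP.exists (ResidueField R)
  rcases CharP.char_is_prime_or_zero (ResidueField R) p with hpp | hp0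
  · haveI : Fact p.Prime := ⟨hpp⟩
    obtain ⟨Λ, _, _, hΛ, ⟨ε⟩⟩ := CohenZorn.exists_cohenRing p (ResidueField R)
    let u : Λ →+* ResidueField R := (ε : ResidueField Λ →+* ResidueField R).comp (residue Λ)
    haveI : IsLocalHom u := by
      haveI : IsLocalHom (residue Λ) := (residue_surjective (R := Λ)).isLocalHom
      haveI : IsLocalHom (ε : ResidueField Λ →+* ResidueField R) :=
        ⟨fun a ha => by
          have := ha.map (ε.symm : ResidueField R →+* ResidueField Λ)
          simpa using this⟩
      exact RingHom.isLocalHom_comp _ _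
    obtain ⟨v, hv⟩ := exists_lift_residue (Or.inr hΛ) u
    letI : Algebra Λ R := v.toAlgebra
    have hK : Function.Surjective ((residue R).comp (algebraMap Λ R)) := by
      show Function.Surjective ((residue R).comp v)
      rw [hv]
      intro y
      obtain ⟨x, hx⟩ := residue_surjective (ε.symm y)
      exact ⟨x, by simp [u, hx]⟩
    obtain ⟨n, ψ, hψ, -⟩ := CA.exists_surjective_mvPowerSeries' Λ R hfg hK
    exact ⟨Λ, inferInstance, n, ψ.toRingHom, Or.inr hΛ, hψ⟩
  · subst hp0
    haveI : CharZero (ResidueField R) := CharP.charP_to_charZero _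
    obtain ⟨s, hs⟩ := Groth.Agent.S0579.result R
    letI : Algebra (ResidueField R) R := s.toAlgebra
    have hK : Function.Surjective ((residue R).comp (algebraMap (ResidueField R) R)) := by
      show Function.Surjective ((residue R).comp s)
      rw [hs]
      exact Function.surjective_id
    obtain ⟨n, ψ, hψ, -⟩ := CA.exists_surjective_mvPowerSeries' (ResidueField R) R hfg hK
    exact ⟨ResidueField R, inferInstance, n, ψ.toRingHom, Or.inl (Field.toIsField _), hψ⟩

end Groth.Agent.H5.Cohen9
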