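import Mathlib
set_option autoImplicit false
universe u
open Algebra MvPolynomial TensorProduct

namespace Groth.Agent.H5.CA

section Jac
variable {R : Type u} [CommRing R] {ι σ : Type} [Finite ι] [Finite σ]
  (F : σ → MvPolynomial ι R) (a : σ → ι) (ha : Function.Injective a)

/-- The quotient `R[X_i]/(F_j)`. -/
abbrev JQuot : Type u := MvPolynomial ι R ⧸ Ideal.span (Set.range F)

/-- The naive presubmersive presentation of `R[X]/(F)`. -/
noncomputable def jPre : PreSubmersivePresentation R (JQuot F) ι σ :=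
  PreSubmersivePresentation.naive (v := F) a ha

/-- The Jacobian algebra `(R[X]/(F))[1/det J]`. -/
abbrev JAlg : Type u := Localization.Away (jPre F a ha).jacobian

/-- The submersive presentation of the Jacobian algebra. -/
noncomputable def jSub :
    SubmersivePresentation R (JAlg F a ha) (Unit ⊕ ι) (Unit ⊕ σ) where
  __ := (PreSubmersivePresentation.localizationAway (JAlg F a ha) (jPre F a ha).jacobian).comp
    (jPre F a ha)
  jacobian_isUnit := by
    rw [PreSubmersivePresentation.comp_jacobian_eq_jacobian_smul_jacobian, Algebra.smul_def,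
      IsUnit.mul_iff, PreSubmersivePresentation.localizationAway_jacobian]
    have := IsLocalization.map_units (JAlg F a ha)
      (⟨(jPre F a ha).jacobian, 1, by simp⟩ : Submonoid.powers (jPre F a ha).jacobian)
    exact ⟨this, this⟩

/-- The generators of the Jacobian algebra. -/
noncomputable def jx (i : ι) : JAlg F a ha :=
  algebraMap (JQuot F) (JAlg F a ha) (Ideal.Quotient.mk _ (X i))

lemma JAlg.algHom_ext {B : Type*} [CommRing B] [Algebra R B] {f g : JAlg F a ha →ₐ[R] B}
    (h : ∀ i, f (jx F a ha i) = g (jx F a ha i)) : f = g := by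
  apply IsLocalization.algHom_ext (A := JQuot F) (Submonoid.powers (jPre F a ha).jacobian)
  apply Ideal.Quotient.algHom_ext
  apply MvPolynomial.algHom_ext
  intro i
  exact h i

lemma aeval_jx (p : MvPolynomial ι R) :
    aeval (jx F a ha) p = algebraMap (JQuot F) (JAlg F a ha) (Ideal.Quotient.mk _ p) := by
  have := MvPolynomial.comp_aeval_apply (f := (X : ι → MvPolynomial ι R))
    ((IsScalarTower.toAlgHom R (JQuot F) (JAlg F a ha)).comp
      (Ideal.Quotient.mkₐ R (Ideal.span (Set.range F)))) p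
  rw [aeval_X_left_apply] at this
  exact this.symm

lemma aeval_jx_F (j : σ) : aeval (jx F a ha) (F j) = 0 := by
  have h0 : (Ideal.Quotient.mk (Ideal.span (Set.range F))) (F j) = 0 :=
    Ideal.Quotient.eq_zero_iff_mem.mpr (Ideal.subset_span (Set.mem_range_self j))
  rw [aeval_jx, h0, map_zero]

theorem etale_JAlg (h : Nat.card ι = Nat.card σ) : Algebra.Etale R (JAlg F a ha) := by
  have : Algebra.IsStandardSmoothOfRelativeDimension 0 R (JAlg F a ha) :=
    (jSub F a ha).isStandardSmoothOfRelativeDimension (by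
      simp [Algebra.Presentation.dimension, Nat.card_sum, h])
  infer_instance

end Jac

section Lift

variable (R : Type u) [CommRing R] (I : Ideal R) (Sb : Type u) [CommRing Sb]
  [Algebra (R ⧸ I) Sb]

theorem exists_etale_lift_quotient [Algebra.Etale (R ⧸ I) Sb] :
    ∃ (S : Type u) (_ : CommRing S) (_ : Algebra R S), Algebra.Etale R S ∧
      Nonempty (((R ⧸ I) ⊗[R] S) ≃ₐ[R ⧸ I] Sb) := by
  classical
  have hss : Algebra.IsStandardSmoothOfRelativeDimension 0 (R ⧸ I) Sb :=
    Algebra.Etale.iff_isStandardSmoothOfRelativeDimension_zero.mp inferInstance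
  obtain ⟨ι, σ, hσ, hι, P, hP⟩ := hss.out
  have hcard : Nat.card ι = Nat.card σ := by
    have h1 := P.card_relations_le_card_vars_of_isFinite
    have h2 : Nat.card ι - Nat.card σ = 0 := hP
    omega
  -- lift the relations
  have hsurj : Function.Surjective (MvPolynomial.map (σ := ι) (Ideal.Quotient.mk I)) :=
    MvPolynomial.map_surjective _ Ideal.Quotient.mk_surjective
  choose F hF using fun j => hsurj (P.relation j)
  let a := P.map
  have ha : Function.Injective a := P.map_inj
  refine ⟨JAlg F a ha, inferInstance, inferInstance, etale_JAlg F a ha hcard, ?_⟩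
  -- `Sb` as an `R`-algebra
  let algRSb : Algebra R Sb := ((algebraMap (R ⧸ I) Sb).comp (Ideal.Quotient.mk I)).toAlgebra
  have : IsScalarTower R (R ⧸ I) Sb := IsScalarTower.of_algebraMap_eq (fun _ => rfl)
  have := Fintype.ofFinite σ
  let φ₀ : MvPolynomial ι R →ₐ[R] Sb := aeval P.val
  have hφ₀ : ∀ p : MvPolynomial ι R,
      φ₀ p = aeval (R := R ⧸ I) P.val (MvPolynomial.map (Ideal.Quotient.mk I) p) := by
    intro p
    exact (MvPolynomial.aeval_map_algebraMap (R ⧸ I) P.val p).symm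
  have hφ₀F : ∀ j, φ₀ (F j) = 0 := by
    intro j
    rw [hφ₀, hF]
    exact P.aeval_val_relation j
  have hker : ∀ p ∈ Ideal.span (Set.range F), φ₀ p = 0 := by
    intro p hp
    have : Ideal.span (Set.range F) ≤ RingHom.ker φ₀.toRingHom :=
      Ideal.span_le.mpr (by rintro _ ⟨j, rfl⟩; exact hφ₀F j)
    exact this hp
  let φ₁ : JQuot F →ₐ[R] Sb := Ideal.Quotient.liftₐ _ φ₀ hker
  have hφ₁ : ∀ q, φ₁ (Ideal.Quotient.mk _ q) = φ₀ q := fun q => rfl
  have hjac : φ₁ (jPre F a ha).jacobian = P.jacobian := by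
    rw [PreSubmersivePresentation.jacobian_eq_jacobiMatrix_det,
      PreSubmersivePresentation.jacobian_eq_jacobiMatrix_det]
    conv_rhs => rw [Algebra.Generators.algebraMap_apply]
    change φ₁ (Ideal.Quotient.mk _ ((jPre F a ha).jacobiMatrix.det)) =
      aeval P.val P.jacobiMatrix.det
    rw [hφ₁, AlgHom.map_det, AlgHom.map_det]
    congr 1
    ext i j
    simp only [AlgHom.mapMatrix_apply, Matrix.map_apply, jPre,
      PreSubmersivePresentation.jacobiMatrix_apply]
    rw [hφ₀, ← MvPolynomial.pderiv_map]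
    change aeval P.val (pderiv (P.map i) (MvPolynomial.map (Ideal.Quotient.mk I) (F j))) = _
    rw [hF]
  have hunits : ∀ y : Submonoid.powers (jPre F a ha).jacobian, IsUnit (φ₁ y) := by
    rintro ⟨_, n, rfl⟩
    rw [map_pow, hjac]
    exact P.jacobian_isUnit.pow n
  let φ : JAlg F a ha →ₐ[R] Sb :=
    IsLocalization.liftAlgHom (M := Submonoid.powers (jPre F a ha).jacobian) (f := φ₁) hunits
  have hφx : ∀ i, φ (jx F a ha i) = P.val i := by
    intro i
    change IsLocalization.lift hunits (algebraMap (JQuot F) (JAlg F a ha) _) = _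
    rw [IsLocalization.lift_eq]
    change φ₀ (X i) = _
    simp [φ₀]
  let Φ : (R ⧸ I) ⊗[R] JAlg F a ha →ₐ[R ⧸ I] Sb :=
    Algebra.TensorProduct.lift (Algebra.ofId (R ⧸ I) Sb) φ (fun _ _ => Commute.all _ _)
  have hΦx : ∀ i, Φ ((1 : R ⧸ I) ⊗ₜ[R] jx F a ha i) = P.val i := by
    intro i
    simp only [Φ, Algebra.TensorProduct.lift_tmul, map_one, one_mul, hφx]
  let ψ₀ : MvPolynomial ι (R ⧸ I) →ₐ[R ⧸ I] (R ⧸ I) ⊗[R] JAlg F a ha :=
    aeval (fun i => (1 : R ⧸ I) ⊗ₜ[R] jx F a ha i)
  have hψ₀ : ∀ p : MvPolynomial ι R, ψ₀ (MvPolynomial.map (Ideal.Quotient.mk I) p) =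
      (1 : R ⧸ I) ⊗ₜ[R] (aeval (jx F a ha) p) := by
    intro p
    rw [show ψ₀ (MvPolynomial.map (Ideal.Quotient.mk I) p) =
      aeval (R := R) (fun i => (1 : R ⧸ I) ⊗ₜ[R] jx F a ha i) p from
        MvPolynomial.aeval_map_algebraMap (R ⧸ I) _ p]
    exact (MvPolynomial.comp_aeval_apply (f := jx F a ha)
      (Algebra.TensorProduct.includeRight : JAlg F a ha →ₐ[R] (R ⧸ I) ⊗[R] JAlg F a ha) p).symm
  have hψ₀ker : ∀ p ∈ RingHom.ker (aeval (R := R ⧸ I) P.val), ψ₀ p = 0 := by
    intro p hp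
    rw [← Algebra.Generators.ker_eq_ker_aeval_val, ← P.span_range_relation_eq_ker] at hp
    have : Ideal.span (Set.range P.relation) ≤ RingHom.ker ψ₀.toRingHom :=
      Ideal.span_le.mpr (by
        rintro _ ⟨j, rfl⟩
        change ψ₀ (P.relation j) = 0
        rw [← hF, hψ₀, aeval_jx_F, TensorProduct.tmul_zero])
    exact this hp
  let e := Ideal.quotientKerAlgEquivOfSurjective (f := aeval (R := R ⧸ I) P.val)
    P.aeval_val_surjective
  let Ψ : Sb →ₐ[R ⧸ I] (R ⧸ I) ⊗[R] JAlg F a ha :=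
    (Ideal.Quotient.liftₐ (RingHom.ker (aeval (R := R ⧸ I) P.val)) ψ₀ hψ₀ker).comp e.symm.toAlgHom
  have hΨ : ∀ p, Ψ (aeval P.val p) = ψ₀ p := by
    intro p
    have : e.symm (aeval P.val p) = Ideal.Quotient.mk _ p := by
      rw [AlgEquiv.symm_apply_eq]
      rfl
    change (Ideal.Quotient.liftₐ _ ψ₀ hψ₀ker) (e.symm (aeval P.val p)) = _
    rw [this]
    rfl
  refine ⟨AlgEquiv.ofAlgHom Φ Ψ ?_ ?_⟩
  · apply AlgHom.ext
    intro s
    obtain ⟨p, rfl⟩ := P.aeval_val_surjective s
    change Φ (Ψ (aeval P.val p)) = aeval P.val p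
    rw [hΨ, MvPolynomial.comp_aeval_apply]
    simp only [hΦx]
  · apply Algebra.TensorProduct.ext
    · apply AlgHom.ext
      intro r
      change Ψ (Φ (r ⊗ₜ[R] 1)) = r ⊗ₜ[R] 1
      simp only [Φ, Algebra.TensorProduct.lift_tmul, map_one, mul_one]
      rw [Algebra.ofId_apply, AlgHom.commutes, Algebra.TensorProduct.algebraMap_apply]
      rfl
    · apply JAlg.algHom_ext
      intro i
      change Ψ (Φ ((1 : R ⧸ I) ⊗ₜ[R] jx F a ha i)) = (1 : R ⧸ I) ⊗ₜ[R] jx F a ha i
      rw [hΦx, ← aeval_X (R := R ⧸ I) P.val i, hΨ]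
      simp [ψ₀]

end Lift

end Groth.Agent.H5.CA
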