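import Groth.Agent.Lib.Helper5.CA.AdicPow
import Groth.Agent.Lib.Helper5.CA.PSAdicSmooth2

set_option autoImplicit false
universe u

namespace Groth.Agent.H5.CoeffUniq

open IsLocalRing

theorem perfectField_bot (K : Type u) [Field K] : PerfectField (⊥ : Subfield K) := by
  obtain h0 | ⟨p, hp, hpk⟩ := CharP.exists' K
  · infer_instance
  · haveI := hp
    haveI := hpk
    haveI : Fintype (⊥ : Subfield K) := Subfield.fintypeBot K p
    exact PerfectField.ofFinite

/-- lifting a section modulo `𝔪²` to a section, over a perfect field. -/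
theorem exists_lift_mod_sq (k₀ C : Type u) [Field k₀] [PerfectField k₀] [CommRing C] [IsLocalRing C]
    [Algebra k₀ C] [IsAdicComplete (maximalIdeal C) C]
    (w : ResidueField C →ₐ[k₀] C ⧸ (maximalIdeal C) ^ 2) :
    ∃ v : ResidueField C →ₐ[k₀] C, (Ideal.Quotient.mkₐ k₀ _).comp v = w := by
  haveI := Groth.Agent.H5.CA.formallySmooth_of_perfectField k₀ (ResidueField C)
  haveI : IsAdicComplete ((maximalIdeal C) ^ 2) C :=
    Groth.Agent.H5.AdicPow.isAdicComplete_pow _ _ 2 two_ne_zero
  exact Algebra.FormallySmooth.exists_mkₐ_comp_eq_of_isAdicComplete w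

/-- the kernel of an additive map satisfying the Leibniz rule contains the prime field. -/
theorem leibniz_bot_eq_zero {K : Type u} [Field K] (D : K → K)
    (hadd : ∀ x y, D (x + y) = D x + D y) (hmul : ∀ x y, D (x * y) = x * D y + y * D x)
    (x : K) (hx : x ∈ (⊥ : Subfield K)) : D x = 0 := by
  have h0 : D 0 = 0 := by
    have := hadd 0 0
    rw [add_zero] at this
    exact left_eq_add.mp this
  have h1 : D 1 = 0 := by
    have := hmul 1 1
    rw [mul_one, one_mul] at this
    exact left_eq_add.mp this
  have hneg : ∀ a, D (-a) = - D a := by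
    intro a
    have := hadd a (-a)
    rw [add_neg_cancel, h0] at this
    exact (neg_eq_of_add_eq_zero_right this.symm).symm
  let S : Subfield K :=
    { carrier := {x | D x = 0}
      mul_mem' := fun {a b} ha hb => by
        show D (a * b) = 0
        rw [hmul, (show D a = 0 from ha), (show D b = 0 from hb)]; simp
      one_mem' := h1
      add_mem' := fun {a b} ha hb => by
        show D (a + b) = 0
        rw [hadd, (show D a = 0 from ha), (show D b = 0 from hb), add_zero]
      zero_mem' := h0
      neg_mem' := fun {a} ha => by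
        show D (-a) = 0
        rw [hneg, (show D a = 0 from ha), neg_zero]
      inv_mem' := fun a ha => by
        show D a⁻¹ = 0
        by_cases ha0 : a = 0
        · rw [ha0, inv_zero]; exact h0
        · have := hmul a a⁻¹
          rw [mul_inv_cancel₀ ha0, h1, (show D a = 0 from ha), mul_zero, add_zero] at this
          exact (mul_eq_zero.mp this.symm).resolve_left ha0 }
  exact (bot_le : (⊥ : Subfield K) ≤ S) hx

/-- the prime field, as an opaque type (no algebra instance over `K`). -/
def PrimeField (K : Type u) [Field K] : Type u := (⊥ : Subfield K)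

noncomputable instance (K : Type u) [Field K] : Field (PrimeField K) :=
  inferInstanceAs (Field (⊥ : Subfield K))

instance (K : Type u) [Field K] : PerfectField (PrimeField K) := perfectField_bot K

/-- the inclusion of the prime field. -/
def PrimeField.val (K : Type u) [Field K] : PrimeField K →+* K := (⊥ : Subfield K).subtype

theorem PrimeField.val_mem (K : Type u) [Field K] (c : PrimeField K) :
    PrimeField.val K c ∈ (⊥ : Subfield K) := Subtype.property (p := (· ∈ (⊥ : Subfield K))) c

theorem exists_other_section {C : Type u} [CommRing C] [IsLocalRing C] [IsNoetherianRing C]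
    [IsAdicComplete (maximalIdeal C) C] (hm : maximalIdeal C ≠ ⊥) (u : ResidueField C →+* C)
    (hu : ∀ x, residue C (u x) = x) (hns : ¬ Subsingleton (Ω[ResidueField C⁄ℤ])) :
    ∃ v : ResidueField C →+* C, (∀ x, residue C (v x) = x) ∧ v ≠ u := by
  rw [not_subsingleton_iff_nontrivial] at hns
  obtain ⟨ω, hω⟩ := exists_ne (0 : Ω[ResidueField C⁄ℤ])
  have h1 : ¬ ∀ φ : Module.Dual (ResidueField C) (Ω[ResidueField C⁄ℤ]), φ ω = 0 := fun h =>
    hω ((Module.forall_dual_apply_eq_zero_iff (ResidueField C) ω).mp h)
  push Not at h1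
  obtain ⟨ℓ, hℓ⟩ := h1
  let D₀ : ResidueField C → ResidueField C := fun x => ℓ (KaehlerDifferential.D ℤ (ResidueField C) x)
  have hadd : ∀ x y, D₀ (x + y) = D₀ x + D₀ y := fun x y => by
    show ℓ _ = ℓ _ + ℓ _
    rw [map_add, map_add]
  have hmul : ∀ x y, D₀ (x * y) = x * D₀ y + y * D₀ x := fun x y => by
    show ℓ _ = x * ℓ _ + y * ℓ _
    rw [Derivation.leibniz, map_add, map_smul, map_smul, smul_eq_mul, smul_eq_mul]
  have hD0 : D₀ 0 = 0 := by
    show ℓ _ = 0
    rw [map_zero, map_zero]
  have hD1 : D₀ 1 = 0 := by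
    show ℓ _ = 0
    rw [Derivation.map_one_eq_zero, map_zero]
  have hD₀ : ∃ x₀, D₀ x₀ ≠ 0 := by
    by_contra h
    push Not at h
    apply hℓ
    have : ℓ = 0 := LinearMap.ext_on (KaehlerDifferential.span_range_derivation ℤ _) (by
      rintro _ ⟨x, rfl⟩
      exact h x)
    rw [this]
    rfl
  obtain ⟨x₀, hx₀⟩ := hD₀
  have ht : ∃ t ∈ maximalIdeal C, t ∉ maximalIdeal C ^ 2 := by
    by_contra h
    push Not at h
    apply hm
    apply Submodule.eq_bot_of_le_smul_of_le_jacobson_bot (maximalIdeal C) (maximalIdeal C)
      (IsNoetherian.noetherian _) ?_ (maximalIdeal_le_jacobson _)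
    intro x hx
    rw [smul_eq_mul, ← pow_two]
    exact h x hx
  obtain ⟨t, htm, ht2⟩ := ht
  have ht2' : t * t ∈ maximalIdeal C ^ 2 := by
    rw [pow_two]; exact Ideal.mul_mem_mul htm htm
  letI : Algebra (PrimeField (ResidueField C)) C :=
    (u.comp (PrimeField.val (ResidueField C))).toAlgebra
  let v₂ : ResidueField C →+* C ⧸ maximalIdeal C ^ 2 :=
    { toFun := fun x => Ideal.Quotient.mk _ (u x + u (D₀ x) * t)
      map_one' := by
        rw [hD1, map_zero, zero_mul, add_zero, map_one, map_one]
      map_mul' := fun x y => by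
        rw [← map_mul, Ideal.Quotient.eq, hmul]
        have : u (x * y) + u (x * D₀ y + y * D₀ x) * t - (u x + u (D₀ x) * t) * (u y + u (D₀ y) * t)
            = - (u (D₀ x) * u (D₀ y)) * (t * t) := by
          simp only [map_add, map_mul]
          ring
        rw [this]
        exact Ideal.mul_mem_left _ _ ht2'
      map_zero' := by
        rw [hD0, map_zero, zero_mul, add_zero, map_zero]
      map_add' := fun x y => by
        rw [← map_add, hadd, map_add u, map_add u]
        congr 1
        ring }
  obtain ⟨v, hv⟩ := exists_lift_mod_sq (PrimeField (ResidueField C)) C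
    { v₂ with
      commutes' := fun c => by
        have h1 : algebraMap (PrimeField (ResidueField C)) (ResidueField C) c =
            PrimeField.val (ResidueField C) c := hu _
        show v₂ (algebraMap (PrimeField (ResidueField C)) (ResidueField C) c) = _
        rw [h1]
        show Ideal.Quotient.mk _ (u (PrimeField.val _ c) + u (D₀ (PrimeField.val _ c)) * t) =
          Ideal.Quotient.mk _ (u (PrimeField.val _ c))
        rw [leibniz_bot_eq_zero D₀ hadd hmul _ (PrimeField.val_mem _ c), map_zero, zero_mul,
          add_zero] }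
  have hv' : ∀ x, v x - (u x + u (D₀ x) * t) ∈ maximalIdeal C ^ 2 := by
    intro x
    rw [← Ideal.Quotient.eq]
    exact congrArg (fun f => f x) hv
  refine ⟨v.toRingHom, fun x => ?_, fun h => ?_⟩
  · have h1 : v x - (u x + u (D₀ x) * t) ∈ maximalIdeal C :=
      Ideal.pow_le_self two_ne_zero (hv' x)
    have h2 : u (D₀ x) * t ∈ maximalIdeal C := Ideal.mul_mem_left _ _ htm
    have h3 : v x - u x ∈ maximalIdeal C := by
      have := Ideal.add_mem _ h1 h2
      have e : v x - (u x + u (D₀ x) * t) + u (D₀ x) * t = v x - u x := by ring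
      rwa [e] at this
    have h4 : residue C (v x - u x) = 0 := (residue_eq_zero_iff _).mpr h3
    rw [map_sub, sub_eq_zero, hu] at h4
    exact h4
  · have h1 := hv' x₀
    have h2 : v x₀ = u x₀ := congrArg (fun f => f x₀) h
    rw [h2] at h1
    have h3 : u (D₀ x₀) * t ∈ maximalIdeal C ^ 2 := by
      have e : u x₀ - (u x₀ + u (D₀ x₀) * t) = - (u (D₀ x₀) * t) := by ring
      rw [e] at h1
      exact (Ideal.neg_mem_iff _).mp h1
    have h4 : IsUnit (u (D₀ x₀)) := by
      by_contra hnu
      have : u (D₀ x₀) ∈ maximalIdeal C := (mem_maximalIdeal _).mpr hnu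
      have := (residue_eq_zero_iff _).mpr this
      rw [hu] at this
      exact hx₀ this
    exact ht2 ((Ideal.unit_mul_mem_iff_mem _ h4).mp h3)

end Groth.Agent.H5.CoeffUniq
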