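import Groth.Agent.Lib.Helper5.CA.PSExists

set_option autoImplicit false
universe u

namespace Groth.Agent.H5.CA

open IsLocalRing

/-- A local ring complete for its finitely generated maximal ideal, with a field `K` mapping
onto its residue field, is a quotient of a power series ring over `K`. -/
theorem exists_surjective_mvPowerSeries (K R : Type u) [Field K] [CommRing R] [IsLocalRing R]
    [Algebra K R] [IsAdicComplete (maximalIdeal R) R] (hfg : (maximalIdeal R).FG)
    (hK : Function.Surjective ((residue R).comp (algebraMap K R))) :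
    ∃ (n : ℕ) (ψ : MvPowerSeries (Fin n) K →ₐ[K] R), Function.Surjective ψ ∧
      ∀ i, ψ (MvPowerSeries.X i) ∈ maximalIdeal R := by
  classical
  obtain ⟨s, hs⟩ := hfg
  let n := s.card
  let b : Fin n → R := fun i => (s.equivFin.symm i : R)
  have hb_range : Set.range b = (s : Set R) := by
    ext x
    constructor
    · rintro ⟨i, rfl⟩
      exact (s.equivFin.symm i).2
    · intro hx
      exact ⟨s.equivFin ⟨x, hx⟩, by simp [b]⟩
  have hbm : ∀ i, b i ∈ maximalIdeal R := fun i => by
    rw [← hs]
    exact Ideal.subset_span (s.equivFin.symm i).2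
  obtain ⟨ψ, hψX⟩ := exists_algHom_mvPowerSeries K R (maximalIdeal R) b hbm
  refine ⟨n, ψ, ?_, fun i => by rw [hψX]; exact hbm i⟩
  have hI : (Ideal.span (Set.range (MvPowerSeries.X : Fin n → MvPowerSeries (Fin n) K))).map
      ψ.toRingHom = maximalIdeal R := by
    rw [Ideal.map_span, ← Set.range_comp, ← hs, ← hb_range]
    congr 2
    funext i
    exact hψX i
  haveI : IsHausdorff ((Ideal.span (Set.range (MvPowerSeries.X : Fin n → MvPowerSeries (Fin n) K))).map
      ψ.toRingHom) R := by
    rw [hI]; infer_instance
  have := surjective_of_mk_map_comp_surjective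
    (I := Ideal.span (Set.range (MvPowerSeries.X : Fin n → MvPowerSeries (Fin n) K)))
    ψ.toRingHom ?_
  · exact this
  · intro y
    obtain ⟨y', rfl⟩ := Ideal.Quotient.mk_surjective y
    obtain ⟨c, hc⟩ := hK (residue R y')
    refine ⟨MvPowerSeries.C c, ?_⟩
    have h1 : ψ (MvPowerSeries.C c) = algebraMap K R c := by
      have : (MvPowerSeries.C c : MvPowerSeries (Fin n) K) = algebraMap K _ c := by
        rw [MvPowerSeries.algebraMap_apply]; simp
      rw [this, AlgHom.commutes]
    show Ideal.Quotient.mk _ (ψ (MvPowerSeries.C c)) = Ideal.Quotient.mk _ y'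
    rw [h1, Ideal.Quotient.eq, hI]
    have h2 : residue R (algebraMap K R c - y') = 0 := by
      rw [map_sub, sub_eq_zero]; exact hc
    exact (residue_eq_zero_iff _).mp h2

end Groth.Agent.H5.CA
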