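import Groth.Agent.Lib.Helper5.CA.PSExists
import Groth.Agent.Lib.Helper7.PS1
import Groth.Agent.Lib.Helper1.Henselian
import Groth.Agent.H4.MvPSVars
import Groth.Prelude.Def_CAlgX
import Mathlib.RingTheory.MvPowerSeries.Trunc

set_option autoImplicit false
universe u

open MvPowerSeries

namespace Groth.Agent.H5.CA

/-- power series of order `≥ m` lie in the `m`-th power of the ideal generated by the variables. -/
theorem mem_pow_of_le_order {R : Type*} [CommRing R] {n : ℕ} (m : ℕ) :
    ∀ f : MvPowerSeries (Fin n) R, (m : ℕ∞) ≤ f.order →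
      f ∈ Ideal.span (Set.range (X : Fin n → MvPowerSeries (Fin n) R)) ^ m := by
  induction m with
  | zero => intro f _; simp
  | succ m ih =>
    intro f hf
    obtain ⟨g, hfg, hg⟩ := Groth.Agent.H7.PS.exists_decomp m f hf
    rw [hfg, pow_succ']
    refine Ideal.sum_mem _ (fun i _ => ?_)
    exact Ideal.mul_mem_mul (Ideal.subset_span ⟨i, rfl⟩) (ih (g i) (hg i))

/-- every power series is a polynomial modulo the `m`-th power of the variables. -/
theorem sub_truncTotal_mem_pow {R : Type*} [CommRing R] {n : ℕ} (m : ℕ)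
    (f : MvPowerSeries (Fin n) R) :
    f - ((truncTotal m f : MvPolynomial (Fin n) R) : MvPowerSeries (Fin n) R) ∈
      Ideal.span (Set.range (X : Fin n → MvPowerSeries (Fin n) R)) ^ m := by
  apply mem_pow_of_le_order
  refine MvPowerSeries.nat_le_order (fun d hd => ?_)
  rw [map_sub, MvPolynomial.coeff_coe, coeff_truncTotal f hd, sub_self]

/-- two algebra maps out of a power series ring which are continuous (kill a power of the
variables) and agree on the variables are equal. -/
theorem algHom_ext_of_pow {K : Type*} [CommRing K] {n : ℕ} {B : Type*} [CommRing B] [Algebra K B]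
    (f g : MvPowerSeries (Fin n) K →ₐ[K] B) (m : ℕ)
    (hf : ∀ x ∈ Ideal.span (Set.range (X : Fin n → MvPowerSeries (Fin n) K)) ^ m, f x = 0)
    (hg : ∀ x ∈ Ideal.span (Set.range (X : Fin n → MvPowerSeries (Fin n) K)) ^ m, g x = 0)
    (hX : ∀ i, f (X i) = g (X i)) : f = g := by
  have hpoly : f.comp (MvPolynomial.coeToMvPowerSeries.algHom (σ := Fin n) K) =
      g.comp (MvPolynomial.coeToMvPowerSeries.algHom (σ := Fin n) K) := by
    apply MvPolynomial.algHom_ext
    intro i
    simp [hX i]
  ext s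
  have h1 := sub_truncTotal_mem_pow m s
  have h2 : s = (s - ((truncTotal m s : MvPolynomial (Fin n) K) : MvPowerSeries (Fin n) K)) +
      ((truncTotal m s : MvPolynomial (Fin n) K) : MvPowerSeries (Fin n) K) := by ring
  rw [h2, map_add, map_add, hf _ h1, hg _ h1]
  congr 1
  exact congrArg (fun φ : MvPolynomial (Fin n) K →ₐ[K] B => φ (truncTotal m s)) hpoly


/-- power series over a field formally smooth over `R` are adically formally smooth over `R`. -/
theorem isAdicFormallySmooth_mvPowerSeries (R : Type u) [CommRing R] (K : Type u) [Field K]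
    [Algebra R K] [Algebra.FormallySmooth R K] (n : ℕ) :
    CAlgX.IsAdicFormallySmooth R (MvPowerSeries (Fin n) K)
      (IsLocalRing.maximalIdeal (MvPowerSeries (Fin n) K)) := by
  classical
  intro A _ _ J hJ ψ hψ
  obtain ⟨k₀, hk₀⟩ := hψ
  rw [Groth.Agent.H4.MvPSVars.maximalIdeal_eq_span_range_X] at hk₀
  let cK : K →ₐ[R] MvPowerSeries (Fin n) K :=
    (Algebra.ofId K (MvPowerSeries (Fin n) K)).restrictScalars R
  obtain ⟨φK, hφK⟩ := Algebra.FormallySmooth.comp_surjective R K J hJ (ψ.comp cK)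
  letI : Algebra K A := φK.toRingHom.toAlgebra
  haveI : IsScalarTower R K A := IsScalarTower.of_algebraMap_eq (fun r => (φK.commutes r).symm)
  let ψK : MvPowerSeries (Fin n) K →ₐ[K] A ⧸ J :=
    { ψ.toRingHom with
      commutes' := fun c => by
        have := congrArg (fun φ : K →ₐ[R] A ⧸ J => φ c) hφK
        exact this.symm }
  choose a ha using fun i : Fin n => Ideal.Quotient.mk_surjective (ψ (X i))
  have hnil : ∀ i, IsNilpotent (a i) := by
    intro i
    refine ⟨k₀ * 2, ?_⟩
    have h1 : (a i) ^ k₀ ∈ J := by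
      rw [← Ideal.Quotient.eq_zero_iff_mem, map_pow, ha, ← map_pow]
      exact hk₀ _ (Ideal.pow_mem_pow (Ideal.subset_span (Set.mem_range_self i)) k₀)
    have h2 : ((a i) ^ k₀) ^ 2 ∈ J ^ 2 := Ideal.pow_mem_pow h1 2
    rw [hJ] at h2
    rw [pow_mul]
    exact h2
  let I : Ideal A := Ideal.span (Set.range a)
  have hIfg : I.FG := ⟨Finset.univ.image a, by simp [I]⟩
  have hInil : IsNilpotent I := by
    rw [Ideal.FG.isNilpotent_iff_le_nilradical hIfg, Ideal.span_le]
    rintro _ ⟨i, rfl⟩
    exact hnil i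
  obtain ⟨N, hN⟩ := hInil
  haveI : IsAdicComplete I A := Groth.Agent.H1.isAdicComplete_of_pow_eq_bot I N hN
  obtain ⟨χ, hχ⟩ := exists_algHom_mvPowerSeries K A I a (fun i => Ideal.subset_span ⟨i, rfl⟩)
  refine ⟨χ.restrictScalars R, ?_⟩
  have hmap : ∀ m : ℕ, ∀ x ∈ Ideal.span (Set.range (X : Fin n → MvPowerSeries (Fin n) K)) ^ m,
      χ x ∈ I ^ m := by
    intro m x hx
    have h1 : Ideal.map χ (Ideal.span (Set.range (X : Fin n → MvPowerSeries (Fin n) K))) ≤ I := by
      rw [Ideal.map_span, Ideal.span_le]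
      rintro _ ⟨_, ⟨i, rfl⟩, rfl⟩
      rw [hχ]
      exact Ideal.subset_span ⟨i, rfl⟩
    have h2 := Ideal.mem_map_of_mem χ hx
    rw [Ideal.map_pow] at h2
    exact Ideal.pow_right_mono h1 m h2
  have key : (Ideal.Quotient.mkₐ K J).comp χ = ψK := by
    refine algHom_ext_of_pow _ _ (max N k₀) ?_ ?_ ?_
    · intro x hx
      have h1 := hmap (max N k₀) x hx
      have h2 : I ^ (max N k₀) ≤ I ^ N := Ideal.pow_le_pow_right (le_max_left _ _)
      have h3 := h2 h1
      rw [hN] at h3
      have h4 : χ x = 0 := h3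
      simp [h4]
    · intro x hx
      exact hk₀ x (Ideal.pow_le_pow_right (le_max_right _ _) hx)
    · intro i
      show Ideal.Quotient.mk J (χ (X i)) = ψ (X i)
      rw [hχ, ha]
  ext s
  exact congrArg (fun φ : MvPowerSeries (Fin n) K →ₐ[K] A ⧸ J => φ s) key

end Groth.Agent.H5.CA
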