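import Groth.Agent.Lib.Helper5.CA.AdicFS4
import Groth.Agent.Lib.Helper5.CA.CohenQuot
import Groth.Agent.Lib.Helper5.CA.CoeffField
import Groth.Agent.Lib.Helper5.CA.PSAdicSmooth
import Groth.Agent.Lib.Helper6.PSCotC
import Groth.Agent.S0548

set_option autoImplicit false
universe u

namespace Groth.Agent.H5.FSField

open IsLocalRing

/-- an endomorphism congruent to the identity modulo `I²` is injective on an `I`-adically
separated ring. -/
theorem sub_mem_pow_succ {P : Type*} [CommRing P] (I : Ideal P) (θ : P →+* P)
    (h : ∀ p, θ p - p ∈ I ^ 2) : ∀ (j : ℕ) (p : P), p ∈ I ^ j → θ p - p ∈ I ^ (j + 1) := by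
  have hI : ∀ b ∈ I, θ b ∈ I := by
    intro b hb
    have := Ideal.add_mem _ (Ideal.pow_le_self two_ne_zero (h b)) hb
    simpa using this
  intro j
  induction j with
  | zero =>
    intro p _
    exact Ideal.pow_le_pow_right (by norm_num) (h p)
  | succ j ih =>
    intro p hp
    rw [pow_succ] at hp
    refine Submodule.mul_induction_on hp ?_ ?_
    · intro a ha b hb
      have e : θ (a * b) - a * b = (θ a - a) * θ b + a * (θ b - b) := by
        rw [map_mul]; ring
      rw [e]
      refine Ideal.add_mem _ ?_ ?_
      · have := Ideal.mul_mem_mul (ih a ha) (hI b hb)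
        rwa [← pow_succ] at this
      · have := Ideal.mul_mem_mul ha (h b)
        rw [← pow_add] at this
        exact this
    · intro x y hx hy
      have e : θ (x + y) - (x + y) = (θ x - x) + (θ y - y) := by
        rw [map_add]; ring
      rw [e]
      exact Ideal.add_mem _ hx hy

theorem injective_of_sub_mem_sq {P : Type*} [CommRing P] (I : Ideal P) [IsHausdorff I P]
    (θ : P →+* P) (h : ∀ p, θ p - p ∈ I ^ 2) : Function.Injective θ := by
  rw [injective_iff_map_eq_zero]
  intro p hp
  have key : ∀ j : ℕ, p ∈ I ^ j := by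
    intro j
    induction j with
    | zero => simp
    | succ j ih =>
      have := sub_mem_pow_succ I θ h j p ih
      rw [hp, zero_sub] at this
      exact (Ideal.neg_mem_iff _).mp this
  apply IsHausdorff.haus' (I := I)
  intro n
  rw [SModEq.zero, smul_eq_mul, Ideal.mul_top]
  exact key n

/-- transport of adic formal smoothness along an algebra isomorphism. -/
theorem isAdicFormallySmooth_of_algEquiv {k R R' : Type u} [CommRing k] [CommRing R] [CommRing R']
    [Algebra k R] [Algebra k R'] (e : R ≃ₐ[k] R') (I : Ideal R) (I' : Ideal R')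
    (hI : ∀ x, x ∈ I → e x ∈ I') (h : CAlgX.IsAdicFormallySmooth k R I) :
    CAlgX.IsAdicFormallySmooth k R' I' := by
  intro A _ _ J hJ ψ hψ
  obtain ⟨n, hn⟩ := hψ
  obtain ⟨χ, hχ⟩ := h A J hJ (ψ.comp e.toAlgHom) ⟨n, fun x hx => by
    rw [AlgHom.comp_apply]
    apply hn
    have h1 : (I ^ n).map e.toAlgHom.toRingHom ≤ I' ^ n := by
      rw [Ideal.map_pow]
      refine Ideal.pow_right_mono ?_ n
      rw [Ideal.map_le_iff_le_comap]
      intro y hy
      exact hI y hy
    exact h1 (Ideal.mem_map_of_mem _ hx)⟩
  refine ⟨χ.comp e.symm.toAlgHom, ?_⟩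
  ext x
  have := congrArg (fun g => g (e.symm x)) hχ
  simpa using this

theorem tfae (k A : Type u) [Field k] [CommRing A] [IsLocalRing A] [IsNoetherianRing A]
    [Algebra k A] [Algebra.IsGeometricallyReduced k (ResidueField A)] :
    [CAlgX.IsAdicFormallySmooth k A (maximalIdeal A),
     ∃ (n : ℕ) (e : AdicCompletion (maximalIdeal A) A ≃+* MvPowerSeries (Fin n) (ResidueField A)),
       ∀ x : k, e (algebraMap A (AdicCompletion (maximalIdeal A) A) (algebraMap k A x)) =
         algebraMap (ResidueField A) (MvPowerSeries (Fin n) (ResidueField A))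
           (algebraMap k (ResidueField A) x),
     ∃ n : ℕ, Nonempty (AdicCompletion (maximalIdeal A) A ≃+*
       MvPowerSeries (Fin n) (ResidueField A)),
     IsRegularLocalRing A].TFAE := by
  classical
  haveI : IsNoetherianRing (AdicCompletion (maximalIdeal A) A) := Groth.Agent.S0543.result A _
  haveI : IsScalarTower k A (AdicCompletion (maximalIdeal A) A) :=
    IsScalarTower.of_algebraMap_eq (fun x => rfl)
  have hbij := AdicCompletion.residueField_map_bijective A
  let ι₀ : ResidueField A →ₐ[k] ResidueField (AdicCompletion (maximalIdeal A) A) :=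
    { toRingHom := ResidueField.map (algebraMap A (AdicCompletion (maximalIdeal A) A))
      commutes' := fun c => by
        show ResidueField.map (algebraMap A (AdicCompletion (maximalIdeal A) A))
          (algebraMap k (ResidueField A) c) = algebraMap k _ c
        rw [IsScalarTower.algebraMap_apply k A (ResidueField A),
          IsScalarTower.algebraMap_apply k (AdicCompletion (maximalIdeal A) A)
            (ResidueField (AdicCompletion (maximalIdeal A) A)),
          IsScalarTower.algebraMap_apply k A (AdicCompletion (maximalIdeal A) A)]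
        exact ResidueField.map_residue _ _ }
  let ι : ResidueField A ≃ₐ[k] ResidueField (AdicCompletion (maximalIdeal A) A) :=
    AlgEquiv.ofBijective ι₀ hbij
  haveI : Algebra.IsGeometricallyReduced k (ResidueField (AdicCompletion (maximalIdeal A) A)) :=
    Algebra.IsGeometricallyReduced.of_injective ι.symm.toAlgHom ι.symm.injective
  obtain ⟨σ, hσ⟩ := Groth.Agent.H5.exists_coefficientField (k := k)
    (A := AdicCompletion (maximalIdeal A) A)
  let σ' : ResidueField A →ₐ[k] AdicCompletion (maximalIdeal A) A := σ.comp ι.toAlgHom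
  letI : Algebra (ResidueField A) (AdicCompletion (maximalIdeal A) A) := σ'.toRingHom.toAlgebra
  haveI : IsScalarTower k (ResidueField A) (AdicCompletion (maximalIdeal A) A) :=
    IsScalarTower.of_algebraMap_eq (fun c => (σ'.commutes c).symm)
  have hK : Function.Surjective ((residue (AdicCompletion (maximalIdeal A) A)).comp
      (algebraMap (ResidueField A) (AdicCompletion (maximalIdeal A) A))) := by
    intro y
    refine ⟨ι.symm y, ?_⟩
    show residue _ (σ (ι (ι.symm y))) = y
    rw [hσ, AlgEquiv.apply_symm_apply]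
  let χR := Groth.Agent.H6.ResAug.aug hK
  -- the presentation
  let B := Module.finBasis (ResidueField (AdicCompletion (maximalIdeal A) A))
    (CotangentSpace (AdicCompletion (maximalIdeal A) A))
  let d := Module.finrank (ResidueField (AdicCompletion (maximalIdeal A) A))
    (CotangentSpace (AdicCompletion (maximalIdeal A) A))
  have hsurj := (maximalIdeal (AdicCompletion (maximalIdeal A) A)).toCotangent_surjective
  choose b' hb' using fun i : Fin d => hsurj (B i)
  let b : Fin d → AdicCompletion (maximalIdeal A) A := fun i => (b' i : _)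
  have hbm : ∀ i, b i ∈ maximalIdeal (AdicCompletion (maximalIdeal A) A) := fun i => (b' i).2
  obtain ⟨ψ, hψX⟩ := Groth.Agent.H5.CA.exists_algHom_mvPowerSeries (ResidueField A)
    (AdicCompletion (maximalIdeal A) A) (maximalIdeal _) b hbm
  have hψ : ∀ i, ψ (MvPowerSeries.X i) ∈ maximalIdeal (AdicCompletion (maximalIdeal A) A) :=
    fun i => by rw [hψX]; exact hbm i
  have hfun : (fun i : Fin d => (maximalIdeal (AdicCompletion (maximalIdeal A) A)).toCotangent
      ⟨ψ (MvPowerSeries.X i), hψ i⟩) = fun i => B i := by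
    funext i
    rw [← hb' i]
    congr 1
    exact Subtype.ext (hψX i)
  have hli : LinearIndependent (ResidueField (AdicCompletion (maximalIdeal A) A))
      (fun i : Fin d => (maximalIdeal (AdicCompletion (maximalIdeal A) A)).toCotangent
        ⟨ψ (MvPowerSeries.X i), hψ i⟩) := by
    rw [hfun]
    exact B.linearIndependent
  have hsp : Submodule.span (ResidueField (AdicCompletion (maximalIdeal A) A))
      (Set.range (fun i : Fin d => (maximalIdeal (AdicCompletion (maximalIdeal A) A)).toCotangent
        ⟨ψ (MvPowerSeries.X i), hψ i⟩)) = ⊤ := by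
    rw [hfun]
    exact B.span_eq
  have key1 := Groth.Agent.H6.PSCot.regular_iff_bijective χR ψ hψ hli hsp
  have hψsurj := Groth.Agent.H6.PSCot.psi_surjective χR ψ hψ hsp
  have hkersq := Groth.Agent.H6.PSCot.ker_le_sq χR ψ hψ hli
  have fromBij : Function.Bijective ψ →
      ∃ (n : ℕ) (e : AdicCompletion (maximalIdeal A) A ≃+* MvPowerSeries (Fin n) (ResidueField A)),
       ∀ x : k, e (algebraMap A (AdicCompletion (maximalIdeal A) A) (algebraMap k A x)) =
         algebraMap (ResidueField A) (MvPowerSeries (Fin n) (ResidueField A))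
           (algebraMap k (ResidueField A) x) := by
    intro hb
    refine ⟨d, (AlgEquiv.ofBijective ψ hb).symm.toRingEquiv, fun x => ?_⟩
    show (AlgEquiv.ofBijective ψ hb).symm _ = _
    rw [AlgEquiv.symm_apply_eq]
    show _ = ψ _
    rw [AlgHom.commutes,
      ← IsScalarTower.algebraMap_apply k (ResidueField A) (AdicCompletion (maximalIdeal A) A),
      ← IsScalarTower.algebraMap_apply k A (AdicCompletion (maximalIdeal A) A)]
  haveI hreg : IsRegularLocalRing (MvPowerSeries (Fin d) (ResidueField A)) :=
    Groth.Agent.H6.PSCot.isRegularLocalRing_mvPowerSeries d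
  have bijOfSmooth : CAlgX.IsAdicFormallySmooth k A (maximalIdeal A) → Function.Bijective ψ := by
    intro hA
    have hAh : EGA41.IsFormallySmoothAdic k ⊥ (AdicCompletion (maximalIdeal A) A)
        (maximalIdeal (AdicCompletion (maximalIdeal A) A)) := by
      have := (Groth.Agent.H5.AdicFS.isFormallySmoothAdic_adicCompletion_iff (⊥ : Ideal k)
        (maximalIdeal A) (IsNoetherian.noetherian _)).mp
        ((Groth.Agent.H5.AdicFS.isAdicFormallySmooth_iff_bot _).mp hA)
      rwa [← AdicCompletion.maximalIdeal_eq_map] at this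
    let ψk : MvPowerSeries (Fin d) (ResidueField A) →ₐ[k] AdicCompletion (maximalIdeal A) A :=
      ψ.restrictScalars k
    have hψksurj : Function.Surjective ψk := hψsurj
    set J : Ideal (MvPowerSeries (Fin d) (ResidueField A)) := RingHom.ker ψk with hJdef
    have hJsq : J ≤ maximalIdeal (MvPowerSeries (Fin d) (ResidueField A)) ^ 2 := hkersq
    have hJle : J ≤ maximalIdeal (MvPowerSeries (Fin d) (ResidueField A)) :=
      hJsq.trans (Ideal.pow_le_self two_ne_zero)
    have hJne : J ≠ ⊤ := fun h => (maximalIdeal.isMaximal _).ne_top (top_le_iff.mp (h ▸ hJle))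
    haveI : Nontrivial (MvPowerSeries (Fin d) (ResidueField A) ⧸ J) :=
      Ideal.Quotient.nontrivial_iff.mpr hJne
    haveI : IsLocalRing (MvPowerSeries (Fin d) (ResidueField A) ⧸ J) :=
      IsLocalRing.of_surjective' (Ideal.Quotient.mk J) Ideal.Quotient.mk_surjective
    have hne : (maximalIdeal (MvPowerSeries (Fin d) (ResidueField A))).map (Ideal.Quotient.mk J) ≠ ⊤ := by
      intro h
      have h1 : (1 : MvPowerSeries (Fin d) (ResidueField A) ⧸ J) ∈
          (maximalIdeal (MvPowerSeries (Fin d) (ResidueField A))).map (Ideal.Quotient.mk J) := by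
        rw [h]; trivial
      obtain ⟨x, hx, hx1⟩ := (Ideal.mem_map_iff_of_surjective _ Ideal.Quotient.mk_surjective).mp h1
      have h2 : x - 1 ∈ J := by
        rw [← Ideal.Quotient.eq, hx1, map_one]
      have h4 : (1 : MvPowerSeries (Fin d) (ResidueField A)) ∈
          maximalIdeal (MvPowerSeries (Fin d) (ResidueField A)) := by
        have := Ideal.sub_mem _ hx (hJle h2)
        simp at this
      exact (maximalIdeal.isMaximal _).ne_top ((Ideal.eq_top_iff_one _).mpr h4)
    haveI : IsHausdorff ((maximalIdeal (MvPowerSeries (Fin d) (ResidueField A))).map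
        (Ideal.Quotient.mk J)) (MvPowerSeries (Fin d) (ResidueField A) ⧸ J) :=
      IsHausdorff.of_isLocalRing _ _ hne
    let e₀ : (MvPowerSeries (Fin d) (ResidueField A) ⧸ J) ≃ₐ[k] AdicCompletion (maximalIdeal A) A :=
      Ideal.quotientKerAlgEquivOfSurjective hψksurj
    have he₀ : ∀ p, e₀ (Ideal.Quotient.mk J p) = ψ p := fun p =>
      Ideal.quotientKerAlgEquivOfSurjective_mk hψksurj p
    have hu : ∃ k' : ℕ, ((maximalIdeal (AdicCompletion (maximalIdeal A) A)) ^ k').map
        e₀.symm.toAlgHom.toRingHom ≤
        (maximalIdeal (MvPowerSeries (Fin d) (ResidueField A))).map (Ideal.Quotient.mk J) := by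
      refine ⟨1, ?_⟩
      rw [pow_one, Ideal.map_le_iff_le_comap]
      intro x hx
      obtain ⟨p, rfl⟩ := hψsurj x
      have h1 : e₀.symm (ψ p) = Ideal.Quotient.mk J p := by
        rw [AlgEquiv.symm_apply_eq, he₀]
      show e₀.symm (ψ p) ∈ (maximalIdeal (MvPowerSeries (Fin d) (ResidueField A))).map
        (Ideal.Quotient.mk J)
      rw [h1]
      refine Ideal.mem_map_of_mem _ ?_
      rw [mem_maximalIdeal, mem_nonunits_iff]
      intro hp
      exact hx (hp.map ψ)
    obtain ⟨v, -, hv⟩ := Groth.Agent.H5.AdicFS.exists_lift_of_isAdicComplete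
      (maximalIdeal (MvPowerSeries (Fin d) (ResidueField A))) J (⊥ : Ideal k)
      (maximalIdeal (AdicCompletion (maximalIdeal A) A)) hAh
      ⟨1, by rw [pow_one, Ideal.map_bot]; exact bot_le⟩ ⟨1, by rw [pow_one]; exact hJle⟩
      e₀.symm.toAlgHom hu
    have hψv : ∀ x, ψ (v x) = x := by
      intro x
      have h1 : Ideal.Quotient.mk J (v x) = e₀.symm x := congrArg (fun g => g x) hv
      have h2 := he₀ (v x)
      rw [h1, AlgEquiv.apply_symm_apply] at h2
      exact h2.symm
    let θ : MvPowerSeries (Fin d) (ResidueField A) →+* MvPowerSeries (Fin d) (ResidueField A) :=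
      v.toRingHom.comp ψ.toRingHom
    have hθ : ∀ p, θ p - p ∈ maximalIdeal (MvPowerSeries (Fin d) (ResidueField A)) ^ 2 := by
      intro p
      apply hkersq
      rw [RingHom.mem_ker]
      show ψ (v (ψ p) - p) = 0
      rw [map_sub, hψv, sub_self]
    have hθinj := injective_of_sub_mem_sq
      (maximalIdeal (MvPowerSeries (Fin d) (ResidueField A))) θ hθ
    refine ⟨fun p q hpq => hθinj ?_, hψsurj⟩
    show v (ψ p) = v (ψ q)
    rw [hpq]
  have smoothOfBij : Function.Bijective ψ → CAlgX.IsAdicFormallySmooth k A (maximalIdeal A) := by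
    intro hb
    haveI : Algebra.FormallySmooth k (ResidueField A) :=
      Groth.Agent.H5.formallySmooth_of_isGeometricallyReduced' k _
    have hP := Groth.Agent.H5.CA.isAdicFormallySmooth_mvPowerSeries k (ResidueField A) d
    let E : MvPowerSeries (Fin d) (ResidueField A) ≃ₐ[k] AdicCompletion (maximalIdeal A) A :=
      (AlgEquiv.ofBijective ψ hb).restrictScalars k
    have hAh : CAlgX.IsAdicFormallySmooth k (AdicCompletion (maximalIdeal A) A)
        (maximalIdeal (AdicCompletion (maximalIdeal A) A)) := by
      refine isAdicFormallySmooth_of_algEquiv E _ _ (fun x hx => ?_) hP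
      rw [mem_maximalIdeal, mem_nonunits_iff] at hx ⊢
      intro hu
      apply hx
      have := hu.map E.symm
      rwa [AlgEquiv.symm_apply_apply] at this
    rw [AdicCompletion.maximalIdeal_eq_map] at hAh
    exact (Groth.Agent.H5.AdicFS.isAdicFormallySmooth_iff_bot _).mpr
      ((Groth.Agent.H5.AdicFS.isFormallySmoothAdic_adicCompletion_iff (⊥ : Ideal k)
        (maximalIdeal A) (IsNoetherian.noetherian _)).mpr
        ((Groth.Agent.H5.AdicFS.isAdicFormallySmooth_iff_bot _).mp hAh))
  tfae_have 1 → 2 := fun h => fromBij (bijOfSmooth h)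
  tfae_have 2 → 3 := fun ⟨n, e, _⟩ => ⟨n, ⟨e⟩⟩
  tfae_have 3 → 4 := by
    rintro ⟨n, ⟨e⟩⟩
    haveI : IsRegularLocalRing (MvPowerSeries (Fin n) (ResidueField A)) :=
      Groth.Agent.H6.PSCot.isRegularLocalRing_mvPowerSeries n
    haveI : IsRegularLocalRing (AdicCompletion (maximalIdeal A) A) :=
      IsRegularLocalRing.of_ringEquiv e.symm
    exact (Groth.Agent.S0548.result A).mpr inferInstance
  tfae_have 4 → 1 := fun h => smoothOfBij (key1.mp ((Groth.Agent.S0548.result A).mp h))
  tfae_finish

end Groth.Agent.H5.FSField
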