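import Mathlib
import Groth.Prelude.Def_CAlgX

set_option autoImplicit false
universe u

open TensorProduct

namespace Groth.Agent.H5.GR

/-- a formally smooth algebra is adically formally smooth for any ideal. -/
theorem isAdicFormallySmooth_of_formallySmooth (R S : Type u) [CommRing R] [CommRing S]
    [Algebra R S] [Algebra.FormallySmooth R S] (𝔫 : Ideal S) :
    CAlgX.IsAdicFormallySmooth R S 𝔫 := by
  intro C _ _ J hJ ψ _
  exact Algebra.FormallySmooth.exists_lift J ⟨2, hJ⟩ ψ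

/-- transitivity of adic formal smoothness. -/
theorem isAdicFormallySmooth_trans (R S T : Type u) [CommRing R] [CommRing S] [CommRing T]
    [Algebra R S] [Algebra S T] [Algebra R T] [IsScalarTower R S T]
    (𝔫S : Ideal S) (𝔫T : Ideal T) (hcont : 𝔫S.map (algebraMap S T) ≤ 𝔫T)
    (h1 : CAlgX.IsAdicFormallySmooth R S 𝔫S) (h2 : CAlgX.IsAdicFormallySmooth S T 𝔫T) :
    CAlgX.IsAdicFormallySmooth R T 𝔫T := by
  intro C _ _ J hJ ψ hψ
  obtain ⟨n, hn⟩ := hψ
  let φ₀ : S →ₐ[R] C ⧸ J := ψ.comp (IsScalarTower.toAlgHom R S T)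
  have hφ₀ : ∃ k : ℕ, ∀ x ∈ 𝔫S ^ k, φ₀ x = 0 := by
    refine ⟨n, fun x hx => hn _ ?_⟩
    have : algebraMap S T x ∈ (𝔫S ^ n).map (algebraMap S T) := Ideal.mem_map_of_mem _ hx
    rw [Ideal.map_pow] at this
    exact Ideal.pow_right_mono hcont n this
  obtain ⟨φ, hφ⟩ := h1 C J hJ φ₀ hφ₀
  letI : Algebra S C := φ.toRingHom.toAlgebra
  haveI : IsScalarTower R S C := IsScalarTower.of_algebraMap_eq (fun r => (φ.commutes r).symm)
  let ψ' : T →ₐ[S] C ⧸ J :=
    { ψ.toRingHom with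
      commutes' := fun s => by
        have := congrArg (fun g => g s) hφ
        show ψ (algebraMap S T s) = Ideal.Quotient.mk J (φ s)
        exact this.symm }
  obtain ⟨χ, hχ⟩ := h2 C J hJ ψ' ⟨n, hn⟩
  refine ⟨χ.restrictScalars R, ?_⟩
  ext t
  exact congrArg (fun g => g t) hχ

/-- base change of adic formal smoothness. -/
theorem isAdicFormallySmooth_baseChange (k k' A : Type u) [CommRing k] [CommRing k'] [CommRing A]
    [Algebra k k'] [Algebra k A] (𝔫 : Ideal A) (h : CAlgX.IsAdicFormallySmooth k A 𝔫) :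
    CAlgX.IsAdicFormallySmooth k' (k' ⊗[k] A)
      (𝔫.map (Algebra.TensorProduct.includeRight : A →ₐ[k] k' ⊗[k] A).toRingHom) := by
  intro C _ _ J hJ ψ hψ
  obtain ⟨n, hn⟩ := hψ
  letI : Algebra k C := ((algebraMap k' C).comp (algebraMap k k')).toAlgebra
  haveI : IsScalarTower k k' C := IsScalarTower.of_algebraMap_eq (fun r => rfl)
  let ψ₀ : A →ₐ[k] C ⧸ J := (ψ.restrictScalars k).comp Algebra.TensorProduct.includeRight
  have hψ₀ : ∃ m : ℕ, ∀ x ∈ 𝔫 ^ m, ψ₀ x = 0 := by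
    refine ⟨n, fun x hx => hn _ ?_⟩
    rw [← Ideal.map_pow]
    exact Ideal.mem_map_of_mem _ hx
  obtain ⟨χ₀, hχ₀⟩ := h C J hJ ψ₀ hψ₀
  let χ : k' ⊗[k] A →ₐ[k'] C :=
    Algebra.TensorProduct.lift (Algebra.ofId k' C) χ₀ (fun _ _ => Commute.all _ _)
  refine ⟨χ, ?_⟩
  apply Algebra.TensorProduct.ext
  · ext
  · ext a
    have := congrArg (fun g => g a) hχ₀
    simp only [AlgHom.comp_apply] at this
    simpa [χ, ψ₀] using this

end Groth.Agent.H5.GR
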