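import Mathlib
import Groth.Agent.Lib.Helper5.CA.GR1
import Groth.Agent.Lib.Helper5.CA.FSField
import Groth.Agent.Lib.Helper5.CA.CoeffUniq

set_option autoImplicit false
universe u

open TensorProduct IsLocalRing

namespace Groth.Agent.H5.GR

/-- a Noetherian local ring which is adically formally smooth over a field is regular. -/
theorem isRegularLocalRing_of_isAdicFormallySmooth (k A : Type u) [Field k] [CommRing A]
    [IsLocalRing A] [IsNoetherianRing A] [Algebra k A]
    (h : CAlgX.IsAdicFormallySmooth k A (maximalIdeal A)) : IsRegularLocalRing A := by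
  let k₀ : Subfield k := ⊥
  haveI : PerfectField k₀ := CoeffUniq.perfectField_bot k
  haveI : IsScalarTower k₀ k A := inferInstance
  haveI : Algebra.FormallySmooth k₀ k := CA.formallySmooth_of_perfectField k₀ k
  have h0 : CAlgX.IsAdicFormallySmooth k₀ A (maximalIdeal A) :=
    isAdicFormallySmooth_trans k₀ k A ⊥ (maximalIdeal A) (by simp)
      (isAdicFormallySmooth_of_formallySmooth k₀ k ⊥) h
  haveI : Algebra.IsGeometricallyReduced k₀ (ResidueField A) :=
    isGeometricallyReduced_of_perfectField k₀ _
  exact ((FSField.tfae k₀ A).out 0 3).mp h0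

end Groth.Agent.H5.GR

namespace Groth.Agent.H5.GR

/-- completion of a Noetherian local ring adically formally smooth over a field is a power series
ring over the residue field. -/
theorem exists_ringEquiv_of_isAdicFormallySmooth (k A : Type u) [Field k] [CommRing A]
    [IsLocalRing A] [IsNoetherianRing A] [Algebra k A]
    (h : CAlgX.IsAdicFormallySmooth k A (maximalIdeal A)) :
    ∃ n : ℕ, Nonempty (AdicCompletion (maximalIdeal A) A ≃+*
      MvPowerSeries (Fin n) (ResidueField A)) := by
  let k₀ : Subfield k := ⊥
  haveI : PerfectField k₀ := CoeffUniq.perfectField_bot k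
  haveI : IsScalarTower k₀ k A := inferInstance
  haveI : Algebra.FormallySmooth k₀ k := CA.formallySmooth_of_perfectField k₀ k
  have h0 : CAlgX.IsAdicFormallySmooth k₀ A (maximalIdeal A) :=
    isAdicFormallySmooth_trans k₀ k A ⊥ (maximalIdeal A) (by simp)
      (isAdicFormallySmooth_of_formallySmooth k₀ k ⊥) h
  haveI : Algebra.IsGeometricallyReduced k₀ (ResidueField A) :=
    isGeometricallyReduced_of_perfectField k₀ _
  exact ((FSField.tfae k₀ A).out 0 2).mp h0

end Groth.Agent.H5.GR
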