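import Mathlib
import Groth.Prelude.Def_CAlgX

set_option autoImplicit false
universe u

namespace Groth.Agent.H5.AJ

/-- transport of adic formal smoothness along an algebra isomorphism. -/
theorem isAdicFormallySmooth_of_equiv {R S S' : Type u} [CommRing R] [CommRing S] [CommRing S']
    [Algebra R S] [Algebra R S'] (e : S ≃ₐ[R] S') (𝔫 : Ideal S) (𝔫' : Ideal S')
    (h : ∀ x ∈ 𝔫, e x ∈ 𝔫') (hS : CAlgX.IsAdicFormallySmooth R S 𝔫) :
    CAlgX.IsAdicFormallySmooth R S' 𝔫' := by
  intro E _ _ N hN ψ hψ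
  obtain ⟨k, hk⟩ := hψ
  have hpow : ∀ x ∈ 𝔫 ^ k, e x ∈ 𝔫' ^ k := by
    intro x hx
    have h1 : 𝔫.map (e : S →+* S') ≤ 𝔫' := by
      rw [Ideal.map_le_iff_le_comap]
      intro y hy
      exact h y hy
    have h2 : (𝔫 ^ k).map (e : S →+* S') ≤ 𝔫' ^ k := by
      rw [Ideal.map_pow]
      exact Ideal.pow_right_mono h1 k
    exact h2 (Ideal.mem_map_of_mem _ hx)
  obtain ⟨χ, hχ⟩ := hS E N hN (ψ.comp e.toAlgHom) ⟨k, fun x hx => hk _ (hpow x hx)⟩
  refine ⟨χ.comp e.symm.toAlgHom, ?_⟩
  rw [← AlgHom.comp_assoc, hχ]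
  ext x
  simp

/-- adic formal smoothness over a localization of the base implies the same over the base. -/
theorem isAdicFormallySmooth_of_isLocalization {R R' S : Type u} [CommRing R] [CommRing R']
    [CommRing S] [Algebra R R'] [Algebra R S] [Algebra R' S] [IsScalarTower R R' S]
    (M : Submonoid R) [IsLocalization M R'] (𝔫 : Ideal S)
    (hS : CAlgX.IsAdicFormallySmooth R' S 𝔫) : CAlgX.IsAdicFormallySmooth R S 𝔫 := by
  intro E _ _ N hN ψ hψ
  have hunits : ∀ m : M, IsUnit (algebraMap R E m) := by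
    intro m
    apply (IsNilpotent.isUnit_quotient_mk_iff (I := N) ⟨2, hN⟩).mp
    have h1 : IsUnit (algebraMap R' S (algebraMap R R' m)) :=
      (IsLocalization.map_units R' m).map _
    have h2 := h1.map ψ
    rw [← IsScalarTower.algebraMap_apply, AlgHom.commutes] at h2
    exact h2
  letI : Algebra R' E := (IsLocalization.lift (M := M) (g := algebraMap R E) hunits).toAlgebra
  haveI : IsScalarTower R R' E := IsScalarTower.of_algebraMap_eq (fun r => by
    rw [RingHom.algebraMap_toAlgebra, IsLocalization.lift_eq])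
  let ψ' : S →ₐ[R'] E ⧸ N :=
    { ψ.toRingHom with
      commutes' := fun r' => by
        have : (ψ.toRingHom.comp (algebraMap R' S)) = (algebraMap R' (E ⧸ N)) := by
          apply IsLocalization.ringHom_ext M
          ext r
          simp only [RingHom.comp_apply]
          rw [← IsScalarTower.algebraMap_apply R R' S, ← IsScalarTower.algebraMap_apply R R' (E ⧸ N)]
          exact ψ.commutes r
        exact congr($this r') }
  obtain ⟨χ, hχ⟩ := hS E N hN ψ' hψ
  refine ⟨χ.restrictScalars R, ?_⟩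
  ext x
  exact congr($hχ x)

end Groth.Agent.H5.AJ
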