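import Mathlib

set_option autoImplicit false
universe u

namespace Groth.Agent.H5.JC

variable {B : Type u} [CommRing B] {M P : Type u} [AddCommGroup M] [AddCommGroup P]
  [Module B M] [Module B P]

/-- extension property of `u : M → P` against modules killed by `𝔖`. -/
def EP (u : M →ₗ[B] P) (𝔖 : Ideal B) : Prop :=
  ∀ (N : Type u) [AddCommGroup N] [Module B N], (∀ a ∈ 𝔖, ∀ n : N, a • n = 0) →
    ∀ l : M →ₗ[B] N, ∃ ℓ : P →ₗ[B] N, ℓ ∘ₗ u = l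

/-- lifting property of `P` against surjections of modules killed by `𝔖`. -/
def LP (P : Type u) [AddCommGroup P] [Module B P] (𝔖 : Ideal B) : Prop :=
  ∀ (X N : Type u) [AddCommGroup X] [AddCommGroup N] [Module B X] [Module B N],
    (∀ a ∈ 𝔖, ∀ x : X, a • x = 0) → (∀ a ∈ 𝔖, ∀ n : N, a • n = 0) →
    ∀ f : X →ₗ[B] N, Function.Surjective f → ∀ ℓ₀ : P →ₗ[B] N, ∃ ℓ : P →ₗ[B] X, f ∘ₗ ℓ = ℓ₀

theorem EP.mono {u : M →ₗ[B] P} {𝔖 𝔖' : Ideal B} (h : 𝔖 ≤ 𝔖') (hEP : EP u 𝔖) : EP u 𝔖' :=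
  fun N _ _ hN l => hEP N (fun a ha n => hN a (h ha) n) l

theorem EP.of_nilpotent {u : M →ₗ[B] P} {𝔖 𝔖' : Ideal B} (n : ℕ) (hpow : 𝔖' ^ n ≤ 𝔖)
    (hLP : LP P 𝔖) (hEP : EP u 𝔖') : EP u 𝔖 := by
  intro N _ _ hN l
  have key : ∀ j : ℕ, ∃ ℓ : P →ₗ[B] N, ∀ m, l m - ℓ (u m) ∈ (𝔖' ^ j • ⊤ : Submodule B N) := by
    intro j
    induction j with
    | zero => exact ⟨0, fun m => by simp⟩
    | succ j ih =>
      obtain ⟨ℓj, hj⟩ := ih
      let lj : M →ₗ[B] (𝔖' ^ j • ⊤ : Submodule B N) :=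
        LinearMap.codRestrict _ (l - ℓj ∘ₗ u) (fun m => hj m)
      have hkill1 : ∀ a ∈ 𝔖, ∀ x : (𝔖' ^ j • ⊤ : Submodule B N), a • x = 0 := by
        intro a ha x
        apply Subtype.ext
        exact hN a ha x.1
      have hkill2 : ∀ a ∈ 𝔖, ∀ x : (𝔖' ^ j • ⊤ : Submodule B N) ⧸
          (𝔖' • ⊤ : Submodule B (𝔖' ^ j • ⊤ : Submodule B N)), a • x = 0 := by
        intro a ha x
        obtain ⟨x, rfl⟩ := Submodule.mkQ_surjective _ x
        rw [← map_smul, hkill1 a ha x, map_zero]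
      have hkill3 : ∀ a ∈ 𝔖', ∀ x : (𝔖' ^ j • ⊤ : Submodule B N) ⧸
          (𝔖' • ⊤ : Submodule B (𝔖' ^ j • ⊤ : Submodule B N)), a • x = 0 := by
        intro a ha x
        obtain ⟨x, rfl⟩ := Submodule.mkQ_surjective _ x
        rw [← map_smul, Submodule.mkQ_apply, Submodule.Quotient.mk_eq_zero]
        exact Submodule.smul_mem_smul ha Submodule.mem_top
      obtain ⟨ℓbar, hℓbar⟩ := hEP _ hkill3
        ((𝔖' • ⊤ : Submodule B (𝔖' ^ j • ⊤ : Submodule B N)).mkQ ∘ₗ lj)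
      obtain ⟨ℓt, hℓt⟩ := hLP _ _ hkill1 hkill2
        (𝔖' • ⊤ : Submodule B (𝔖' ^ j • ⊤ : Submodule B N)).mkQ (Submodule.mkQ_surjective _) ℓbar
      refine ⟨ℓj + (𝔖' ^ j • ⊤ : Submodule B N).subtype ∘ₗ ℓt, fun m => ?_⟩
      have h1 : (𝔖' • ⊤ : Submodule B (𝔖' ^ j • ⊤ : Submodule B N)).mkQ (lj m - ℓt (u m)) = 0 := by
        have e1 := DFunLike.congr_fun hℓbar m
        have e2 := DFunLike.congr_fun hℓt (u m)
        simp only [LinearMap.comp_apply] at e1 e2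
        rw [map_sub, e2, e1, sub_self]
      rw [Submodule.mkQ_apply, Submodule.Quotient.mk_eq_zero] at h1
      have h2 : (𝔖' ^ j • ⊤ : Submodule B N).subtype (lj m - ℓt (u m)) ∈
          (𝔖' • ⊤ : Submodule B (𝔖' ^ j • ⊤ : Submodule B N)).map
            (𝔖' ^ j • ⊤ : Submodule B N).subtype := ⟨_, h1, rfl⟩
      rw [Submodule.map_smul'', Submodule.map_top, Submodule.range_subtype,
        ← Submodule.mul_smul, ← pow_succ'] at h2
      have h3 : l m - (ℓj + (𝔖' ^ j • ⊤ : Submodule B N).subtype ∘ₗ ℓt) (u m) =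
          (𝔖' ^ j • ⊤ : Submodule B N).subtype (lj m - ℓt (u m)) := by
        simp [lj]
        abel
      rw [h3]
      exact h2
  obtain ⟨ℓ, hℓ⟩ := key n
  refine ⟨ℓ, ?_⟩
  ext m
  have h1 := hℓ m
  have h2 : (𝔖' ^ n • ⊤ : Submodule B N) ≤ ⊥ := by
    rw [Submodule.smul_le]
    intro a ha x _
    rw [Submodule.mem_bot]
    exact hN a (hpow ha) x
  have h3 := h2 h1
  rw [Submodule.mem_bot, sub_eq_zero] at h3
  exact h3.symm

end Groth.Agent.H5.JC
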