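import Mathlib
import Groth.Agent.Lib.Helper5.CA.JC1

set_option autoImplicit false
universe u

open TensorProduct

namespace Groth.Agent.H5.JC

theorem EP_iff_exists_leftInverse {B S : Type u} [CommRing B] [CommRing S] [Algebra B S]
    (hS : Function.Surjective (algebraMap B S))
    {M P : Type u} [AddCommGroup M] [AddCommGroup P] [Module B M] [Module B P]
    (u : M →ₗ[B] P) :
    EP u (RingHom.ker (algebraMap B S)) ↔
      ∃ g : S ⊗[B] P →ₗ[S] S ⊗[B] M, g ∘ₗ u.baseChange S = LinearMap.id := by
  constructor
  · intro hEP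
    have hkill : ∀ a ∈ RingHom.ker (algebraMap B S), ∀ x : S ⊗[B] M, a • x = 0 := by
      intro a ha x
      induction x using TensorProduct.induction_on with
      | zero => simp
      | tmul s m =>
        rw [TensorProduct.smul_tmul', Algebra.smul_def, RingHom.mem_ker.mp ha, zero_mul,
          TensorProduct.zero_tmul]
      | add x y hx hy => rw [smul_add, hx, hy, add_zero]
    obtain ⟨ℓ, hℓ⟩ := hEP (S ⊗[B] M) hkill (TensorProduct.mk B S M 1)
    refine ⟨ℓ.liftBaseChange S, ?_⟩
    apply TensorProduct.AlgebraTensorModule.ext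
    intro s m
    rw [LinearMap.comp_apply, LinearMap.baseChange_tmul, LinearMap.liftBaseChange_tmul,
      LinearMap.id_apply]
    have := DFunLike.congr_fun hℓ m
    rw [LinearMap.comp_apply] at this
    rw [this, TensorProduct.mk_apply, TensorProduct.smul_tmul', smul_eq_mul, mul_one]
  · rintro ⟨g, hg⟩ N _ _ hN l
    have hN' : Module.IsTorsionBySet B N (RingHom.ker (algebraMap B S)) :=
      fun x a => hN a.1 a.2 x
    letI : Module (B ⧸ RingHom.ker (algebraMap B S)) N := hN'.module
    let e : S ≃+* B ⧸ RingHom.ker (algebraMap B S) :=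
      (RingHom.quotientKerEquivOfSurjective hS).symm
    letI : Module S N := Module.compHom N (e : S →+* B ⧸ RingHom.ker (algebraMap B S))
    haveI : IsScalarTower B S N := by
      refine IsScalarTower.of_algebraMap_smul (fun b n => ?_)
      show (e (algebraMap B S b)) • n = b • n
      have : e (algebraMap B S b) = Ideal.Quotient.mk _ b := by
        rw [RingEquiv.symm_apply_eq]
        rfl
      rw [this]
      rfl
    refine ⟨(((l.liftBaseChange S) ∘ₗ g).restrictScalars B) ∘ₗ (TensorProduct.mk B S P 1), ?_⟩
    ext m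
    simp only [LinearMap.comp_apply, LinearMap.restrictScalars_apply, TensorProduct.mk_apply]
    have h1 : g ((1 : S) ⊗ₜ[B] u m) = (1 : S) ⊗ₜ[B] m := by
      have := DFunLike.congr_fun hg ((1 : S) ⊗ₜ[B] m)
      rw [LinearMap.comp_apply, LinearMap.baseChange_tmul, LinearMap.id_apply] at this
      exact this
    rw [h1, LinearMap.liftBaseChange_tmul, one_smul]

end Groth.Agent.H5.JC
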