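import Groth.Prelude.Def_Omega3
import Mathlib.Algebra.TrivSqZeroExt.Basic
import Mathlib.RingTheory.Derivation.Basic
import Mathlib.RingTheory.Ideal.Quotient.Operations

set_option autoImplicit false
universe u

namespace Groth.Agent.H5.CA

section UP

variable {A B B' : Type u} [CommRing A] [CommRing B] [CommRing B'] [Algebra A B] [Algebra A B']
  {π : B' →ₐ[A] B}

/-- a convenient reformulation of the universal property of a universal first order thickening. -/
theorem existsUnique_lift_of_isUnivThickeningRing (h : OmegaSh.IsUnivThickeningRing A B B' π)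
    {T : Type u} [CommRing T] [Algebra A T] (q : T →ₐ[A] B) (hq : Function.Surjective q)
    (hsq : ∀ x y, q x = 0 → q y = 0 → x * y = 0) :
    ∃! g : B' →ₐ[A] T, q.comp g = π := by
  have hJ : (RingHom.ker q) ^ 2 = ⊥ := by
    rw [← le_bot_iff, pow_two, Ideal.mul_le]
    intro x hx y hy
    rw [Ideal.mem_bot]
    exact hsq x y hx hy
  let e := Ideal.quotientKerAlgEquivOfSurjective hq
  have key : ∀ g : B' →ₐ[A] T,
      (Ideal.Quotient.mkₐ A (RingHom.ker q)).comp g = e.symm.toAlgHom.comp π ↔ q.comp g = π := by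
    intro g
    constructor
    · intro hg
      ext b
      have h1 := DFunLike.congr_fun hg b
      have h2 := congrArg e h1
      simpa [e] using h2
    · intro hg
      ext b
      apply e.injective
      have h1 := DFunLike.congr_fun hg b
      simpa [e] using h1
  obtain ⟨g, hg, huniq⟩ := h.2.2 T (RingHom.ker q) hJ e.symm.toAlgHom
  exact ⟨g, (key g).mp hg, fun g' hg' => huniq g' ((key g').mpr hg')⟩

/-- an endomorphism of a universal thickening over the base is the identity. -/
theorem eq_id_of_isUnivThickeningRing (h : OmegaSh.IsUnivThickeningRing A B B' π)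
    (φ : B' →ₐ[A] B') (hφ : π.comp φ = π) : φ = AlgHom.id A B' := by
  have hsq : ∀ x y : B', π x = 0 → π y = 0 → x * y = 0 := by
    intro x y hx hy
    have : x * y ∈ RingHom.ker π.toRingHom ^ 2 := by
      rw [pow_two]; exact Ideal.mul_mem_mul hx hy
    rwa [h.2.1] at this
  obtain ⟨g, -, huniq⟩ := existsUnique_lift_of_isUnivThickeningRing h π h.1 hsq
  rw [huniq φ hφ, huniq (AlgHom.id A B') (AlgHom.comp_id π)]

end UP

section Tw

variable {A : Type u} [CommRing A] (B' : Type u) [CommRing B'] [Algebra A B']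
  {N : Type u} [AddCommGroup N] [Module B' N] [Module B'ᵐᵒᵖ N] [IsCentralScalar B' N]
  [Module A N] [IsScalarTower A B' N]

/-- the ring map into the trivial square zero extension attached to a derivation. -/
def derivHom (δ : Derivation ℤ A N) : A →+* TrivSqZeroExt B' N where
  toFun a := (algebraMap A B' a, δ a)
  map_one' := by
    ext
    · simp
    · simp
  map_mul' a₁ a₂ := by
    ext
    · simp
    · simp only [TrivSqZeroExt.snd_mk, TrivSqZeroExt.snd_mul, TrivSqZeroExt.fst_mk,
        op_smul_eq_smul, Derivation.leibniz, algebraMap_smul]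
  map_zero' := by
    ext
    · simp
    · simp
  map_add' a₁ a₂ := by
    ext
    · simp
    · simp

@[simp] lemma fst_derivHom (δ : Derivation ℤ A N) (a : A) :
    (derivHom B' δ a).fst = algebraMap A B' a := rfl

@[simp] lemma snd_derivHom (δ : Derivation ℤ A N) (a : A) :
    (derivHom B' δ a).snd = δ a := rfl

/-- the trivial square zero extension with the algebra structure twisted by a derivation. -/
def Tw (_δ : Derivation ℤ A N) : Type u := TrivSqZeroExt B' N

instance (δ : Derivation ℤ A N) : CommRing (Tw B' δ) :=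
  inferInstanceAs (CommRing (TrivSqZeroExt B' N))

instance (δ : Derivation ℤ A N) : Algebra A (Tw B' δ) := (derivHom B' δ).toAlgebra

lemma algebraMap_tw (δ : Derivation ℤ A N) (a : A) :
    algebraMap A (Tw B' δ) a = derivHom B' δ a := rfl

/-- the first projection, as an algebra map. -/
def Tw.fstAlg (δ : Derivation ℤ A N) : Tw B' δ →ₐ[A] B' where
  toRingHom := (TrivSqZeroExt.fstHom B' B' N).toRingHom
  commutes' a := rfl

lemma Tw.fstAlg_apply (δ : Derivation ℤ A N) (x : Tw B' δ) :
    Tw.fstAlg B' δ x = TrivSqZeroExt.fst x := rfl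

/-- a derivation extending `δ` gives an algebra map into the twisted extension. -/
def Tw.ofDer (δ : Derivation ℤ A N) (D : Derivation ℤ B' N)
    (hD : ∀ a, D (algebraMap A B' a) = δ a) : B' →ₐ[A] Tw B' δ where
  toRingHom := derivHom (A := B') B' D
  commutes' a := by
    show derivHom (A := B') B' D (algebraMap A B' a) = derivHom B' δ a
    ext
    · rfl
    · exact hD a

lemma Tw.fst_ofDer (δ : Derivation ℤ A N) (D : Derivation ℤ B' N)
    (hD : ∀ a, D (algebraMap A B' a) = δ a) (b : B') :
    TrivSqZeroExt.fst (Tw.ofDer B' δ D hD b) = b := rfl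

lemma Tw.snd_ofDer (δ : Derivation ℤ A N) (D : Derivation ℤ B' N)
    (hD : ∀ a, D (algebraMap A B' a) = δ a) (b : B') :
    TrivSqZeroExt.snd (Tw.ofDer B' δ D hD b) = D b := rfl

end Tw

section Main

variable {A B B' : Type u} [CommRing A] [CommRing B] [CommRing B'] [Algebra A B] [Algebra A B']
  {π : B' →ₐ[A] B}
  {N : Type u} [AddCommGroup N] [Module B' N] [Module B'ᵐᵒᵖ N] [IsCentralScalar B' N]
  [Module A N] [IsScalarTower A B' N]

/-- the projection from the twisted extension to `B`. -/
def Tw.proj (π : B' →ₐ[A] B) (δ : Derivation ℤ A N) : Tw B' δ →ₐ[A] B := π.comp (Tw.fstAlg B' δ)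

lemma Tw.proj_apply (δ : Derivation ℤ A N) (x : Tw B' δ) :
    Tw.proj π δ x = π (TrivSqZeroExt.fst x) := rfl

lemma Tw.proj_surjective (hπ : Function.Surjective π) (δ : Derivation ℤ A N) :
    Function.Surjective (Tw.proj π δ) := by
  intro b
  obtain ⟨b', rfl⟩ := hπ b
  exact ⟨(TrivSqZeroExt.inl b' : TrivSqZeroExt B' N), rfl⟩

lemma Tw.proj_sq (h : OmegaSh.IsUnivThickeningRing A B B' π)
    (hN : ∀ k : B', π k = 0 → ∀ n : N, k • n = 0) (δ : Derivation ℤ A N)
    (x y : Tw B' δ) (hx : Tw.proj π δ x = 0) (hy : Tw.proj π δ y = 0) : x * y = 0 := by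
  rw [Tw.proj_apply] at hx hy
  have h1 : TrivSqZeroExt.fst x * TrivSqZeroExt.fst y = 0 := by
    have : TrivSqZeroExt.fst x * TrivSqZeroExt.fst y ∈ RingHom.ker π.toRingHom ^ 2 := by
      rw [pow_two]; exact Ideal.mul_mem_mul hx hy
    rwa [h.2.1] at this
  show (x * y : TrivSqZeroExt B' N) = 0
  refine TrivSqZeroExt.ext ?_ ?_
  · exact (TrivSqZeroExt.fst_mul (R := B') (M := N) x y).trans h1
  · refine (TrivSqZeroExt.snd_mul (R := B') (M := N) x y).trans ?_
    rw [op_smul_eq_smul, hN _ hx, hN _ hy, add_zero]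
    rfl

/-- derivations out of a universal thickening into a module killed by the kernel are determined by
their restriction to the base. -/
theorem derivation_ext_of_isUnivThickeningRing (h : OmegaSh.IsUnivThickeningRing A B B' π)
    (hN : ∀ k : B', π k = 0 → ∀ n : N, k • n = 0) (D₁ D₂ : Derivation ℤ B' N)
    (h12 : ∀ a, D₁ (algebraMap A B' a) = D₂ (algebraMap A B' a)) : D₁ = D₂ := by
  let δ : Derivation ℤ A N := D₁.compAlgebraMap A
  have hδ₁ : ∀ a, D₁ (algebraMap A B' a) = δ a := fun a => rfl
  have hδ₂ : ∀ a, D₂ (algebraMap A B' a) = δ a := fun a => (h12 a).symm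
  obtain ⟨g, -, huniq⟩ := existsUnique_lift_of_isUnivThickeningRing h (Tw.proj π δ)
    (Tw.proj_surjective h.1 δ) (Tw.proj_sq h hN δ)
  have e1 : Tw.ofDer B' δ D₁ hδ₁ = g := huniq _ (by ext b; rfl)
  have e2 : Tw.ofDer B' δ D₂ hδ₂ = g := huniq _ (by ext b; rfl)
  ext b
  have := DFunLike.congr_fun (e1.trans e2.symm) b
  exact congrArg TrivSqZeroExt.snd this

/-- derivations of the base into a module killed by the kernel extend to a universal
thickening. -/
theorem exists_derivation_extension_of_isUnivThickeningRing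
    (h : OmegaSh.IsUnivThickeningRing A B B' π)
    (hN : ∀ k : B', π k = 0 → ∀ n : N, k • n = 0) (δ : Derivation ℤ A N) :
    ∃ D : Derivation ℤ B' N, ∀ a, D (algebraMap A B' a) = δ a := by
  obtain ⟨g, hg, -⟩ := existsUnique_lift_of_isUnivThickeningRing h (Tw.proj π δ)
    (Tw.proj_surjective h.1 δ) (Tw.proj_sq h hN δ)
  have hφ : (Tw.fstAlg B' δ).comp g = AlgHom.id A B' := by
    apply eq_id_of_isUnivThickeningRing h
    rw [← AlgHom.comp_assoc]
    exact hg
  have hfst : ∀ b, TrivSqZeroExt.fst (g b) = b := fun b => DFunLike.congr_fun hφ b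
  let D₀ : B' →+ N :=
    { toFun := fun b => TrivSqZeroExt.snd (g b)
      map_zero' := by rw [map_zero]; rfl
      map_add' := fun b₁ b₂ => by rw [map_add]; rfl }
  refine ⟨Derivation.mk' D₀.toIntLinearMap ?_, ?_⟩
  · intro b₁ b₂
    show TrivSqZeroExt.snd (g (b₁ * b₂)) = b₁ • TrivSqZeroExt.snd (g b₂) +
      b₂ • TrivSqZeroExt.snd (g b₁)
    rw [map_mul]
    have := TrivSqZeroExt.snd_mul (R := B') (M := N) (g b₁) (g b₂)
    rw [op_smul_eq_smul, hfst, hfst] at this
    exact this
  · intro a
    show TrivSqZeroExt.snd (g (algebraMap A B' a)) = δ a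
    rw [g.commutes]
    rfl

end Main

end Groth.Agent.H5.CA
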