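import Mathlib
import Groth.Agent.Lib.Helper5.CA.AdicFS
import Groth.Agent.Lib.Helper5.CA.UnivThickDer

set_option autoImplicit false
universe u

open TensorProduct

namespace Groth.Agent.H5.KP

/-- lifting derivations along surjections of modules over a discrete quotient of an adically
formally smooth algebra (EGA 0_IV 20.4.9). -/
theorem exists_derivation_lift {A B : Type u} [CommRing A] [CommRing B] [Algebra A B]
    (𝔞 : Ideal A) (𝔟 : Ideal B) (hAB : ∃ k : ℕ, (𝔞 ^ k).map (algebraMap A B) ≤ 𝔟)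
    (h : EGA41.IsFormallySmoothAdic A 𝔞 B 𝔟) (𝔄 : Ideal B) (h𝔄 : ∃ n : ℕ, 𝔟 ^ n ≤ 𝔄)
    {M N : Type u} [AddCommGroup M] [AddCommGroup N] [Module (B ⧸ 𝔄) M] [Module (B ⧸ 𝔄) N]
    [Module B M] [Module B N] [IsScalarTower B (B ⧸ 𝔄) M] [IsScalarTower B (B ⧸ 𝔄) N]
    [Module A M] [Module A N] [IsScalarTower A B M] [IsScalarTower A B N]
    [IsScalarTower A (B ⧸ 𝔄) M] [IsScalarTower A (B ⧸ 𝔄) N]
    (f : M →ₗ[B ⧸ 𝔄] N) (hf : Function.Surjective f) (D : Derivation A B N) :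
    ∃ D' : Derivation A B M, ∀ b, f (D' b) = D b := by
  letI : Module (B ⧸ 𝔄)ᵐᵒᵖ M := Module.compHom _ ((RingHom.id (B ⧸ 𝔄)).fromOpposite mul_comm)
  haveI : IsCentralScalar (B ⧸ 𝔄) M := ⟨fun r m => rfl⟩
  letI : Module (B ⧸ 𝔄)ᵐᵒᵖ N := Module.compHom _ ((RingHom.id (B ⧸ 𝔄)).fromOpposite mul_comm)
  haveI : IsCentralScalar (B ⧸ 𝔄) N := ⟨fun r m => rfl⟩
  haveI : IsScalarTower A (B ⧸ 𝔄)ᵐᵒᵖ M := ⟨fun a r m => by
    show (MulOpposite.unop (a • r)) • m = a • (MulOpposite.unop r • m)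
    rw [MulOpposite.unop_smul, smul_assoc]⟩
  haveI : IsScalarTower A (B ⧸ 𝔄)ᵐᵒᵖ N := ⟨fun a r m => by
    show (MulOpposite.unop (a • r)) • m = a • (MulOpposite.unop r • m)
    rw [MulOpposite.unop_smul, smul_assoc]⟩
  let π : TrivSqZeroExt (B ⧸ 𝔄) M →ₐ[A] TrivSqZeroExt (B ⧸ 𝔄) N :=
    { (TrivSqZeroExt.map f).toRingHom with
      commutes' := fun a => by
        show TrivSqZeroExt.map f (TrivSqZeroExt.inl (algebraMap A (B ⧸ 𝔄) a)) =
          TrivSqZeroExt.inl (algebraMap A (B ⧸ 𝔄) a)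
        rw [TrivSqZeroExt.map_inl] }
  have hπ : ∀ x, π x = TrivSqZeroExt.map f x := fun x => rfl
  have hπs : Function.Surjective π := by
    intro y
    obtain ⟨m, hm⟩ := hf y.snd
    refine ⟨TrivSqZeroExt.inl y.fst + TrivSqZeroExt.inr m, ?_⟩
    rw [hπ, map_add, TrivSqZeroExt.map_inl, TrivSqZeroExt.map_inr, hm,
      TrivSqZeroExt.inl_fst_add_inr_snd_eq]
  have hK : (RingHom.ker π) ^ 2 = ⊥ := by
    rw [← le_bot_iff, pow_two, Ideal.mul_le]
    intro x hx y hy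
    rw [Ideal.mem_bot]
    have hx1 : x.fst = 0 := by
      have := congrArg TrivSqZeroExt.fst (RingHom.mem_ker.mp hx)
      rw [hπ, TrivSqZeroExt.fst_map] at this
      exact this
    have hy1 : y.fst = 0 := by
      have := congrArg TrivSqZeroExt.fst (RingHom.mem_ker.mp hy)
      rw [hπ, TrivSqZeroExt.fst_map] at this
      exact this
    refine TrivSqZeroExt.ext ?_ ?_
    · rw [TrivSqZeroExt.fst_mul, hx1, zero_mul]; rfl
    · rw [TrivSqZeroExt.snd_mul, hx1, hy1]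
      simp
  -- the test map
  let φ : B →ₐ[A] TrivSqZeroExt (B ⧸ 𝔄) N :=
    { CA.derivHom (B ⧸ 𝔄) (D.restrictScalars ℤ) with
      commutes' := fun a => by
        refine TrivSqZeroExt.ext ?_ ?_
        · rfl
        · show D (algebraMap A B a) = 0
          exact D.map_algebraMap a }
  have hφfst : ∀ b, (φ b).fst = Ideal.Quotient.mk 𝔄 b := fun b => rfl
  have hφsnd : ∀ b, (φ b).snd = D b := fun b => rfl
  let e := Ideal.quotientKerAlgEquivOfSurjective hπs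
  have he : ∀ x, e (Ideal.Quotient.mk _ x) = π x := fun x => rfl
  obtain ⟨n, hn⟩ := h𝔄
  obtain ⟨k, hk⟩ := hAB
  have hkill : ∀ a ∈ 𝔄, ∀ y : N, a • y = 0 := by
    intro a ha y
    rw [← algebraMap_smul (B ⧸ 𝔄) a y]
    have : algebraMap B (B ⧸ 𝔄) a = 0 := Ideal.Quotient.eq_zero_iff_mem.mpr ha
    rw [this, zero_smul]
  have hE : ∃ k : ℕ, (𝔞 ^ k).map (algebraMap A (TrivSqZeroExt (B ⧸ 𝔄) M)) = ⊥ := by
    refine ⟨k * n, ?_⟩
    rw [← le_bot_iff, Ideal.map_le_iff_le_comap]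
    intro a ha
    rw [Ideal.mem_comap, Ideal.mem_bot]
    have h1 : algebraMap A B a ∈ 𝔄 := by
      apply hn
      have : algebraMap A B a ∈ ((𝔞 ^ k) ^ n).map (algebraMap A B) := by
        rw [← pow_mul]; exact Ideal.mem_map_of_mem _ ha
      rw [Ideal.map_pow] at this
      exact Ideal.pow_right_mono hk n this
    show TrivSqZeroExt.inl (algebraMap A (B ⧸ 𝔄) a) = 0
    have h2 : algebraMap A (B ⧸ 𝔄) a = 0 := Ideal.Quotient.eq_zero_iff_mem.mpr h1
    rw [h2, TrivSqZeroExt.inl_zero]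
  have hφ0 : ∀ x ∈ 𝔄 ^ 2, φ x = 0 := by
    intro x hx
    refine TrivSqZeroExt.ext ?_ ?_
    · rw [hφfst, TrivSqZeroExt.fst_zero]
      exact Ideal.Quotient.eq_zero_iff_mem.mpr (Ideal.pow_le_self two_ne_zero hx)
    · rw [hφsnd, TrivSqZeroExt.snd_zero]
      rw [pow_two] at hx
      refine Submodule.mul_induction_on hx ?_ ?_
      · intro a ha b hb
        rw [D.leibniz, hkill a ha, hkill b hb, add_zero]
      · intro x y hx hy
        rw [map_add, hx, hy, add_zero]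
  let u : B →ₐ[A] TrivSqZeroExt (B ⧸ 𝔄) M ⧸ RingHom.ker π :=
    (e.symm : TrivSqZeroExt (B ⧸ 𝔄) N →ₐ[A] _).comp φ
  have hu : ∀ b, u b = e.symm (φ b) := fun b => rfl
  obtain ⟨v, hv⟩ := h (TrivSqZeroExt (B ⧸ 𝔄) M) (RingHom.ker π) ⟨2, hK⟩ hE
    u ⟨n * 2, fun x hx => by
      rw [pow_mul] at hx
      have := hφ0 x (Ideal.pow_right_mono hn 2 hx)
      rw [hu, this, map_zero]⟩
  have hπv : ∀ b, π (v b) = φ b := by
    intro b
    have h1 := DFunLike.congr_fun hv b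
    rw [AlgHom.comp_apply, hu] at h1
    have h2 := congrArg e h1
    rw [Ideal.Quotient.mkₐ_eq_mk, he] at h2
    rw [h2]
    exact e.apply_symm_apply _
  have hvfst : ∀ b, (v b).fst = Ideal.Quotient.mk 𝔄 b := by
    intro b
    rw [← hφfst, ← hπv, hπ, TrivSqZeroExt.fst_map]
  have hvsnd : ∀ b, f (v b).snd = D b := by
    intro b
    rw [← hφsnd, ← hπv, hπ, TrivSqZeroExt.snd_map]
  let D'l : B →ₗ[A] M :=
    { toFun := fun b => (v b).snd
      map_add' := fun x y => by rw [map_add, TrivSqZeroExt.snd_add]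
      map_smul' := fun a b => by
        rw [map_smul, RingHom.id_apply, TrivSqZeroExt.snd_smul] }
  refine ⟨Derivation.mk' D'l ?_, hvsnd⟩
  intro a b
  show (v (a * b)).snd = a • (v b).snd + b • (v a).snd
  rw [map_mul, TrivSqZeroExt.snd_mul, hvfst, hvfst]
  simp only [op_smul_eq_smul]
  rw [← Ideal.Quotient.algebraMap_eq, algebraMap_smul, algebraMap_smul]


/-- EGA 0_IV 20.4.9: `Ω_{B/A} ⊗ B/𝔄` is projective over `B/𝔄` for every open ideal `𝔄` of an
adically formally smooth algebra. -/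
theorem projective_kaehler_mod {A B : Type u} [CommRing A] [CommRing B] [Algebra A B]
    (𝔞 : Ideal A) (𝔟 : Ideal B) (hAB : ∃ k : ℕ, (𝔞 ^ k).map (algebraMap A B) ≤ 𝔟)
    (h : EGA41.IsFormallySmoothAdic A 𝔞 B 𝔟) (𝔄 : Ideal B) (h𝔄 : ∃ n : ℕ, 𝔟 ^ n ≤ 𝔄) :
    Module.Projective (B ⧸ 𝔄) ((B ⧸ 𝔄) ⊗[B] Ω[B⁄A]) := by
  apply Module.Projective.of_lifting_property
  intro M N _ _ _ _ f g hf
  letI : Module B M := Module.compHom M (Ideal.Quotient.mk 𝔄)
  haveI : IsScalarTower B (B ⧸ 𝔄) M := IsScalarTower.of_algebraMap_smul (fun r x => rfl)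
  letI : Module A M := Module.compHom M (algebraMap A B)
  haveI : IsScalarTower A B M := IsScalarTower.of_algebraMap_smul (fun r x => rfl)
  haveI : IsScalarTower A (B ⧸ 𝔄) M := IsScalarTower.of_algebraMap_smul (fun r x => rfl)
  letI : Module B N := Module.compHom N (Ideal.Quotient.mk 𝔄)
  haveI : IsScalarTower B (B ⧸ 𝔄) N := IsScalarTower.of_algebraMap_smul (fun r x => rfl)
  letI : Module A N := Module.compHom N (algebraMap A B)
  haveI : IsScalarTower A B N := IsScalarTower.of_algebraMap_smul (fun r x => rfl)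
  haveI : IsScalarTower A (B ⧸ 𝔄) N := IsScalarTower.of_algebraMap_smul (fun r x => rfl)
  let g₀ : Ω[B⁄A] →ₗ[B] N :=
    (g.restrictScalars B).comp (TensorProduct.mk B (B ⧸ 𝔄) (Ω[B⁄A]) 1)
  let D : Derivation A B N := g₀.compDer (KaehlerDifferential.D A B)
  obtain ⟨D', hD'⟩ := exists_derivation_lift 𝔞 𝔟 hAB h 𝔄 h𝔄 f hf D
  refine ⟨D'.liftKaehlerDifferential.liftBaseChange (B ⧸ 𝔄), ?_⟩
  have key : ∀ ω : Ω[B⁄A], f (D'.liftKaehlerDifferential ω) = g ((1 : B ⧸ 𝔄) ⊗ₜ[B] ω) := by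
    intro ω
    have hspan := KaehlerDifferential.span_range_derivation A B
    have hω : ω ∈ Submodule.span B (Set.range (KaehlerDifferential.D A B)) := by
      rw [hspan]; trivial
    induction hω using Submodule.span_induction with
    | mem x hx =>
      obtain ⟨b, rfl⟩ := hx
      rw [Derivation.liftKaehlerDifferential_comp_D, hD']
      rfl
    | zero => simp
    | add x y _ _ hx hy =>
      rw [map_add, map_add, hx, hy, TensorProduct.tmul_add, map_add]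
    | smul b x _ hx =>
      rw [map_smul, ← algebraMap_smul (B ⧸ 𝔄) b, map_smul, hx, TensorProduct.tmul_smul,
        ← algebraMap_smul (B ⧸ 𝔄) b ((1 : B ⧸ 𝔄) ⊗ₜ[B] x), map_smul]
  apply TensorProduct.AlgebraTensorModule.ext
  intro r ω
  have hr : r ⊗ₜ[B] ω = r • ((1 : B ⧸ 𝔄) ⊗ₜ[B] ω) := by
    rw [TensorProduct.smul_tmul', smul_eq_mul, mul_one]
  rw [hr, map_smul, map_smul]
  congr 1
  rw [LinearMap.comp_apply, LinearMap.liftBaseChange_one_tmul]
  exact key ω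

end Groth.Agent.H5.KP
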