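import Mathlib
import Groth.Agent.Lib.Helper5.CA.KP1
import Groth.Agent.Lib.Helper5.CA.JC1

set_option autoImplicit false
universe u

open TensorProduct

namespace Groth.Agent.H5.JC

/-- derivation lifting for `B`-modules killed by an open ideal. -/
theorem exists_derivation_lift' {A B : Type u} [CommRing A] [CommRing B] [Algebra A B]
    (𝔞 : Ideal A) (𝔟 : Ideal B) (hAB : ∃ k : ℕ, (𝔞 ^ k).map (algebraMap A B) ≤ 𝔟)
    (h : EGA41.IsFormallySmoothAdic A 𝔞 B 𝔟) (𝔄 : Ideal B) (h𝔄 : ∃ n : ℕ, 𝔟 ^ n ≤ 𝔄)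
    {M N : Type u} [AddCommGroup M] [AddCommGroup N] [Module B M] [Module B N]
    [Module A M] [Module A N] [IsScalarTower A B M] [IsScalarTower A B N]
    (hM : ∀ a ∈ 𝔄, ∀ m : M, a • m = 0) (hN : ∀ a ∈ 𝔄, ∀ m : N, a • m = 0)
    (f : M →ₗ[B] N) (hf : Function.Surjective f) (D : Derivation A B N) :
    ∃ D' : Derivation A B M, ∀ b, f (D' b) = D b := by
  have hM' : Module.IsTorsionBySet B M 𝔄 := fun x a => hM a.1 a.2 x
  have hN' : Module.IsTorsionBySet B N 𝔄 := fun x a => hN a.1 a.2 x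
  letI : Module (B ⧸ 𝔄) M := hM'.module
  letI : Module (B ⧸ 𝔄) N := hN'.module
  haveI : IsScalarTower B (B ⧸ 𝔄) M := hM'.isScalarTower
  haveI : IsScalarTower B (B ⧸ 𝔄) N := hN'.isScalarTower
  haveI : IsScalarTower A (B ⧸ 𝔄) M := hM'.isScalarTower
  haveI : IsScalarTower A (B ⧸ 𝔄) N := hN'.isScalarTower
  let f' : M →ₗ[B ⧸ 𝔄] N :=
    { f with
      map_smul' := fun r m => by
        obtain ⟨b, rfl⟩ := Ideal.Quotient.mk_surjective r
        show f (Ideal.Quotient.mk 𝔄 b • m) = Ideal.Quotient.mk 𝔄 b • f m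
        rw [← Ideal.Quotient.algebraMap_eq, algebraMap_smul, algebraMap_smul, map_smul] }
  exact KP.exists_derivation_lift 𝔞 𝔟 hAB h 𝔄 h𝔄 f' hf D

/-- the lifting property of `(B ⧸ J) ⊗ Ω` against modules killed by an open ideal containing
`J`. -/
theorem LP_kaehler {A B : Type u} [CommRing A] [CommRing B] [Algebra A B] (I J : Ideal B)
    (hB : CAlgX.IsAdicFormallySmooth A B I) (𝔖 : Ideal B) (hJ : J ≤ 𝔖)
    (hI : ∃ k : ℕ, I ^ k ≤ 𝔖) : LP ((B ⧸ J) ⊗[B] Ω[B⁄A]) 𝔖 := by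
  intro X N _ _ _ _ hX hN f hf ℓ₀
  have hB' : EGA41.IsFormallySmoothAdic A ⊥ B I := (AdicFS.isAdicFormallySmooth_iff_bot I).mp hB
  letI : Module A X := Module.compHom X (algebraMap A B)
  haveI : IsScalarTower A B X := IsScalarTower.of_algebraMap_smul (fun r x => rfl)
  letI : Module A N := Module.compHom N (algebraMap A B)
  haveI : IsScalarTower A B N := IsScalarTower.of_algebraMap_smul (fun r x => rfl)
  let g₀ : Ω[B⁄A] →ₗ[B] N := ℓ₀ ∘ₗ (TensorProduct.mk B (B ⧸ J) (Ω[B⁄A]) 1)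
  let D : Derivation A B N := g₀.compDer (KaehlerDifferential.D A B)
  obtain ⟨D', hD'⟩ := exists_derivation_lift' (⊥ : Ideal A) I
    ⟨1, by rw [pow_one, Ideal.map_bot]; exact bot_le⟩ hB' 𝔖 hI hX hN f hf D
  have hcomp : f ∘ₗ D'.liftKaehlerDifferential = g₀ := by
    apply Derivation.liftKaehlerDifferential_unique
    ext b
    show f (D'.liftKaehlerDifferential (KaehlerDifferential.D A B b)) =
      g₀ (KaehlerDifferential.D A B b)
    rw [Derivation.liftKaehlerDifferential_comp_D]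
    exact hD' b
  have hle : J ≤ LinearMap.ker ((LinearMap.lsmul B (Ω[B⁄A] →ₗ[B] X)).flip
      D'.liftKaehlerDifferential) := by
    intro b hb
    rw [LinearMap.mem_ker]
    refine LinearMap.ext fun ω => ?_
    show b • D'.liftKaehlerDifferential ω = 0
    exact hX b (hJ hb) _
  let ℓ : (B ⧸ J) ⊗[B] Ω[B⁄A] →ₗ[B] X :=
    TensorProduct.lift (Submodule.liftQ J ((LinearMap.lsmul B (Ω[B⁄A] →ₗ[B] X)).flip
      D'.liftKaehlerDifferential) hle)
  have hℓ : ∀ (b : B) (ω : Ω[B⁄A]), ℓ (Ideal.Quotient.mk J b ⊗ₜ ω) =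
      b • D'.liftKaehlerDifferential ω := fun b ω => rfl
  refine ⟨ℓ, ?_⟩
  apply TensorProduct.ext'
  intro c ω
  obtain ⟨b, rfl⟩ := Ideal.Quotient.mk_surjective c
  rw [LinearMap.comp_apply, hℓ, map_smul]
  have h1 := DFunLike.congr_fun hcomp ω
  rw [LinearMap.comp_apply] at h1
  rw [h1]
  show b • ℓ₀ ((1 : B ⧸ J) ⊗ₜ[B] ω) = _
  rw [← map_smul, TensorProduct.smul_tmul', Algebra.smul_def, mul_one]
  rfl

end Groth.Agent.H5.JC
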