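import Mathlib
import Groth.Agent.Lib.Helper5.CA.JC2

set_option autoImplicit false
universe u

open TensorProduct

namespace Groth.Agent.H5.JC

theorem sup_pow_le_sup {B : Type u} [CommRing B] (J I : Ideal B) (t : ℕ) :
    (J ⊔ I) ^ t ≤ J ⊔ I ^ t := by
  induction t with
  | zero => simp
  | succ t ih =>
    rw [pow_succ]
    refine (Ideal.mul_mono_left ih).trans ?_
    rw [Ideal.sup_mul, Ideal.mul_sup, Ideal.mul_sup]
    refine sup_le (sup_le ?_ ?_) (sup_le ?_ ?_)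
    · exact le_sup_of_le_left Ideal.mul_le_left
    · exact le_sup_of_le_left Ideal.mul_le_left
    · exact le_sup_of_le_left Ideal.mul_le_right
    · rw [← pow_succ]; exact le_sup_right

theorem adicFS_quotient_of_EP {A B : Type u} [CommRing A] [CommRing B] [Algebra A B]
    (I J : Ideal B) (hB : CAlgX.IsAdicFormallySmooth A B I) (𝔔 : Ideal B)
    (h2 : ∃ m : ℕ, 𝔔 ^ m ≤ J ⊔ I)
    (hEP : EP (KaehlerDifferential.kerCotangentToTensor A B (B ⧸ J)) 𝔔) :
    CAlgX.IsAdicFormallySmooth A (B ⧸ J) (I.map (Ideal.Quotient.mk J)) := by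
  intro E _ _ N hN ψ hψk
  obtain ⟨k, hψ⟩ := hψk
  obtain ⟨m, hm⟩ := h2
  let ψB : B →ₐ[A] E ⧸ N := ψ.comp (Ideal.Quotient.mkₐ A J)
  have hψB : ∀ x ∈ I ^ k, ψB x = 0 := fun x hx =>
    hψ _ (by rw [← Ideal.map_pow]; exact Ideal.mem_map_of_mem _ hx)
  obtain ⟨φ, hφ⟩ := hB E N hN ψB ⟨k, hψB⟩
  have hφ' : ∀ b, Ideal.Quotient.mk N (φ b) = ψ (Ideal.Quotient.mk J b) :=
    fun b => DFunLike.congr_fun hφ b
  letI : Algebra B E := φ.toRingHom.toAlgebra
  haveI : IsScalarTower A B E := IsScalarTower.of_algebraMap_eq (fun a => (φ.commutes a).symm)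
  have halg : ∀ b, algebraMap B E b = φ b := fun b => rfl
  have hmemN : ∀ x ∈ J ⊔ I ^ k, φ x ∈ N := by
    intro x hx
    obtain ⟨y, hy, z, hz, rfl⟩ := Submodule.mem_sup.mp hx
    rw [map_add]
    refine N.add_mem ?_ ?_
    · rw [← Ideal.Quotient.eq_zero_iff_mem, hφ', Ideal.Quotient.eq_zero_iff_mem.mpr hy, map_zero]
    · rw [← Ideal.Quotient.eq_zero_iff_mem, hφ']
      exact hψB z hz
  have hmul0 : ∀ x y : E, x ∈ N → y ∈ N → x * y = 0 := by
    intro x y hx hy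
    have : x * y ∈ N ^ 2 := by rw [pow_two]; exact Ideal.mul_mem_mul hx hy
    rw [hN] at this
    exact this
  have hkill : ∀ a ∈ J ⊔ I ^ k, ∀ n : N, a • n = 0 := by
    intro a ha n
    apply Subtype.ext
    show a • (n : E) = 0
    rw [Algebra.smul_def, halg]
    exact hmul0 _ _ (hmemN a ha) n.2
  have hK : RingHom.ker (algebraMap B (B ⧸ J)) = J := by
    rw [Ideal.Quotient.algebraMap_eq, Ideal.mk_ker]
  have hKJ : ∀ x ∈ RingHom.ker (algebraMap B (B ⧸ J)), x ∈ J := fun x hx => by rwa [hK] at hx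
  have hJK : ∀ x ∈ J, x ∈ RingHom.ker (algebraMap B (B ⧸ J)) := fun x hx => by rwa [hK]
  let l₀ : RingHom.ker (algebraMap B (B ⧸ J)) →ₗ[B] N :=
    { toFun := fun x => ⟨φ x.1, hmemN x.1 (Ideal.mem_sup_left (hKJ _ x.2))⟩
      map_add' := fun x y => Subtype.ext (by simp)
      map_smul' := fun b x => Subtype.ext (by
        show φ (b • x.1) = b • φ x.1
        rw [smul_eq_mul, map_mul, Algebra.smul_def, halg]) }
  have hl₀ : (RingHom.ker (algebraMap B (B ⧸ J))) •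
      (⊤ : Submodule B (RingHom.ker (algebraMap B (B ⧸ J)))) ≤ LinearMap.ker l₀ := by
    rw [Submodule.smul_le]
    intro a ha x _
    rw [LinearMap.mem_ker]
    apply Subtype.ext
    show φ (a • x.1) = 0
    rw [smul_eq_mul, map_mul]
    exact hmul0 _ _ (hmemN a (Ideal.mem_sup_left (hKJ _ ha)))
      (hmemN x.1 (Ideal.mem_sup_left (hKJ _ x.2)))
  let l : (RingHom.ker (algebraMap B (B ⧸ J))).Cotangent →ₗ[B] N := Submodule.liftQ _ l₀ hl₀
  have hEP𝔖 : EP (KaehlerDifferential.kerCotangentToTensor A B (B ⧸ J)) (J ⊔ I ^ k) := by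
    refine EP.of_nilpotent (m * k) ?_ (LP_kaehler I J hB _ le_sup_left ⟨k, le_sup_right⟩) hEP
    rw [pow_mul]
    exact (Ideal.pow_right_mono hm k).trans (sup_pow_le_sup J I k)
  obtain ⟨ℓ, hℓ⟩ := hEP𝔖 N hkill l
  let D : Derivation A B N :=
    (ℓ ∘ₗ (TensorProduct.mk B (B ⧸ J) (Ω[B⁄A]) 1)).compDer (KaehlerDifferential.D A B)
  have hD : ∀ x ∈ J, ((D x : N) : E) = φ x := by
    intro x hx
    have hxK : x ∈ RingHom.ker (algebraMap B (B ⧸ J)) := hJK x hx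
    have h1 := DFunLike.congr_fun hℓ (Ideal.toCotangent _ ⟨x, hxK⟩)
    rw [LinearMap.comp_apply, KaehlerDifferential.kerCotangentToTensor_toCotangent] at h1
    show ((ℓ ((1 : B ⧸ J) ⊗ₜ[B] KaehlerDifferential.D A B x) : N) : E) = φ x
    rw [h1]
    rfl
  let χ' : B →ₐ[A] E := liftOfDerivationToSquareZero N hN (-D)
  have hχ' : ∀ b, χ' b = -((D b : N) : E) + φ b := fun b => rfl
  let χ : B ⧸ J →ₐ[A] E := Ideal.Quotient.liftₐ J χ' (fun x hx => by
    rw [hχ', hD x hx, neg_add_cancel])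
  refine ⟨χ, ?_⟩
  ext c
  obtain ⟨b, rfl⟩ := Ideal.Quotient.mk_surjective c
  show Ideal.Quotient.mk N (χ' b) = ψ (Ideal.Quotient.mk J b)
  rw [hχ', map_add, map_neg, Ideal.Quotient.eq_zero_iff_mem.mpr (D b).2, neg_zero, zero_add, hφ']

end Groth.Agent.H5.JC
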