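import Mathlib
import Groth.Agent.Lib.Helper5.CA.JC4

set_option autoImplicit false
universe u

open TensorProduct

namespace Groth.Agent.H5.JC

section tensorLift

variable {B : Type u} [CommRing B] (J : Ideal B) {W X : Type u} [AddCommGroup W] [AddCommGroup X]
  [Module B W] [Module B X]

/-- the map `(B ⧸ J) ⊗ W → X` induced by `h : W → X` when `J` kills `X`. -/
noncomputable def tensorLift (h : W →ₗ[B] X) (hX : ∀ a ∈ J, ∀ x : X, a • x = 0) :
    (B ⧸ J) ⊗[B] W →ₗ[B] X :=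
  TensorProduct.lift (Submodule.liftQ J ((LinearMap.lsmul B (W →ₗ[B] X)).flip h) (by
    intro b hb
    rw [LinearMap.mem_ker]
    refine LinearMap.ext fun ω => ?_
    show b • h ω = 0
    exact hX b hb _))

theorem tensorLift_tmul (h : W →ₗ[B] X) (hX : ∀ a ∈ J, ∀ x : X, a • x = 0) (b : B) (w : W) :
    tensorLift J h hX (Ideal.Quotient.mk J b ⊗ₜ w) = b • h w := rfl

theorem tensorLift_one_tmul (h : W →ₗ[B] X) (hX : ∀ a ∈ J, ∀ x : X, a • x = 0) (w : W) :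
    tensorLift J h hX ((1 : B ⧸ J) ⊗ₜ w) = h w := by
  rw [← map_one (Ideal.Quotient.mk J), tensorLift_tmul, one_smul]

end tensorLift

/-- Artin–Rees in the form used below. -/
theorem exists_inf_pow_le {B : Type u} [CommRing B] [IsNoetherianRing B] (I J : Ideal B) (n : ℕ) :
    ∃ n' : ℕ, I ^ n' ⊓ J ≤ I ^ n * J := by
  obtain ⟨k, hk⟩ := Ideal.exists_pow_inf_eq_pow_smul I (M := B) J
  refine ⟨n + k, ?_⟩
  intro x hx
  have h1 : x ∈ I ^ (n + k) • (⊤ : Submodule B B) ⊓ J := by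
    refine ⟨?_, hx.2⟩
    rw [smul_eq_mul, Ideal.mul_top]
    exact hx.1
  rw [hk (n + k) (Nat.le_add_left _ _), Nat.add_sub_cancel] at h1
  exact Submodule.smul_mono le_rfl inf_le_right h1


theorem EP_of_adicFS_quotient {A B : Type u} [CommRing A] [CommRing B] [Algebra A B]
    [IsNoetherianRing B] (I J : Ideal B)
    (hC : CAlgX.IsAdicFormallySmooth A (B ⧸ J) (I.map (Ideal.Quotient.mk J))) (n : ℕ) :
    EP (KaehlerDifferential.kerCotangentToTensor A B (B ⧸ J)) (J ⊔ I ^ n) := by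
  intro N _ _ hN l
  obtain ⟨n', hn'⟩ := exists_inf_pow_le I J n
  have hK : RingHom.ker (algebraMap B (B ⧸ J)) = J := by
    rw [Ideal.Quotient.algebraMap_eq, Ideal.mk_ker]
  have hKJ : ∀ x ∈ RingHom.ker (algebraMap B (B ⧸ J)), x ∈ J := fun x hx => by rwa [hK] at hx
  have hJK : ∀ x ∈ J, x ∈ RingHom.ker (algebraMap B (B ⧸ J)) := fun x hx => by rwa [hK]
  -- the test ring
  let 𝔈 : Ideal B := J ^ 2 ⊔ I ^ n'
  let NE : Ideal (B ⧸ 𝔈) := J.map (Ideal.Quotient.mk 𝔈)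
  have hNE : NE ^ 2 = ⊥ := by
    rw [← Ideal.map_pow, ← le_bot_iff]
    refine (Ideal.map_mono (le_sup_left : J ^ 2 ≤ 𝔈)).trans ?_
    rw [Ideal.map_quotient_self]
  let ψ : B ⧸ J →ₐ[A] (B ⧸ 𝔈) ⧸ NE :=
    Ideal.Quotient.liftₐ J ((Ideal.Quotient.mkₐ A NE).comp (Ideal.Quotient.mkₐ A 𝔈)) (fun x hx => by
      show Ideal.Quotient.mk NE (Ideal.Quotient.mk 𝔈 x) = 0
      rw [Ideal.Quotient.eq_zero_iff_mem]
      exact Ideal.mem_map_of_mem _ hx)
  have hψ : ∀ b, ψ (Ideal.Quotient.mk J b) = Ideal.Quotient.mk NE (Ideal.Quotient.mk 𝔈 b) :=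
    fun b => rfl
  obtain ⟨χ, hχ⟩ := hC (B ⧸ 𝔈) NE hNE ψ ⟨n', fun c hc => by
    rw [← Ideal.map_pow] at hc
    obtain ⟨y, hy, rfl⟩ := (Ideal.mem_map_iff_of_surjective _ Ideal.Quotient.mk_surjective).mp hc
    rw [hψ, Ideal.Quotient.eq_zero_iff_mem.mpr (show y ∈ 𝔈 from Ideal.mem_sup_right hy), map_zero]⟩
  have hχ' : ∀ b, Ideal.Quotient.mk NE (χ (Ideal.Quotient.mk J b)) =
      Ideal.Quotient.mk NE (Ideal.Quotient.mk 𝔈 b) := fun b => by
    have := DFunLike.congr_fun hχ (Ideal.Quotient.mk J b)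
    rw [hψ] at this
    exact this
  let f : B →ₐ[A] B ⧸ 𝔈 := χ.comp (Ideal.Quotient.mkₐ A J)
  have hf : ∀ b, f b = χ (Ideal.Quotient.mk J b) := fun b => rfl
  have e : (Ideal.Quotient.mkₐ A NE).comp f = IsScalarTower.toAlgHom A B ((B ⧸ 𝔈) ⧸ NE) := by
    ext b
    exact hχ' b
  let D₀ : Derivation A B NE := derivationToSquareZeroOfLift NE hNE f e
  have hD₀ : ∀ b, ((D₀ b : NE) : B ⧸ 𝔈) = f b - Ideal.Quotient.mk 𝔈 b := fun b => rfl
  have hkillNE : ∀ a ∈ J, ∀ y : NE, a • y = 0 := by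
    intro a ha y
    apply Subtype.ext
    show a • (y : B ⧸ 𝔈) = 0
    rw [Algebra.smul_def]
    have : algebraMap B (B ⧸ 𝔈) a * y ∈ NE ^ 2 := by
      rw [pow_two]; exact Ideal.mul_mem_mul (Ideal.mem_map_of_mem _ ha) y.2
    rw [hNE] at this
    exact this
  -- the projection `J → NE`
  let p : RingHom.ker (algebraMap B (B ⧸ J)) →ₗ[B] NE :=
    { toFun := fun x => ⟨Ideal.Quotient.mk 𝔈 x.1, Ideal.mem_map_of_mem _ (hKJ _ x.2)⟩
      map_add' := fun x y => Subtype.ext (by simp)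
      map_smul' := fun b x => Subtype.ext (by
        show Ideal.Quotient.mk 𝔈 (b • x.1) = b • Ideal.Quotient.mk 𝔈 x.1
        rw [smul_eq_mul, map_mul, Algebra.smul_def]; rfl) }
  have hp : Function.Surjective p := by
    rintro ⟨y, hy⟩
    obtain ⟨x, hx, rfl⟩ := (Ideal.mem_map_iff_of_surjective _ Ideal.Quotient.mk_surjective).mp hy
    exact ⟨⟨x, hJK x hx⟩, rfl⟩
  let μ : RingHom.ker (algebraMap B (B ⧸ J)) →ₗ[B] N :=
    l ∘ₗ (RingHom.ker (algebraMap B (B ⧸ J))).toCotangent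
  -- `μ` kills `I ^ n * J`
  have hμ1 : ∀ z ∈ I ^ n * J, ∃ hz : z ∈ RingHom.ker (algebraMap B (B ⧸ J)), μ ⟨z, hz⟩ = 0 := by
    intro z hz
    refine Submodule.mul_induction_on hz ?_ ?_
    · intro a ha j hj
      refine ⟨hJK _ (J.mul_mem_left a hj), ?_⟩
      have : (⟨a * j, hJK _ (J.mul_mem_left a hj)⟩ : RingHom.ker (algebraMap B (B ⧸ J))) =
          a • ⟨j, hJK j hj⟩ := rfl
      rw [this, map_smul]
      exact hN a (Ideal.mem_sup_right ha) _
    · rintro x y ⟨hx, ex⟩ ⟨hy, ey⟩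
      refine ⟨add_mem hx hy, ?_⟩
      have : (⟨x + y, add_mem hx hy⟩ : RingHom.ker (algebraMap B (B ⧸ J))) =
          ⟨x, hx⟩ + ⟨y, hy⟩ := rfl
      rw [this, map_add, ex, ey, add_zero]
  have hμ2 : ∀ z ∈ J ^ 2, ∀ hz : z ∈ RingHom.ker (algebraMap B (B ⧸ J)), μ ⟨z, hz⟩ = 0 := by
    intro z hz hz'
    have : (RingHom.ker (algebraMap B (B ⧸ J))).toCotangent ⟨z, hz'⟩ = 0 := by
      rw [Ideal.toCotangent_eq_zero]
      show z ∈ (RingHom.ker (algebraMap B (B ⧸ J))) ^ 2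
      have hK2 : (RingHom.ker (algebraMap B (B ⧸ J))) ^ 2 = J ^ 2 := by rw [hK]
      rw [hK2]
      exact hz
    show l _ = 0
    rw [this, map_zero]
  have hker : LinearMap.ker p ≤ LinearMap.ker μ := by
    intro x hx
    rw [LinearMap.mem_ker] at hx ⊢
    have h1 : x.1 ∈ 𝔈 := by
      have := congrArg Subtype.val hx
      exact Ideal.Quotient.eq_zero_iff_mem.mp this
    have h2 : x.1 ∈ 𝔈 ⊓ J := ⟨h1, hKJ _ x.2⟩
    have h3 : 𝔈 ⊓ J = J ^ 2 ⊔ I ^ n' ⊓ J :=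
      sup_inf_assoc_of_le _ (Ideal.pow_le_self two_ne_zero)
    rw [h3] at h2
    obtain ⟨y, hy, z, hz, hyz⟩ := Submodule.mem_sup.mp h2
    obtain ⟨hz', ez⟩ := hμ1 z (hn' hz)
    have hy' : y ∈ RingHom.ker (algebraMap B (B ⧸ J)) := hJK _ (Ideal.pow_le_self two_ne_zero hy)
    have : x = ⟨y, hy'⟩ + ⟨z, hz'⟩ := Subtype.ext hyz.symm
    rw [this, map_add, hμ2 y hy hy', ez, add_zero]
  let lbar : NE →ₗ[B] N :=
    (LinearMap.ker p).liftQ μ hker ∘ₗ (p.quotKerEquivOfSurjective hp).symm.toLinearMap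
  have hlbar : ∀ x, lbar (p x) = μ x := by
    intro x
    have : (p.quotKerEquivOfSurjective hp).symm (p x) = Submodule.Quotient.mk x := by
      rw [LinearEquiv.symm_apply_eq]
      rfl
    show (LinearMap.ker p).liftQ μ hker ((p.quotKerEquivOfSurjective hp).symm (p x)) = μ x
    rw [this]
    rfl
  refine ⟨-(lbar ∘ₗ tensorLift J D₀.liftKaehlerDifferential hkillNE), ?_⟩
  ext c
  obtain ⟨x, rfl⟩ := Ideal.toCotangent_surjective _ c
  rw [LinearMap.comp_apply, KaehlerDifferential.kerCotangentToTensor_toCotangent,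
    LinearMap.neg_apply, LinearMap.comp_apply, tensorLift_one_tmul,
    Derivation.liftKaehlerDifferential_comp_D]
  have h1 : D₀ x.1 = -p x := by
    apply Subtype.ext
    rw [hD₀, hf]
    have : Ideal.Quotient.mk J x.1 = 0 := Ideal.Quotient.eq_zero_iff_mem.mpr (hKJ _ x.2)
    rw [this, map_zero, zero_sub]
    rfl
  rw [h1, map_neg, neg_neg, hlbar]
  rfl

end Groth.Agent.H5.JC
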