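import Mathlib
import Groth.Agent.Lib.Helper5.CA.JC3
import Groth.Agent.Lib.Helper5.CA.JC5

set_option autoImplicit false
universe u

open TensorProduct

namespace Groth.Agent.H5.JC

theorem jacobian_quotient {A B : Type u} [CommRing A]
    [CommRing B] [Algebra A B] [IsNoetherianRing B] (I J : Ideal B)
    (hB : CAlgX.IsAdicFormallySmooth A B I)
    (Q : Ideal (B ⧸ J)) (hQ : ∃ n : ℕ, (I.map (Ideal.Quotient.mk J)) ^ n ≤ Q)
    (hQ' : ∃ m : ℕ, Q ^ m ≤ I.map (Ideal.Quotient.mk J)) :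
    CAlgX.IsAdicFormallySmooth A (B ⧸ J) (I.map (Ideal.Quotient.mk J)) ↔
      ∃ g : ((B ⧸ J) ⧸ Q) ⊗[B] ((B ⧸ J) ⊗[B] Ω[B⁄A]) →ₗ[(B ⧸ J) ⧸ Q]
          ((B ⧸ J) ⧸ Q) ⊗[B] (RingHom.ker (algebraMap B (B ⧸ J))).Cotangent,
        g ∘ₗ LinearMap.baseChange ((B ⧸ J) ⧸ Q)
          (KaehlerDifferential.kerCotangentToTensor A B (B ⧸ J)) = LinearMap.id := by
  have hS : Function.Surjective (algebraMap B ((B ⧸ J) ⧸ Q)) := by
    intro y
    obtain ⟨c, rfl⟩ := Ideal.Quotient.mk_surjective y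
    obtain ⟨b, rfl⟩ := Ideal.Quotient.mk_surjective c
    exact ⟨b, rfl⟩
  have hker : RingHom.ker (algebraMap B ((B ⧸ J) ⧸ Q)) = Q.comap (Ideal.Quotient.mk J) := by
    ext x
    rw [RingHom.mem_ker, Ideal.mem_comap]
    exact Ideal.Quotient.eq_zero_iff_mem
  rw [← EP_iff_exists_leftInverse hS]
  constructor
  · intro hC
    obtain ⟨n, hn⟩ := hQ
    refine EP.mono ?_ (EP_of_adicFS_quotient I J hC n)
    rw [hker]
    refine sup_le ?_ ?_
    · intro x hx
      rw [Ideal.mem_comap, Ideal.Quotient.eq_zero_iff_mem.mpr hx]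
      exact zero_mem _
    · intro x hx
      rw [Ideal.mem_comap]
      apply hn
      rw [← Ideal.map_pow]
      exact Ideal.mem_map_of_mem _ hx
  · intro hEP
    obtain ⟨m, hm⟩ := hQ'
    refine adicFS_quotient_of_EP I J hB _ ⟨m, ?_⟩ hEP
    rw [hker]
    refine (Ideal.le_comap_pow _ m).trans ?_
    refine (Ideal.comap_mono hm).trans ?_
    rw [Ideal.comap_map_of_surjective _ Ideal.Quotient.mk_surjective, ← RingHom.ker_eq_comap_bot,
      Ideal.mk_ker, sup_comm]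

end Groth.Agent.H5.JC
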