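import Mathlib

set_option autoImplicit false
universe u

namespace Groth.Agent.H5.LI

variable {A : Type u} [CommRing A] {M N : Type u} [AddCommGroup M] [Module A M]
  [AddCommGroup N] [Module A N]

/-- an endomorphism congruent to the identity modulo a nilpotent ideal is bijective. -/
theorem bijective_of_sub_mem_of_nilpotent (ε : M →ₗ[A] M) (J : Ideal A) (hJ : IsNilpotent J)
    (h : ∀ x, x - ε x ∈ (J • ⊤ : Submodule A M)) : Function.Bijective ε := by
  obtain ⟨n, hn⟩ := hJ
  let δ : Module.End A M := 1 - ε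
  have hδ : ∀ k : ℕ, ∀ x, (δ ^ k) x ∈ (J ^ k • ⊤ : Submodule A M) := by
    intro k
    induction k with
    | zero => intro x; simp
    | succ k ih =>
      intro x
      have e1 : (δ ^ (k + 1)) x = δ ((δ ^ k) x) := by
        rw [pow_succ' δ k, Module.End.mul_apply]
      rw [e1]
      have h1 : δ ((δ ^ k) x) ∈ (J ^ k • ⊤ : Submodule A M).map δ := ⟨_, ih x, rfl⟩
      rw [Submodule.map_smul''] at h1
      have h2 : (⊤ : Submodule A M).map δ ≤ J • ⊤ := by
        rintro _ ⟨y, -, rfl⟩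
        exact h y
      have h3 := Submodule.smul_mono (le_refl (J ^ k)) h2 h1
      rwa [← Submodule.mul_smul, ← pow_succ] at h3
  have hnil : IsNilpotent δ := by
    refine ⟨n, ?_⟩
    ext x
    have := hδ n x
    rw [hn] at this
    simpa using this
  have hu : IsUnit (1 - δ) := hnil.isUnit_one_sub
  have : 1 - δ = ε := by simp [δ]
  rw [this] at hu
  exact (Module.End.isUnit_iff ε).mp hu

/-- an endomorphism of a finite module congruent to the identity modulo the radical is
bijective. -/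
theorem bijective_of_sub_mem_of_le_jacobson [Module.Finite A M] (ε : M →ₗ[A] M) (J : Ideal A)
    (hJ : J ≤ (⊥ : Ideal A).jacobson)
    (h : ∀ x, x - ε x ∈ (J • ⊤ : Submodule A M)) : Function.Bijective ε := by
  have hsurj : Function.Surjective ε := by
    rw [← LinearMap.range_eq_top, eq_top_iff]
    refine Submodule.le_of_le_smul_of_le_jacobson_bot Module.Finite.fg_top hJ ?_
    intro x _
    have : x = ε x + (x - ε x) := by abel
    rw [this]
    exact Submodule.add_mem_sup ⟨x, rfl⟩ (h x)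
  exact OrzechProperty.bijective_of_surjective_endomorphism ε hsurj

/-- EGA 0_IV 19.1.10, flexible form. -/
theorem exists_leftInverse_of_mod [Module.Projective A N] (u : M →ₗ[A] N) (J : Ideal A)
    (hJ : IsNilpotent J ∨ (J ≤ (⊥ : Ideal A).jacobson ∧ Module.Finite A M))
    {Mbar : Type u} [AddCommGroup Mbar] [Module A Mbar] (π : M →ₗ[A] Mbar)
    (hπ : Function.Surjective π) (hker : LinearMap.ker π ≤ (J • ⊤ : Submodule A M))
    (v : N →ₗ[A] Mbar) (hv : v ∘ₗ u = π) : ∃ w : N →ₗ[A] M, w ∘ₗ u = LinearMap.id := by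
  obtain ⟨w₀, hw₀⟩ := Module.projective_lifting_property π v hπ
  have h : ∀ x, x - (w₀ ∘ₗ u) x ∈ (J • ⊤ : Submodule A M) := by
    intro x
    apply hker
    rw [LinearMap.mem_ker, map_sub, LinearMap.comp_apply]
    have h1 := DFunLike.congr_fun hw₀ (u x)
    have h2 := DFunLike.congr_fun hv x
    rw [LinearMap.comp_apply] at h1 h2
    rw [h1, h2, sub_self]
  have hbij : Function.Bijective (w₀ ∘ₗ u) := by
    rcases hJ with hJ | ⟨hJ, hfin⟩
    · exact bijective_of_sub_mem_of_nilpotent _ J hJ h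
    · exact bijective_of_sub_mem_of_le_jacobson _ J hJ h
  let e := LinearEquiv.ofBijective (w₀ ∘ₗ u) hbij
  refine ⟨e.symm.toLinearMap ∘ₗ w₀, ?_⟩
  ext x
  show e.symm (w₀ (u x)) = x
  exact e.symm_apply_apply x

/-- EGA 0_IV 19.1.10. -/
theorem leftInverse_iff_mod [Module.Projective A N] (u : M →ₗ[A] N) (J : Ideal A)
    (hJ : IsNilpotent J ∨ (J ≤ (⊥ : Ideal A).jacobson ∧ Module.Finite A M)) :
    (∃ w : N →ₗ[A] M, w ∘ₗ u = LinearMap.id) ↔
      ∃ v : N →ₗ[A] M ⧸ (J • ⊤ : Submodule A M), v ∘ₗ u = (J • ⊤ : Submodule A M).mkQ := by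
  constructor
  · rintro ⟨w, hw⟩
    refine ⟨(J • ⊤ : Submodule A M).mkQ ∘ₗ w, ?_⟩
    rw [LinearMap.comp_assoc, hw, LinearMap.comp_id]
  · rintro ⟨v, hv⟩
    exact exists_leftInverse_of_mod u J hJ _ (Submodule.mkQ_surjective _)
      (by rw [Submodule.ker_mkQ]) v hv

end Groth.Agent.H5.LI
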