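import Mathlib
import Groth.Agent.Lib.Helper5.CA.LI1

set_option autoImplicit false
universe u

open TensorProduct IsLocalRing

namespace Groth.Agent.H5.LI

variable {A : Type u} [CommRing A] [IsLocalRing A] {M N : Type u} [AddCommGroup M] [Module A M]
  [AddCommGroup N] [Module A N]

/-- core of EGA 0_IV 19.1.11: a generating family whose image is independent modulo the maximal
ideal is a basis, and `u` is left invertible. -/
theorem basis_and_leftInverse_of_linearIndependent [Module.Projective A N] (u : M →ₗ[A] N)
    (m : ℕ) (x : Fin m → M) (hx : Submodule.span A (Set.range x) = ⊤)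
    (hli : LinearIndependent (ResidueField A) (fun i => (1 : ResidueField A) ⊗ₜ[A] u (x i))) :
    (∃ b : Module.Basis (Fin m) A M, ∀ i, b i = x i) ∧
      ∃ w : N →ₗ[A] M, w ∘ₗ u = LinearMap.id := by
  classical
  let φ : (Fin m → A) →ₗ[A] M := Fintype.linearCombination A x
  have hφs : Function.Surjective φ := by
    rw [← LinearMap.range_eq_top, Fintype.range_linearCombination, hx]
  have hφe : ∀ i, φ (Pi.single i 1) = x i := fun i => by
    simp [φ, Fintype.linearCombination_apply_single]
  let π : (Fin m → A) →ₗ[A] (Fin m → ResidueField A) :=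
    (Algebra.linearMap A (ResidueField A)).compLeft (Fin m)
  have hπs : Function.Surjective π := by
    intro c
    choose d hd using fun i => residue_surjective (c i)
    exact ⟨d, funext hd⟩
  have hker : LinearMap.ker π ≤ (maximalIdeal A • ⊤ : Submodule A (Fin m → A)) := by
    intro c hc
    have h1 : ∀ i, c i ∈ maximalIdeal A := by
      intro i
      have := congrFun (LinearMap.mem_ker.mp hc) i
      exact (residue_eq_zero_iff _).mp this
    have h2 : c = ∑ i, c i • (Pi.single i (1 : A) : Fin m → A) := by
      ext j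
      simp [Finset.sum_apply, Pi.single_apply]
    rw [h2]
    exact Submodule.sum_mem _ fun i _ => Submodule.smul_mem_smul (h1 i) Submodule.mem_top
  let f : (Fin m → ResidueField A) →ₗ[ResidueField A] (ResidueField A ⊗[A] N) :=
    Fintype.linearCombination (ResidueField A) (fun i => (1 : ResidueField A) ⊗ₜ[A] u (x i))
  have hf : Function.Injective f :=
    linearIndependent_iff_injective_fintypeLinearCombination.mp hli
  obtain ⟨g, hg⟩ := LinearMap.exists_leftInverse_of_injective f (LinearMap.ker_eq_bot.mpr hf)
  let v : N →ₗ[A] (Fin m → ResidueField A) :=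
    (g.restrictScalars A) ∘ₗ (TensorProduct.mk A (ResidueField A) N 1)
  have hv : v ∘ₗ (u ∘ₗ φ) = π := by
    apply LinearMap.pi_ext'
    intro i
    refine LinearMap.ext_ring ?_
    simp only [LinearMap.comp_apply, LinearMap.coe_single, hφe]
    show g ((1 : ResidueField A) ⊗ₜ[A] u (x i)) = π (Pi.single i 1)
    have h1 : f (Pi.single i 1) = (1 : ResidueField A) ⊗ₜ[A] u (x i) := by
      simp [f, Fintype.linearCombination_apply_single]
    rw [← h1]
    have h2 := DFunLike.congr_fun hg (Pi.single i 1)
    rw [LinearMap.comp_apply, LinearMap.id_apply] at h2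
    rw [h2]
    ext j
    simp [π, Pi.single_apply, apply_ite]
  have hjac : maximalIdeal A ≤ (⊥ : Ideal A).jacobson := by
    rw [IsLocalRing.jacobson_eq_maximalIdeal ⊥ bot_ne_top]
  obtain ⟨w, hw⟩ := exists_leftInverse_of_mod (u ∘ₗ φ) (maximalIdeal A)
    (Or.inr ⟨hjac, inferInstance⟩) π hπs hker v hv
  have hφi : Function.Injective φ := by
    intro a b hab
    have h1 := DFunLike.congr_fun hw a
    have h2 := DFunLike.congr_fun hw b
    simp only [LinearMap.comp_apply, LinearMap.id_apply] at h1 h2
    rw [← h1, ← h2, hab]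
  let e : (Fin m → A) ≃ₗ[A] M := LinearEquiv.ofBijective φ ⟨hφi, hφs⟩
  refine ⟨⟨Module.Basis.ofEquivFun e.symm, fun i => ?_⟩, φ ∘ₗ w, ?_⟩
  · rw [Module.Basis.coe_ofEquivFun]
    show e (Pi.single i 1) = x i
    exact hφe i
  · ext y
    obtain ⟨c, rfl⟩ := hφs y
    have h1 := DFunLike.congr_fun hw c
    simp only [LinearMap.comp_apply, LinearMap.id_apply] at h1 ⊢
    rw [h1]

/-- EGA 0_IV 19.1.11. -/
theorem local_leftInverse_iff [Module.Finite A M] [Module.Projective A N] (u : M →ₗ[A] N) :
    ((∃ w : N →ₗ[A] M, w ∘ₗ u = LinearMap.id) ↔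
      ∃ (m : ℕ) (x : Fin m → M), Submodule.span A (Set.range x) = ⊤ ∧
        LinearIndependent (ResidueField A) (fun i => (1 : ResidueField A) ⊗ₜ[A] u (x i))) ∧
    ∀ (m : ℕ) (x : Fin m → M), Submodule.span A (Set.range x) = ⊤ →
      LinearIndependent (ResidueField A) (fun i => (1 : ResidueField A) ⊗ₜ[A] u (x i)) →
        ∃ b : Module.Basis (Fin m) A M, ∀ i, b i = x i := by
  refine ⟨⟨?_, ?_⟩, fun m x hx hli => (basis_and_leftInverse_of_linearIndependent u m x hx hli).1⟩
  · rintro ⟨w, hw⟩
    let b := Module.finBasis (ResidueField A) (ResidueField A ⊗[A] M)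
    choose x hxb using fun i => TensorProduct.mk_surjective A M (ResidueField A)
      (residue_surjective (R := A)) (b i)
    refine ⟨_, x, span_eq_top_of_tmul_eq_basis x b hxb, ?_⟩
    have hinj : Function.Injective (u.baseChange (ResidueField A)) := by
      have h1 : (w.baseChange (ResidueField A)) ∘ₗ (u.baseChange (ResidueField A)) =
          LinearMap.id := by
        rw [← LinearMap.baseChange_comp, hw, LinearMap.baseChange_id]
      intro a c hac
      have ha := DFunLike.congr_fun h1 a
      have hc := DFunLike.congr_fun h1 c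
      simp only [LinearMap.comp_apply, LinearMap.id_apply] at ha hc
      rw [← ha, ← hc, hac]
    have h2 := b.linearIndependent.map' (u.baseChange (ResidueField A))
      (LinearMap.ker_eq_bot.mpr hinj)
    have h3 : (fun i => (1 : ResidueField A) ⊗ₜ[A] u (x i)) =
        (u.baseChange (ResidueField A)) ∘ b := by
      ext i
      simp only [Function.comp_apply]
      rw [← hxb i]
      simp
    rw [h3]
    exact h2
  · rintro ⟨m, x, hx, hli⟩
    exact (basis_and_leftInverse_of_linearIndependent u m x hx hli).2

end Groth.Agent.H5.LI
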