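import Mathlib
import Groth.Agent.Lib.Helper5.CA.LI2

set_option autoImplicit false
universe u

open TensorProduct

namespace Groth.Agent.H5.LI

variable {A : Type u} [CommRing A] {M N : Type u} [AddCommGroup M] [Module A M]
  [AddCommGroup N] [Module A N]

/-- extension property against modules on which `S` acts invertibly. -/
def EPS (u : M →ₗ[A] N) (S : Submonoid A) : Prop :=
  ∀ (X : Type u) [AddCommGroup X] [Module A X],
    (∀ s : S, IsUnit (algebraMap A (Module.End A X) s)) →
    ∀ l : M →ₗ[A] X, ∃ ℓ : N →ₗ[A] X, ℓ ∘ₗ u = l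

theorem EPS.mono {u : M →ₗ[A] N} {S S' : Submonoid A} (h : S ≤ S') (hu : EPS u S) : EPS u S' :=
  fun X _ _ hX l => hu X (fun s => hX ⟨s.1, h s.2⟩) l

/-- the ideal of `f` such that `f • id` factors through `u`. -/
def factorIdeal (u : M →ₗ[A] N) : Ideal A where
  carrier := {f | ∃ l : N →ₗ[A] M, l ∘ₗ u = f • LinearMap.id}
  add_mem' := by
    rintro f g ⟨l₁, h₁⟩ ⟨l₂, h₂⟩
    exact ⟨l₁ + l₂, by rw [LinearMap.add_comp, h₁, h₂, add_smul]⟩
  zero_mem' := ⟨0, by simp⟩
  smul_mem' := by
    rintro c f ⟨l, h⟩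
    exact ⟨c • l, by rw [LinearMap.smul_comp, h, smul_eq_mul, mul_smul]⟩

theorem mem_factorIdeal {u : M →ₗ[A] N} {f : A} :
    f ∈ factorIdeal u ↔ ∃ l : N →ₗ[A] M, l ∘ₗ u = f • LinearMap.id := Iff.rfl

theorem one_mem_factorIdeal_iff {u : M →ₗ[A] N} :
    (1 : A) ∈ factorIdeal u ↔ ∃ w : N →ₗ[A] M, w ∘ₗ u = LinearMap.id := by
  rw [mem_factorIdeal]
  simp only [one_smul]

theorem EPS_of_mem_factorIdeal {u : M →ₗ[A] N} {S : Submonoid A} {f : A} (hfS : f ∈ S)
    (hf : f ∈ factorIdeal u) : EPS u S := by
  obtain ⟨lam0, hlam⟩ := hf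
  intro X _ _ hX l
  obtain ⟨e, he⟩ := hX ⟨f, hfS⟩
  refine ⟨(e⁻¹ : (Module.End A X)ˣ).1 ∘ₗ l ∘ₗ lam0, ?_⟩
  ext m
  have h1 : lam0 (u m) = f • m := by
    have := DFunLike.congr_fun hlam m
    simpa using this
  simp only [LinearMap.comp_apply]
  rw [h1, map_smul]
  have h2 : f • l m = (e : Module.End A X) (l m) := by
    rw [he]; rfl
  rw [h2]
  show ((e⁻¹ : (Module.End A X)ˣ).1 * (e : Module.End A X)) (l m) = l m
  rw [Units.inv_mul]
  rfl

/-- Key characterization: for `M` finite and `N` projective, the extension property for `S` holds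
iff the factor ideal meets `S`. -/
theorem EPS_iff_exists_mem_factorIdeal [Module.Finite A M] [Module.Projective A N]
    (u : M →ₗ[A] N) (S : Submonoid A) :
    EPS u S ↔ ∃ f ∈ S, f ∈ factorIdeal u := by
  classical
  refine ⟨fun hu => ?_, fun ⟨f, hfS, hf⟩ => EPS_of_mem_factorIdeal hfS hf⟩
  obtain ⟨ℓ, hℓ⟩ := hu (LocalizedModule S M)
    (IsLocalizedModule.map_units (LocalizedModule.mkLinearMap S M)) (LocalizedModule.mkLinearMap S M)
  have hℓ' : ∀ m, ℓ (u m) = LocalizedModule.mkLinearMap S M m := fun m => DFunLike.congr_fun hℓ m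
  obtain ⟨s, hs⟩ := (Module.projective_def' (R := A) (P := N)).mp inferInstance
  have hs' : ∀ y : N, Finsupp.linearCombination A id (s y) = y := fun y => DFunLike.congr_fun hs y
  obtain ⟨G, hG⟩ := (Module.Finite.fg_top : (⊤ : Submodule A M).FG)
  let T : Finset N := G.biUnion (fun g => (s (u g)).support)
  have hsupp : ∀ m : M, s (u m) ∈ Finsupp.supported A A (T : Set N) := by
    intro m
    have hm : m ∈ Submodule.span A (G : Set M) := by rw [hG]; trivial
    induction hm using Submodule.span_induction with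
    | mem x hx =>
      rw [Finsupp.mem_supported]
      intro t ht
      exact Finset.mem_biUnion.mpr ⟨x, hx, ht⟩
    | zero => simp
    | add x y _ _ hx hy => rw [map_add, map_add]; exact Submodule.add_mem _ hx hy
    | smul a x _ hx => rw [map_smul, map_smul]; exact Submodule.smul_mem _ a hx
  obtain ⟨b, hb⟩ := IsLocalizedModule.exist_integer_multiples S
    (LocalizedModule.mkLinearMap S M) T (fun t => ℓ t)
  choose! z hz using hb
  let z' : N → M := fun t => if t ∈ T then z t else 0
  let lam1 : N →ₗ[A] M := Finsupp.linearCombination A z' ∘ₗ s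
  have key : ∀ m : M, LocalizedModule.mkLinearMap S M (lam1 (u m)) =
      (b : A) • LocalizedModule.mkLinearMap S M m := by
    intro m
    have h1 : lam1 (u m) = ∑ t ∈ T, (s (u m)) t • z' t := by
      show Finsupp.linearCombination A z' (s (u m)) = _
      rw [Finsupp.linearCombination_apply]
      exact Finsupp.sum_of_support_subset _ ((Finsupp.mem_supported A _).mp (hsupp m)) _
        (fun t _ => zero_smul A _)
    have h2 : u m = ∑ t ∈ T, (s (u m)) t • t := by
      conv_lhs => rw [← hs' (u m), Finsupp.linearCombination_apply]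
      exact Finsupp.sum_of_support_subset _ ((Finsupp.mem_supported A _).mp (hsupp m)) _
        (fun t _ => zero_smul A _)
    rw [h1, map_sum, ← hℓ' m]
    conv_rhs => rw [h2, map_sum, Finset.smul_sum]
    refine Finset.sum_congr rfl fun t ht => ?_
    rw [map_smul, map_smul, smul_comm]
    congr 1
    simp only [z', if_pos ht]
    exact hz t ht
  -- clear the torsion on generators
  have htor : ∀ m : M, ∃ c : S, (c : A) • (lam1 (u m) - (b : A) • m) = 0 := by
    intro m
    have h0 : LocalizedModule.mkLinearMap S M (lam1 (u m) - (b : A) • m) = 0 := by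
      rw [map_sub, map_smul, key, sub_self]
    obtain ⟨c, hc⟩ := (IsLocalizedModule.eq_zero_iff S (LocalizedModule.mkLinearMap S M)).mp h0
    exact ⟨c, hc⟩
  choose c hc using htor
  let cG : S := ∏ g ∈ G, c g
  have hcG : ∀ m : M, (cG : A) • (lam1 (u m) - (b : A) • m) = 0 := by
    intro m
    have hm : m ∈ Submodule.span A (G : Set M) := by rw [hG]; trivial
    induction hm using Submodule.span_induction with
    | mem x hx =>
      have : (cG : A) = (∏ g ∈ G.erase x, (c g : A)) * (c x : A) := by
        simp only [cG, Submonoid.coe_finsetProd]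
        rw [Finset.prod_erase_mul _ _ hx]
      rw [this, mul_smul, hc x, smul_zero]
    | zero => simp
    | add x y _ _ hx hy =>
      have : lam1 (u (x + y)) - (b : A) • (x + y) =
          (lam1 (u x) - (b : A) • x) + (lam1 (u y) - (b : A) • y) := by
        rw [map_add, map_add, smul_add]; abel
      rw [this, smul_add, hx, hy, add_zero]
    | smul a x _ hx =>
      have : lam1 (u (a • x)) - (b : A) • (a • x) = a • (lam1 (u x) - (b : A) • x) := by
        rw [map_smul, map_smul, smul_sub, smul_comm]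
      rw [this, smul_comm, hx, smul_zero]
  refine ⟨(cG : A) * (b : A), S.mul_mem cG.2 b.2, (cG : A) • lam1, ?_⟩
  ext m
  have := hcG m
  rw [smul_sub, sub_eq_zero] at this
  simp only [LinearMap.comp_apply, LinearMap.smul_apply, LinearMap.id_apply]
  rw [this, mul_smul]

end Groth.Agent.H5.LI
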