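import Mathlib
import Groth.Agent.Lib.Helper5.CA.LI3

set_option autoImplicit false
universe u

open TensorProduct

namespace Groth.Agent.H5.LI

variable {A : Type u} [CommRing A] {M N : Type u} [AddCommGroup M] [Module A M]
  [AddCommGroup N] [Module A N]

/-- left invertibility of the localized map, in the form of the statements. -/
def LIloc (u : M →ₗ[A] N) (S : Submonoid A) : Prop :=
  ∃ w : LocalizedModule S N →ₗ[A] LocalizedModule S M,
    w ∘ₗ (LocalizedModule.map S u).restrictScalars A = LinearMap.id

theorem LIloc_iff_EPS (u : M →ₗ[A] N) (S : Submonoid A) : LIloc u S ↔ EPS u S := by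
  constructor
  · rintro ⟨w, hw⟩ X _ _ hX l
    refine ⟨LocalizedModule.lift S l hX ∘ₗ w ∘ₗ LocalizedModule.mkLinearMap S N, ?_⟩
    ext m
    simp only [LinearMap.comp_apply]
    have h1 : (LocalizedModule.mkLinearMap S N) (u m) =
        (LocalizedModule.map S u) (LocalizedModule.mkLinearMap S M m) := by
      simp [LocalizedModule.mkLinearMap_apply]
    rw [h1]
    have h2 := DFunLike.congr_fun hw (LocalizedModule.mkLinearMap S M m)
    simp only [LinearMap.comp_apply, LinearMap.restrictScalars_apply, LinearMap.id_apply] at h2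
    rw [h2]
    exact LocalizedModule.lift_mk_one S l hX m |>.trans rfl
  · intro hu
    obtain ⟨ℓ, hℓ⟩ := hu (LocalizedModule S M)
      (IsLocalizedModule.map_units (LocalizedModule.mkLinearMap S M))
      (LocalizedModule.mkLinearMap S M)
    refine ⟨LocalizedModule.lift S ℓ
      (IsLocalizedModule.map_units (LocalizedModule.mkLinearMap S M)), ?_⟩
    apply IsLocalizedModule.ext S (LocalizedModule.mkLinearMap S M)
      (IsLocalizedModule.map_units (LocalizedModule.mkLinearMap S M))
    ext m
    simp only [LinearMap.comp_apply, LinearMap.restrictScalars_apply, LinearMap.id_apply]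
    have h1 : (LocalizedModule.map S u) (LocalizedModule.mkLinearMap S M m) =
        (LocalizedModule.mkLinearMap S N) (u m) := by
      simp [LocalizedModule.mkLinearMap_apply]
    rw [h1]
    have h2 := DFunLike.congr_fun hℓ m
    rw [LinearMap.comp_apply] at h2
    rw [← h2]
    exact LocalizedModule.lift_mk_one S ℓ _ (u m)


theorem isUnit_algebraMap_end_of_field {κ X : Type u} [Field κ] [Algebra A κ] [AddCommGroup X]
    [Module A X] [Module κ X] [IsScalarTower A κ X] (s : A) (hs : algebraMap A κ s ≠ 0) :
    IsUnit (algebraMap A (Module.End A X) s) := by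
  rw [Module.End.isUnit_iff]
  refine Function.bijective_iff_has_inverse.mpr ⟨fun x => (algebraMap A κ s)⁻¹ • x, ?_, ?_⟩
  · intro x
    show (algebraMap A κ s)⁻¹ • (s • x) = x
    rw [← algebraMap_smul κ s x, smul_smul, inv_mul_cancel₀ hs, one_smul]
  · intro x
    show s • ((algebraMap A κ s)⁻¹ • x) = x
    rw [← algebraMap_smul κ s, smul_smul, mul_inv_cancel₀ hs, one_smul]

/-- tensor-form left inverse from the extension property for vector spaces over `κ`. -/
theorem exists_baseChange_leftInverse_of_EP {κ : Type u} [Field κ] [Algebra A κ] (u : M →ₗ[A] N)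
    (hu : ∀ (X : Type u) [AddCommGroup X] [Module A X] [Module κ X] [IsScalarTower A κ X]
      (l : M →ₗ[A] X), ∃ ℓ : N →ₗ[A] X, ℓ ∘ₗ u = l) :
    ∃ g : κ ⊗[A] N →ₗ[κ] κ ⊗[A] M, g ∘ₗ u.baseChange κ = LinearMap.id := by
  obtain ⟨ℓ, hℓ⟩ := hu (κ ⊗[A] M) (TensorProduct.mk A κ M 1)
  refine ⟨ℓ.liftBaseChange κ, ?_⟩
  apply TensorProduct.AlgebraTensorModule.ext
  intro c m
  rw [LinearMap.comp_apply, LinearMap.baseChange_tmul, LinearMap.liftBaseChange_tmul,
    LinearMap.id_apply]
  have := DFunLike.congr_fun hℓ m
  rw [LinearMap.comp_apply] at this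
  rw [this, TensorProduct.mk_apply, TensorProduct.smul_tmul', smul_eq_mul, mul_one]

theorem injective_lTensor_of_leftInverse {κ : Type u} [Field κ] [Algebra A κ] (u : M →ₗ[A] N)
    (h : ∃ g : κ ⊗[A] N →ₗ[κ] κ ⊗[A] M, g ∘ₗ u.baseChange κ = LinearMap.id) :
    Function.Injective (u.lTensor κ) := by
  obtain ⟨g, hg⟩ := h
  intro a b hab
  have ha := DFunLike.congr_fun hg a
  have hb := DFunLike.congr_fun hg b
  simp only [LinearMap.comp_apply, LinearMap.id_apply] at ha hb
  have hab' : u.baseChange κ a = u.baseChange κ b := hab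
  rw [← ha, ← hb, hab']

theorem injective_lTensor_of_EPS (u : M →ₗ[A] N) (p : Ideal A) [p.IsPrime]
    (hu : EPS u p.primeCompl) : Function.Injective (u.lTensor p.ResidueField) := by
  apply injective_lTensor_of_leftInverse
  apply exists_baseChange_leftInverse_of_EP
  intro X _ _ _ _ l
  refine hu X (fun s => isUnit_algebraMap_end_of_field (κ := p.ResidueField) s.1 ?_) l
  rw [Ne, Ideal.algebraMap_residueField_eq_zero]
  exact s.2


theorem ker_mk_residueField_le {R : Type u} [CommRing R] [IsLocalRing R] (Y : Type u)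
    [AddCommGroup Y] [Module R Y] :
    LinearMap.ker (TensorProduct.mk R (IsLocalRing.ResidueField R) Y 1) ≤
      (IsLocalRing.maximalIdeal R • ⊤ : Submodule R Y) := by
  intro y hy
  rw [LinearMap.mem_ker, TensorProduct.mk_apply] at hy
  have hy' : ((1 : R ⧸ IsLocalRing.maximalIdeal R) ⊗ₜ[R] y) = 0 := hy
  have h1 : (TensorProduct.quotTensorEquivQuotSMul Y (IsLocalRing.maximalIdeal R))
      ((1 : R ⧸ IsLocalRing.maximalIdeal R) ⊗ₜ[R] y) = 0 := by
    rw [hy', map_zero]
  rw [TensorProduct.quotTensorEquivQuotSMul_mk_one_tmul] at h1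
  exact (Submodule.Quotient.mk_eq_zero _).mp h1

theorem EPS_of_injective_lTensor [Module.Finite A M] [Module.Projective A N] (u : M →ₗ[A] N)
    (p : Ideal A) [p.IsPrime] (h : Function.Injective (u.lTensor p.ResidueField)) :
    EPS u p.primeCompl := by
  rw [← LIloc_iff_EPS]
  have hinj : Function.Injective (u.baseChange p.ResidueField) := h
  obtain ⟨g, hg⟩ := LinearMap.exists_leftInverse_of_injective (u.baseChange p.ResidueField)
    (LinearMap.ker_eq_bot.mpr hinj)
  let l : M →ₗ[A] p.ResidueField ⊗[Localization.AtPrime p] LocalizedModule p.primeCompl M :=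
    ((TensorProduct.mk (Localization.AtPrime p) p.ResidueField
      (LocalizedModule p.primeCompl M) 1).restrictScalars A) ∘ₗ
        LocalizedModule.mkLinearMap p.primeCompl M
  let ℓ' : N →ₗ[A] p.ResidueField ⊗[Localization.AtPrime p] LocalizedModule p.primeCompl M :=
    ((l.liftBaseChange p.ResidueField ∘ₗ g).restrictScalars A) ∘ₗ
      TensorProduct.mk A p.ResidueField N 1
  have hℓ' : ∀ m, ℓ' (u m) = l m := by
    intro m
    show (l.liftBaseChange p.ResidueField) (g ((1 : p.ResidueField) ⊗ₜ[A] u m)) = l m
    have h1 : g ((1 : p.ResidueField) ⊗ₜ[A] u m) = (1 : p.ResidueField) ⊗ₜ[A] m := by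
      have := DFunLike.congr_fun hg ((1 : p.ResidueField) ⊗ₜ[A] m)
      rw [LinearMap.comp_apply, LinearMap.baseChange_tmul, LinearMap.id_apply] at this
      exact this
    rw [h1, LinearMap.liftBaseChange_tmul, one_smul]
  have hunits : ∀ s : p.primeCompl, IsUnit (algebraMap A (Module.End A
      (p.ResidueField ⊗[Localization.AtPrime p] LocalizedModule p.primeCompl M)) s) := by
    intro s
    refine isUnit_algebraMap_end_of_field (κ := p.ResidueField) s.1 ?_
    rw [Ne, Ideal.algebraMap_residueField_eq_zero]
    exact s.2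
  let v : LocalizedModule p.primeCompl N →ₗ[A]
      p.ResidueField ⊗[Localization.AtPrime p] LocalizedModule p.primeCompl M :=
    LocalizedModule.lift p.primeCompl ℓ' hunits
  let v' : LocalizedModule p.primeCompl N →ₗ[Localization.AtPrime p]
      p.ResidueField ⊗[Localization.AtPrime p] LocalizedModule p.primeCompl M :=
    LinearMap.extendScalarsOfIsLocalization p.primeCompl (Localization.AtPrime p) v
  have hv : v' ∘ₗ (LocalizedModule.map p.primeCompl u) =
      TensorProduct.mk (Localization.AtPrime p) p.ResidueField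
        (LocalizedModule p.primeCompl M) 1 := by
    apply LinearMap.restrictScalars_injective A
    apply IsLocalizedModule.ext p.primeCompl (LocalizedModule.mkLinearMap p.primeCompl M) hunits
    ext m
    simp only [LinearMap.comp_apply, LinearMap.restrictScalars_apply]
    have h1 : (LocalizedModule.map p.primeCompl u) (LocalizedModule.mkLinearMap p.primeCompl M m) =
        (LocalizedModule.mkLinearMap p.primeCompl N) (u m) := by
      simp [LocalizedModule.mkLinearMap_apply]
    rw [h1]
    show v ((LocalizedModule.mkLinearMap p.primeCompl N) (u m)) = l m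
    rw [← hℓ' m]
    exact LocalizedModule.lift_mk_one p.primeCompl ℓ' hunits (u m)
  haveI : Module.Finite (Localization.AtPrime p) (LocalizedModule p.primeCompl M) :=
    Module.Finite.of_isLocalizedModule p.primeCompl (LocalizedModule.mkLinearMap p.primeCompl M)
  have hjac : IsLocalRing.maximalIdeal (Localization.AtPrime p) ≤
      (⊥ : Ideal (Localization.AtPrime p)).jacobson := by
    rw [IsLocalRing.jacobson_eq_maximalIdeal ⊥ bot_ne_top]
  obtain ⟨w, hw⟩ := exists_leftInverse_of_mod (LocalizedModule.map p.primeCompl u)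
    (IsLocalRing.maximalIdeal (Localization.AtPrime p)) (Or.inr ⟨hjac, inferInstance⟩)
    (TensorProduct.mk (Localization.AtPrime p) p.ResidueField (LocalizedModule p.primeCompl M) 1)
    (TensorProduct.mk_surjective _ _ _ IsLocalRing.residue_surjective)
    (ker_mk_residueField_le _) v' hv
  refine ⟨w.restrictScalars A, ?_⟩
  ext x
  have := DFunLike.congr_fun hw x
  exact this

end Groth.Agent.H5.LI
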