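import Mathlib
import Groth.Agent.Lib.Helper5.CA.LI4

set_option autoImplicit false
universe u

open TensorProduct

namespace Groth.Agent.H5.LI

variable {A : Type u} [CommRing A] {M N : Type u} [AddCommGroup M] [Module A M]
  [AddCommGroup N] [Module A N]

theorem LIloc_iff_exists_mem_factorIdeal [Module.Finite A M] [Module.Projective A N]
    (u : M →ₗ[A] N) (S : Submonoid A) : LIloc u S ↔ ∃ f ∈ S, f ∈ factorIdeal u := by
  rw [LIloc_iff_EPS, EPS_iff_exists_mem_factorIdeal]

/-- EGA 0_IV 19.1.12. -/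
theorem localization_tfae_and_isOpen [Module.Finite A M] [Module.Projective A N]
    (u : M →ₗ[A] N) :
    (∀ p : PrimeSpectrum A,
      [∃ w : LocalizedModule p.asIdeal.primeCompl N →ₗ[A] LocalizedModule p.asIdeal.primeCompl M,
          w ∘ₗ LocalizedModule.map p.asIdeal.primeCompl u = LinearMap.id,
       Function.Injective (u.lTensor p.asIdeal.ResidueField),
       ∃ f : A, f ∉ p.asIdeal ∧
          ∃ w : LocalizedModule (Submonoid.powers f) N →ₗ[A] LocalizedModule (Submonoid.powers f) M,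
            w ∘ₗ LocalizedModule.map (Submonoid.powers f) u = LinearMap.id].TFAE) ∧
    IsOpen {p : PrimeSpectrum A |
      ∃ w : LocalizedModule p.asIdeal.primeCompl N →ₗ[A] LocalizedModule p.asIdeal.primeCompl M,
        w ∘ₗ LocalizedModule.map p.asIdeal.primeCompl u = LinearMap.id} := by
  constructor
  · intro p
    have h12 : LIloc u p.asIdeal.primeCompl → Function.Injective (u.lTensor p.asIdeal.ResidueField) :=
      fun h => injective_lTensor_of_EPS u p.asIdeal ((LIloc_iff_EPS u _).mp h)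
    have h21 : Function.Injective (u.lTensor p.asIdeal.ResidueField) → LIloc u p.asIdeal.primeCompl :=
      fun h => (LIloc_iff_EPS u _).mpr (EPS_of_injective_lTensor u p.asIdeal h)
    have h13 : LIloc u p.asIdeal.primeCompl →
        ∃ f : A, f ∉ p.asIdeal ∧ LIloc u (Submonoid.powers f) := by
      intro h
      obtain ⟨f, hfS, hf⟩ := (LIloc_iff_exists_mem_factorIdeal u _).mp h
      exact ⟨f, hfS, (LIloc_iff_exists_mem_factorIdeal u _).mpr ⟨f, Submonoid.mem_powers f, hf⟩⟩
    have h31 : (∃ f : A, f ∉ p.asIdeal ∧ LIloc u (Submonoid.powers f)) →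
        LIloc u p.asIdeal.primeCompl := by
      rintro ⟨f, hfp, h⟩
      rw [LIloc_iff_EPS] at h ⊢
      exact h.mono (Submonoid.powers_le.mpr hfp)
    tfae_have 1 → 2 := h12
    tfae_have 2 → 1 := h21
    tfae_have 1 → 3 := h13
    tfae_have 3 → 1 := h31
    tfae_finish
  · rw [isOpen_iff_forall_mem_open]
    intro p hp
    obtain ⟨f, hfS, hf⟩ := (LIloc_iff_exists_mem_factorIdeal u _).mp hp
    refine ⟨PrimeSpectrum.basicOpen f, ?_, (PrimeSpectrum.basicOpen f).2, hfS⟩
    intro q hq
    exact (LIloc_iff_exists_mem_factorIdeal u _).mpr ⟨f, hq, hf⟩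

/-- EGA 0_IV 19.1.14 (i). -/
theorem leftInverse_iff_forall_maximal [Module.Finite A M] [Module.Projective A N]
    (u : M →ₗ[A] N) :
    (∃ w : N →ₗ[A] M, w ∘ₗ u = LinearMap.id) ↔
      ∀ (m : Ideal A) [m.IsMaximal], LIloc u m.primeCompl := by
  constructor
  · intro h m _
    rw [LIloc_iff_exists_mem_factorIdeal]
    exact ⟨1, Submonoid.one_mem _, one_mem_factorIdeal_iff.mpr h⟩
  · intro h
    rw [← one_mem_factorIdeal_iff, ← Ideal.eq_top_iff_one]
    by_contra hne
    obtain ⟨m, hm, hle⟩ := Ideal.exists_le_maximal _ hne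
    obtain ⟨f, hfS, hf⟩ := (LIloc_iff_exists_mem_factorIdeal u _).mp (h m)
    exact hfS (hle hf)

end Groth.Agent.H5.LI
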