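import Mathlib
import Groth.Agent.Lib.Helper5.CA.LI5

set_option autoImplicit false
universe u

open TensorProduct

namespace Groth.Agent.H5.LI

variable {A : Type u} [CommRing A] {M N : Type u} [AddCommGroup M] [Module A M]
  [AddCommGroup N] [Module A N]

theorem injective_lTensor_of_faithfullyFlat (A' : Type u) [CommRing A'] [Algebra A A']
    [Module.FaithfullyFlat A A'] (u : M →ₗ[A] N) (P : Type u) [AddCommGroup P] [Module A P]
    (w : A' ⊗[A] N →ₗ[A'] A' ⊗[A] M) (hw : w ∘ₗ u.baseChange A' = LinearMap.id) :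
    Function.Injective (u.lTensor P) := by
  rw [← Module.FaithfullyFlat.lTensor_injective_iff_injective A A']
  have h1 : Function.Injective ((u.lTensor A').lTensor P) := by
    apply Function.LeftInverse.injective (g := (w.restrictScalars A).lTensor P)
    intro x
    rw [← LinearMap.comp_apply, ← LinearMap.lTensor_comp]
    have : (w.restrictScalars A) ∘ₗ (u.lTensor A') = LinearMap.id := by
      refine LinearMap.ext fun x => ?_
      exact congr($hw x)
    rw [this]; simp
  have h2 : (u.lTensor P).lTensor A' = (TensorProduct.leftComm A P A' N).toLinearMap ∘ₗ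
      ((u.lTensor A').lTensor P) ∘ₗ (TensorProduct.leftComm A A' P M).toLinearMap := by
    ext; simp
  rw [h2]
  simpa using h1

/-- EGA 0_IV 19.1.14. -/
theorem leftInverse_maximal_and_descent [Module.Finite A M] [Module.Projective A N]
    (u : M →ₗ[A] N) :
    ((∃ w : N →ₗ[A] M, w ∘ₗ u = LinearMap.id) ↔
      ∀ (m : Ideal A) [m.IsMaximal],
        ∃ w : LocalizedModule m.primeCompl N →ₗ[A] LocalizedModule m.primeCompl M,
          w ∘ₗ LocalizedModule.map m.primeCompl u = LinearMap.id) ∧
    ∀ (A' : Type u) [CommRing A'] [Algebra A A'] [Module.FaithfullyFlat A A'],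
      (∃ w : N →ₗ[A] M, w ∘ₗ u = LinearMap.id) ↔
        ∃ w : A' ⊗[A] N →ₗ[A'] A' ⊗[A] M, w ∘ₗ u.baseChange A' = LinearMap.id := by
  refine ⟨leftInverse_iff_forall_maximal u, ?_⟩
  intro A' _ _ _
  constructor
  · rintro ⟨w, hw⟩
    refine ⟨w.baseChange A', ?_⟩
    rw [← LinearMap.baseChange_comp, hw, LinearMap.baseChange_id]
  · rintro ⟨w, hw⟩
    rw [leftInverse_iff_forall_maximal]
    intro m _
    rw [LIloc_iff_EPS]
    exact EPS_of_injective_lTensor u m
      (injective_lTensor_of_faithfullyFlat A' u m.ResidueField w hw)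

end Groth.Agent.H5.LI
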