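import Mathlib
import Groth.Agent.Lib.Helper5.CA.JC6
import Groth.Agent.Lib.Helper5.CA.LI6

set_option autoImplicit false
universe u

open TensorProduct KaehlerDifferential

namespace Groth.Agent.H5.AJ

/-- derivation form of the extension property for the conormal map. -/
def DP (A B C : Type u) [CommRing A] [CommRing B] [CommRing C] [Algebra A B] [Algebra B C]
    (X : Type u) [AddCommGroup X] [Module B X] [Module A X] [IsScalarTower A B X] : Prop :=
  ∀ l : (RingHom.ker (algebraMap B C)).Cotangent →ₗ[B] X,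
    ∃ D : Derivation A B X, ∀ j : RingHom.ker (algebraMap B C), D j = l (Ideal.toCotangent _ j)

variable {A B C : Type u} [CommRing A] [CommRing B] [CommRing C] [Algebra A B] [Algebra B C]
  [Algebra A C] [IsScalarTower A B C]

theorem DP_of_EP (𝔖 : Ideal B) (hEP : JC.EP (kerCotangentToTensor A B C) 𝔖)
    (X : Type u) [AddCommGroup X] [Module B X] [Module A X] [IsScalarTower A B X]
    (hX : ∀ a ∈ 𝔖, ∀ x : X, a • x = 0) : DP A B C X := by
  intro l
  obtain ⟨ℓ, hℓ⟩ := hEP X hX l
  refine ⟨(ℓ ∘ₗ (TensorProduct.mk B C Ω[B⁄A] 1)).compDer (KaehlerDifferential.D A B), ?_⟩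
  intro j
  have h1 := DFunLike.congr_fun hℓ (Ideal.toCotangent _ j)
  rw [LinearMap.comp_apply, kerCotangentToTensor_toCotangent] at h1
  rw [← h1]
  rfl

theorem exists_of_DP (X : Type u) [AddCommGroup X] [Module B X] [Module A X] [IsScalarTower A B X]
    [Module C X] [IsScalarTower B C X] (h : DP A B C X)
    (l : (RingHom.ker (algebraMap B C)).Cotangent →ₗ[B] X) :
    ∃ ℓ : C ⊗[B] Ω[B⁄A] →ₗ[B] X, ℓ ∘ₗ kerCotangentToTensor A B C = l := by
  obtain ⟨D, hD⟩ := h l
  refine ⟨(LinearMap.liftBaseChange C D.liftKaehlerDifferential).restrictScalars B, ?_⟩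
  apply LinearMap.ext
  intro x
  obtain ⟨j, rfl⟩ := Ideal.toCotangent_surjective _ x
  rw [LinearMap.comp_apply, kerCotangentToTensor_toCotangent, LinearMap.restrictScalars_apply,
    LinearMap.liftBaseChange_tmul, one_smul, Derivation.liftKaehlerDifferential_comp_D, hD]

end Groth.Agent.H5.AJ
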