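import Mathlib
import Groth.Agent.Lib.Helper5.CA.AJ2

set_option autoImplicit false
universe u

open TensorProduct KaehlerDifferential

namespace Groth.Agent.H5.AJ

variable {A B C B' C' : Type u} [CommRing A] [CommRing B] [CommRing C] [CommRing B'] [CommRing C']
  [Algebra A B] [Algebra B C] [Algebra A B'] [Algebra B B'] [IsScalarTower A B B'] [Algebra B' C']

theorem isUnit_algebraMap_end_of_isLocalization (M : Submonoid B) [IsLocalization M B']
    (X : Type u) [AddCommGroup X] [Module B X] [Module B' X] [IsScalarTower B B' X] (m : M) :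
    IsUnit (algebraMap B (Module.End B X) m) := by
  rw [Module.End.isUnit_iff]
  obtain ⟨v, hv⟩ := IsLocalization.map_units B' m
  refine Function.bijective_iff_has_inverse.mpr ⟨fun x => (↑v⁻¹ : B') • x, fun x => ?_, fun x => ?_⟩
  · show (↑v⁻¹ : B') • ((m : B) • x) = x
    rw [← algebraMap_smul B' (m : B) x, ← hv, smul_smul, Units.inv_mul, one_smul]
  · show (m : B) • ((↑v⁻¹ : B') • x) = x
    rw [← algebraMap_smul B' (m : B), ← hv, smul_smul, Units.mul_inv, one_smul]

theorem DP_transfer (M : Submonoid B) [IsLocalization M B']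
    (ι : RingHom.ker (algebraMap B C) →ₗ[B] RingHom.ker (algebraMap B' C'))
    [IsLocalizedModule M ι] (hι : ∀ j, (ι j : B') = algebraMap B B' j)
    (X : Type u) [AddCommGroup X] [Module B X] [Module B' X] [IsScalarTower B B' X]
    [Module A X] [IsScalarTower A B X] [IsScalarTower A B' X]
    (hX : ∀ a ∈ RingHom.ker (algebraMap B' C'), ∀ x : X, a • x = 0)
    (h : DP A B' C' X) : DP A B C X := by
  intro l
  let l₀ : RingHom.ker (algebraMap B C) →ₗ[B] X := l ∘ₗ Ideal.toCotangent _
  have hu : ∀ m : M, IsUnit (algebraMap B (Module.End B X) m) :=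
    isUnit_algebraMap_end_of_isLocalization (B' := B') M X
  let l₁ : RingHom.ker (algebraMap B' C') →ₗ[B] X := IsLocalizedModule.lift M ι l₀ hu
  have hl₁ : ∀ j, l₁ (ι j) = l₀ j := fun j => IsLocalizedModule.lift_apply M ι l₀ hu j
  let l₁' : RingHom.ker (algebraMap B' C') →ₗ[B'] X :=
    LinearMap.extendScalarsOfIsLocalization M B' l₁
  have hker : (RingHom.ker (algebraMap B' C') • ⊤ :
      Submodule B' (RingHom.ker (algebraMap B' C'))) ≤ LinearMap.ker l₁' := by
    rw [Submodule.smul_le]
    intro a ha x _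
    rw [LinearMap.mem_ker, map_smul]
    exact hX a ha _
  let l'' : (RingHom.ker (algebraMap B' C')).Cotangent →ₗ[B'] X :=
    Submodule.liftQ _ l₁' hker
  have hl'' : ∀ y, l'' (Ideal.toCotangent _ y) = l₁ y := fun y => rfl
  obtain ⟨D', hD'⟩ := h l''
  refine ⟨D'.compAlgebraMap B, ?_⟩
  intro j
  have h1 := hD' (ι j)
  rw [hl'', hl₁, hι] at h1
  exact h1

end Groth.Agent.H5.AJ
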