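import Mathlib
import Groth.Agent.Lib.Helper5.CA.AJ3
import Groth.Agent.Lib.Helper5.CA.AJ1

set_option autoImplicit false
universe u

open TensorProduct KaehlerDifferential IsLocalRing

namespace Groth.Agent.H5.AJ

variable {A B C : Type u} [CommRing A] [CommRing B] [CommRing C] [Algebra A B] [Algebra B C]
  [Algebra A C] [IsScalarTower A B C]

/-- the local algebra map `B_{q'} → C_p`. -/
noncomputable abbrev gloc (p : Ideal C) [p.IsPrime] :
    Localization.AtPrime (p.comap (algebraMap B C)) →ₐ[A] Localization.AtPrime p :=
  Localization.localAlgHom (p.comap (algebraMap B C)) p (IsScalarTower.toAlgHom A B C) rfl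

theorem gloc_apply (p : Ideal C) [p.IsPrime]
    (x : Localization.AtPrime (p.comap (algebraMap B C))) :
    gloc (A := A) p x =
      Localization.localRingHom (p.comap (algebraMap B C)) p (algebraMap B C) rfl x := rfl

theorem map_primeCompl (hsurj : Function.Surjective (algebraMap B C)) (p : Ideal C) [p.IsPrime] :
    Submonoid.map (algebraMap B C) (p.comap (algebraMap B C)).primeCompl = p.primeCompl := by
  ext c
  constructor
  · rintro ⟨b, hb, rfl⟩
    exact hb
  · intro hc
    obtain ⟨b, rfl⟩ := hsurj c
    exact ⟨b, hc, rfl⟩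

theorem gloc_surjective (hsurj : Function.Surjective (algebraMap B C)) (p : Ideal C) [p.IsPrime] :
    Function.Surjective (gloc (A := A) (B := B) p) := by
  intro x
  obtain ⟨c, t, rfl⟩ := IsLocalization.exists_mk'_eq p.primeCompl x
  obtain ⟨b, rfl⟩ := hsurj c
  obtain ⟨s, hs⟩ := hsurj t.1
  have hs' : s ∈ (p.comap (algebraMap B C)).primeCompl := by
    show algebraMap B C s ∉ p
    rw [hs]; exact t.2
  refine ⟨IsLocalization.mk' _ b ⟨s, hs'⟩, ?_⟩
  rw [gloc_apply, Localization.localRingHom_mk']
  congr 1
  exact Subtype.ext hs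

theorem gloc_algebraMap (p : Ideal C) [p.IsPrime] (b : B) :
    gloc (A := A) p (algebraMap B (Localization.AtPrime (p.comap (algebraMap B C))) b) =
      algebraMap C (Localization.AtPrime p) (algebraMap B C b) := by
  rw [gloc_apply, Localization.localRingHom_to_map]

theorem mem_maximalIdeal_of_gloc (p : Ideal C) [p.IsPrime]
    (x : Localization.AtPrime (p.comap (algebraMap B C)))
    (hx : gloc (A := A) p x ∈ maximalIdeal (Localization.AtPrime p)) :
    x ∈ maximalIdeal (Localization.AtPrime (p.comap (algebraMap B C))) := by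
  rw [mem_maximalIdeal, mem_nonunits_iff] at hx ⊢
  exact fun h => hx (h.map _)

theorem gloc_mem_maximalIdeal (p : Ideal C) [p.IsPrime]
    (x : Localization.AtPrime (p.comap (algebraMap B C)))
    (hx : x ∈ maximalIdeal (Localization.AtPrime (p.comap (algebraMap B C)))) :
    gloc (A := A) p x ∈ maximalIdeal (Localization.AtPrime p) := by
  haveI : IsLocalHom (Localization.localRingHom (p.comap (algebraMap B C)) p
      (IsScalarTower.toAlgHom A B C).toRingHom rfl) :=
    Localization.isLocalHom_localRingHom _ _ _ _
  rw [mem_maximalIdeal, mem_nonunits_iff] at hx ⊢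
  intro h
  apply hx
  exact isUnit_of_map_unit (Localization.localRingHom (p.comap (algebraMap B C)) p
      (IsScalarTower.toAlgHom A B C).toRingHom rfl) x h

/-- the quotient presentation `B_{q'}/J' ≃ C_p`. -/
noncomputable def quotEquiv (hsurj : Function.Surjective (algebraMap B C)) (p : Ideal C)
    [p.IsPrime] :
    (Localization.AtPrime (p.comap (algebraMap B C)) ⧸ RingHom.ker (gloc (A := A) (B := B) p))
      ≃ₐ[A] Localization.AtPrime p :=
  Ideal.quotientKerAlgEquivOfSurjective (gloc_surjective hsurj p)

theorem isAdicFormallySmooth_quotient (hsurj : Function.Surjective (algebraMap B C)) (p : Ideal C)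
    [p.IsPrime]
    (h : CAlgX.IsAdicFormallySmooth A (Localization.AtPrime p)
      (maximalIdeal (Localization.AtPrime p))) :
    CAlgX.IsAdicFormallySmooth A
      (Localization.AtPrime (p.comap (algebraMap B C)) ⧸ RingHom.ker (gloc (A := A) (B := B) p))
      ((maximalIdeal (Localization.AtPrime (p.comap (algebraMap B C)))).map
        (Ideal.Quotient.mk (RingHom.ker (gloc (A := A) (B := B) p)))) := by
  refine isAdicFormallySmooth_of_equiv (quotEquiv (A := A) hsurj p).symm _ _ ?_ h
  intro x hx
  obtain ⟨y, rfl⟩ := gloc_surjective (A := A) hsurj p x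
  have : (quotEquiv (A := A) hsurj p).symm (gloc (A := A) p y) = Ideal.Quotient.mk _ y :=
    Ideal.quotientKerAlgEquivOfSurjective_symm_apply _ y
  rw [this]
  exact Ideal.mem_map_of_mem _ (mem_maximalIdeal_of_gloc p y hx)

end Groth.Agent.H5.AJ
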