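import Mathlib
import Groth.Agent.Lib.Helper5.CA.AJ4

set_option autoImplicit false
universe u

open TensorProduct KaehlerDifferential IsLocalRing

namespace Groth.Agent.H5.AJ

variable {A B C : Type u} [CommRing A] [CommRing B] [CommRing C] [Algebra A B] [Algebra B C]
  [Algebra A C] [IsScalarTower A B C]

theorem le_comap_primeCompl (p : Ideal C) [p.IsPrime] :
    (p.comap (algebraMap B C)).primeCompl ≤ Submonoid.comap (algebraMap B C) p.primeCompl :=
  fun _ hb => hb

theorem ker_map_eq (p : Ideal C) [p.IsPrime] :
    RingHom.ker (IsLocalization.map (Localization.AtPrime p) (algebraMap B C)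
      (le_comap_primeCompl p) :
        Localization.AtPrime (p.comap (algebraMap B C)) →+* Localization.AtPrime p) =
    RingHom.ker (algebraMap (Localization.AtPrime (p.comap (algebraMap B C)))
      (Localization.AtPrime (p.comap (algebraMap B C)) ⧸ RingHom.ker (gloc (A := A) (B := B) p))) := by
  rw [Ideal.Quotient.algebraMap_eq, Ideal.mk_ker]
  ext x
  rw [RingHom.mem_ker, RingHom.mem_ker]
  rfl

/-- the localisation map on kernels. -/
noncomputable def iota (p : Ideal C) [p.IsPrime] :
    RingHom.ker (algebraMap B C) →ₗ[B]
      RingHom.ker (algebraMap (Localization.AtPrime (p.comap (algebraMap B C)))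
      (Localization.AtPrime (p.comap (algebraMap B C)) ⧸ RingHom.ker (gloc (A := A) (B := B) p))) :=
  ((LinearEquiv.ofEq _ _ (ker_map_eq (A := A) p)).restrictScalars B).toLinearMap ∘ₗ
    RingHom.toKerIsLocalization (Localization.AtPrime (p.comap (algebraMap B C)))
      (Localization.AtPrime p) (algebraMap B C) (le_comap_primeCompl p)

theorem iota_coe (p : Ideal C) [p.IsPrime] (j : RingHom.ker (algebraMap B C)) :
    ((iota (A := A) p j : _) : Localization.AtPrime (p.comap (algebraMap B C))) =
      algebraMap B _ (j : B) := rfl

theorem iota_isLocalizedModule (hsurj : Function.Surjective (algebraMap B C)) (p : Ideal C)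
    [p.IsPrime] :
    IsLocalizedModule (p.comap (algebraMap B C)).primeCompl (iota (A := A) p) := by
  haveI := RingHom.toKerIsLocalization_isLocalizedModule
    (S := Localization.AtPrime (p.comap (algebraMap B C)))
    (Localization.AtPrime p) (algebraMap B C) (map_primeCompl hsurj p)
  exact IsLocalizedModule.of_linearEquiv _ _ _

end Groth.Agent.H5.AJ
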