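import Mathlib
import Groth.Agent.Lib.Helper5.CA.AJ5

set_option autoImplicit false
universe u

open TensorProduct KaehlerDifferential IsLocalRing

namespace Groth.Agent.H5.AJ

variable {A B C : Type u} [CommRing A] [CommRing B] [CommRing C] [Algebra A B] [Algebra B C]
  [Algebra A C] [IsScalarTower A B C]

theorem ker_gloc_le (p : Ideal C) [p.IsPrime] :
    RingHom.ker (gloc (A := A) (B := B) p) ≤
      maximalIdeal (Localization.AtPrime (p.comap (algebraMap B C))) := by
  intro x hx
  apply mem_maximalIdeal_of_gloc (A := A) p x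
  rw [RingHom.mem_ker] at hx
  rw [hx]
  exact zero_mem _

theorem exists_ext_of_adic [IsNoetherianRing B] (hsurj : Function.Surjective (algebraMap B C))
    (p : Ideal C) [p.IsPrime]
    (h : CAlgX.IsAdicFormallySmooth A (Localization.AtPrime p)
      (maximalIdeal (Localization.AtPrime p)))
    (X : Type u) [AddCommGroup X] [Module B X] [Module A X] [IsScalarTower A B X]
    [Module C X] [IsScalarTower B C X]
    [Module (Localization.AtPrime (p.comap (algebraMap B C))) X]
    [IsScalarTower B (Localization.AtPrime (p.comap (algebraMap B C))) X]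
    [IsScalarTower A (Localization.AtPrime (p.comap (algebraMap B C))) X]
    (hX : ∀ a ∈ maximalIdeal (Localization.AtPrime (p.comap (algebraMap B C))), ∀ x : X, a • x = 0)
    (l : (RingHom.ker (algebraMap B C)).Cotangent →ₗ[B] X) :
    ∃ ℓ : C ⊗[B] Ω[B⁄A] →ₗ[B] X, ℓ ∘ₗ kerCotangentToTensor A B C = l := by
  have hEP := JC.EP_of_adicFS_quotient
    (maximalIdeal (Localization.AtPrime (p.comap (algebraMap B C))))
    (RingHom.ker (gloc (A := A) (B := B) p)) (isAdicFormallySmooth_quotient hsurj p h) 1
  have hle : RingHom.ker (gloc (A := A) (B := B) p) ⊔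
      maximalIdeal (Localization.AtPrime (p.comap (algebraMap B C))) ^ 1 ≤
      maximalIdeal (Localization.AtPrime (p.comap (algebraMap B C))) := by
    rw [pow_one]
    exact sup_le (ker_gloc_le p) le_rfl
  have hDP' : DP A (Localization.AtPrime (p.comap (algebraMap B C)))
      (Localization.AtPrime (p.comap (algebraMap B C)) ⧸ RingHom.ker (gloc (A := A) (B := B) p)) X :=
    DP_of_EP _ hEP X (fun a ha x => hX a (hle ha) x)
  haveI := iota_isLocalizedModule (A := A) hsurj p
  have hDP : DP A B C X := by
    refine DP_transfer (p.comap (algebraMap B C)).primeCompl (iota (A := A) p)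
      (iota_coe (A := A) p) X (fun a ha x => hX a ?_ x) hDP'
    rw [Ideal.Quotient.algebraMap_eq, Ideal.mk_ker] at ha
    exact ker_gloc_le p ha
  exact exists_of_DP X hDP l

end Groth.Agent.H5.AJ
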