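import Mathlib
import Groth.Agent.Lib.Helper5.CA.LI6

set_option autoImplicit false
universe u

open TensorProduct

namespace Groth.Agent.H5.FSL

open Groth.Agent.H5.LI

variable {R : Type u} [CommRing R] (S : Submonoid R)
  {M N Q : Type u} [AddCommGroup M] [Module R M] [AddCommGroup N] [Module R N]
  [AddCommGroup Q] [Module R Q]

theorem LIloc_iff_exists_localization_linear (u : M →ₗ[R] N) :
    LIloc u S ↔ ∃ w : LocalizedModule S N →ₗ[Localization S] LocalizedModule S M,
      w ∘ₗ LocalizedModule.map S u = LinearMap.id := by
  constructor
  · rintro ⟨w, hw⟩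
    refine ⟨LinearMap.extendScalarsOfIsLocalization S (Localization S) w, ?_⟩
    ext x
    exact DFunLike.congr_fun hw x
  · rintro ⟨w, hw⟩
    refine ⟨w.restrictScalars R, ?_⟩
    ext x
    exact DFunLike.congr_fun hw x

theorem injective_map_iff_subsingleton_ker (u : M →ₗ[R] N) :
    Function.Injective (LocalizedModule.map S u) ↔
      Subsingleton (LocalizedModule S (LinearMap.ker u)) := by
  have hex : Function.Exact (LocalizedModule.map S (LinearMap.ker u).subtype)
      (LocalizedModule.map S u) :=
    LocalizedModule.map_exact S _ _ (LinearMap.exact_subtype_ker_map u)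
  have hinj : Function.Injective (LocalizedModule.map S (LinearMap.ker u).subtype) :=
    LocalizedModule.map_injective S _ (Submodule.subtype_injective _)
  constructor
  · intro h
    refine ⟨fun x y => ?_⟩
    apply hinj
    apply h
    rw [(hex _).mpr ⟨x, rfl⟩, (hex _).mpr ⟨y, rfl⟩]
  · intro h
    rw [injective_iff_map_eq_zero]
    intro x hx
    obtain ⟨y, rfl⟩ := (hex x).mp hx
    rw [Subsingleton.elim y 0, map_zero]

theorem LIloc_iff_of_exact [Module.Projective R N] (u : M →ₗ[R] N) (π : N →ₗ[R] Q)
    (hex : Function.Exact u π) (hπ : Function.Surjective π) :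
    LIloc u S ↔ Subsingleton (LocalizedModule S (LinearMap.ker u)) ∧
      Module.Projective (Localization S) (LocalizedModule S Q) := by
  have hexS : Function.Exact (LocalizedModule.map S u) (LocalizedModule.map S π) :=
    LocalizedModule.map_exact S _ _ hex
  have hπS : Function.Surjective (LocalizedModule.map S π) :=
    LocalizedModule.map_surjective S _ hπ
  rw [LIloc_iff_exists_localization_linear, ← injective_map_iff_subsingleton_ker,
    Module.Projective.iff_split_of_projective (LocalizedModule.map S π) hπS]
  have := (hexS.split_tfae' (f := LocalizedModule.map S u) (g := LocalizedModule.map S π)).out 0 1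
  rw [this, and_iff_right hπS]

end Groth.Agent.H5.FSL
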