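import Mathlib
import Groth.Agent.Lib.Helper5.CA.FSL1

set_option autoImplicit false
universe u

open TensorProduct

namespace Groth.Agent.H5.FSL

open Groth.Agent.H5.LI

variable {A B C : Type u} [CommRing A] [CommRing B] [CommRing C] [Algebra A B] [Algebra B C]
  [Algebra A C] [IsScalarTower A B C]

/-- the extension of `C` given by a surjection `B → C`. -/
noncomputable abbrev ext (hsurj : Function.Surjective (algebraMap B C)) : Algebra.Extension.{u} A C :=
  ⟨B, Function.surjInv hsurj, Function.surjInv_eq hsurj⟩

theorem subsingleton_localizedModule_congr {R : Type u} [CommRing R] (S : Submonoid R)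
    {K H : Type u} [AddCommGroup K] [Module R K] [AddCommGroup H] [Module R H] (e : K ≃ₗ[R] H) :
    Subsingleton (LocalizedModule S K) ↔ Subsingleton (LocalizedModule S H) := by
  rw [LocalizedModule.subsingleton_iff, LocalizedModule.subsingleton_iff]
  constructor
  · intro h m
    obtain ⟨r, hr, h0⟩ := h (e.symm m)
    refine ⟨r, hr, ?_⟩
    have := congrArg e h0
    simpa using this
  · intro h m
    obtain ⟨r, hr, h0⟩ := h (e m)
    refine ⟨r, hr, ?_⟩
    apply e.injective
    simpa using h0

instance (hsurj : Function.Surjective (algebraMap B C)) [Algebra.FormallySmooth A B] :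
    Algebra.FormallySmooth A (ext (A := A) hsurj).Ring :=
  inferInstanceAs (Algebra.FormallySmooth A B)

theorem formallySmooth_localization_iff (hsurj : Function.Surjective (algebraMap B C))
    [Algebra.FormallySmooth A B] (S : Submonoid C) :
    Algebra.FormallySmooth A (Localization S) ↔
      LIloc (ext (A := A) hsurj).cotangentComplex S := by
  haveI : Module.Projective C (ext (A := A) hsurj).CotangentSpace :=
    inferInstanceAs (Module.Projective C (C ⊗[B] Ω[B⁄A]))
  rw [Algebra.formallySmooth_iff,
    LIloc_iff_of_exact S _ (ext (A := A) hsurj).toKaehler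
      (ext (A := A) hsurj).exact_cotangentComplex_toKaehler
      (ext (A := A) hsurj).toKaehler_surjective, and_comm]
  apply and_congr
  · rw [← (IsLocalizedModule.iso S
      (Algebra.H1Cotangent.map A A C (Localization S))).subsingleton_congr]
    exact (subsingleton_localizedModule_congr S
      ((ext (A := A) hsurj).equivH1CotangentOfFormallySmooth)).symm
  · have e1 := IsLocalizedModule.iso S (KaehlerDifferential.map A A C (Localization S))
    have e2 := e1.extendScalarsOfIsLocalization S (Localization S)
    exact ⟨fun H ↦ H.of_equiv' e2.symm, fun H ↦ H.of_equiv' e2⟩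

end Groth.Agent.H5.FSL
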