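import Mathlib
import Groth.Agent.Lib.Helper5.CA.FSL2

set_option autoImplicit false
universe u

open TensorProduct KaehlerDifferential

namespace Groth.Agent.H5.FSL

open Groth.Agent.H5.LI

section general

variable {B C : Type u} [CommRing B] [CommRing C] [Algebra B C]

theorem compatibleSMul_of_surjective (hsurj : Function.Surjective (algebraMap B C))
    (M N : Type u) [AddCommGroup M] [AddCommGroup N] [Module B M] [Module C M]
    [IsScalarTower B C M] [Module B N] [Module C N] [IsScalarTower B C N] :
    TensorProduct.CompatibleSMul B C M N :=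
  ⟨fun c m n => by
    obtain ⟨b, rfl⟩ := hsurj c
    rw [algebraMap_smul, algebraMap_smul, TensorProduct.smul_tmul]⟩

theorem injective_lTensor_iff (hsurj : Function.Surjective (algebraMap B C))
    (κ M₁ M₂ N : Type u) [AddCommGroup κ] [AddCommGroup M₁] [AddCommGroup M₂] [AddCommGroup N]
    [Module B κ] [Module C κ] [IsScalarTower B C κ]
    [Module B M₁] [Module B M₂] [Module C M₂] [IsScalarTower B C M₂]
    [Module B N] [Module C N] [IsScalarTower B C N]
    (e : M₁ ≃ₗ[B] M₂) (u₁ : M₁ →ₗ[B] N) (u₂ : M₂ →ₗ[C] N) (h : ∀ x, u₂ (e x) = u₁ x) :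
    Function.Injective (u₁.lTensor κ) ↔ Function.Injective (u₂.lTensor κ) := by
  haveI := compatibleSMul_of_surjective hsurj κ M₂
  haveI := compatibleSMul_of_surjective hsurj κ N
  let ΦM : κ ⊗[B] M₁ ≃ₗ[B] κ ⊗[C] M₂ :=
    (LinearEquiv.lTensor κ e).trans (TensorProduct.equivOfCompatibleSMul B C B κ M₂).symm
  let ΦN : κ ⊗[B] N ≃ₗ[B] κ ⊗[C] N := (TensorProduct.equivOfCompatibleSMul B C B κ N).symm
  have hcomm : ∀ x, u₂.lTensor κ (ΦM x) = ΦN (u₁.lTensor κ x) := by
    intro x
    induction x using TensorProduct.induction_on with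
    | zero => simp
    | tmul a m =>
      show u₂.lTensor κ ((TensorProduct.equivOfCompatibleSMul B C B κ M₂).symm (a ⊗ₜ e m)) =
        (TensorProduct.equivOfCompatibleSMul B C B κ N).symm (a ⊗ₜ u₁ m)
      have h1 : (TensorProduct.equivOfCompatibleSMul B C B κ M₂).symm (a ⊗ₜ[B] e m) =
          a ⊗ₜ[C] e m := rfl
      have h2 : (TensorProduct.equivOfCompatibleSMul B C B κ N).symm (a ⊗ₜ[B] u₁ m) =
          a ⊗ₜ[C] u₁ m := rfl
      rw [h1, h2, LinearMap.lTensor_tmul, h]
    | add x y hx hy => simp only [map_add, hx, hy]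
  constructor
  · intro hinj x y hxy
    obtain ⟨x, rfl⟩ := ΦM.surjective x
    obtain ⟨y, rfl⟩ := ΦM.surjective y
    rw [hcomm, hcomm] at hxy
    rw [hinj (ΦN.injective hxy)]
  · intro hinj x y hxy
    apply ΦM.injective
    apply hinj
    rw [hcomm, hcomm, hxy]

end general

variable {A B C : Type u} [CommRing A] [CommRing B] [CommRing C] [Algebra A B] [Algebra B C]
  [Algebra A C] [IsScalarTower A B C]

/-- the `B`-linear identification of `J/J²` with the `Extension.Cotangent`. -/
noncomputable def cotEquiv (hsurj : Function.Surjective (algebraMap B C)) :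
    (RingHom.ker (algebraMap B C)).Cotangent ≃ₗ[B] (ext (A := A) hsurj).Cotangent :=
  (ext (A := A) hsurj).cotangentEquivCotangentKer.symm

theorem cotangentComplex_cotEquiv (hsurj : Function.Surjective (algebraMap B C))
    (x : (RingHom.ker (algebraMap B C)).Cotangent) :
    (ext (A := A) hsurj).cotangentComplex (cotEquiv (A := A) hsurj x) =
      kerCotangentToTensor A B C x := rfl

instance finite_cotangent (hsurj : Function.Surjective (algebraMap B C))
    [Module.Finite B (RingHom.ker (algebraMap B C)).Cotangent] :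
    Module.Finite C (ext (A := A) hsurj).Cotangent := by
  haveI : Module.Finite B (ext (A := A) hsurj).Cotangent :=
    Module.Finite.equiv (cotEquiv (A := A) hsurj)
  exact Module.Finite.of_restrictScalars_finite B C _

instance projective_cotangentSpace (hsurj : Function.Surjective (algebraMap B C))
    [Algebra.FormallySmooth A B] : Module.Projective C (ext (A := A) hsurj).CotangentSpace :=
  inferInstanceAs (Module.Projective C (C ⊗[B] Ω[B⁄A]))

end Groth.Agent.H5.FSL
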