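import Mathlib
import Groth.Agent.Lib.Helper5.CA.FSL3

set_option autoImplicit false
universe u

open TensorProduct KaehlerDifferential

namespace Groth.Agent.H5.FSL

open Groth.Agent.H5.LI

variable {A B C : Type u} [CommRing A] [CommRing B] [CommRing C] [Algebra A B] [Algebra B C]
  [Algebra A C] [IsScalarTower A B C]

theorem injective_lTensor_residueField_iff (hsurj : Function.Surjective (algebraMap B C))
    (p : Ideal C) [p.IsPrime] :
    Function.Injective ((kerCotangentToTensor A B C).lTensor p.ResidueField) ↔
      Function.Injective ((ext (A := A) hsurj).cotangentComplex.lTensor p.ResidueField) :=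
  injective_lTensor_iff hsurj p.ResidueField _ _ _ (cotEquiv (A := A) hsurj)
    (kerCotangentToTensor A B C) (ext (A := A) hsurj).cotangentComplex
    (cotangentComplex_cotEquiv hsurj)

/-- EGA 0_IV 22.6.4-ish: pointwise formal smoothness criterion. -/
theorem formallySmooth_atPrime_tfae [Algebra.FormallySmooth A B]
    (hsurj : Function.Surjective (algebraMap B C))
    [Module.Finite B (RingHom.ker (algebraMap B C)).Cotangent] (p : Ideal C) [p.IsPrime] :
    [Algebra.FormallySmooth A (Localization.AtPrime p),
     Function.Injective ((kerCotangentToTensor A B C).lTensor p.ResidueField),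
     ∃ f : C, f ∉ p ∧ Algebra.FormallySmooth A (Localization.Away f)].TFAE := by
  have h := (localization_tfae_and_isOpen (ext (A := A) hsurj).cotangentComplex).1 ⟨p, inferInstance⟩
  have e1 : Algebra.FormallySmooth A (Localization.AtPrime p) ↔
      LIloc (ext (A := A) hsurj).cotangentComplex p.primeCompl :=
    formallySmooth_localization_iff hsurj p.primeCompl
  have e3 : (∃ f : C, f ∉ p ∧ Algebra.FormallySmooth A (Localization.Away f)) ↔
      ∃ f : C, f ∉ p ∧ LIloc (ext (A := A) hsurj).cotangentComplex (Submonoid.powers f) :=
    exists_congr fun f => and_congr Iff.rfl (formallySmooth_localization_iff hsurj _)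
  rw [e1, e3, injective_lTensor_residueField_iff hsurj p]
  exact h

theorem isOpen_formallySmooth_locus [Algebra.FormallySmooth A B]
    (hsurj : Function.Surjective (algebraMap B C))
    [Module.Finite B (RingHom.ker (algebraMap B C)).Cotangent] :
    IsOpen {p : PrimeSpectrum C | Algebra.FormallySmooth A (Localization.AtPrime p.asIdeal)} := by
  have h := (localization_tfae_and_isOpen (ext (A := A) hsurj).cotangentComplex).2
  convert h using 2
  ext p
  exact formallySmooth_localization_iff hsurj p.asIdeal.primeCompl

theorem formallySmooth_iff_forall_maximal [Algebra.FormallySmooth A B]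
    (hsurj : Function.Surjective (algebraMap B C))
    [Module.Finite B (RingHom.ker (algebraMap B C)).Cotangent] :
    Algebra.FormallySmooth A C ↔
      ∀ (m : Ideal C) [m.IsMaximal], Algebra.FormallySmooth A (Localization.AtPrime m) := by
  rw [(ext (A := A) hsurj).formallySmooth_iff_split_injection, leftInverse_iff_forall_maximal]
  refine forall_congr' fun m => ?_
  constructor
  · intro h _
    exact (formallySmooth_localization_iff hsurj m.primeCompl).mpr h
  · intro h _
    exact (formallySmooth_localization_iff hsurj m.primeCompl).mp h

end Groth.Agent.H5.FSL
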