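import Mathlib
import Groth.Agent.Lib.Helper5.CA.AJ6
import Groth.Agent.Lib.Helper5.CA.FSL4
import Groth.Agent.Lib.Helper5.CA.AdicFS

set_option autoImplicit false
universe u

open TensorProduct KaehlerDifferential IsLocalRing

namespace Groth.Agent.H5.AJ

variable {A B C : Type u} [CommRing A] [CommRing B] [CommRing C] [Algebra A B] [Algebra B C]
  [Algebra A C] [IsScalarTower A B C]

theorem injective_of_isAdicFormallySmooth [IsNoetherianRing B]
    (hsurj : Function.Surjective (algebraMap B C)) (p : Ideal C) [p.IsPrime]
    (h : CAlgX.IsAdicFormallySmooth A (Localization.AtPrime p)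
      (maximalIdeal (Localization.AtPrime p))) :
    Function.Injective ((kerCotangentToTensor A B C).lTensor p.ResidueField) := by
  apply LI.injective_lTensor_of_leftInverse
  apply LI.exists_baseChange_leftInverse_of_EP
  intro X _ _ _ _ l
  letI : Module A X := Module.compHom X (algebraMap A B)
  haveI : IsScalarTower A B X := ⟨fun a b x => by
    show (a • b) • x = algebraMap A B a • (b • x)
    rw [Algebra.smul_def, mul_smul]⟩
  letI : Module C X := Module.compHom X (algebraMap C p.ResidueField)
  haveI : IsScalarTower B C X := ⟨fun b c x => by
    show algebraMap C p.ResidueField (b • c) • x = b • (algebraMap C p.ResidueField c • x)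
    rw [Algebra.smul_def, map_mul, mul_smul, ← IsScalarTower.algebraMap_apply, algebraMap_smul]⟩
  letI : Module (Localization.AtPrime (p.comap (algebraMap B C))) X :=
    Module.compHom X ((algebraMap (Localization.AtPrime p) p.ResidueField).comp
      (gloc (A := A) (B := B) p).toRingHom)
  have hsm : ∀ (b' : Localization.AtPrime (p.comap (algebraMap B C))) (x : X),
      b' • x = algebraMap (Localization.AtPrime p) p.ResidueField (gloc (A := A) p b') • x :=
    fun _ _ => rfl
  haveI : IsScalarTower B (Localization.AtPrime (p.comap (algebraMap B C))) X := ⟨fun b b' x => by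
    rw [hsm, hsm, Algebra.smul_def, map_mul, map_mul, mul_smul, gloc_algebraMap,
      ← IsScalarTower.algebraMap_apply C (Localization.AtPrime p) p.ResidueField,
      ← IsScalarTower.algebraMap_apply B C p.ResidueField, algebraMap_smul]⟩
  haveI : IsScalarTower A (Localization.AtPrime (p.comap (algebraMap B C))) X := ⟨fun a b' x => by
    show (a • b') • x = algebraMap A B a • (b' • x)
    rw [← algebraMap_smul B a b', smul_assoc]⟩
  have hX : ∀ a ∈ maximalIdeal (Localization.AtPrime (p.comap (algebraMap B C))),
      ∀ x : X, a • x = 0 := by
    intro a ha x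
    rw [hsm]
    have h0 : algebraMap (Localization.AtPrime p) p.ResidueField (gloc (A := A) p a) = 0 :=
      (IsLocalRing.residue_eq_zero_iff _).mpr (gloc_mem_maximalIdeal p a ha)
    rw [h0, zero_smul]
  exact exists_ext_of_adic hsurj p h X hX l

end Groth.Agent.H5.AJ

namespace Groth.Agent.H5.AJ

variable {A B C : Type u} [CommRing A] [CommRing B] [CommRing C] [Algebra A B] [Algebra B C]
  [Algebra A C] [IsScalarTower A B C]

theorem finite_cotangent_of_noetherian [IsNoetherianRing B] (J : Ideal B) :
    Module.Finite B J.Cotangent :=
  Module.Finite.of_surjective J.toCotangent (Ideal.toCotangent_surjective J)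

/-- EGA 0_IV 22.6.? adic Jacobian criterion at a prime (S4606). -/
theorem isAdicFormallySmooth_atPrime_iff [IsNoetherianRing B] [Algebra.FormallySmooth A B]
    (hsurj : Function.Surjective (algebraMap B C)) (p : Ideal C) [p.IsPrime]
    [Algebra (Localization.AtPrime (p.comap (algebraMap A C))) (Localization.AtPrime p)]
    [IsScalarTower A (Localization.AtPrime (p.comap (algebraMap A C))) (Localization.AtPrime p)] :
    CAlgX.IsAdicFormallySmooth (Localization.AtPrime (p.comap (algebraMap A C)))
        (Localization.AtPrime p) (maximalIdeal (Localization.AtPrime p)) ↔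
      Function.Injective ((kerCotangentToTensor A B C).lTensor p.ResidueField) := by
  constructor
  · intro h
    exact injective_of_isAdicFormallySmooth hsurj p
      (isAdicFormallySmooth_of_isLocalization (p.comap (algebraMap A C)).primeCompl _ h)
  · intro h
    haveI := finite_cotangent_of_noetherian (RingHom.ker (algebraMap B C))
    haveI : Algebra.FormallySmooth A (Localization.AtPrime p) :=
      ((FSL.formallySmooth_atPrime_tfae (A := A) hsurj p).out 1 0).mp h
    haveI : Algebra.FormallyUnramified A (Localization.AtPrime (p.comap (algebraMap A C))) :=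
      Algebra.FormallyUnramified.of_isLocalization (p.comap (algebraMap A C)).primeCompl
    haveI : Algebra.FormallySmooth (Localization.AtPrime (p.comap (algebraMap A C)))
        (Localization.AtPrime p) :=
      Algebra.FormallySmooth.of_restrictScalars A _ _
    rw [Groth.Agent.H5.AdicFS.isAdicFormallySmooth_iff_bot]
    exact Groth.Agent.H5.AdicFS.isFormallySmoothAdic_of_formallySmooth _ _

end Groth.Agent.H5.AJ
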