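import Mathlib
import Groth.Agent.Lib.Helper5.CA.GR2
import Groth.Agent.Lib.Helper1.RegRing
import Groth.Agent.Lib.Helper7.Reg1
import Groth.Agent.S9634

set_option autoImplicit false
universe u

open TensorProduct IsLocalRing

namespace Groth.Agent.H5.GR

/-- localization preserves adic formal smoothness. -/
theorem isAdicFormallySmooth_localization (R S S' : Type u) [CommRing R] [CommRing S]
    [CommRing S'] [Algebra R S] [Algebra S S'] [Algebra R S'] [IsScalarTower R S S']
    (M : Submonoid S) [IsLocalization M S'] (𝔫 : Ideal S) (𝔫' : Ideal S')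
    (hcont : 𝔫.map (algebraMap S S') ≤ 𝔫') (h : CAlgX.IsAdicFormallySmooth R S 𝔫) :
    CAlgX.IsAdicFormallySmooth R S' 𝔫' := by
  haveI : Algebra.FormallySmooth S S' := Algebra.FormallySmooth.of_isLocalization M
  exact isAdicFormallySmooth_trans R S S' 𝔫 𝔫' hcont h
    (isAdicFormallySmooth_of_formallySmooth S S' 𝔫')

attribute [local instance] Algebra.TensorProduct.rightAlgebra in
theorem isRegularLocalRing_localization_baseChange (k k' A : Type u) [Field k] [Field k']
    [Algebra k k'] [Module.Finite k k'] [CommRing A] [IsLocalRing A] [IsNoetherianRing A]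
    [Algebra k A] (h : CAlgX.IsAdicFormallySmooth k A (maximalIdeal A))
    (n' : Ideal (k' ⊗[k] A)) [hn' : n'.IsMaximal] :
    IsNoetherianRing (k' ⊗[k] A) ∧ IsRegularLocalRing (Localization.AtPrime n') := by
  haveI : Module.Finite A (k' ⊗[k] A) :=
    Module.Finite.equiv (Algebra.TensorProduct.commRight k A k').toLinearEquiv
  haveI : IsNoetherianRing (k' ⊗[k] A) := IsNoetherianRing.of_finite A _
  refine ⟨inferInstance, ?_⟩
  haveI : IsNoetherianRing (Localization.AtPrime n') :=
    IsLocalization.isNoetherianRing n'.primeCompl _ inferInstance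
  have h' := isAdicFormallySmooth_baseChange k k' A (maximalIdeal A) h
  haveI : Algebra.IsIntegral A (k' ⊗[k] A) := Algebra.IsIntegral.of_finite A _
  have hcomap : n'.comap (algebraMap A (k' ⊗[k] A)) = maximalIdeal A := by
    haveI := Ideal.isMaximal_comap_of_isIntegral_of_isMaximal (R := A) n'
    exact IsLocalRing.eq_maximalIdeal this
  have hle : (maximalIdeal A).map
      (Algebra.TensorProduct.includeRight : A →ₐ[k] k' ⊗[k] A).toRingHom ≤ n' := by
    rw [Ideal.map_le_iff_le_comap]
    exact hcomap.symm.le
  have hcont : ((maximalIdeal A).map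
      (Algebra.TensorProduct.includeRight : A →ₐ[k] k' ⊗[k] A).toRingHom).map
      (algebraMap (k' ⊗[k] A) (Localization.AtPrime n')) ≤
      maximalIdeal (Localization.AtPrime n') := by
    rw [Ideal.map_le_iff_le_comap]
    have := IsLocalization.AtPrime.comap_maximalIdeal (Localization.AtPrime n') n'
    rw [Ideal.under_def] at this
    rw [this]
    exact hle
  have h'' := isAdicFormallySmooth_localization k' (k' ⊗[k] A) (Localization.AtPrime n')
    n'.primeCompl _ _ hcont h'
  exact isRegularLocalRing_of_isAdicFormallySmooth k' _ h''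

/-- adic formal smoothness over a field implies geometric regularity. -/
theorem isGeometricallyRegular_of_isAdicFormallySmooth (k A : Type u) [Field k] [CommRing A]
    [IsLocalRing A] [IsNoetherianRing A] [Algebra k A]
    (h : CAlgX.IsAdicFormallySmooth k A (maximalIdeal A)) : CAlg.IsGeometricallyRegular k A := by
  intro k' _ _ hfin
  haveI := hfin
  have hN : IsNoetherianRing (k' ⊗[k] A) := by
    obtain ⟨n', hn'⟩ := Ideal.exists_maximal (k' ⊗[k] A)
    exact (isRegularLocalRing_localization_baseChange k k' A h n').1
  exact Groth.Agent.H1.Reg.isRegularRing_of_maximal _ (fun n' hn' =>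
    (isRegularLocalRing_localization_baseChange k k' A h n').2)

end Groth.Agent.H5.GR

namespace Groth.Agent.H5.GR

theorem isReduced_of_isRegularRing (B : Type u) [CommRing B] [IsRegularRing B] : IsReduced B := by
  apply isReduced_ofLocalizationMaximal
  intro J hJ
  haveI : J.IsPrime := hJ.isPrime
  haveI : IsDomain (Localization.AtPrime J) := Groth.Agent.H7.Reg.isDomain _
  infer_instance

/-- S4512 -/
theorem geomRegular_and_completion {k A : Type u} [Field k] [CommRing A]
    [IsLocalRing A] [IsNoetherianRing A] [Algebra k A]
    (h : CAlgX.IsAdicFormallySmooth k A (maximalIdeal A)) :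
    CAlg.IsGeometricallyRegular k A ∧
      ∃ n : ℕ, Nonempty (AdicCompletion (maximalIdeal A) A ≃+*
        MvPowerSeries (Fin n) (ResidueField A)) :=
  ⟨isGeometricallyRegular_of_isAdicFormallySmooth k A h,
    exists_ringEquiv_of_isAdicFormallySmooth k A h⟩

/-- S4513 -/
theorem isGeometricallyReduced_subfield {k A K : Type u} [Field k] [CommRing A]
    [IsLocalRing A] [IsNoetherianRing A] [Algebra k A]
    (h : CAlgX.IsAdicFormallySmooth k A (maximalIdeal A))
    [Field K] [Algebra k K] [Algebra K A] [IsScalarTower k K A] :
    Algebra.IsGeometricallyReduced k K := by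
  refine ((Groth.Agent.S9634.result (k := k) (S := K)).out 0 1).mp ?_
  intro k' _ _ _ _
  haveI : IsRegularRing (k' ⊗[k] A) :=
    isGeometricallyRegular_of_isAdicFormallySmooth k A h k' inferInstance
  haveI : IsReduced (k' ⊗[k] A) := isReduced_of_isRegularRing _
  exact isReduced_of_injective
    (Algebra.TensorProduct.map (AlgHom.id k k') (IsScalarTower.toAlgHom k K A))
    (Module.Flat.lTensor_preserves_injective_linearMap _ (RingHom.injective _))

/-- S2451 -/
theorem formallySmooth_field_iff {k K : Type u} [Field k] [Field K] [Algebra k K] :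
    Algebra.FormallySmooth k K ↔ Algebra.IsGeometricallyReduced k K := by
  constructor
  · intro hfs
    exact isGeometricallyReduced_subfield (k := k) (A := K) (K := K)
      (isAdicFormallySmooth_of_formallySmooth k K _)
  · intro _
    exact Groth.Agent.H5.formallySmooth_of_isGeometricallyReduced' k K

end Groth.Agent.H5.GR
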