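import Mathlib
import Groth.Agent.Lib.Helper5.CA.UnivThickDer
import Groth.Prelude.Def_CAlgX

set_option autoImplicit false
universe u

open TensorProduct IsLocalRing KaehlerDifferential

namespace Groth.Agent.H5.KF

open Groth.Agent.H5.CA

section TwLemmas

variable {A₀ : Type u} [CommRing A₀] (B' : Type u) [CommRing B'] [Algebra A₀ B']
  {N : Type u} [AddCommGroup N] [Module B' N] [Module B'ᵐᵒᵖ N] [IsCentralScalar B' N]
  [Module A₀ N] [IsScalarTower A₀ B' N]

lemma tw_fst_mul (δ : Derivation ℤ A₀ N) (x y : Tw B' δ) :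
    TrivSqZeroExt.fst (x * y) = TrivSqZeroExt.fst x * TrivSqZeroExt.fst y :=
  TrivSqZeroExt.fst_mul (R := B') (M := N) x y

lemma tw_snd_mul (δ : Derivation ℤ A₀ N) (x y : Tw B' δ) :
    TrivSqZeroExt.snd (x * y) =
      TrivSqZeroExt.fst x • TrivSqZeroExt.snd y + TrivSqZeroExt.fst y • TrivSqZeroExt.snd x := by
  refine (TrivSqZeroExt.snd_mul (R := B') (M := N) x y).trans ?_
  rw [op_smul_eq_smul]

lemma tw_snd_add (δ : Derivation ℤ A₀ N) (x y : Tw B' δ) :
    TrivSqZeroExt.snd (x + y) = TrivSqZeroExt.snd x + TrivSqZeroExt.snd y :=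
  TrivSqZeroExt.snd_add (R := B') (M := N) x y

lemma tw_snd_zero (δ : Derivation ℤ A₀ N) :
    TrivSqZeroExt.snd (0 : Tw B' δ) = 0 := rfl

lemma tw_fst_zero (δ : Derivation ℤ A₀ N) :
    TrivSqZeroExt.fst (0 : Tw B' δ) = 0 := rfl

lemma tw_ext (δ : Derivation ℤ A₀ N) (x y : Tw B' δ)
    (h1 : TrivSqZeroExt.fst x = TrivSqZeroExt.fst y)
    (h2 : TrivSqZeroExt.snd x = TrivSqZeroExt.snd y) : x = y :=
  TrivSqZeroExt.ext h1 h2

end TwLemmas

/-- for `A` adically formally smooth over a field `k`, every absolute derivation of `k` into a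
vector space over the residue field of `A` extends to `A`. -/
theorem exists_derivation_extension {k A : Type u} [Field k] [CommRing A] [IsLocalRing A]
    [Algebra k A] (h : CAlgX.IsAdicFormallySmooth k A (maximalIdeal A))
    (X : Type u) [AddCommGroup X] [Module A X] [Module (ResidueField A) X]
    [IsScalarTower A (ResidueField A) X] [Module k X] [IsScalarTower k A X]
    (δ : Derivation ℤ k X) :
    ∃ Δ : Derivation ℤ A X, ∀ c, Δ (algebraMap k A c) = δ c := by
  letI : Module (ResidueField A)ᵐᵒᵖ X :=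
    Module.compHom _ ((RingHom.id (ResidueField A)).fromOpposite mul_comm)
  haveI : IsCentralScalar (ResidueField A) X := ⟨fun r m => rfl⟩
  haveI : IsScalarTower k (ResidueField A) X := ⟨fun c r x => by
    rw [← algebraMap_smul A c r, smul_assoc, algebraMap_smul]⟩
  -- the test ring
  have hfs : Function.Surjective (Tw.fstAlg (A := k) (ResidueField A) δ) := fun r =>
    ⟨(TrivSqZeroExt.inl r : TrivSqZeroExt (ResidueField A) X), rfl⟩
  let e := Ideal.quotientKerAlgEquivOfSurjective hfs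
  have hK : (RingHom.ker (Tw.fstAlg (A := k) (ResidueField A) δ)) ^ 2 = ⊥ := by
    rw [← le_bot_iff, pow_two, Ideal.mul_le]
    intro x hx y hy
    rw [Ideal.mem_bot]
    have hx1 : TrivSqZeroExt.fst x = 0 := hx
    have hy1 : TrivSqZeroExt.fst y = 0 := hy
    refine tw_ext _ δ _ _ ?_ ?_
    · rw [tw_fst_mul, hx1, zero_mul, tw_fst_zero]
    · rw [tw_snd_mul, hx1, hy1, zero_smul, zero_smul, add_zero, tw_snd_zero]
  let res : A →ₐ[k] ResidueField A := IsScalarTower.toAlgHom k A (ResidueField A)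
  let ψ : A →ₐ[k] Tw (ResidueField A) δ ⧸ RingHom.ker (Tw.fstAlg (A := k) (ResidueField A) δ) :=
    (e.symm : ResidueField A →ₐ[k] _).comp res
  have hψ : ∃ n : ℕ, ∀ x ∈ maximalIdeal A ^ n, ψ x = 0 := by
    refine ⟨1, fun x hx => ?_⟩
    rw [pow_one] at hx
    show e.symm (algebraMap A (ResidueField A) x) = 0
    have : algebraMap A (ResidueField A) x = 0 := (residue_eq_zero_iff x).mpr hx
    rw [this, map_zero]
  obtain ⟨χ, hχ⟩ := h (Tw (ResidueField A) δ) _ hK ψ hψ
  have hfst : ∀ a, TrivSqZeroExt.fst (χ a) =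
      algebraMap A (ResidueField A) a := by
    intro a
    have h1 := DFunLike.congr_fun hχ a
    have h2 := congrArg e h1
    rw [AlgHom.comp_apply, Ideal.Quotient.mkₐ_eq_mk] at h2
    have h3 : e (ψ a) = algebraMap A (ResidueField A) a := by
      show e (e.symm (algebraMap A (ResidueField A) a)) = _
      rw [AlgEquiv.apply_symm_apply]
    rw [h3] at h2
    exact h2
  let Δ₀ : A →ₗ[ℤ] X := AddMonoidHom.toIntLinearMap
    { toFun := fun a => TrivSqZeroExt.snd (χ a)
      map_zero' := by rw [map_zero, tw_snd_zero]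
      map_add' := fun a b => by rw [map_add, tw_snd_add] }
  have hΔ₀ : ∀ a, Δ₀ a = TrivSqZeroExt.snd (χ a) := fun a => rfl
  let Δ : Derivation ℤ A X := Derivation.mk' Δ₀ (fun a b => by
    rw [hΔ₀, hΔ₀, hΔ₀, map_mul, tw_snd_mul, hfst, hfst, algebraMap_smul, algebraMap_smul])
  refine ⟨Δ, fun c => ?_⟩
  show TrivSqZeroExt.snd (χ (algebraMap k A c)) = δ c
  rw [AlgHom.commutes]
  rfl

end Groth.Agent.H5.KF
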