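import Mathlib
import Groth.Agent.Lib.Helper5.CA.KF1
import Groth.Agent.Lib.Helper5.CA.LI4

set_option autoImplicit false
universe u

open TensorProduct IsLocalRing KaehlerDifferential

namespace Groth.Agent.H5.KF

/-- EGA 0_IV 22.2.? (necessity): the differentials of `k` inject into those of `A` modulo `𝔪`. -/
theorem injective_lTensor_mapBaseChange {k A : Type u} [Field k] [CommRing A] [IsLocalRing A]
    [Algebra k A] (h : CAlgX.IsAdicFormallySmooth k A (maximalIdeal A)) :
    Function.Injective ((KaehlerDifferential.mapBaseChange ℤ k A).lTensor (ResidueField A)) := by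
  apply LI.injective_lTensor_of_leftInverse
  apply LI.exists_baseChange_leftInverse_of_EP
  intro X _ _ _ _ l
  letI : Module k X := Module.compHom X (algebraMap k A)
  haveI : IsScalarTower k A X := ⟨fun c a x => by
    show (c • a) • x = algebraMap k A c • (a • x)
    rw [Algebra.smul_def, mul_smul]⟩
  let f₂ : Ω[k⁄ℤ] →ₗ[k] X := (l.restrictScalars k) ∘ₗ (TensorProduct.mk k A Ω[k⁄ℤ] 1)
  let δ : Derivation ℤ k X := f₂.compDer (KaehlerDifferential.D ℤ k)
  obtain ⟨Δ, hΔ⟩ := exists_derivation_extension h X δ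
  refine ⟨Δ.liftKaehlerDifferential, ?_⟩
  let f₁ : Ω[k⁄ℤ] →ₗ[k] X :=
    ((Δ.liftKaehlerDifferential ∘ₗ KaehlerDifferential.mapBaseChange ℤ k A).restrictScalars k) ∘ₗ
      (TensorProduct.mk k A Ω[k⁄ℤ] 1)
  have h12 : f₁ = f₂ := by
    apply Derivation.liftKaehlerDifferential_unique
    ext c
    show Δ.liftKaehlerDifferential (KaehlerDifferential.mapBaseChange ℤ k A
      ((1 : A) ⊗ₜ[k] KaehlerDifferential.D ℤ k c)) = δ c
    rw [KaehlerDifferential.mapBaseChange_tmul, one_smul, KaehlerDifferential.map_D,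
      Derivation.liftKaehlerDifferential_comp_D, hΔ]
  refine LinearMap.ext fun x => ?_
  induction x using TensorProduct.induction_on with
  | zero => simp
  | add x y hx hy => rw [map_add, map_add, hx, hy]
  | tmul a ω =>
    have h1 : a ⊗ₜ[k] ω = a • ((1 : A) ⊗ₜ[k] ω) := by
      rw [TensorProduct.smul_tmul', smul_eq_mul, mul_one]
    rw [h1, map_smul, map_smul]
    congr 1
    exact DFunLike.congr_fun h12 ω

end Groth.Agent.H5.KF
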