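import Mathlib
import Groth.Agent.Lib.Helper5.CA.JC6

set_option autoImplicit false
universe u

open TensorProduct IsLocalRing KaehlerDifferential

namespace Groth.Agent.H5.KF

/-- a field all of whose elements are quotients of integers (a prime field). -/
def IsPrimeLike (P : Type u) [Field P] : Prop :=
  ∀ c : P, ∃ n d : ℤ, (d : P) ≠ 0 ∧ (d : P) * c = n

theorem EP_maximalIdeal_of_injective {A : Type u} [CommRing A] [IsLocalRing A]
    {M Q : Type u} [AddCommGroup M] [AddCommGroup Q] [Module A M] [Module A Q] (u : M →ₗ[A] Q)
    (h : Function.Injective (u.lTensor (ResidueField A))) : JC.EP u (maximalIdeal A) := by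
  have hS : Function.Surjective (algebraMap A (ResidueField A)) := residue_surjective
  have hker : RingHom.ker (algebraMap A (ResidueField A)) = maximalIdeal A := ker_residue
  rw [← hker, JC.EP_iff_exists_leftInverse hS u]
  have h' : Function.Injective (u.baseChange (ResidueField A)) := h
  exact LinearMap.exists_leftInverse_of_injective _ (LinearMap.ker_eq_bot.mpr h')

theorem derivation_smul_of_isPrimeLike {P A : Type u} [Field P] [CommRing A] [Algebra P A]
    (hP : IsPrimeLike P) (Y : Type u) [AddCommGroup Y] [Module A Y] (D : Derivation ℤ A Y)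
    (c : P) (a : A) : D (c • a) = algebraMap P A c • D a := by
  obtain ⟨n, d, hd, hdc⟩ := hP c
  have hunit : IsUnit (algebraMap P A (d : P)) := (IsUnit.mk0 _ hd).map _
  have h1 : d • D (c • a) = n • D a := by
    rw [← map_zsmul D d, ← map_zsmul D n]
    congr 1
    rw [← Int.cast_smul_eq_zsmul P d, smul_smul, hdc, Int.cast_smul_eq_zsmul]
  have h2 : d • (algebraMap P A c • D a) = n • D a := by
    rw [← Int.cast_smul_eq_zsmul A d, ← Int.cast_smul_eq_zsmul A n, smul_smul,
      ← map_intCast (algebraMap P A) d, ← map_mul, hdc, map_intCast]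
  have h3 : algebraMap P A (d : P) • (D (c • a) - algebraMap P A c • D a) = 0 := by
    rw [map_intCast, Int.cast_smul_eq_zsmul, smul_sub, h1, h2, sub_self]
  obtain ⟨v, hv⟩ := hunit
  have h4 := congrArg (fun y => (↑v⁻¹ : A) • y) h3
  simp only [smul_zero] at h4
  rw [← hv, smul_smul, Units.inv_mul, one_smul, sub_eq_zero] at h4
  exact h4

/-- the lifting property of absolute differentials, for a ring adically formally smooth over a
prime field. -/
theorem LP_kaehler_int {P A : Type u} [Field P] [CommRing A] [Algebra P A] (I : Ideal A)
    (hP : CAlgX.IsAdicFormallySmooth P A I)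
    (hlin : ∀ (Y : Type u) [AddCommGroup Y] [Module A Y] (D : Derivation ℤ A Y) (c : P) (a : A),
      D (c • a) = algebraMap P A c • D a)
    (𝔖 : Ideal A) (hI : ∃ k : ℕ, I ^ k ≤ 𝔖) : JC.LP Ω[A⁄ℤ] 𝔖 := by
  intro X N _ _ _ _ hX hN f hf ℓ₀
  have hP' : EGA41.IsFormallySmoothAdic P ⊥ A I := (AdicFS.isAdicFormallySmooth_iff_bot I).mp hP
  letI : Module P X := Module.compHom X (algebraMap P A)
  haveI : IsScalarTower P A X := IsScalarTower.of_algebraMap_smul (fun r x => rfl)
  letI : Module P N := Module.compHom N (algebraMap P A)
  haveI : IsScalarTower P A N := IsScalarTower.of_algebraMap_smul (fun r x => rfl)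
  let D : Derivation ℤ A N := ℓ₀.compDer (KaehlerDifferential.D ℤ A)
  let DP : Derivation P A N :=
    { toLinearMap :=
        { toFun := D
          map_add' := map_add D
          map_smul' := fun c a => hlin N D c a }
      map_one_eq_zero' := D.map_one_eq_zero
      leibniz' := D.leibniz }
  obtain ⟨D', hD'⟩ := JC.exists_derivation_lift' (⊥ : Ideal P) I
    ⟨1, by rw [pow_one, Ideal.map_bot]; exact bot_le⟩ hP' 𝔖 hI hX hN f hf DP
  refine ⟨(D'.restrictScalars ℤ).liftKaehlerDifferential, ?_⟩
  apply Derivation.liftKaehlerDifferential_unique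
  ext b
  show f ((D'.restrictScalars ℤ).liftKaehlerDifferential (KaehlerDifferential.D ℤ A b)) =
    ℓ₀ (KaehlerDifferential.D ℤ A b)
  rw [Derivation.liftKaehlerDifferential_comp_D]
  exact hD' b

/-- absolute derivations are linear over the prime subfield. -/
theorem derivation_smul_bot {k A : Type u} [Field k] [CommRing A] [Algebra k A]
    (Y : Type u) [AddCommGroup Y] [Module A Y] (D : Derivation ℤ A Y)
    (c : (⊥ : Subfield k)) (a : A) :
    D (c • a) = algebraMap (⊥ : Subfield k) A c • D a := by
  let S : Subfield k :=
    { carrier := {c | D (algebraMap k A c) = 0}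
      mul_mem' := fun {a b} ha hb => by
        show D (algebraMap k A (a * b)) = 0
        rw [map_mul, Derivation.leibniz, (show D (algebraMap k A a) = 0 from ha),
          (show D (algebraMap k A b) = 0 from hb), smul_zero, smul_zero, add_zero]
      one_mem' := by
        show D (algebraMap k A 1) = 0
        rw [map_one, Derivation.map_one_eq_zero]
      add_mem' := fun {a b} ha hb => by
        show D (algebraMap k A (a + b)) = 0
        rw [map_add, map_add, (show D (algebraMap k A a) = 0 from ha),
          (show D (algebraMap k A b) = 0 from hb), add_zero]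
      zero_mem' := by
        show D (algebraMap k A 0) = 0
        rw [map_zero, map_zero]
      neg_mem' := fun {a} ha => by
        show D (algebraMap k A (-a)) = 0
        rw [map_neg, map_neg, (show D (algebraMap k A a) = 0 from ha), neg_zero]
      inv_mem' := fun a ha => by
        show D (algebraMap k A a⁻¹) = 0
        by_cases h0 : a = 0
        · rw [h0, inv_zero, map_zero, map_zero]
        · have h1 : algebraMap k A a * algebraMap k A a⁻¹ = 1 := by
            rw [← map_mul, mul_inv_cancel₀ h0, map_one]
          have h2 : D (algebraMap k A a * algebraMap k A a⁻¹) = 0 := by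
            rw [h1, Derivation.map_one_eq_zero]
          rw [Derivation.leibniz, (show D (algebraMap k A a) = 0 from ha), smul_zero,
            add_zero] at h2
          have h3 := congrArg (fun y => algebraMap k A a⁻¹ • y) h2
          simp only [smul_zero] at h3
          rw [smul_smul, mul_comm, h1, one_smul] at h3
          exact h3 }
  have hc : D (algebraMap k A (c : k)) = 0 := (bot_le : (⊥ : Subfield k) ≤ S) c.2
  have h1 : c • a = algebraMap k A (c : k) * a := by
    rw [Algebra.smul_def]; rfl
  have h2 : algebraMap (⊥ : Subfield k) A c = algebraMap k A (c : k) := rfl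
  rw [h1, h2, Derivation.leibniz, hc, smul_zero, add_zero]

end Groth.Agent.H5.KF
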