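import Mathlib
import Groth.Agent.Lib.Helper5.CA.KF3

set_option autoImplicit false
universe u

open TensorProduct IsLocalRing KaehlerDifferential

namespace Groth.Agent.H5.KF

set_option maxHeartbeats 1000000 in
/-- EGA 0_IV 22.2.? (sufficiency). -/
theorem isAdicFormallySmooth_of_injective {P k A : Type u} [Field P] [Field k] [Algebra P k]
    [CommRing A] [IsLocalRing A] [Algebra k A] [Algebra P A] [IsScalarTower P k A]
    (hlin : ∀ (Y : Type u) [AddCommGroup Y] [Module A Y] (D : Derivation ℤ A Y) (c : P) (a : A),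
      D (c • a) = algebraMap P A c • D a)
    (hP : CAlgX.IsAdicFormallySmooth P A (maximalIdeal A))
    (hJ : Function.Injective
      ((KaehlerDifferential.mapBaseChange ℤ k A).lTensor (ResidueField A))) :
    CAlgX.IsAdicFormallySmooth k A (maximalIdeal A) := by
  intro E _ _ N hN ψ hψ
  obtain ⟨n, hn⟩ := hψ
  have hNN : ∀ x y : E, x ∈ N → y ∈ N → x * y = 0 := by
    intro x y hx hy
    have : x * y ∈ N ^ 2 := by rw [pow_two]; exact Ideal.mul_mem_mul hx hy
    rwa [hN, Ideal.mem_bot] at this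
  letI : Algebra P E := ((algebraMap k E).comp (algebraMap P k)).toAlgebra
  haveI : IsScalarTower P k E := IsScalarTower.of_algebraMap_eq (fun r => rfl)
  let ψP : A →ₐ[P] E ⧸ N := ψ.restrictScalars P
  obtain ⟨Φ₀, hΦ₀⟩ := hP E N hN ψP ⟨n, hn⟩
  have hΦ₀' : ∀ a, Ideal.Quotient.mk N (Φ₀ a) = ψ a := fun a => congr($hΦ₀ a)
  letI : Algebra A E := Φ₀.toRingHom.toAlgebra
  have hAE : ∀ a, algebraMap A E a = Φ₀ a := fun a => rfl
  have hsmulA : ∀ (a : A) (x : N), ((a • x : N) : E) = Φ₀ a * x := fun a x => rfl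
  have hsmulk : ∀ (c : k) (x : N), ((c • x : N) : E) = algebraMap k E c * x := fun c x => by
    rw [Submodule.coe_smul_of_tower, Algebra.smul_def]
  have hmem0 : ∀ a ∈ maximalIdeal A ^ n, Φ₀ a ∈ N := by
    intro a ha
    rw [← Ideal.Quotient.eq_zero_iff_mem, hΦ₀']
    exact hn a ha
  have hkill : ∀ a ∈ maximalIdeal A ^ n, ∀ x : N, a • x = 0 := by
    intro a ha x
    apply Subtype.ext
    rw [hsmulA, Submodule.coe_zero]
    exact hNN _ _ (hmem0 a ha) x.2
  have hαβ : ∀ c : k, algebraMap k E c - Φ₀ (algebraMap k A c) ∈ N := by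
    intro c
    rw [← Ideal.Quotient.eq_zero_iff_mem, map_sub, hΦ₀', AlgHom.commutes, sub_eq_zero]
    rfl
  haveI : IsScalarTower k A N := ⟨fun c a x => by
    apply Subtype.ext
    rw [hsmulA, hsmulk, hsmulA, Algebra.smul_def, map_mul, mul_assoc]
    have h1 := hNN _ _ (hαβ c) (N.mul_mem_left (Φ₀ a) x.2)
    rw [sub_mul, sub_eq_zero] at h1
    exact h1.symm⟩
  -- the derivation
  let δ₀ : k →ₗ[ℤ] N := AddMonoidHom.toIntLinearMap
    { toFun := fun c => ⟨algebraMap k E c - Φ₀ (algebraMap k A c), hαβ c⟩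
      map_zero' := by
        apply Subtype.ext
        show algebraMap k E 0 - Φ₀ (algebraMap k A 0) = 0
        rw [map_zero, map_zero, map_zero, sub_zero]
      map_add' := fun c c' => by
        apply Subtype.ext
        show algebraMap k E (c + c') - Φ₀ (algebraMap k A (c + c')) =
          (algebraMap k E c - Φ₀ (algebraMap k A c)) +
          (algebraMap k E c' - Φ₀ (algebraMap k A c'))
        rw [map_add, map_add, map_add]
        ring }
  have hδ₀ : ∀ c, ((δ₀ c : N) : E) = algebraMap k E c - Φ₀ (algebraMap k A c) := fun c => rfl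
  let δ : Derivation ℤ k N := Derivation.mk' δ₀ (fun c c' => by
    apply Subtype.ext
    rw [Submodule.coe_add, hsmulk, hsmulk, hδ₀, hδ₀, hδ₀, map_mul, map_mul, map_mul]
    have h1 := hNN _ _ (hαβ c) (hαβ c')
    linear_combination -h1)
  have hδ : ∀ c, ((δ c : N) : E) = algebraMap k E c - Φ₀ (algebraMap k A c) := fun c => rfl
  let l : A ⊗[k] Ω[k⁄ℤ] →ₗ[A] N := LinearMap.liftBaseChange A δ.liftKaehlerDifferential
  have hEP1 := EP_maximalIdeal_of_injective _ hJ
  have hLP := LP_kaehler_int (maximalIdeal A) hP hlin (maximalIdeal A ^ n) ⟨n, le_rfl⟩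
  have hEPn : JC.EP (KaehlerDifferential.mapBaseChange ℤ k A) (maximalIdeal A ^ n) :=
    JC.EP.of_nilpotent n le_rfl hLP hEP1
  obtain ⟨ℓ, hℓ⟩ := hEPn N hkill l
  let Δ : Derivation ℤ A N := ℓ.compDer (KaehlerDifferential.D ℤ A)
  have hΔ : ∀ c, Δ (algebraMap k A c) = δ c := by
    intro c
    have h1 := DFunLike.congr_fun hℓ ((1 : A) ⊗ₜ[k] KaehlerDifferential.D ℤ k c)
    rw [LinearMap.comp_apply, KaehlerDifferential.mapBaseChange_tmul, one_smul,
      KaehlerDifferential.map_D] at h1
    show ℓ (KaehlerDifferential.D ℤ A (algebraMap k A c)) = δ c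
    rw [h1, LinearMap.liftBaseChange_tmul, one_smul, Derivation.liftKaehlerDifferential_comp_D]
  have hΔmul : ∀ a b, ((Δ (a * b) : N) : E) = Φ₀ a * (Δ b : N) + Φ₀ b * (Δ a : N) := by
    intro a b
    rw [Derivation.leibniz, Submodule.coe_add, hsmulA, hsmulA]
  let Φ : A →ₐ[k] E :=
    { toFun := fun a => Φ₀ a + ((Δ a : N) : E)
      map_one' := by
        rw [map_one, Derivation.map_one_eq_zero, Submodule.coe_zero, add_zero]
      map_mul' := fun a b => by
        rw [hΔmul, map_mul]
        have h1 := hNN _ _ (Δ a).2 (Δ b).2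
        linear_combination -h1
      map_zero' := by
        rw [map_zero, map_zero, Submodule.coe_zero, add_zero]
      map_add' := fun a b => by
        rw [map_add, map_add, Submodule.coe_add]
        ring
      commutes' := fun c => by
        show Φ₀ (algebraMap k A c) + ((Δ (algebraMap k A c) : N) : E) = algebraMap k E c
        rw [hΔ, hδ]
        ring }
  refine ⟨Φ, ?_⟩
  ext a
  show Ideal.Quotient.mk N (Φ₀ a + ((Δ a : N) : E)) = ψ a
  rw [map_add, hΦ₀', Ideal.Quotient.eq_zero_iff_mem.mpr (Δ a).2, add_zero]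

end Groth.Agent.H5.KF
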