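import Mathlib
import Groth.Agent.Lib.Helper5.CA.KF4
import Groth.Agent.Lib.Helper5.CA.KF2
import Groth.Agent.Lib.Helper5.CA.GR2

set_option autoImplicit false
universe u

open TensorProduct IsLocalRing KaehlerDifferential

namespace Groth.Agent.H5.KF

/-- EGA 0_IV 22.2.? : formal smoothness of a Noetherian local algebra over a field. -/
theorem isAdicFormallySmooth_iff_regular_and_injective {k A : Type u} [Field k] [CommRing A]
    [IsLocalRing A] [IsNoetherianRing A] [Algebra k A] :
    CAlgX.IsAdicFormallySmooth k A (maximalIdeal A) ↔
      (IsRegularLocalRing A ∧ Function.Injective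
        ((KaehlerDifferential.mapBaseChange ℤ k A).lTensor (ResidueField A))) := by
  constructor
  · intro h
    exact ⟨GR.isRegularLocalRing_of_isAdicFormallySmooth k A h, injective_lTensor_mapBaseChange h⟩
  · rintro ⟨hreg, hJ⟩
    haveI : PerfectField (⊥ : Subfield k) := CoeffUniq.perfectField_bot k
    haveI : Algebra.IsGeometricallyReduced (⊥ : Subfield k) (ResidueField A) :=
      isGeometricallyReduced_of_perfectField _ _
    have hP : CAlgX.IsAdicFormallySmooth (⊥ : Subfield k) A (maximalIdeal A) :=
      ((FSField.tfae (⊥ : Subfield k) A).out 3 0).mp hreg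
    exact isAdicFormallySmooth_of_injective (P := (⊥ : Subfield k))
      (fun Y _ _ D c a => derivation_smul_bot Y D c a) hP hJ

end Groth.Agent.H5.KF
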