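import Mathlib

set_option autoImplicit false
universe u

open TensorProduct

namespace H5.NG

/-- a linear map out of a base change is injective as soon as it sends finite independent
subfamilies of a spanning set to independent families. -/
theorem injective_of_forall_fin {k K V W : Type*} [Field k] [Field K] [Algebra k K]
    [AddCommGroup V] [Module k V] [AddCommGroup W] [Module K W]
    (Ψ : K ⊗[k] V →ₗ[K] W) (T : Set V) (hT : Submodule.span k T = ⊤)
    (h : ∀ (r : ℕ) (v : Fin r → V), (∀ i, v i ∈ T) → LinearIndependent k v →
      LinearIndependent K (fun i => Ψ ((1 : K) ⊗ₜ[k] v i))) :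
    Function.Injective Ψ := by
  classical
  obtain ⟨b, hbT, hspan, hli⟩ := exists_linearIndependent k T
  have hspan' : ⊤ ≤ Submodule.span k (Set.range ((↑) : b → V)) := by
    rw [Subtype.range_coe, hspan, hT]
  let B : Module.Basis b k V := Module.Basis.mk hli hspan'
  have hB : ∀ i : b, B i = (i : V) := fun i => Module.Basis.mk_apply hli hspan' i
  let BK : Module.Basis b K (K ⊗[k] V) := B.baseChange K
  have hBK : ∀ i : b, BK i = (1 : K) ⊗ₜ[k] (i : V) := fun i => by
    rw [Module.Basis.baseChange_apply, hB]
  have hw : LinearIndependent K (fun i : b => Ψ (BK i)) := by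
    rw [linearIndependent_iff_finset_linearIndependent]
    intro s
    let e := s.equivFin
    have h1 := h s.card (fun j => ((e.symm j : s) : b)) (fun j => hbT (e.symm j).1.2)
      (by
        have h2 : LinearIndependent k (((↑) : b → V) ∘ ((↑) : s → b)) :=
          hli.comp _ Subtype.val_injective
        exact h2.comp _ e.symm.injective)
    have h3 : LinearIndependent K
        ((fun j : Fin s.card => Ψ ((1 : K) ⊗ₜ[k] (((e.symm j : s) : b) : V))) ∘ e) :=
      h1.comp _ e.injective
    convert h3 using 1
    funext i
    simp only [Function.comp_apply, Equiv.symm_apply_apply, hBK]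
  have hΨ : Ψ = (Finsupp.linearCombination K (fun i : b => Ψ (BK i))) ∘ₗ
      BK.repr.toLinearMap := by
    apply BK.ext
    intro i
    simp
  rw [hΨ, LinearMap.coe_comp]
  exact Function.Injective.comp hw BK.repr.injective

end H5.NG
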