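import Mathlib
import Groth.Agent.Lib.Helper1.Adic
import Groth.Agent.Lib.Helper2.DimFG

set_option autoImplicit false
universe u v

open IsLocalRing

namespace Groth.Agent.H5.NN

/-- an Artinian local ring whose residue field is finite over `P` is finite over `P`. -/
theorem finite_of_isArtinianRing {P : Type u} {R : Type v} [CommRing P] [CommRing R]
    [IsLocalRing R] [IsArtinianRing R] [Algebra P R] [Module.Finite P (ResidueField R)] :
    Module.Finite P R := by
  classical
  obtain ⟨t, κs, hκs⟩ := Module.Finite.exists_fin (R := P) (M := ResidueField R)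
  choose c hc using fun l => residue_surjective (κs l)
  -- every element is a `P`-combination of the `c l` modulo `𝔪`
  have hdecomp : ∀ r : R, ∃ a : Fin t → P, r - ∑ l, a l • c l ∈ maximalIdeal R := by
    intro r
    have hmem : residue R r ∈ Submodule.span P (Set.range κs) := by rw [hκs]; trivial
    obtain ⟨a, ha⟩ := (Submodule.mem_span_range_iff_exists_fun P).mp hmem
    refine ⟨a, ?_⟩
    rw [← residue_eq_zero_iff, map_sub, ← ha, sub_eq_zero, map_sum]
    refine Finset.sum_congr rfl (fun l _ => ?_)
    rw [← hc l]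
    rfl
  obtain ⟨k, hk⟩ := (isArtinianRing_iff_isNilpotent_maximalIdeal R).mp inferInstance
  have key : ∀ j i : ℕ, i + j = k → ((maximalIdeal R ^ i).restrictScalars P).FG := by
    intro j
    induction j with
    | zero =>
      intro i hi
      rw [add_zero] at hi
      subst hi
      have : (maximalIdeal R ^ i).restrictScalars P = ⊥ := by
        rw [hk]; rfl
      rw [this]; exact Submodule.fg_bot
    | succ j ih =>
      intro i hi
      have h1 : ((maximalIdeal R ^ (i + 1)).restrictScalars P).FG := ih (i + 1) (by omega)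
      obtain ⟨gs, hgs⟩ : (maximalIdeal R ^ i).FG := IsNoetherian.noetherian _
      let T : Set R := (fun x : Fin t × R => c x.1 * x.2) '' (Set.univ ×ˢ (gs : Set R))
      have hT : T.Finite := (Set.finite_univ.prod gs.finite_toSet).image _
      have hgmem : ∀ g ∈ gs, g ∈ maximalIdeal R ^ i := fun g hg => by
        rw [← hgs]; exact Ideal.subset_span hg
      have heq : (maximalIdeal R ^ i).restrictScalars P =
          Submodule.span P T ⊔ (maximalIdeal R ^ (i + 1)).restrictScalars P := by
        apply le_antisymm
        · intro x hx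
          have hx' : x ∈ Ideal.span (gs : Set R) := by rw [hgs]; exact hx
          obtain ⟨f, hf⟩ := Submodule.mem_span_finset.mp hx'
          choose a ha using fun g => hdecomp (f g)
          have hx2 : x = ∑ g ∈ gs, ∑ l, a g l • (c l * g) +
              ∑ g ∈ gs, (f g - ∑ l, a g l • c l) * g := by
            rw [← hf.2, ← Finset.sum_add_distrib]
            refine Finset.sum_congr rfl (fun g _ => ?_)
            rw [sub_mul, Finset.sum_mul, smul_eq_mul]
            have : ∀ l, a g l • (c l * g) = a g l • c l * g := fun l => by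
              rw [smul_mul_assoc]
            simp only [this]
            ring
          rw [hx2]
          refine Submodule.add_mem_sup ?_ ?_
          · refine Submodule.sum_mem _ (fun g hg => Submodule.sum_mem _ (fun l _ => ?_))
            exact Submodule.smul_mem _ _ (Submodule.subset_span ⟨(l, g), ⟨trivial, hg⟩, rfl⟩)
          · refine Submodule.sum_mem _ (fun g hg => ?_)
            show _ ∈ maximalIdeal R ^ (i + 1)
            rw [pow_succ']
            exact Ideal.mul_mem_mul (ha g) (hgmem g hg)
        · refine sup_le ?_ ?_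
          · rw [Submodule.span_le]
            rintro _ ⟨⟨l, g⟩, ⟨-, hg⟩, rfl⟩
            exact Ideal.mul_mem_left _ _ (hgmem g hg)
          · intro x hx
            exact Ideal.pow_le_pow_right (Nat.le_succ i) hx
      rw [heq]
      exact (Submodule.fg_span hT).sup h1
  have := key k 0 (by omega)
  rw [pow_zero, Ideal.one_eq_top] at this
  exact ⟨this⟩

end Groth.Agent.H5.NN

namespace Groth.Agent.H5.NN

/-- complete Nakayama in ring-hom form. -/
theorem finite_of_finite_quotient {P R : Type u} [CommRing P] [CommRing R] (φ : P →+* R)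
    (I : Ideal P) [IsPrecomplete I P] [IsHausdorff (I.map φ) R]
    (h : ((Ideal.Quotient.mk (I.map φ)).comp φ).Finite) : φ.Finite := by
  algebraize [φ, (Ideal.Quotient.mk (I.map φ)).comp φ]
  haveI : IsScalarTower P R (R ⧸ I.map (algebraMap P R)) := IsScalarTower.of_algebraMap_eq' rfl
  haveI : IsHausdorff I R := IsHausdorff.map_algebraMap_iff.mp ‹_›
  have hfin : Module.Finite P (R ⧸ I.map (algebraMap P R)) := h
  refine Groth.Agent.H1.module_finite_of_isHausdorff_of_quotient_finite I R ?_
  have e1 : (R ⧸ (I • ⊤ : Submodule P R)) ≃ₗ[P]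
      (R ⧸ (I.map (algebraMap P R)).restrictScalars P) :=
    Submodule.quotEquivOfEq _ _ (Ideal.smul_top_eq_map I)
  have e2 : (R ⧸ (I.map (algebraMap P R)).restrictScalars P) ≃ₗ[P]
      (R ⧸ I.map (algebraMap P R)) :=
    Submodule.Quotient.restrictScalarsEquiv P _
  exact Module.Finite.equiv (e1.trans e2).symm

end Groth.Agent.H5.NN

namespace Groth.Agent.H5.NN

/-- a finite ring map from a domain of dimension at most `d` to a domain of dimension at least
`d` is injective. -/
theorem injective_of_finite_of_dim {P R : Type*} [CommRing P] [CommRing R] [IsDomain P]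
    [IsDomain R] (φ : P →+* R) (hφ : φ.Finite) (d : ℕ) (hP : ringKrullDim P ≤ d)
    (hR : (d : WithBot ℕ∞) ≤ ringKrullDim R) : Function.Injective φ := by
  rw [RingHom.injective_iff_ker_eq_bot]
  by_contra hne
  obtain ⟨x, hx, hx0⟩ := Submodule.exists_mem_ne_zero_of_ne_bot hne
  -- the induced map `P ⧸ ker φ → R` is injective and integral
  let ψ : P ⧸ RingHom.ker φ →+* R := RingHom.kerLift φ
  have hψinj : Function.Injective ψ := RingHom.kerLift_injective φ
  have hψfin : ψ.Finite := by
    have : ψ.comp (Ideal.Quotient.mk (RingHom.ker φ)) = φ := by ext; rfl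
    exact RingHom.Finite.of_comp_finite (f := Ideal.Quotient.mk (RingHom.ker φ)) (by rw [this]; exact hφ)
  have hdim : ringKrullDim R = ringKrullDim (P ⧸ RingHom.ker φ) := by
    algebraize [ψ]
    haveI : Algebra.IsIntegral (P ⧸ RingHom.ker φ) R := Algebra.IsIntegral.of_finite _ _
    exact Groth.Agent.H2.DimFG.ringKrullDim_eq_of_integral_injective _ _ hψinj
  have h1 : ringKrullDim (P ⧸ RingHom.ker φ) + 1 ≤ ringKrullDim P :=
    ringKrullDim_succ_le_of_surjective (Ideal.Quotient.mk (RingHom.ker φ))
      Ideal.Quotient.mk_surjective (mem_nonZeroDivisors_of_ne_zero hx0)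
      (Ideal.Quotient.eq_zero_iff_mem.mpr hx)
  have h2 : (d : WithBot ℕ∞) + 1 ≤ d := by
    calc (d : WithBot ℕ∞) + 1 ≤ ringKrullDim R + 1 := by gcongr
      _ = ringKrullDim (P ⧸ RingHom.ker φ) + 1 := by rw [hdim]
      _ ≤ ringKrullDim P := h1
      _ ≤ d := hP
  have h3 : ((d + 1 : ℕ) : WithBot ℕ∞) ≤ (d : ℕ) := by
    push_cast; exact h2
  have := (WithBot.coe_le_coe.mp h3)
  have := (ENat.coe_le_coe.mp this)
  omega

end Groth.Agent.H5.NN

namespace Groth.Agent.H5.NN

/-- existence of a system of parameters. -/
theorem exists_sop (R : Type*) [CommRing R] [IsLocalRing R] [IsNoetherianRing R] :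
    ∃ (n : ℕ) (y : Fin n → R), (n : WithBot ℕ∞) ≤ ringKrullDim R ∧
      (∀ i, y i ∈ maximalIdeal R) ∧ IsArtinianRing (R ⧸ Ideal.span (Set.range y)) := by
  classical
  obtain ⟨J, hJm, hJr, hJh⟩ := Ideal.exists_spanRank_eq_and_height_eq (maximalIdeal R)
    (maximalIdeal.isMaximal R).ne_top
  have hJfg : J.FG := IsNoetherian.noetherian J
  obtain ⟨s, hs1, hs2⟩ := Submodule.FG.exists_span_finset_card_eq_spanFinrank hJfg
  have hmin : maximalIdeal R ∈ J.minimalPrimes := Ideal.mem_minimalPrimes_of_height_le hJm hJh.ge
  have hart : IsArtinianRing (R ⧸ J) :=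
    IsLocalRing.quotient_artinian_of_mem_minimalPrimes_of_isLocalRing J hmin
  let y : Fin s.card → R := fun i => (s.equivFin.symm i : R)
  have hy_range : Set.range y = (s : Set R) := by
    ext x
    constructor
    · rintro ⟨i, rfl⟩
      exact (s.equivFin.symm i).2
    · intro hx
      exact ⟨s.equivFin ⟨x, hx⟩, by simp [y]⟩
  have hspan : Ideal.span (Set.range y) = J := by rw [hy_range]; exact hs2
  refine ⟨s.card, y, ?_, ?_, ?_⟩
  · rw [← IsLocalRing.maximalIdeal_height_eq_ringKrullDim, hs1]
    have h1 : J.spanRank = (J.spanFinrank : Cardinal) := Submodule.FG.spanRank_eq_spanFinrank hJfg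
    rw [h1] at hJr
    have h2 : ((J.spanFinrank : ℕ∞) : Cardinal) = ((maximalIdeal R).height : Cardinal) := by
      rw [← hJr]; simp
    have h3 : (J.spanFinrank : ℕ∞) = (maximalIdeal R).height := Cardinal.ofENat_inj.mp h2
    rw [← h3]
    rfl
  · intro i
    apply hJm
    rw [← hspan]
    exact Ideal.subset_span ⟨i, rfl⟩
  · rw [hspan]; exact hart

end Groth.Agent.H5.NN
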