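import Mathlib
import Groth.Agent.Lib.Helper5.CA.NN1
import Groth.Agent.Lib.Helper5.CA.PSCont

set_option autoImplicit false
universe u v

open IsLocalRing

namespace Groth.Agent.H5.NN

/-- ring-hom form of `finite_of_isArtinianRing`. -/
theorem ringHom_finite_of_isArtinianRing {P : Type u} {R : Type v} [CommRing P] [CommRing R]
    [IsLocalRing R] [IsArtinianRing R] (ψ : P →+* R) (h : ((residue R).comp ψ).Finite) :
    ψ.Finite := by
  algebraize [ψ]
  have heq : (IsLocalRing.ResidueField.algebra R : Algebra P (ResidueField R)) =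
      ((residue R).comp (algebraMap P R)).toAlgebra :=
    Algebra.algebra_ext _ _ (fun _ => rfl)
  haveI : Module.Finite P (ResidueField R) := by
    have h' : @Module.Finite P (ResidueField R) _ _
        ((residue R).comp (algebraMap P R)).toAlgebra.toModule := h
    rw [← heq] at h'
    exact h'
  exact finite_of_isArtinianRing

end Groth.Agent.H5.NN

namespace Groth.Agent.H5.NN

open MvPowerSeries in
/-- the main finiteness theorem: a power series map to a Noetherian local ring hitting a system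
of parameters (relative to the coefficient ring) is finite. -/
theorem finite_of_sop {Λ R : Type u} [CommRing Λ] [CommRing R] [IsLocalRing R]
    [IsNoetherianRing R] (𝔞 : Ideal Λ) [IsPrecomplete 𝔞 Λ] (v : Λ →+* R)
    (hfin : ((residue R).comp v).Finite) (n : ℕ) (y : Fin n → R)
    (hy : ∀ i, y i ∈ maximalIdeal R) (h𝔞 : 𝔞.map v ≤ maximalIdeal R)
    (hart : IsArtinianRing (R ⧸ (𝔞.map v ⊔ Ideal.span (Set.range y))))
    (ψ : MvPowerSeries (Fin n) Λ →+* R) (hψC : ∀ c, ψ (C c) = v c)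
    (hψX : ∀ i, ψ (X i) = y i) : ψ.Finite := by
  classical
  set I₁ : Ideal (MvPowerSeries (Fin n) Λ) := Ideal.span (Set.range X) with hI₁def
  have hI₁ : I₁.map ψ = Ideal.span (Set.range y) := by
    rw [hI₁def, Ideal.map_span, ← Set.range_comp]
    congr 2
    funext i
    exact hψX i
  have hyle : I₁.map ψ ≤ maximalIdeal R := by
    rw [hI₁, Ideal.span_le]
    rintro _ ⟨i, rfl⟩
    exact hy i
  have hyne : I₁.map ψ ≠ ⊤ := fun h => (maximalIdeal.isMaximal R).ne_top (top_le_iff.mp (h ▸ hyle))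
  haveI : IsHausdorff (I₁.map ψ) R := IsHausdorff.of_isLocalRing _ _ hyne
  refine finite_of_finite_quotient ψ I₁ ?_
  let v' : Λ →+* R ⧸ I₁.map ψ := (Ideal.Quotient.mk (I₁.map ψ)).comp v
  have hcomp : (Ideal.Quotient.mk (I₁.map ψ)).comp ψ = v'.comp constantCoeff := by
    ext g
    show Ideal.Quotient.mk _ (ψ g) = Ideal.Quotient.mk _ (v (constantCoeff g))
    rw [Ideal.Quotient.eq, ← hψC, ← map_sub]
    apply Ideal.mem_map_of_mem
    rw [hI₁def, ← Groth.Agent.H5.CA.ker_constantCoeff_eq_span, RingHom.mem_ker, map_sub,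
      constantCoeff_C, sub_self]
  rw [hcomp]
  refine RingHom.Finite.comp ?_ (RingHom.Finite.of_surjective _ (fun c => ⟨C c, constantCoeff_C c⟩))
  -- `v'` is finite
  haveI : Nontrivial (R ⧸ I₁.map ψ) := Ideal.Quotient.nontrivial_iff.mpr hyne
  haveI : IsLocalRing (R ⧸ I₁.map ψ) :=
    IsLocalRing.of_surjective' (Ideal.Quotient.mk (I₁.map ψ)) Ideal.Quotient.mk_surjective
  have hmax' : (maximalIdeal R).map (Ideal.Quotient.mk (I₁.map ψ)) =
      maximalIdeal (R ⧸ I₁.map ψ) :=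
    IsLocalRing.map_maximalIdeal_of_surjective _ Ideal.Quotient.mk_surjective
  have h𝔞' : 𝔞.map v' ≤ maximalIdeal (R ⧸ I₁.map ψ) := by
    rw [← hmax', ← Ideal.map_map]
    exact Ideal.map_mono h𝔞
  have h𝔞ne : 𝔞.map v' ≠ ⊤ := fun h =>
    (maximalIdeal.isMaximal _).ne_top (top_le_iff.mp (h ▸ h𝔞'))
  haveI : IsHausdorff (𝔞.map v') (R ⧸ I₁.map ψ) := IsHausdorff.of_isLocalRing _ _ h𝔞ne
  refine finite_of_finite_quotient v' 𝔞 ?_
  -- the double quotient is Artinian local
  let π : R →+* (R ⧸ I₁.map ψ) ⧸ 𝔞.map v' :=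
    (Ideal.Quotient.mk (𝔞.map v')).comp (Ideal.Quotient.mk (I₁.map ψ))
  have hπ : Function.Surjective π :=
    Ideal.Quotient.mk_surjective.comp Ideal.Quotient.mk_surjective
  have hker : 𝔞.map v ⊔ Ideal.span (Set.range y) ≤ RingHom.ker π := by
    refine sup_le ?_ ?_
    · rw [Ideal.map_le_iff_le_comap]
      intro a ha
      rw [Ideal.mem_comap, RingHom.mem_ker]
      show Ideal.Quotient.mk (𝔞.map v') (v' a) = 0
      exact Ideal.Quotient.eq_zero_iff_mem.mpr (Ideal.mem_map_of_mem _ ha)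
    · rw [← hI₁]
      intro x hx
      rw [RingHom.mem_ker]
      show Ideal.Quotient.mk (𝔞.map v') (Ideal.Quotient.mk (I₁.map ψ) x) = 0
      rw [Ideal.Quotient.eq_zero_iff_mem.mpr hx, map_zero]
  let π' : R ⧸ (𝔞.map v ⊔ Ideal.span (Set.range y)) →+* (R ⧸ I₁.map ψ) ⧸ 𝔞.map v' :=
    Ideal.Quotient.lift _ π (fun x hx => hker hx)
  have hπ' : Function.Surjective π' := Ideal.Quotient.lift_surjective_of_surjective _ _ hπ
  haveI : IsArtinianRing ((R ⧸ I₁.map ψ) ⧸ 𝔞.map v') := hπ'.isArtinianRing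
  haveI : Nontrivial ((R ⧸ I₁.map ψ) ⧸ 𝔞.map v') := Ideal.Quotient.nontrivial_iff.mpr h𝔞ne
  haveI : IsLocalRing ((R ⧸ I₁.map ψ) ⧸ 𝔞.map v') :=
    IsLocalRing.of_surjective' π hπ
  refine ringHom_finite_of_isArtinianRing _ ?_
  haveI : IsLocalHom π := hπ.isLocalHom
  have hcomp2 : (residue ((R ⧸ I₁.map ψ) ⧸ 𝔞.map v')).comp
      ((Ideal.Quotient.mk (𝔞.map v')).comp v') =
      (ResidueField.map π).comp ((residue R).comp v) := by
    ext a
    rfl
  rw [hcomp2]
  refine RingHom.Finite.comp (RingHom.Finite.of_surjective _ ?_) hfin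
  intro z
  obtain ⟨w, rfl⟩ := residue_surjective z
  obtain ⟨r, rfl⟩ := hπ w
  exact ⟨residue R r, rfl⟩

end Groth.Agent.H5.NN
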