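import Mathlib
import Groth.Agent.Lib.Helper5.CA.NN2
import Groth.Agent.Lib.Helper5.CA.PSExt
import Groth.Agent.Lib.Helper6.PSCotC

set_option autoImplicit false
universe u v

open IsLocalRing

namespace Groth.Agent.H5.NN

open MvPowerSeries in
/-- Noether normalization for complete local domains over a field (EGA 0_IV 19.8.9). -/
theorem exists_finite_injective_field {k₀ A : Type u} [Field k₀] [CommRing A] [IsDomain A]
    [IsLocalRing A] [IsNoetherianRing A] [IsAdicComplete (maximalIdeal A) A] [Algebra k₀ A]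
    [Module.Finite k₀ (ResidueField A)] :
    ∃ (n : ℕ) (w : MvPowerSeries (Fin n) k₀ →ₐ[k₀] A), Function.Injective w ∧
      IsLocalHom w.toRingHom ∧ w.toRingHom.Finite := by
  obtain ⟨n, y, hn, hy, hart⟩ := exists_sop A
  obtain ⟨w, hwX⟩ := Groth.Agent.H5.CA.exists_algHom_mvPowerSeries' k₀ A (maximalIdeal A) y hy
  have hwC : ∀ c, w.toRingHom (C c) = algebraMap k₀ A c := fun c => by
    have : (C c : MvPowerSeries (Fin n) k₀) = algebraMap k₀ _ c := by
      rw [MvPowerSeries.algebraMap_apply]; simp
    show w (C c) = _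
    rw [this, AlgHom.commutes]
  have hfin0 : ((residue A).comp (algebraMap k₀ A)).Finite := by
    have heq : (IsLocalRing.ResidueField.algebra A : Algebra k₀ (ResidueField A)) =
        ((residue A).comp (algebraMap k₀ A)).toAlgebra :=
      Algebra.algebra_ext _ _ (fun _ => rfl)
    have h' : @Module.Finite k₀ (ResidueField A) _ _
        (IsLocalRing.ResidueField.algebra A : Algebra k₀ (ResidueField A)).toModule :=
      inferInstance
    rw [heq] at h'
    exact h'
  have hart' : IsArtinianRing (A ⧸ ((⊥ : Ideal k₀).map (algebraMap k₀ A) ⊔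
      Ideal.span (Set.range y))) := by
    rw [Ideal.map_bot, bot_sup_eq]; exact hart
  have hfin : w.toRingHom.Finite :=
    finite_of_sop (⊥ : Ideal k₀) (algebraMap k₀ A) hfin0 n y hy (by simp) hart' w.toRingHom hwC hwX
  haveI : IsDomain (MvPowerSeries (Fin n) k₀) := NoZeroDivisors.to_isDomain _
  refine ⟨n, w, ?_, ?_, hfin⟩
  · exact injective_of_finite_of_dim w.toRingHom hfin n
      (Groth.Agent.H6.PSCot.ringKrullDim_mvPowerSeries_le n) hn
  · refine ⟨fun g hg => ?_⟩
    rw [MvPowerSeries.isUnit_iff_constantCoeff, isUnit_iff_ne_zero]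
    intro h0
    -- `g` has zero constant coefficient, so `w g ∈ 𝔪`
    have hg0 : g ∈ Ideal.span (Set.range (X : Fin n → MvPowerSeries (Fin n) k₀)) := by
      rw [← Groth.Agent.H5.CA.ker_constantCoeff_eq_span, RingHom.mem_ker]; exact h0
    have hwg : w g ∈ (Ideal.span (Set.range (X : Fin n → MvPowerSeries (Fin n) k₀))).map
        w.toRingHom := Ideal.mem_map_of_mem _ hg0
    rw [Ideal.map_span, ← Set.range_comp] at hwg
    have hle : Ideal.span (Set.range (w.toRingHom ∘ X)) ≤ maximalIdeal A := by
      rw [Ideal.span_le]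
      rintro _ ⟨i, rfl⟩
      show w (X i) ∈ _
      rw [hwX]; exact hy i
    exact (mem_maximalIdeal _).mp (hle hwg) hg

end Groth.Agent.H5.NN
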