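import Mathlib
import Groth.Agent.Lib.Helper5.CA.NN3
import Groth.Agent.Lib.Helper5.CA.Cohen9
import Groth.Agent.Lib.Helper5.CA.Cohen8
import Groth.Agent.Lib.Helper5.CA.CZ7
import Groth.Agent.S0579

set_option autoImplicit false
universe u v

open IsLocalRing

namespace Groth.Agent.H5.NN

/-- dimension bound for power series over a Cohen ring. -/
theorem ringKrullDim_mvPowerSeries_cohen_le {Λ : Type u} [CommRing Λ] [IsLocalRing Λ]
    [IsNoetherianRing Λ] {π : Λ} (hm : maximalIdeal Λ = Ideal.span {π}) (n : ℕ) :
    ringKrullDim (MvPowerSeries (Fin n) Λ) ≤ ((n + 1 : ℕ) : WithBot ℕ∞) := by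
  classical
  refine (ringKrullDim_le_spanFinrank_maximalIdeal _).trans ?_
  have h1 : maximalIdeal (MvPowerSeries (Fin n) Λ) =
      Ideal.span (insert (MvPowerSeries.C π) (Set.range (MvPowerSeries.X : Fin n → _))) := by
    rw [Cohen2.maximalIdeal_mvPowerSeries, hm, Ideal.map_span, Set.image_singleton,
      Groth.Agent.H5.CA.ker_constantCoeff_eq_span, ← Ideal.span_union, Set.singleton_union]
  have hfin : (insert (MvPowerSeries.C π)
      (Set.range (MvPowerSeries.X : Fin n → MvPowerSeries (Fin n) Λ))).Finite :=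
    (Set.finite_range _).insert _
  have h2 : (maximalIdeal (MvPowerSeries (Fin n) Λ)).spanFinrank ≤ n + 1 := by
    rw [h1]
    refine (Submodule.spanFinrank_span_le_ncard_of_finite hfin).trans ?_
    refine (Set.ncard_insert_le _ _).trans ?_
    have : (Set.range (MvPowerSeries.X : Fin n → MvPowerSeries (Fin n) Λ)).ncard ≤ n := by
      calc (Set.range (MvPowerSeries.X : Fin n → MvPowerSeries (Fin n) Λ)).ncard
          ≤ Nat.card (Fin n) := by
            rw [← Set.image_univ]
            refine (Set.ncard_image_le (Set.finite_univ)).trans ?_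
            rw [Set.ncard_univ]
        _ = n := by simp
    omega
  exact_mod_cast h2

end Groth.Agent.H5.NN

namespace Groth.Agent.H5.NN

open MvPowerSeries in
/-- the equal characteristic case: a coefficient field gives the structure theorem. -/
theorem structure_of_coeffField (R : Type u) [CommRing R] [IsDomain R] [IsLocalRing R]
    [IsNoetherianRing R] [IsAdicComplete (maximalIdeal R) R]
    (s : ResidueField R →+* R) (hs : (residue R).comp s = RingHom.id _) :
    ∃ (Λ : Type u) (_ : CommRing Λ) (n : ℕ) (f : MvPowerSeries (Fin n) Λ →+* R),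
      (IsField Λ ∨ CAlg.IsCohenRing Λ) ∧ Function.Injective f ∧ f.Finite ∧
      Function.Surjective ((residue R).comp f) := by
  letI : Algebra (ResidueField R) R := s.toAlgebra
  have hfinκ : @Module.Finite (ResidueField R) (ResidueField R) _ _
      (IsLocalRing.ResidueField.algebra R : Algebra (ResidueField R) (ResidueField R)).toModule := by
    have heq : (IsLocalRing.ResidueField.algebra R : Algebra (ResidueField R) (ResidueField R)) =
        Algebra.id (ResidueField R) :=
      Algebra.algebra_ext _ _ (fun c => congrArg (fun φ => φ c) hs)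
    rw [heq]
    exact Module.Finite.self _
  obtain ⟨n, w, hinj, -, hfin⟩ :=
    @exists_finite_injective_field (ResidueField R) R _ _ _ _ _ _ _ hfinκ
  refine ⟨ResidueField R, inferInstance, n, w.toRingHom, Or.inl (Field.toIsField _), hinj, hfin, ?_⟩
  intro c
  refine ⟨C c, ?_⟩
  have : (C c : MvPowerSeries (Fin n) (ResidueField R)) = algebraMap (ResidueField R) _ c := by
    rw [MvPowerSeries.algebraMap_apply]; simp
  show residue R (w (C c)) = c
  rw [this, AlgHom.commutes]
  exact congrArg (fun φ => φ c) hs

end Groth.Agent.H5.NN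

namespace Groth.Agent.H5.NN

open MvPowerSeries in
/-- the mixed characteristic case. -/
theorem structure_of_mixed (R : Type u) [CommRing R] [IsDomain R] [IsLocalRing R]
    [IsNoetherianRing R] [IsAdicComplete (maximalIdeal R) R] (p : ℕ) (hp : p.Prime)
    [CharP (ResidueField R) p] (hpR : (p : R) ≠ 0) :
    ∃ (Λ : Type u) (_ : CommRing Λ) (n : ℕ) (f : MvPowerSeries (Fin n) Λ →+* R),
      (IsField Λ ∨ CAlg.IsCohenRing Λ) ∧ Function.Injective f ∧ f.Finite ∧
      Function.Surjective ((residue R).comp f) := by
  classical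
  haveI : Fact p.Prime := ⟨hp⟩
  obtain ⟨Λ, _, _, hΛ, ⟨ε⟩⟩ := CohenZorn.exists_cohenRing p (ResidueField R)
  have hΛ' := hΛ
  obtain ⟨hdom, hdvr, hcomp, q, hq, hmq⟩ := hΛ'
  have hpq : p = q := Cohen8.charP_eq_of_isCohenRing hq hmq p
    (ε : ResidueField Λ →+* ResidueField R)
  subst hpq
  let u : Λ →+* ResidueField R := (ε : ResidueField Λ →+* ResidueField R).comp (residue Λ)
  haveI : IsLocalHom u := by
    haveI : IsLocalHom (residue Λ) := (residue_surjective (R := Λ)).isLocalHom
    haveI : IsLocalHom (ε : ResidueField Λ →+* ResidueField R) :=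
      ⟨fun a ha => by
        have := ha.map (ε.symm : ResidueField R →+* ResidueField Λ)
        simpa using this⟩
    exact RingHom.isLocalHom_comp _ _
  obtain ⟨v, hv⟩ := Cohen9.exists_lift_residue (Or.inr hΛ) u
  have husurj : Function.Surjective u := by
    intro y
    obtain ⟨x, hx⟩ := residue_surjective (ε.symm y)
    exact ⟨x, by simp [u, hx]⟩
  have hpm : (p : R) ∈ maximalIdeal R := by
    rw [← residue_eq_zero_iff, map_natCast]
    exact CharP.cast_eq_zero _ p
  have hmapv : (maximalIdeal Λ).map v = Ideal.span {(p : R)} := by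
    rw [hmq, Ideal.map_span, Set.image_singleton, map_natCast]
  -- system of parameters of `R ⧸ (p)`
  have hpne : Ideal.span {(p : R)} ≠ ⊤ := fun h =>
    (maximalIdeal.isMaximal R).ne_top (top_le_iff.mp (h ▸ (Ideal.span_singleton_le_iff_mem _).mpr hpm))
  haveI : Nontrivial (R ⧸ Ideal.span {(p : R)}) := Ideal.Quotient.nontrivial_iff.mpr hpne
  haveI : IsLocalRing (R ⧸ Ideal.span {(p : R)}) :=
    IsLocalRing.of_surjective' (Ideal.Quotient.mk _) Ideal.Quotient.mk_surjective
  obtain ⟨n, ybar, hn, hybar, hartbar⟩ := exists_sop (R ⧸ Ideal.span {(p : R)})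
  choose y hyy using fun i => Ideal.Quotient.mk_surjective (ybar i)
  have hy : ∀ i, y i ∈ maximalIdeal R := by
    intro i
    rw [mem_maximalIdeal, mem_nonunits_iff]
    intro hu
    have := hu.map (Ideal.Quotient.mk (Ideal.span {(p : R)}))
    rw [hyy] at this
    exact (mem_maximalIdeal _).mp (hybar i) this
  have hart : IsArtinianRing (R ⧸ ((maximalIdeal Λ).map v ⊔ Ideal.span (Set.range y))) := by
    rw [hmapv]
    have hmapy : (Ideal.span (Set.range y)).map (Ideal.Quotient.mk (Ideal.span {(p : R)})) =
        Ideal.span (Set.range ybar) := by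
      rw [Ideal.map_span, ← Set.range_comp]
      congr 2
      funext i
      exact hyy i
    have e := DoubleQuot.quotQuotEquivQuotSup (Ideal.span {(p : R)}) (Ideal.span (Set.range y))
    rw [hmapy] at e
    exact e.surjective.isArtinianRing
  letI : Algebra Λ R := v.toAlgebra
  obtain ⟨ψ, hψX⟩ := Groth.Agent.H5.CA.exists_algHom_mvPowerSeries' Λ R (maximalIdeal R) y hy
  have hψC : ∀ c, ψ.toRingHom (C c) = v c := fun c => by
    have : (C c : MvPowerSeries (Fin n) Λ) = algebraMap Λ _ c := by
      rw [MvPowerSeries.algebraMap_apply]; simp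
    show ψ (C c) = _
    rw [this, AlgHom.commutes]
    rfl
  have hfin0 : ((residue R).comp v).Finite := by
    rw [hv]; exact RingHom.Finite.of_surjective _ husurj
  have hfin : ψ.toRingHom.Finite :=
    finite_of_sop (maximalIdeal Λ) v hfin0 n y hy
      (by rw [hmapv]; exact (Ideal.span_singleton_le_iff_mem _).mpr hpm) hart ψ.toRingHom hψC hψX
  haveI : IsDomain (MvPowerSeries (Fin n) Λ) := NoZeroDivisors.to_isDomain _
  refine ⟨Λ, inferInstance, n, ψ.toRingHom, Or.inr hΛ, ?_, hfin, ?_⟩
  · refine injective_of_finite_of_dim ψ.toRingHom hfin (n + 1)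
      (ringKrullDim_mvPowerSeries_cohen_le hmq n) ?_
    have hreg : (p : R) ∈ nonZeroDivisors R := mem_nonZeroDivisors_of_ne_zero hpR
    have h1 := ringKrullDim_quotient_span_singleton_succ_eq_ringKrullDim_of_mem_nonZeroDivisors
      hreg hpm
    rw [← h1]
    push_cast
    gcongr
  · intro c
    obtain ⟨a, ha⟩ := husurj c
    refine ⟨C a, ?_⟩
    show residue R (ψ.toRingHom (C a)) = c
    rw [hψC]
    have := congrArg (fun φ => φ a) hv
    simp only [RingHom.comp_apply] at this
    rw [this, ha]

end Groth.Agent.H5.NN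

namespace Groth.Agent.H5.NN

/-- a complete local ring with `(p : R) = 0` has a coefficient field. -/
theorem exists_coeffField_of_charP (R : Type u) [CommRing R] [IsLocalRing R]
    [IsAdicComplete (maximalIdeal R) R] (p : ℕ) (hp : p.Prime)
    [CharP (ResidueField R) p] (hpR : (p : R) = 0) :
    ∃ s : ResidueField R →+* R, (residue R).comp s = RingHom.id _ := by
  classical
  haveI : Fact p.Prime := ⟨hp⟩
  obtain ⟨Λ, _, _, hΛ, ⟨ε⟩⟩ := CohenZorn.exists_cohenRing p (ResidueField R)
  have hΛ' := hΛ
  obtain ⟨hdom, hdvr, hcomp, q, hq, hmq⟩ := hΛ'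
  have hpq : p = q := Cohen8.charP_eq_of_isCohenRing hq hmq p
    (ε : ResidueField Λ →+* ResidueField R)
  subst hpq
  let u : Λ →+* ResidueField R := (ε : ResidueField Λ →+* ResidueField R).comp (residue Λ)
  haveI : IsLocalHom u := by
    haveI : IsLocalHom (residue Λ) := (residue_surjective (R := Λ)).isLocalHom
    haveI : IsLocalHom (ε : ResidueField Λ →+* ResidueField R) :=
      ⟨fun a ha => by
        have := ha.map (ε.symm : ResidueField R →+* ResidueField Λ)
        simpa using this⟩
    exact RingHom.isLocalHom_comp _ _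
  obtain ⟨v, hv⟩ := Cohen9.exists_lift_residue (Or.inr hΛ) u
  have hker : ∀ a ∈ maximalIdeal Λ, v a = 0 := by
    intro a ha
    rw [hmq, Ideal.mem_span_singleton] at ha
    obtain ⟨b, rfl⟩ := ha
    rw [map_mul, map_natCast, hpR, zero_mul]
  let s₀ : ResidueField Λ →+* R := Ideal.Quotient.lift (maximalIdeal Λ) v hker
  refine ⟨s₀.comp (ε.symm : ResidueField R →+* ResidueField Λ), ?_⟩
  ext c
  obtain ⟨a, ha⟩ := residue_surjective (ε.symm c)
  simp only [RingHom.comp_apply, RingHom.id_apply, RingHom.coe_coe]
  rw [← ha]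
  have h1 : s₀ (residue Λ a) = v a := Ideal.Quotient.lift_mk _ _ _
  rw [h1]
  have := congrArg (fun φ => φ a) hv
  simp only [RingHom.comp_apply] at this
  rw [this]
  simp only [u, RingHom.comp_apply, RingHom.coe_coe]
  rw [ha]
  simp

/-- Cohen structure theorem for complete Noetherian local domains. -/
theorem cohen_structure_domain (R : Type u) [CommRing R] [IsDomain R] [IsLocalRing R]
    [IsNoetherianRing R] [IsAdicComplete (maximalIdeal R) R] :
    ∃ (Λ : Type u) (_ : CommRing Λ) (n : ℕ) (f : MvPowerSeries (Fin n) Λ →+* R),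
      (IsField Λ ∨ CAlg.IsCohenRing Λ) ∧ Function.Injective f ∧ f.Finite ∧
      Function.Surjective ((residue R).comp f) := by
  obtain ⟨p, hpc⟩ := CharP.exists (ResidueField R)
  rcases Nat.eq_zero_or_pos p with rfl | hpos
  · haveI : CharZero (ResidueField R) := CharP.charP_to_charZero _
    obtain ⟨s, hs⟩ := Groth.Agent.S0579.result R
    exact structure_of_coeffField R s hs
  · have hp : p.Prime := by
      rcases CharP.char_is_prime_or_zero (ResidueField R) p with h | h
      · exact h
      · omega
    by_cases hpR : (p : R) = 0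
    · obtain ⟨s, hs⟩ := exists_coeffField_of_charP R p hp hpR
      exact structure_of_coeffField R s hs
    · exact structure_of_mixed R p hp hpR

end Groth.Agent.H5.NN
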