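import Mathlib
import Groth.Agent.Lib.Helper5.CA.NN4

set_option autoImplicit false
universe u v

open IsLocalRing

namespace Groth.Agent.H5.CF

/-- a complete local ring in which the residue characteristic vanishes has a coefficient field. -/
theorem exists_coeffField (A : Type u) [CommRing A] [IsLocalRing A]
    [IsAdicComplete (maximalIdeal A) A] (p : ℕ) [CharP (ResidueField A) p] (hp : (p : A) = 0) :
    ∃ s : ResidueField A →+* A, (residue A).comp s = RingHom.id _ := by
  rcases Nat.eq_zero_or_pos p with rfl | hpos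
  · haveI : CharZero (ResidueField A) := CharP.charP_to_charZero _
    exact Groth.Agent.S0579.result A
  · have hpp : p.Prime := by
      rcases CharP.char_is_prime_or_zero (ResidueField A) p with h | h
      · exact h
      · omega
    exact NN.exists_coeffField_of_charP A p hpp hp

/-- minimal generators of the maximal ideal: the coefficients of a relation lie in the
maximal ideal. -/
theorem coeff_mem_of_minimal {R : Type*} [CommRing R] [IsLocalRing R] {n : ℕ} (b : Fin n → R)
    (hb : Ideal.span (Set.range b) = maximalIdeal R) (hn : n = (maximalIdeal R).spanFinrank)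
    (a : Fin n → R) (h : ∑ i, a i * b i = 0) (j : Fin n) : a j ∈ maximalIdeal R := by
  classical
  by_contra hj
  have hu : IsUnit (a j) := by rwa [mem_maximalIdeal, mem_nonunits_iff, not_not] at hj
  obtain ⟨u, hu⟩ := hu
  have hbj : b j ∈ Ideal.span (b '' {i | i ≠ j}) := by
    have h1 : a j * b j = - ∑ i ∈ Finset.univ.erase j, a i * b i := by
      rw [← Finset.add_sum_erase _ _ (Finset.mem_univ j)] at h
      exact eq_neg_of_add_eq_zero_left h
    have h2 : b j = ↑u⁻¹ * (a j * b j) := by
      rw [← mul_assoc, ← hu, Units.inv_mul, one_mul]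
    rw [h2, h1]
    refine Ideal.mul_mem_left _ _ (neg_mem (Ideal.sum_mem _ fun i hi =>
      Ideal.mul_mem_left _ _ (Ideal.subset_span ⟨i, ?_, rfl⟩)))
    exact Finset.ne_of_mem_erase hi
  have hle : maximalIdeal R ≤ Ideal.span (b '' {i | i ≠ j}) := by
    rw [← hb, Ideal.span_le]
    rintro _ ⟨i, rfl⟩
    by_cases hij : i = j
    · rw [hij]; exact hbj
    · exact Ideal.subset_span ⟨i, hij, rfl⟩
  have heq : maximalIdeal R = Ideal.span (b '' {i | i ≠ j}) :=
    le_antisymm hle (by rw [← hb]; exact Ideal.span_mono (Set.image_subset_range _ _))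
  have hfin : (b '' {i | i ≠ j}).Finite := (Set.toFinite _).image _
  have hcard : (b '' {i : Fin n | i ≠ j}).ncard ≤ n - 1 := by
    refine (Set.ncard_image_le (Set.toFinite _)).trans ?_
    have : {i : Fin n | i ≠ j} = ((Finset.univ.erase j : Finset (Fin n)) : Set (Fin n)) := by
      ext; simp
    rw [this, Set.ncard_coe_finset, Finset.card_erase_of_mem (Finset.mem_univ _)]
    simp
  have h3 := Submodule.spanFinrank_span_le_ncard_of_finite (R := R) hfin
  have h4 : (maximalIdeal R).spanFinrank ≤ (b '' {i : Fin n | i ≠ j}).ncard := by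
    conv_lhs => rw [heq]
    exact h3
  have hpos : 0 < n := j.pos
  omega

open MvPowerSeries in
/-- a surjection from a power series ring with prescribed images of the variables. -/
theorem exists_surjective_of_gens (K R : Type u) [CommRing K] [CommRing R] [IsLocalRing R]
    [Algebra K R] [IsAdicComplete (maximalIdeal R) R] {n : ℕ} (b : Fin n → R)
    (hb : Ideal.span (Set.range b) = maximalIdeal R)
    (hK : Function.Surjective ((residue R).comp (algebraMap K R))) :
    ∃ ψ : MvPowerSeries (Fin n) K →ₐ[K] R, Function.Surjective ψ ∧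
      ∀ i, ψ (MvPowerSeries.X i) = b i := by
  classical
  have hbm : ∀ i, b i ∈ maximalIdeal R := fun i => by
    rw [← hb]
    exact Ideal.subset_span ⟨i, rfl⟩
  obtain ⟨ψ, hψX⟩ := Groth.Agent.H5.CA.exists_algHom_mvPowerSeries' K R (maximalIdeal R) b hbm
  refine ⟨ψ, ?_, hψX⟩
  have hI : (Ideal.span (Set.range (MvPowerSeries.X : Fin n → MvPowerSeries (Fin n) K))).map
      ψ.toRingHom = maximalIdeal R := by
    rw [Ideal.map_span, ← Set.range_comp, ← hb]
    congr 2
    funext i
    exact hψX i
  haveI : IsHausdorff ((Ideal.span (Set.range (MvPowerSeries.X : Fin n → MvPowerSeries (Fin n) K))).map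
      ψ.toRingHom) R := by
    rw [hI]; infer_instance
  have := surjective_of_mk_map_comp_surjective
    (I := Ideal.span (Set.range (MvPowerSeries.X : Fin n → MvPowerSeries (Fin n) K)))
    ψ.toRingHom ?_
  · exact this
  · intro y
    obtain ⟨y', rfl⟩ := Ideal.Quotient.mk_surjective y
    obtain ⟨c, hc⟩ := hK (residue R y')
    refine ⟨MvPowerSeries.C c, ?_⟩
    have h1 : ψ (MvPowerSeries.C c) = algebraMap K R c := by
      have : (MvPowerSeries.C c : MvPowerSeries (Fin n) K) = algebraMap K _ c := by
        rw [MvPowerSeries.algebraMap_apply]; simp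
      rw [this, AlgHom.commutes]
    show Ideal.Quotient.mk _ (ψ (MvPowerSeries.C c)) = Ideal.Quotient.mk _ y'
    rw [h1, Ideal.Quotient.eq, hI]
    have h2 : residue R (algebraMap K R c - y') = 0 := by
      rw [map_sub, sub_eq_zero]; exact hc
    exact (residue_eq_zero_iff _).mp h2

open MvPowerSeries in
/-- a complete Noetherian local ring with a coefficient field is a quotient of a power series
ring over its residue field by an ideal contained in the square of the maximal ideal. -/
theorem exists_surjective_ker_le_sq (A : Type u) [CommRing A] [IsLocalRing A] [IsNoetherianRing A]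
    [IsAdicComplete (maximalIdeal A) A]
    (s : ResidueField A →+* A) (hs : (residue A).comp s = RingHom.id _) :
    ∃ (n : ℕ) (f : MvPowerSeries (Fin n) (ResidueField A) →+* A),
      Function.Surjective f ∧ (∀ c, f (C c) = s c) ∧
      RingHom.ker f ≤ maximalIdeal (MvPowerSeries (Fin n) (ResidueField A)) ^ 2 := by
  classical
  letI : Algebra (ResidueField A) A := s.toAlgebra
  have hfg : (maximalIdeal A).FG := IsNoetherian.noetherian _
  obtain ⟨t, htcard, htspan⟩ := Submodule.FG.exists_span_finset_card_eq_spanFinrank hfg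
  set n := (maximalIdeal A).spanFinrank with hn
  let e : Fin n ≃ t := (t.equivFinOfCardEq htcard).symm
  let b : Fin n → A := fun i => (e i : A)
  have hb_range : Set.range b = (t : Set A) := by
    ext x
    constructor
    · rintro ⟨i, rfl⟩
      exact (e i).2
    · intro hx
      exact ⟨e.symm ⟨x, hx⟩, by simp [b]⟩
  have hb : Ideal.span (Set.range b) = maximalIdeal A := by
    rw [hb_range]; exact htspan
  have hK : Function.Surjective ((residue A).comp (algebraMap (ResidueField A) A)) := by
    intro c
    exact ⟨c, congrArg (fun φ => φ c) hs⟩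
  obtain ⟨ψ, hψsurj, hψX⟩ := exists_surjective_of_gens (ResidueField A) A b hb hK
  have hψC : ∀ c, ψ (C c) = s c := fun c => by
    have : (C c : MvPowerSeries (Fin n) (ResidueField A)) = algebraMap (ResidueField A) _ c := by
      rw [MvPowerSeries.algebraMap_apply]; simp
    rw [this, AlgHom.commutes]
    rfl
  refine ⟨n, ψ.toRingHom, hψsurj, hψC, ?_⟩
  have hmP : maximalIdeal (MvPowerSeries (Fin n) (ResidueField A)) =
      Ideal.span (Set.range (X : Fin n → MvPowerSeries (Fin n) (ResidueField A))) := by
    rw [Cohen2.maximalIdeal_mvPowerSeries, IsLocalRing.maximalIdeal_eq_bot, Ideal.map_bot, bot_sup_eq,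
      Groth.Agent.H5.CA.ker_constantCoeff_eq_span]
  have hbm : ∀ i, b i ∈ maximalIdeal A := fun i => by
    rw [← hb]; exact Ideal.subset_span ⟨i, rfl⟩
  intro F hF
  have hF' : ψ F = 0 := hF
  set c := constantCoeff F with hc
  have h1 : F - C c ∈ Ideal.span (Set.range (X : Fin n → MvPowerSeries (Fin n) (ResidueField A))) := by
    rw [← Groth.Agent.H5.CA.ker_constantCoeff_eq_span, RingHom.mem_ker, map_sub, hc]
    simp
  obtain ⟨G, hG⟩ := (Ideal.mem_span_range_iff_exists_fun).mp h1
  have h2 : s c + ∑ i, ψ (G i) * b i = 0 := by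
    have : F = C c + ∑ i, G i * X i := by rw [hG]; ring
    rw [this, map_add, hψC, map_sum] at hF'
    simpa [hψX] using hF'
  have hc0 : c = 0 := by
    have h3 := congrArg (residue A) h2
    rw [map_add, map_sum, map_zero] at h3
    have h4 : ∀ i ∈ Finset.univ, residue A (ψ (G i) * b i) = 0 := fun i _ => by
      rw [residue_eq_zero_iff]; exact Ideal.mul_mem_left _ _ (hbm i)
    rw [Finset.sum_eq_zero h4, add_zero] at h3
    have h5 : residue A (s c) = c := congrArg (fun φ => φ c) hs
    rw [← h5, h3]
  rw [hc0, map_zero, zero_add] at h2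
  have hmem := coeff_mem_of_minimal b hb hn (fun i => ψ (G i)) h2
  have hGm : ∀ i, G i ∈ maximalIdeal (MvPowerSeries (Fin n) (ResidueField A)) := by
    intro i
    rw [mem_maximalIdeal, mem_nonunits_iff]
    intro hu
    have := hu.map ψ
    exact (mem_maximalIdeal _).mp (hmem i) this
  have hFeq : F = ∑ i, G i * X i := by
    rw [hG, hc0, map_zero, sub_zero]
  rw [hFeq, pow_two]
  refine Ideal.sum_mem _ fun i _ => Ideal.mul_mem_mul (hGm i) ?_
  rw [hmP]; exact Ideal.subset_span ⟨i, rfl⟩

end Groth.Agent.H5.CF

namespace Groth.Agent.H5.CF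

open MvPowerSeries in
theorem tfae_contains_field (A : Type u) [CommRing A] [IsLocalRing A] [IsNoetherianRing A]
    [IsAdicComplete (maximalIdeal A) A] (p : ℕ) [CharP (ResidueField A) p] :
    [∃ (K : Type u) (_ : Field K), Nonempty (K →+* A),
     (p : A) = 0,
     ∃ (K : Type u) (_ : Field K) (n : ℕ) (f : MvPowerSeries (Fin n) K →+* A), Function.Surjective f].TFAE ∧
    ((p : A) = 0 → ∃ (K : Type u) (_ : Field K) (n : ℕ) (f : MvPowerSeries (Fin n) K →+* A),
      Function.Surjective f ∧ RingHom.ker f ≤ maximalIdeal (MvPowerSeries (Fin n) K) ^ 2) := by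
  have hmore : (p : A) = 0 → ∃ (K : Type u) (_ : Field K) (n : ℕ)
      (f : MvPowerSeries (Fin n) K →+* A),
      Function.Surjective f ∧ RingHom.ker f ≤ maximalIdeal (MvPowerSeries (Fin n) K) ^ 2 := by
    intro hp
    obtain ⟨s, hs⟩ := exists_coeffField A p hp
    obtain ⟨n, f, hf, -, hker⟩ := exists_surjective_ker_le_sq A s hs
    exact ⟨ResidueField A, inferInstance, n, f, hf, hker⟩
  refine ⟨?_, hmore⟩
  tfae_have 1 → 2 := by
    rintro ⟨K, _, ⟨g⟩⟩
    have hinj : Function.Injective ((residue A).comp g) := RingHom.injective _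
    have h0 : ((residue A).comp g) (p : K) = 0 := by
      rw [map_natCast]; exact CharP.cast_eq_zero _ p
    have h1 : (p : K) = 0 := hinj (by rw [h0, map_zero])
    rw [← map_natCast g, h1, map_zero]
  tfae_have 2 → 3 := by
    intro hp
    obtain ⟨K, _, n, f, hf, -⟩ := hmore hp
    exact ⟨K, inferInstance, n, f, hf⟩
  tfae_have 3 → 1 := by
    rintro ⟨K, _, n, f, -⟩
    exact ⟨K, inferInstance, ⟨f.comp C⟩⟩
  tfae_finish

end Groth.Agent.H5.CF
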