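import Mathlib

namespace H5.CSq
universe u
open TensorProduct

section ker
variable {B C M : Type*} [CommRing B] [CommRing C] [Algebra B C] [AddCommGroup M] [Module B M]

theorem mem_smul_top_of_one_tmul_eq_zero (hs : Function.Surjective (algebraMap B C)) (m : M)
    (h : (1 : C) ⊗ₜ[B] m = 0) : m ∈ (RingHom.ker (algebraMap B C)) • (⊤ : Submodule B M) := by
  have hs' : Function.Surjective (Algebra.ofId B C) := hs
  let e := (Ideal.quotientKerAlgEquivOfSurjective hs').symm
  have h2 := congrArg (LinearMap.rTensor M e.toLinearMap) h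
  rw [LinearMap.rTensor_tmul, map_zero] at h2
  have h3 : e.toLinearMap 1 = 1 := map_one e
  rw [h3] at h2
  have h4 := LinearMap.ker_tensorProductMk (R := B) (Q := M) (I := RingHom.ker (Algebra.ofId B C))
  have h5 : m ∈ LinearMap.ker (TensorProduct.mk B (B ⧸ RingHom.ker (Algebra.ofId B C)) M 1) := h2
  rw [h4] at h5
  exact h5

end ker

variable {A : Type u} [CommRing A] {B : Type u} [CommRing B] [Algebra A B] {C : Type u}
  [CommRing C] [Algebra B C] [Algebra A C] [IsScalarTower A B C]

variable (A C) in
/-- `A/I² → C`. -/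
noncomputable def q : A ⧸ (RingHom.ker (algebraMap A C)) ^ 2 →ₐ[A] C :=
  Ideal.Quotient.liftₐ _ (Algebra.ofId A C) (fun _ ha => Ideal.pow_le_self two_ne_zero ha)

theorem q_mk (a : A) : q A C (Ideal.Quotient.mk _ a) = algebraMap A C a := rfl

theorem ker_q : RingHom.ker (q A C : _ →+* C) = (RingHom.ker (algebraMap A C)).cotangentIdeal := by
  ext x
  obtain ⟨a, rfl⟩ := Ideal.Quotient.mk_surjective x
  rw [Ideal.mk_mem_cotangentIdeal, RingHom.mem_ker]; rfl

theorem q_surj (hC : Function.Surjective (algebraMap A C)) : Function.Surjective (q A C) := by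
  intro c
  obtain ⟨a, rfl⟩ := hC c
  exact ⟨Ideal.Quotient.mk _ a, rfl⟩

variable [Algebra.FormallySmooth A B]

variable (B) in
/-- the lift `B → A/I²`. -/
noncomputable def g (hC : Function.Surjective (algebraMap A C)) :
    B →ₐ[A] A ⧸ (RingHom.ker (algebraMap A C)) ^ 2 :=
  Algebra.FormallySmooth.liftOfSurjective (IsScalarTower.toAlgHom A B C) (q A C) (q_surj hC)
    ⟨2, by rw [ker_q]; exact Ideal.cotangentIdeal_square _⟩

theorem q_g (hC : Function.Surjective (algebraMap A C)) (b : B) :
    q A C (g B hC b) = algebraMap B C b :=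
  Algebra.FormallySmooth.liftOfSurjective_apply _ _ _ _ b

theorem g_mem (hC : Function.Surjective (algebraMap A C)) {j : B}
    (hj : j ∈ RingHom.ker (algebraMap B C)) :
    g B hC j ∈ (RingHom.ker (algebraMap A C)).cotangentIdeal := by
  rw [← ker_q, RingHom.mem_ker]
  exact (q_g hC j).trans hj

/-- restriction of `g` to `J`, valued in `I/I²`. -/
noncomputable def rAux (hC : Function.Surjective (algebraMap A C)) :
    (RingHom.ker (algebraMap B C)) →ₗ[A] (RingHom.ker (algebraMap A C)).Cotangent :=
  (Ideal.cotangentEquivIdeal _).symm.toLinearMap ∘ₗ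
    LinearMap.codRestrict ((RingHom.ker (algebraMap A C)).cotangentIdeal.restrictScalars A)
      ((g B hC).toLinearMap ∘ₗ ((RingHom.ker (algebraMap B C)).subtype.restrictScalars A))
      (fun j => g_mem hC j.2)

theorem rAux_apply (hC : Function.Surjective (algebraMap A C))
    (j : RingHom.ker (algebraMap B C)) :
    rAux hC j = (Ideal.cotangentEquivIdeal _).symm ⟨g B hC j, g_mem hC j.2⟩ := rfl

theorem cotangentToQuotientSquare_rAux (hC : Function.Surjective (algebraMap A C))
    (j : RingHom.ker (algebraMap B C)) :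
    (RingHom.ker (algebraMap A C)).cotangentToQuotientSquare (rAux hC j) = g B hC j := by
  rw [rAux_apply, ← Ideal.cotangentEquivIdeal_apply, LinearEquiv.apply_symm_apply]

/-- the retraction. -/
noncomputable def r (hC : Function.Surjective (algebraMap A C)) :
    (RingHom.ker (algebraMap B C)).Cotangent →ₗ[A] (RingHom.ker (algebraMap A C)).Cotangent :=
  Ideal.Cotangent.lift (rAux hC) (fun x y => by
    apply Ideal.cotangentToQuotientSquare_injective
    rw [cotangentToQuotientSquare_rAux, map_zero]
    have h1 : g B hC ((x * y : RingHom.ker (algebraMap B C)) : B) = g B hC x * g B hC y := by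
      rw [← map_mul]; rfl
    rw [h1]
    have h2 := Ideal.mul_mem_mul (g_mem hC x.2) (g_mem hC y.2)
    rw [← pow_two, Ideal.cotangentIdeal_square] at h2
    exact h2)

theorem r_toCotangent (hC : Function.Surjective (algebraMap A C))
    (j : RingHom.ker (algebraMap B C)) :
    r hC (Ideal.toCotangent _ j) = rAux hC j := rfl

theorem r_comp (hC : Function.Surjective (algebraMap A C)) :
    r (B := B) hC ∘ₗ (Ideal.mapCotangent (RingHom.ker (algebraMap A C))
      (RingHom.ker (algebraMap B C)) (Algebra.ofId A B)
      (le_of_eq (congrArg RingHom.ker (IsScalarTower.algebraMap_eq A B C)))) = LinearMap.id := by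
  apply LinearMap.ext
  intro x
  obtain ⟨x, rfl⟩ := Ideal.toCotangent_surjective _ x
  rw [LinearMap.comp_apply, Ideal.mapCotangent_toCotangent, r_toCotangent, LinearMap.id_apply]
  apply Ideal.cotangentToQuotientSquare_injective
  rw [cotangentToQuotientSquare_rAux, Ideal.toCotangent_to_quotient_square]
  exact (g B hC).commutes x.1

end H5.CSq
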