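import Mathlib
import Groth.Agent.Lib.Helper5.CA.CSq1
import Groth.Agent.Lib.Helper5.CA.CF1
import Groth.Agent.Lib.Helper1.Henselian

set_option autoImplicit false
universe u

open TensorProduct IsLocalRing

namespace H5.NG

/-- General lemma: if `A → C` is surjective with kernel `J`, `J² ≤ K ≤ J`, and `A/K → C` has a
ring-theoretic section, then `x ∈ J` with `1 ⊗ dx = 0` in `C ⊗ Ω_{A/ℤ}` lies in `K`. -/
theorem mem_of_tmul_eq_zero_of_section {A C : Type*} [CommRing A] [CommRing C] [Algebra A C]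
    (hsurj : Function.Surjective (algebraMap A C)) (K : Ideal A)
    (hK1 : RingHom.ker (algebraMap A C) ^ 2 ≤ K) (hK2 : K ≤ RingHom.ker (algebraMap A C))
    (σ : C →+* A ⧸ K)
    (hσ : ∀ c, Ideal.Quotient.lift K (algebraMap A C) (fun a ha => hK2 ha) (σ c) = c)
    (x : A) (hx : x ∈ RingHom.ker (algebraMap A C))
    (h : (1 : C) ⊗ₜ[A] KaehlerDifferential.D ℤ A x = 0) : x ∈ K := by
  set J := RingHom.ker (algebraMap A C) with hJ
  let ρ : A ⧸ K →+* C := Ideal.Quotient.lift K (algebraMap A C) (fun a ha => hK2 ha)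
  have hρmk : ∀ a : A, ρ (Ideal.Quotient.mk K a) = algebraMap A C a := fun a => rfl
  have hmul : ∀ u v : A ⧸ K, ρ u = 0 → ρ v = 0 → u * v = 0 := by
    intro u v hu hv
    obtain ⟨a, rfl⟩ := Ideal.Quotient.mk_surjective u
    obtain ⟨b, rfl⟩ := Ideal.Quotient.mk_surjective v
    rw [hρmk] at hu hv
    rw [← map_mul, Ideal.Quotient.eq_zero_iff_mem]
    apply hK1
    rw [pow_two]
    exact Ideal.mul_mem_mul hu hv
  have hDmem : ∀ a : A, ρ (Ideal.Quotient.mk K a - σ (algebraMap A C a)) = 0 := by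
    intro a
    rw [map_sub, hσ, hρmk, sub_self]
  let D : Derivation ℤ A (A ⧸ K) :=
    Derivation.mk' (((Ideal.Quotient.mk K : A →+* A ⧸ K) : A →+ A ⧸ K).toIntLinearMap -
      ((σ.comp (algebraMap A C) : A →+* A ⧸ K) : A →+ A ⧸ K).toIntLinearMap)
      (fun a b => by
        simp only [LinearMap.sub_apply, AddMonoidHom.coe_toIntLinearMap, AddMonoidHom.coe_coe,
          RingHom.comp_apply, map_mul, Algebra.smul_def, Ideal.Quotient.algebraMap_eq]
        have h2 := hmul _ _ (hDmem a) (hDmem b)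
        linear_combination -h2)
  have hD : ∀ a, D a = Ideal.Quotient.mk K a - σ (algebraMap A C a) := fun a => rfl
  have hlift_mem : ∀ ω : Ω[A⁄ℤ], ρ (D.liftKaehlerDifferential ω) = 0 := by
    intro ω
    have hω : ω ∈ Submodule.span A (Set.range (KaehlerDifferential.D ℤ A)) := by
      rw [KaehlerDifferential.span_range_derivation]; trivial
    induction hω using Submodule.span_induction with
    | mem y hy =>
      obtain ⟨b, rfl⟩ := hy
      rw [Derivation.liftKaehlerDifferential_comp_D]
      exact hDmem b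
    | zero => rw [map_zero, map_zero]
    | add y z _ _ hy hz => rw [map_add, map_add, hy, hz, add_zero]
    | smul b y _ h =>
      rw [map_smul, Algebra.smul_def, map_mul, h, mul_zero]
  have hlift_zero : ∀ ω : Ω[A⁄ℤ], ω ∈ J • (⊤ : Submodule A Ω[A⁄ℤ]) →
      D.liftKaehlerDifferential ω = 0 := by
    intro ω hω
    refine Submodule.smul_induction_on hω ?_ ?_
    · intro j hj n _
      rw [map_smul, Algebra.smul_def, Ideal.Quotient.algebraMap_eq]
      exact hmul _ _ (by rw [hρmk]; exact hj) (hlift_mem n)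
    · intro y z hy hz
      rw [map_add, hy, hz, add_zero]
  have h1 := H5.CSq.mem_smul_top_of_one_tmul_eq_zero hsurj _ h
  have h2 := hlift_zero _ h1
  rw [Derivation.liftKaehlerDifferential_comp_D, hD] at h2
  have hx0 : algebraMap A C x = 0 := hx
  rw [hx0, map_zero, sub_zero, Ideal.Quotient.eq_zero_iff_mem] at h2
  exact h2

end H5.NG
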