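import Mathlib
import Groth.Agent.Lib.Helper5.CA.NG1

set_option autoImplicit false
universe u

open TensorProduct IsLocalRing

namespace H5.NG

theorem ker_algebraMap_residueField (S : Type*) [CommRing S] [IsLocalRing S] :
    RingHom.ker (algebraMap S (ResidueField S)) = maximalIdeal S := by
  rw [ResidueField.algebraMap_eq, ker_residue]

/-- **N1**: for a local ring `S` whose residue characteristic `p` lies in `𝔪²`, an element of `𝔪`
with vanishing differential in `κ ⊗ Ω_{S/ℤ}` lies in `𝔪²`. -/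
theorem mem_sq_of_tmul_eq_zero (S : Type u) [CommRing S] [IsLocalRing S] (p : ℕ)
    [CharP (ResidueField S) p] (hp : (p : S) ∈ maximalIdeal S ^ 2)
    (x : S) (hx : x ∈ maximalIdeal S)
    (h : (1 : ResidueField S) ⊗ₜ[S] KaehlerDifferential.D ℤ S x = 0) :
    x ∈ maximalIdeal S ^ 2 := by
  have hsurj : Function.Surjective (algebraMap S (ResidueField S)) := residue_surjective
  have hker := ker_algebraMap_residueField S
  have hne : maximalIdeal S ^ 2 ≠ ⊤ := fun h' =>
    (maximalIdeal.isMaximal S).ne_top (top_le_iff.mp (h' ▸ Ideal.pow_le_self two_ne_zero))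
  haveI : Nontrivial (S ⧸ maximalIdeal S ^ 2) := Ideal.Quotient.nontrivial_iff.mpr hne
  haveI : IsLocalRing (S ⧸ maximalIdeal S ^ 2) :=
    IsLocalRing.of_surjective' (Ideal.Quotient.mk _) Ideal.Quotient.mk_surjective
  have hsm : Function.Surjective (Ideal.Quotient.mk (maximalIdeal S ^ 2)) :=
    Ideal.Quotient.mk_surjective
  haveI : IsLocalHom (Ideal.Quotient.mk (maximalIdeal S ^ 2)) := IsLocalHom.of_surjective _ hsm
  have hmax : maximalIdeal (S ⧸ maximalIdeal S ^ 2) =
      (maximalIdeal S).map (Ideal.Quotient.mk (maximalIdeal S ^ 2)) := by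
    have h1 := IsLocalRing.maximalIdeal_comap (Ideal.Quotient.mk (maximalIdeal S ^ 2))
    exact (Ideal.map_comap_of_surjective _ hsm _).symm.trans (congrArg (Ideal.map _) h1)
  have hsq : maximalIdeal (S ⧸ maximalIdeal S ^ 2) ^ 2 = ⊥ := by
    rw [hmax, ← Ideal.map_pow, Ideal.map_quotient_self]
  haveI : IsAdicComplete (maximalIdeal (S ⧸ maximalIdeal S ^ 2)) (S ⧸ maximalIdeal S ^ 2) :=
    Groth.Agent.H1.isAdicComplete_of_pow_eq_bot _ 2 hsq
  let e₀ : ResidueField S →+* ResidueField (S ⧸ maximalIdeal S ^ 2) :=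
    ResidueField.map (Ideal.Quotient.mk (maximalIdeal S ^ 2))
  have he₀ : ∀ a : S, e₀ (residue S a) = residue _ (Ideal.Quotient.mk (maximalIdeal S ^ 2) a) :=
    fun a => rfl
  haveI : CharP (ResidueField (S ⧸ maximalIdeal S ^ 2)) p :=
    charP_of_injective_ringHom e₀.injective p
  have hp0 : ((p : ℕ) : S ⧸ maximalIdeal S ^ 2) = 0 := by
    rw [← map_natCast (Ideal.Quotient.mk (maximalIdeal S ^ 2)), Ideal.Quotient.eq_zero_iff_mem]
    exact hp
  obtain ⟨s, hs⟩ := Groth.Agent.H5.CF.exists_coeffField (S ⧸ maximalIdeal S ^ 2) p hp0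
  have hK2 : maximalIdeal S ^ 2 ≤ RingHom.ker (algebraMap S (ResidueField S)) := by
    rw [hker]; exact Ideal.pow_le_self two_ne_zero
  have hρ : ∀ y : S ⧸ maximalIdeal S ^ 2,
      e₀ (Ideal.Quotient.lift (maximalIdeal S ^ 2) (algebraMap S (ResidueField S))
        (fun a ha => hK2 ha) y) = residue _ y := by
    intro y
    obtain ⟨a, rfl⟩ := hsm y
    rw [Ideal.Quotient.lift_mk, ResidueField.algebraMap_eq, he₀]
  refine mem_of_tmul_eq_zero_of_section hsurj (maximalIdeal S ^ 2) (by rw [hker]) hK2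
    (s.comp e₀) ?_ x (by rw [hker]; exact hx) h
  intro c
  apply e₀.injective
  rw [hρ, RingHom.comp_apply]
  exact congr($hs (e₀ c))

end H5.NG
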