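import Mathlib
import Groth.Agent.Lib.Helper5.CA.NG2

set_option autoImplicit false
universe u

open TensorProduct IsLocalRing

namespace H5.NG

variable (S : Type u) [CommRing S] [IsLocalRing S]

/-- the map `𝔪/𝔪² → κ ⊗ Ω_{S/ℤ}`, as a `κ`-linear map. -/
noncomputable def cotToOmega : CotangentSpace S →ₗ[ResidueField S] ResidueField S ⊗[S] Ω[S⁄ℤ] :=
  ((KaehlerDifferential.kerCotangentToTensor ℤ S (ResidueField S)) ∘ₗ
    (Ideal.Cotangent.equivOfEq (maximalIdeal S) (RingHom.ker (algebraMap S (ResidueField S)))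
      (ker_algebraMap_residueField S).symm).toLinearMap).extendScalarsOfSurjective
    residue_surjective

theorem cotToOmega_toCotangent (x : maximalIdeal S) :
    cotToOmega S ((maximalIdeal S).toCotangent x) =
      (1 : ResidueField S) ⊗ₜ[S] KaehlerDifferential.D ℤ S (x : S) := rfl

theorem cotToOmega_injective (p : ℕ) [CharP (ResidueField S) p]
    (hp : (p : S) ∈ maximalIdeal S ^ 2) : Function.Injective (cotToOmega S) := by
  rw [injective_iff_map_eq_zero]
  intro ξ hξ
  obtain ⟨x, rfl⟩ := Ideal.toCotangent_surjective _ ξ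
  rw [cotToOmega_toCotangent] at hξ
  rw [Ideal.toCotangent_eq_zero]
  exact mem_sq_of_tmul_eq_zero S p hp x.1 x.2 hξ

theorem linearIndependent_toCotangent_iff (p : ℕ) [CharP (ResidueField S) p]
    (hp : (p : S) ∈ maximalIdeal S ^ 2) {ι : Type*} (x : ι → maximalIdeal S) :
    LinearIndependent (ResidueField S) (fun i => (maximalIdeal S).toCotangent (x i)) ↔
      LinearIndependent (ResidueField S)
        (fun i => (1 : ResidueField S) ⊗ₜ[S] KaehlerDifferential.D ℤ S (x i : S)) := by
  have h := LinearMap.linearIndependent_iff (cotToOmega S)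
    (LinearMap.ker_eq_bot.mpr (cotToOmega_injective S p hp))
    (v := fun i => (maximalIdeal S).toCotangent (x i))
  rw [← h]
  rfl

end H5.NG
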