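import Mathlib

set_option autoImplicit false
universe u v w

open TensorProduct

namespace H5.NG

/-- for `B` formally smooth over `A`, the map `B ⊗_A Ω_{A/R} → Ω_{B/R}` has a retraction. -/
theorem exists_retraction_mapBaseChange (R : Type u) (A : Type v) (B : Type w) [CommRing R]
    [CommRing A] [CommRing B] [Algebra R A] [Algebra A B] [Algebra R B] [IsScalarTower R A B]
    [Algebra.FormallySmooth A B] :
    ∃ l : Ω[B⁄R] →ₗ[B] B ⊗[A] Ω[A⁄R],
      l ∘ₗ KaehlerDifferential.mapBaseChange R A B = LinearMap.id := by
  have hinj : Function.Injective (KaehlerDifferential.mapBaseChange R A B) := by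
    rw [injective_iff_map_eq_zero]
    intro x hx
    obtain ⟨y, rfl⟩ := (Algebra.H1Cotangent.exact_δ_mapBaseChange R A B x).mp hx
    rw [Subsingleton.elim y 0, map_zero]
  have hex := KaehlerDifferential.exact_mapBaseChange_map R A B
  have hsurj : Function.Surjective (KaehlerDifferential.map R A B B) :=
    KaehlerDifferential.map_surjective R A B
  obtain ⟨σ, hσ⟩ := Module.projective_lifting_property (KaehlerDifferential.map R A B B)
    LinearMap.id hsurj
  have h01 := hex.split_tfae'.out 0 1
  have h := h01.mp ⟨hinj, σ, hσ⟩
  exact h.2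

end H5.NG
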