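import Mathlib
import Groth.Agent.Lib.Helper5.CA.NG4

set_option autoImplicit false
universe u

open TensorProduct IsLocalRing

namespace H5.NG

section
variable (R S : Type u) [CommRing R] [CommRing S] [IsLocalRing R] [IsLocalRing S] [Algebra R S]
  [IsLocalHom (algebraMap R S)]

/-- the comparison map `κ(S) ⊗_{κ(R)} (κ(R) ⊗_R Ω_R) → κ(S) ⊗_S Ω_S`. -/
noncomputable def gam : ResidueField S ⊗[ResidueField R] (ResidueField R ⊗[R] Ω[R⁄ℤ])
    →ₗ[ResidueField S] ResidueField S ⊗[S] Ω[S⁄ℤ] :=
  ((KaehlerDifferential.mapBaseChange ℤ R S).baseChange (ResidueField S)) ∘ₗ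
    (TensorProduct.AlgebraTensorModule.cancelBaseChange R S (ResidueField S) (ResidueField S)
      Ω[R⁄ℤ]).symm.toLinearMap ∘ₗ
    (TensorProduct.AlgebraTensorModule.cancelBaseChange R (ResidueField R) (ResidueField S)
      (ResidueField S) Ω[R⁄ℤ]).toLinearMap

theorem gam_tmul (f : R) :
    gam R S ((1 : ResidueField S) ⊗ₜ[ResidueField R]
      ((1 : ResidueField R) ⊗ₜ[R] KaehlerDifferential.D ℤ R f)) =
      (1 : ResidueField S) ⊗ₜ[S] KaehlerDifferential.D ℤ S (algebraMap R S f) := by
  simp [gam]

theorem gam_injective [Algebra.FormallySmooth R S] : Function.Injective (gam R S) := by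
  obtain ⟨l, hl⟩ := exists_retraction_mapBaseChange ℤ R S
  have h1 : Function.Injective
      ((KaehlerDifferential.mapBaseChange ℤ R S).baseChange (ResidueField S)) := by
    have h2 : (l.baseChange (ResidueField S)) ∘ₗ
        ((KaehlerDifferential.mapBaseChange ℤ R S).baseChange (ResidueField S)) =
        LinearMap.id := by
      rw [← LinearMap.baseChange_comp, hl, LinearMap.baseChange_id]
    intro a b hab
    have ha := DFunLike.congr_fun h2 a
    have hb := DFunLike.congr_fun h2 b
    simp only [LinearMap.comp_apply, LinearMap.id_apply] at ha hb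
    rw [← ha, ← hb, hab]
  unfold gam
  rw [LinearMap.coe_comp, LinearMap.coe_comp]
  exact h1.comp ((LinearEquiv.injective _).comp (LinearEquiv.injective _))

/-- **N3**: linear independence of differentials is insensitive to a formally smooth local
extension. -/
theorem linearIndependent_iff_of_formallySmooth [Algebra.FormallySmooth R S] {ι : Type*}
    (f : ι → R) :
    LinearIndependent (ResidueField R)
        (fun i => (1 : ResidueField R) ⊗ₜ[R] KaehlerDifferential.D ℤ R (f i)) ↔
      LinearIndependent (ResidueField S)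
        (fun i => (1 : ResidueField S) ⊗ₜ[S] KaehlerDifferential.D ℤ S (algebraMap R S (f i))) := by
  constructor
  · intro h
    have h1 := Module.Flat.linearIndependent_one_tmul (S := ResidueField S) h
    have h2 := h1.map' (gam R S) (LinearMap.ker_eq_bot.mpr (gam_injective R S))
    have h3 : (fun i => (1 : ResidueField S) ⊗ₜ[S]
        KaehlerDifferential.D ℤ S (algebraMap R S (f i))) =
        (gam R S) ∘ fun x => (1 : ResidueField S) ⊗ₜ[ResidueField R]
          ((1 : ResidueField R) ⊗ₜ[R] KaehlerDifferential.D ℤ R (f x)) := by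
      funext i
      exact (gam_tmul R S (f i)).symm
    rw [h3]
    exact h2
  · intro h
    let θ : (ResidueField R ⊗[R] Ω[R⁄ℤ]) →ₗ[ResidueField R] ResidueField S ⊗[S] Ω[S⁄ℤ] :=
      ((gam R S).restrictScalars (ResidueField R)) ∘ₗ
        (TensorProduct.mk (ResidueField R) (ResidueField S) (ResidueField R ⊗[R] Ω[R⁄ℤ]) 1)
    have h1 : LinearIndependent (ResidueField R)
        (fun i => (1 : ResidueField S) ⊗ₜ[S] KaehlerDifferential.D ℤ S (algebraMap R S (f i))) := by
      exact LinearIndependent.restrict_scalars' (ResidueField R) h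
    refine LinearIndependent.of_comp θ ?_
    have h3 : (θ ∘ fun i => (1 : ResidueField R) ⊗ₜ[R] KaehlerDifferential.D ℤ R (f i)) =
        fun i => (1 : ResidueField S) ⊗ₜ[S]
          KaehlerDifferential.D ℤ S (algebraMap R S (f i)) := by
      funext i
      exact gam_tmul R S (f i)
    rw [h3]
    exact h1

end

end H5.NG
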