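import Mathlib

set_option autoImplicit false
universe u

open IsLocalRing

namespace H5.NG

section
variable {P : Type u} [CommRing P] (J : Ideal P) [IsLocalRing (P ⧸ J)]
  (𝔫 : Ideal P) [𝔫.IsPrime] (h𝔫 : 𝔫 = (maximalIdeal (P ⧸ J)).comap (Ideal.Quotient.mk J))

include h𝔫 in
theorem isUnit_mk_of_primeCompl (y : 𝔫.primeCompl) : IsUnit (Ideal.Quotient.mk J (y : P)) := by
  have hy : (y : P) ∉ 𝔫 := y.2
  by_contra hu
  apply hy
  have h1 : (y : P) ∈ (maximalIdeal (P ⧸ J)).comap (Ideal.Quotient.mk J) :=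
    Ideal.mem_comap.mpr ((mem_maximalIdeal _).mpr hu)
  exact h𝔫.symm ▸ h1

/-- the canonical map `P_𝔫 → P/J`. -/
noncomputable def locToQuot : Localization.AtPrime 𝔫 →+* P ⧸ J :=
  IsLocalization.lift (M := 𝔫.primeCompl) (g := Ideal.Quotient.mk J)
    (isUnit_mk_of_primeCompl J 𝔫 h𝔫)

theorem locToQuot_algebraMap (a : P) :
    locToQuot J 𝔫 h𝔫 (algebraMap P (Localization.AtPrime 𝔫) a) = Ideal.Quotient.mk J a :=
  IsLocalization.lift_eq _ a

theorem locToQuot_surjective : Function.Surjective (locToQuot J 𝔫 h𝔫) := by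
  intro b
  obtain ⟨a, rfl⟩ := Ideal.Quotient.mk_surjective b
  exact ⟨algebraMap P _ a, locToQuot_algebraMap J 𝔫 h𝔫 a⟩

theorem ker_locToQuot :
    RingHom.ker (locToQuot J 𝔫 h𝔫) = J.map (algebraMap P (Localization.AtPrime 𝔫)) := by
  apply le_antisymm
  · intro y hy
    obtain ⟨a, s, rfl⟩ := IsLocalization.exists_mk'_eq 𝔫.primeCompl y
    rw [RingHom.mem_ker, locToQuot, IsLocalization.lift_mk'_spec, mul_zero] at hy
    have haJ : a ∈ J := Ideal.Quotient.eq_zero_iff_mem.mp hy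
    rw [IsLocalization.mk'_eq_mul_mk'_one]
    exact Ideal.mul_mem_right _ _ (Ideal.mem_map_of_mem _ haJ)
  · rw [Ideal.map_le_iff_le_comap]
    intro a ha
    rw [Ideal.mem_comap, RingHom.mem_ker, locToQuot_algebraMap]
    exact Ideal.Quotient.eq_zero_iff_mem.mpr ha

/-- `P/J ≃ P_𝔫 / J P_𝔫` for `P/J` local with maximal ideal `𝔫/J`. -/
noncomputable def quotEquivLoc :
    (Localization.AtPrime 𝔫 ⧸ J.map (algebraMap P (Localization.AtPrime 𝔫))) ≃+* P ⧸ J :=
  (Ideal.quotEquivOfEq (ker_locToQuot J 𝔫 h𝔫).symm).trans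
    (RingHom.quotientKerEquivOfSurjective (locToQuot_surjective J 𝔫 h𝔫))

end

end H5.NG
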