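import Mathlib
import Groth.Agent.Lib.Helper1.CiFields

set_option autoImplicit false
universe u

open IsLocalRing MvPolynomial

namespace H5.NG

/-- height of a maximal ideal of `R[T₁..T_r]` over the maximal ideal of a Noetherian local
ring. -/
theorem height_eq_add (R : Type u) [CommRing R] [IsLocalRing R] [IsNoetherianRing R] {r : ℕ}
    (𝔫 : Ideal (MvPolynomial (Fin r) R)) [𝔫.IsMaximal]
    (h : 𝔫.comap (C : R →+* MvPolynomial (Fin r) R) = maximalIdeal R) :
    𝔫.height = (maximalIdeal R).height + r := by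
  haveI : 𝔫.LiesOver (maximalIdeal R) := ⟨h.symm⟩
  rw [Ideal.height_eq_height_add_of_liesOver_of_hasGoingDown (maximalIdeal R) 𝔫]
  congr 1
  rw [MvPolynomial.algebraMap_eq]
  have hI𝔫 : (maximalIdeal R).map (C : R →+* MvPolynomial (Fin r) R) ≤ 𝔫 := by
    rw [Ideal.map_le_iff_le_comap]
    exact h.symm.le
  haveI h1 : (𝔫.map (Ideal.Quotient.mk
      ((maximalIdeal R).map (C : R →+* MvPolynomial (Fin r) R)))).IsMaximal := by
    refine Ideal.IsMaximal.map_of_surjective_of_ker_le Ideal.Quotient.mk_surjective ?_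
    rw [Ideal.mk_ker]
    exact hI𝔫
  letI : Field (R ⧸ maximalIdeal R) := Ideal.Quotient.field _
  let e := (quotientEquivQuotientMvPolynomial (σ := Fin r) (maximalIdeal R)).toRingEquiv
  have h2 : ((𝔫.map (Ideal.Quotient.mk
      ((maximalIdeal R).map (C : R →+* MvPolynomial (Fin r) R)))).comap e).IsMaximal :=
    Ideal.comap_isMaximal_of_equiv e
  have h3 := Groth.Agent.H1.CiFields.height_of_isMaximal (R ⧸ maximalIdeal R) (Fin r) _ h2
  have h4 := RingEquiv.height_comap e (𝔫.map (Ideal.Quotient.mk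
      ((maximalIdeal R).map (C : R →+* MvPolynomial (Fin r) R))))
  rw [← h4, h3, Nat.card_fin]

end H5.NG
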