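import Mathlib
import Groth.Agent.Lib.Helper5.CA.NG3
import Groth.Agent.Lib.Helper5.CA.NG5
import Groth.Agent.Lib.Helper5.CA.NG6
import Groth.Agent.Lib.Helper5.CA.NG7
import Groth.Agent.Lib.Helper1.RegLoc
import Groth.Agent.S5779

set_option autoImplicit false
universe u

open IsLocalRing MvPolynomial TensorProduct

namespace H5.NG

theorem isRegularRing_of_isRegularLocalRing (R : Type u) [CommRing R] [IsRegularLocalRing R] :
    IsRegularRing R :=
  isRegularRing_iff.mpr (fun q _ => Groth.Agent.H1.Reg.isRegularLocalRing_localization R q)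

theorem ringKrullDim_le_of_isIntegral (A B : Type*) [CommRing A] [CommRing B] [Algebra A B]
    [Algebra.IsIntegral A B] : ringKrullDim B ≤ ringKrullDim A := by
  unfold ringKrullDim
  apply Order.krullDim_le_of_strictMono (PrimeSpectrum.comap (algebraMap A B))
  intro P Q hPQ
  rw [← PrimeSpectrum.asIdeal_lt_asIdeal] at hPQ ⊢
  exact Ideal.IsIntegral.comap_lt_comap hPQ

/-- in `κ ⊗ Ω_{S/ℤ}` multiples of the residue characteristic vanish. -/
theorem one_tmul_natCast_smul {S : Type*} [CommRing S] [IsLocalRing S] (p : ℕ)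
    [CharP (ResidueField S) p] (z : Ω[S⁄ℤ]) :
    (1 : ResidueField S) ⊗ₜ[S] ((p : S) • z) = 0 := by
  rw [← TensorProduct.smul_tmul, Algebra.smul_def, mul_one, map_natCast, CharP.cast_eq_zero,
    TensorProduct.zero_tmul]

/-- the differential of `y^p + p g - c` modulo the maximal ideal. -/
theorem one_tmul_D_nagata {S : Type*} [CommRing S] [IsLocalRing S] (p : ℕ)
    [CharP (ResidueField S) p] (y g c : S) :
    (1 : ResidueField S) ⊗ₜ[S] KaehlerDifferential.D ℤ S (y ^ p + (p : S) * g - c) =
      -((1 : ResidueField S) ⊗ₜ[S] KaehlerDifferential.D ℤ S c) := by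
  rw [map_sub, map_add, Derivation.leibniz_pow, Derivation.leibniz, Derivation.map_natCast,
    smul_zero, add_zero, TensorProduct.tmul_sub, TensorProduct.tmul_add,
    ← Nat.cast_smul_eq_nsmul S p, one_tmul_natCast_smul, one_tmul_natCast_smul, add_zero,
    zero_sub]

end H5.NG
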