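import Mathlib
import Groth.Agent.Lib.Helper5.CA.NG8

set_option autoImplicit false
universe u

open IsLocalRing MvPolynomial TensorProduct

namespace H5.NG

section
variable (R : Type u) [CommRing R] (p : ℕ) {r : ℕ}
  (G : Fin r → MvPolynomial (Fin r) R) (f : Fin r → R)

/-- the Nagata polynomials `T_i^p + p G_i - f_i`. -/
noncomputable def FF (i : Fin r) : MvPolynomial (Fin r) R :=
  X i ^ p + (p : MvPolynomial (Fin r) R) * G i - C (f i)

end

/-- abstract form of the criterion, over a formally smooth regular local `R`-algebra `S`. -/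
theorem core_abs (R S : Type u) [CommRing R] [IsLocalRing R] [CommRing S] [IsRegularLocalRing S]
    [Algebra R S] [IsLocalHom (algebraMap R S)] [Algebra.FormallySmooth R S] (p : ℕ)
    [CharP (ResidueField R) p] (hp : (p : R) ∈ maximalIdeal R ^ 2) {r : ℕ}
    (x : Fin r → maximalIdeal S) (y g : Fin r → S) (f : Fin r → R)
    (hx : ∀ i, (x i : S) = y i ^ p + (p : S) * g i - algebraMap R S (f i))
    (hdim : ringKrullDim (S ⧸ Ideal.span (Set.range fun i => (x i : S))) + r = ringKrullDim S) :
    IsRegularLocalRing (S ⧸ Ideal.span (Set.range fun i => (x i : S))) ↔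
      LinearIndependent (ResidueField R)
        (fun i => (1 : ResidueField R) ⊗ₜ[R] KaehlerDifferential.D ℤ R (f i)) := by
  haveI : CharP (ResidueField S) p :=
    charP_of_injective_ringHom (algebraMap (ResidueField R) (ResidueField S)).injective p
  have hpS : ((p : ℕ) : S) ∈ maximalIdeal S ^ 2 := by
    have h1 : algebraMap R S (p : R) ∈ (maximalIdeal R ^ 2).map (algebraMap R S) :=
      Ideal.mem_map_of_mem _ hp
    rw [Ideal.map_pow, map_natCast] at h1
    have h02 := (local_hom_TFAE (algebraMap R S)).out 0 2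
    have h3 : (maximalIdeal R).map (algebraMap R S) ≤ maximalIdeal S := h02.mp inferInstance
    exact Ideal.pow_right_mono h3 2 h1
  obtain ⟨h5779, -⟩ := Groth.Agent.S5779.result S r x
  have hxD : (fun i => (1 : ResidueField S) ⊗ₜ[S] KaehlerDifferential.D ℤ S (x i : S)) =
      -(fun i => (1 : ResidueField S) ⊗ₜ[S] KaehlerDifferential.D ℤ S (algebraMap R S (f i))) := by
    funext i
    rw [hx i, Pi.neg_apply]
    exact one_tmul_D_nagata p _ _ _
  refine Iff.trans ?_ (linearIndependent_iff_of_formallySmooth R S f).symm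
  refine Iff.trans ?_ linearIndependent_neg_iff
  rw [← hxD]
  refine Iff.trans ?_ (linearIndependent_toCotangent_iff S p hpS x)
  constructor
  · intro hB
    exact (h5779.mpr ⟨hdim, hB⟩).2
  · intro hLI
    exact (h5779.mp ⟨inferInstance, hLI⟩).2

set_option maxHeartbeats 1000000 in
/-- **Nagata's criterion** (core form). -/
theorem core (R : Type u) [CommRing R] [IsRegularLocalRing R] (p : ℕ)
    [CharP (ResidueField R) p] (hp : (p : R) ∈ maximalIdeal R ^ 2) {r : ℕ}
    (G : Fin r → MvPolynomial (Fin r) R) (f : Fin r → R)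
    [IsLocalRing (MvPolynomial (Fin r) R ⧸ Ideal.span (Set.range (FF R p G f)))]
    [Algebra.IsIntegral R (MvPolynomial (Fin r) R ⧸ Ideal.span (Set.range (FF R p G f)))] :
    IsRegularLocalRing (MvPolynomial (Fin r) R ⧸ Ideal.span (Set.range (FF R p G f))) ↔
      LinearIndependent (ResidueField R)
        (fun i => (1 : ResidueField R) ⊗ₜ[R] KaehlerDifferential.D ℤ R (f i)) := by
  haveI : IsRegularRing R := isRegularRing_of_isRegularLocalRing R
  set J : Ideal (MvPolynomial (Fin r) R) := Ideal.span (Set.range (FF R p G f)) with hJ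
  let 𝔫 : Ideal (MvPolynomial (Fin r) R) :=
    (maximalIdeal (MvPolynomial (Fin r) R ⧸ J)).comap (Ideal.Quotient.mk J)
  haveI h𝔫max : 𝔫.IsMaximal := Ideal.comap_isMaximal_of_surjective _ Ideal.Quotient.mk_surjective
  have hcomap : 𝔫.comap (C : R →+* MvPolynomial (Fin r) R) = maximalIdeal R := by
    have h1 : ((maximalIdeal (MvPolynomial (Fin r) R ⧸ J)).comap
        (algebraMap R (MvPolynomial (Fin r) R ⧸ J))).IsMaximal :=
      Ideal.isMaximal_comap_of_isIntegral_of_isMaximal _
    exact IsLocalRing.eq_maximalIdeal h1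
  -- the localization
  haveI : IsLocalHom (algebraMap R (Localization.AtPrime 𝔫)) := by
    constructor
    intro a ha
    rw [IsScalarTower.algebraMap_apply R (MvPolynomial (Fin r) R) (Localization.AtPrime 𝔫),
      IsLocalization.AtPrime.isUnit_to_map_iff (Localization.AtPrime 𝔫) 𝔫] at ha
    by_contra hu
    apply ha
    have : a ∈ 𝔫.comap (C : R →+* MvPolynomial (Fin r) R) := by
      rw [hcomap]; exact (mem_maximalIdeal a).mpr hu
    exact this
  haveI : Algebra.FormallySmooth (MvPolynomial (Fin r) R) (Localization.AtPrime 𝔫) :=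
    Algebra.FormallySmooth.of_isLocalization 𝔫.primeCompl
  haveI : Algebra.FormallySmooth R (Localization.AtPrime 𝔫) :=
    Algebra.FormallySmooth.comp R (MvPolynomial (Fin r) R) (Localization.AtPrime 𝔫)
  haveI : CharP (ResidueField (Localization.AtPrime 𝔫)) p :=
    charP_of_injective_ringHom
      (algebraMap (ResidueField R) (ResidueField (Localization.AtPrime 𝔫))).injective p
  have hpS : ((p : ℕ) : Localization.AtPrime 𝔫) ∈ maximalIdeal (Localization.AtPrime 𝔫) ^ 2 := by
    have h1 : algebraMap R (Localization.AtPrime 𝔫) (p : R) ∈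
        (maximalIdeal R ^ 2).map (algebraMap R (Localization.AtPrime 𝔫)) :=
      Ideal.mem_map_of_mem _ hp
    rw [Ideal.map_pow, map_natCast] at h1
    have h02 := (local_hom_TFAE (algebraMap R (Localization.AtPrime 𝔫))).out 0 2
    have h3 : (maximalIdeal R).map (algebraMap R (Localization.AtPrime 𝔫)) ≤
        maximalIdeal (Localization.AtPrime 𝔫) := h02.mp inferInstance
    exact Ideal.pow_right_mono h3 2 h1
  have hxmem : ∀ i, algebraMap (MvPolynomial (Fin r) R) (Localization.AtPrime 𝔫) (FF R p G f i) ∈
      maximalIdeal (Localization.AtPrime 𝔫) := by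
    intro i
    rw [← Localization.AtPrime.map_eq_maximalIdeal]
    apply Ideal.mem_map_of_mem
    show Ideal.Quotient.mk J (FF R p G f i) ∈ maximalIdeal _
    have h0 : Ideal.Quotient.mk J (FF R p G f i) = 0 :=
      Ideal.Quotient.eq_zero_iff_mem.mpr (Ideal.subset_span ⟨i, rfl⟩)
    rw [h0]
    exact Ideal.zero_mem _
  let x : Fin r → maximalIdeal (Localization.AtPrime 𝔫) := fun i =>
    ⟨algebraMap (MvPolynomial (Fin r) R) (Localization.AtPrime 𝔫) (FF R p G f i), hxmem i⟩
  have hspan : Ideal.span (Set.range fun i => (x i : Localization.AtPrime 𝔫)) =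
      J.map (algebraMap (MvPolynomial (Fin r) R) (Localization.AtPrime 𝔫)) := by
    have h1 : J.map (algebraMap (MvPolynomial (Fin r) R) (Localization.AtPrime 𝔫)) =
        Ideal.span ((algebraMap (MvPolynomial (Fin r) R) (Localization.AtPrime 𝔫)) ''
          (Set.range (FF R p G f))) := Ideal.map_span _ _
    rw [h1, ← Set.range_comp]
    rfl
  obtain ⟨h5779, -⟩ := Groth.Agent.S5779.result (Localization.AtPrime 𝔫) r x
  let E : (Localization.AtPrime 𝔫 ⧸ Ideal.span (Set.range fun i => (x i : Localization.AtPrime 𝔫)))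
      ≃+* MvPolynomial (Fin r) R ⧸ J :=
    (Ideal.quotEquivOfEq hspan).trans (quotEquivLoc J 𝔫 rfl)
  -- dimensions
  have hdimS : ringKrullDim (Localization.AtPrime 𝔫) = ringKrullDim R + r := by
    rw [IsLocalization.AtPrime.ringKrullDim_eq_height 𝔫 (Localization.AtPrime 𝔫),
      height_eq_add R 𝔫 hcomap, ← IsLocalRing.maximalIdeal_height_eq_ringKrullDim]
    push_cast
    rfl
  have hdimB : ringKrullDim (Localization.AtPrime 𝔫 ⧸
      Ideal.span (Set.range fun i => (x i : Localization.AtPrime 𝔫))) ≤ ringKrullDim R := by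
    rw [ringKrullDim_eq_of_ringEquiv E]
    exact ringKrullDim_le_of_isIntegral R _
  have hkrull : ringKrullDim (Localization.AtPrime 𝔫) ≤ ringKrullDim (Localization.AtPrime 𝔫 ⧸
      Ideal.span (Set.range fun i => (x i : Localization.AtPrime 𝔫))) + r := by
    refine le_trans (ringKrullDim_le_ringKrullDim_quotient_add_encard
      (Set.range fun i => (x i : Localization.AtPrime 𝔫)) ?_) ?_
    · rintro _ ⟨i, rfl⟩
      rw [IsLocalRing.ringJacobson_eq_maximalIdeal]
      exact (x i).2
    · gcongr
      have h1 : (Set.range fun i => (x i : Localization.AtPrime 𝔫)).encard ≤ (r : ℕ∞) := by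
        rw [← Set.image_univ]
        refine le_trans (Set.encard_image_le _ _) ?_
        rw [Set.encard_univ, ENat.card_eq_coe_fintype_card, Fintype.card_fin]
      exact_mod_cast h1
  have hdim : ringKrullDim (Localization.AtPrime 𝔫 ⧸
      Ideal.span (Set.range fun i => (x i : Localization.AtPrime 𝔫))) + r =
      ringKrullDim (Localization.AtPrime 𝔫) := by
    apply le_antisymm
    · rw [hdimS]
      gcongr
    · exact hkrull
  have hx : ∀ i, (x i : Localization.AtPrime 𝔫) =
      (algebraMap (MvPolynomial (Fin r) R) (Localization.AtPrime 𝔫) (X i)) ^ p +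
        ((p : ℕ) : Localization.AtPrime 𝔫) *
          algebraMap (MvPolynomial (Fin r) R) (Localization.AtPrime 𝔫) (G i) -
        algebraMap R (Localization.AtPrime 𝔫) (f i) := by
    intro i
    show algebraMap (MvPolynomial (Fin r) R) (Localization.AtPrime 𝔫) (FF R p G f i) = _
    rw [FF, map_sub, map_add, map_mul, map_pow, map_natCast,
      IsScalarTower.algebraMap_apply R (MvPolynomial (Fin r) R) (Localization.AtPrime 𝔫),
      MvPolynomial.algebraMap_eq]
  have hmain := core_abs R (Localization.AtPrime 𝔫) p hp x _ _ f hx hdim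
  rw [← hmain]
  constructor
  · intro hB
    exact IsRegularLocalRing.of_ringEquiv E.symm
  · intro hB
    exact IsRegularLocalRing.of_ringEquiv (R := Localization.AtPrime 𝔫 ⧸
      Ideal.span (Set.range fun i => (x i : Localization.AtPrime 𝔫))) E

end H5.NG
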