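import Mathlib
import Groth.Agent.Lib.Helper5.CA.NG9

set_option autoImplicit false
universe u

open IsLocalRing MvPolynomial TensorProduct

namespace H5.NG

section
variable (R : Type u) [CommRing R] [IsLocalRing R] (p : ℕ) [hpp : Fact p.Prime]
  [CharP (ResidueField R) p] {r : ℕ}
  (G : Fin r → MvPolynomial (Fin r) R) (f : Fin r → R)

/-- the Nagata algebra. -/
abbrev BB : Type u := MvPolynomial (Fin r) R ⧸ Ideal.span (Set.range (FF R p G f))

theorem natCast_mem_maximalIdeal : (p : R) ∈ maximalIdeal R := by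
  rw [← ker_residue, RingHom.mem_ker, map_natCast, CharP.cast_eq_zero]

/-- in `B`, `t_i^p = f_i - p g_i`. -/
theorem mk_X_pow (i : Fin r) :
    (Ideal.Quotient.mk (Ideal.span (Set.range (FF R p G f))) (X i)) ^ p =
      algebraMap R (BB R p G f) (f i) - (p : BB R p G f) *
        Ideal.Quotient.mk (Ideal.span (Set.range (FF R p G f))) (G i) := by
  have h0 : Ideal.Quotient.mk (Ideal.span (Set.range (FF R p G f))) (FF R p G f i) = 0 :=
    Ideal.Quotient.eq_zero_iff_mem.mpr (Ideal.subset_span ⟨i, rfl⟩)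
  rw [FF, map_sub, map_add, map_mul, map_pow, map_natCast] at h0
  have h1 : Ideal.Quotient.mk (Ideal.span (Set.range (FF R p G f))) (C (f i)) =
      algebraMap R _ (f i) := rfl
  rw [h1] at h0
  linear_combination h0

/-- every `p`-th power in `B` is congruent to an element of `R` modulo `𝔪B`. -/
theorem exists_pow_sub_mem (b : MvPolynomial (Fin r) R ⧸ Ideal.span (Set.range (FF R p G f))) :
    ∃ a : R, b ^ p - algebraMap R _ a ∈ (maximalIdeal R).map
      (algebraMap R (MvPolynomial (Fin r) R ⧸ Ideal.span (Set.range (FF R p G f)))) := by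
  obtain ⟨q, rfl⟩ := Ideal.Quotient.mk_surjective b
  have hpm : ∀ z : MvPolynomial (Fin r) R ⧸ Ideal.span (Set.range (FF R p G f)),
      (p : MvPolynomial (Fin r) R ⧸ Ideal.span (Set.range (FF R p G f))) * z ∈
        (maximalIdeal R).map (algebraMap R _) := by
    intro z
    rw [← map_natCast (algebraMap R (MvPolynomial (Fin r) R ⧸ Ideal.span (Set.range (FF R p G f))))]
    exact Ideal.mul_mem_right _ _ (Ideal.mem_map_of_mem _ (natCast_mem_maximalIdeal R p))
  induction q using MvPolynomial.induction_on with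
  | C a =>
    refine ⟨a ^ p, ?_⟩
    have h1 : Ideal.Quotient.mk (Ideal.span (Set.range (FF R p G f))) (C a) =
        algebraMap R _ a := rfl
    rw [h1, map_pow, sub_self]
    exact Ideal.zero_mem _
  | add u v hu hv =>
    obtain ⟨a, ha⟩ := hu
    obtain ⟨a', ha'⟩ := hv
    refine ⟨a + a', ?_⟩
    obtain ⟨s, hs⟩ := exists_add_pow_prime_eq hpp.out
      (Ideal.Quotient.mk (Ideal.span (Set.range (FF R p G f))) u)
      (Ideal.Quotient.mk (Ideal.span (Set.range (FF R p G f))) v)
    rw [map_add, hs, map_add]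
    have h2 := Ideal.add_mem _ (Ideal.add_mem _ ha ha') (hpm
      (Ideal.Quotient.mk (Ideal.span (Set.range (FF R p G f))) u *
        Ideal.Quotient.mk (Ideal.span (Set.range (FF R p G f))) v * s))
    convert h2 using 1
    ring
  | mul_X u i hu =>
    obtain ⟨a, ha⟩ := hu
    refine ⟨a * f i, ?_⟩
    rw [map_mul, mul_pow, mk_X_pow, map_mul]
    have h2 := Ideal.sub_mem _ (Ideal.mul_mem_right (algebraMap R _ (f i)) _ ha)
      (hpm (Ideal.Quotient.mk (Ideal.span (Set.range (FF R p G f))) u ^ p *
        Ideal.Quotient.mk _ (G i)))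
    convert h2 using 1
    ring

theorem map_maximalIdeal_le_jacobson (B : Type*) [CommRing B] [Algebra R B]
    [Algebra.IsIntegral R B] :
    (maximalIdeal R).map (algebraMap R B) ≤ Ideal.jacobson ⊥ := by
  unfold Ideal.jacobson
  apply le_sInf
  rintro M ⟨-, hM⟩
  rw [Ideal.map_le_iff_le_comap]
  have h1 : (M.comap (algebraMap R B)).IsMaximal :=
    Ideal.isMaximal_comap_of_isIntegral_of_isMaximal M
  exact (IsLocalRing.eq_maximalIdeal h1).symm.le

theorem isLocalRing_of_isIntegral
    [Algebra.IsIntegral R (MvPolynomial (Fin r) R ⧸ Ideal.span (Set.range (FF R p G f)))]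
    [Nontrivial (MvPolynomial (Fin r) R ⧸ Ideal.span (Set.range (FF R p G f)))] :
    IsLocalRing (MvPolynomial (Fin r) R ⧸ Ideal.span (Set.range (FF R p G f))) := by
  apply IsLocalRing.of_isUnit_or_isUnit_one_sub_self
  intro b
  obtain ⟨a, ha⟩ := exists_pow_sub_mem R p G f b
  have hjac := map_maximalIdeal_le_jacobson R
    (MvPolynomial (Fin r) R ⧸ Ideal.span (Set.range (FF R p G f)))
  by_cases hau : IsUnit a
  · left
    have h1 := Ideal.mem_jacobson_bot.mp (hjac ha) (algebraMap R _ (↑hau.unit⁻¹ : R))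
    have h2 : b ^ p = algebraMap R _ a * ((b ^ p - algebraMap R _ a) *
        algebraMap R _ (↑hau.unit⁻¹ : R) + 1) := by
      have h3 : algebraMap R (MvPolynomial (Fin r) R ⧸ Ideal.span (Set.range (FF R p G f))) a *
          algebraMap R _ (↑hau.unit⁻¹ : R) = 1 := by
        rw [← map_mul, IsUnit.mul_val_inv, map_one]
      linear_combination (-(b ^ p) + algebraMap R _ a) * h3
    have h4 : IsUnit (b ^ p) := by
      rw [h2]
      exact (hau.map _).mul h1
    exact (isUnit_pow_iff hpp.out.ne_zero).mp h4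
  · right
    have ham : a ∈ maximalIdeal R := (mem_maximalIdeal a).mpr hau
    have h1 : b ^ p ∈ (maximalIdeal R).map (algebraMap R
        (MvPolynomial (Fin r) R ⧸ Ideal.span (Set.range (FF R p G f)))) := by
      have := Ideal.add_mem _ ha (Ideal.mem_map_of_mem (algebraMap R
        (MvPolynomial (Fin r) R ⧸ Ideal.span (Set.range (FF R p G f)))) ham)
      rwa [sub_add_cancel] at this
    have h2 : b ∈ Ideal.jacobson (⊥ : Ideal
        (MvPolynomial (Fin r) R ⧸ Ideal.span (Set.range (FF R p G f)))) := by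
      unfold Ideal.jacobson
      rw [Ideal.mem_sInf]
      rintro M ⟨-, hM⟩
      have h3 : b ^ p ∈ M := by
        have := hjac h1
        unfold Ideal.jacobson at this
        rw [Ideal.mem_sInf] at this
        exact this ⟨bot_le, hM⟩
      exact hM.isPrime.mem_of_pow_mem p h3
    have h3 := Ideal.mem_jacobson_bot.mp h2 (-1)
    have h4 : b * -1 + 1 = 1 - b := by ring
    rwa [h4] at h3

end

end H5.NG
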