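import Mathlib
import Groth.Agent.Lib.Helper5.CA.NG10

set_option autoImplicit false
universe u

open IsLocalRing MvPolynomial TensorProduct

namespace H5.NG

section
variable (R : Type u) [CommRing R] [IsLocalRing R] (p : ℕ) [hpp : Fact p.Prime]
  [CharP (ResidueField R) p] {r : ℕ}
  (G : Fin r → MvPolynomial (Fin r) R) (f : Fin r → R)

/-- the Nagata algebra is nonzero. -/
theorem nontrivial_BB : Nontrivial (BB R p G f) := by
  let L := AlgebraicClosure (ResidueField R)
  let ι : R →+* L := (algebraMap (ResidueField R) L).comp (residue R)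
  haveI : CharP L p := charP_of_injective_ringHom (algebraMap (ResidueField R) L).injective p
  have hθ : ∀ i, ∃ z : L, z ^ p = ι (f i) := fun i =>
    IsAlgClosed.exists_pow_nat_eq _ hpp.out.pos
  choose θ hθ using hθ
  let φ : MvPolynomial (Fin r) R →+* L := MvPolynomial.eval₂Hom ι θ
  have hφ : ∀ i, φ (FF R p G f i) = 0 := by
    intro i
    simp only [FF, map_sub, map_add, map_mul, map_pow, map_natCast, CharP.cast_eq_zero, zero_mul,
      add_zero, φ, MvPolynomial.coe_eval₂Hom, MvPolynomial.eval₂_X, MvPolynomial.eval₂_C, hθ,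
      sub_self]
  have hle : Ideal.span (Set.range (FF R p G f)) ≤ RingHom.ker φ := by
    rw [Ideal.span_le]
    rintro _ ⟨i, rfl⟩
    exact hφ i
  apply Ideal.Quotient.nontrivial_iff.mpr
  intro htop
  have h1 : (1 : MvPolynomial (Fin r) R) ∈ RingHom.ker φ := hle (htop ▸ Submodule.mem_top)
  rw [RingHom.mem_ker, map_one] at h1
  exact one_ne_zero h1

/-- integrality of the Nagata algebra, given that each generator is integral. -/
theorem isIntegral_BB (h : ∀ i, IsIntegral R
    (Ideal.Quotient.mk (Ideal.span (Set.range (FF R p G f))) (X i))) :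
    Algebra.IsIntegral R (BB R p G f) := by
  constructor
  intro b
  obtain ⟨q, rfl⟩ := Ideal.Quotient.mk_surjective b
  induction q using MvPolynomial.induction_on with
  | C a => exact isIntegral_algebraMap (R := R) (A := BB R p G f) (x := a)
  | add u v hu hv =>
    rw [map_add]
    exact hu.add hv
  | mul_X u i hu =>
    rw [map_mul]
    exact hu.mul (h i)

end

end H5.NG
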