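import Mathlib
import Groth.Agent.Lib.Helper5.CA.NG11

set_option autoImplicit false
universe u

open IsLocalRing MvPolynomial TensorProduct

namespace H5.NG

section
variable (R : Type u) [CommRing R] (p : ℕ) [hpp : Fact p.Prime] {r : ℕ}
  (c : Fin r → Fin p → R) (f : Fin r → R)

/-- the lower-order part in the statement of Nagata's criterion. -/
noncomputable def GG (i : Fin r) : MvPolynomial (Fin r) R :=
  Finset.univ.sum fun j : Fin p =>
    if (j : ℕ) = 0 then 0 else MvPolynomial.C (c i j) * MvPolynomial.X i ^ (p - (j : ℕ))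

/-- the one-variable lower-order part. -/
noncomputable def qq (i : Fin r) : Polynomial R :=
  (p : Polynomial R) * (Finset.univ.sum fun j : Fin p =>
    if (j : ℕ) = 0 then 0 else Polynomial.C (c i j) * Polynomial.X ^ (p - (j : ℕ))) -
    Polynomial.C (f i)

theorem degree_qq_lt (i : Fin r) : (qq R p c f i).degree < (p : WithBot ℕ) := by
  have hp0 : 0 < p := hpp.out.pos
  unfold qq
  refine lt_of_le_of_lt (Polynomial.degree_sub_le _ _) (max_lt ?_ ?_)
  · rw [← Polynomial.C_eq_natCast]
    refine lt_of_le_of_lt (le_trans (Polynomial.degree_mul_le _ _)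
      (add_le_add Polynomial.degree_C_le le_rfl)) ?_
    rw [zero_add]
    refine lt_of_le_of_lt (Polynomial.degree_sum_le _ _) ?_
    rw [Finset.sup_lt_iff (by exact_mod_cast WithBot.bot_lt_coe p)]
    intro j _
    split_ifs with hj
    · rw [Polynomial.degree_zero]; exact WithBot.bot_lt_coe p
    · refine lt_of_le_of_lt (Polynomial.degree_C_mul_X_pow_le _ _) ?_
      have : p - (j : ℕ) < p := Nat.sub_lt hp0 (Nat.pos_of_ne_zero hj)
      exact_mod_cast this
  · refine lt_of_le_of_lt Polynomial.degree_C_le ?_
    exact_mod_cast hp0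

theorem aeval_X_qq (i : Fin r) :
    Polynomial.aeval (MvPolynomial.X i : MvPolynomial (Fin r) R)
      (Polynomial.X ^ p + qq R p c f i) = FF R p (GG R p c) f i := by
  unfold qq FF GG
  simp only [map_add, map_sub, map_mul, map_pow, map_natCast, map_sum, Polynomial.aeval_X,
    Polynomial.aeval_C, MvPolynomial.algebraMap_eq, apply_ite (Polynomial.aeval (X i)), map_zero]
  ring

theorem isIntegral_mk_X [IsLocalRing R] (i : Fin r) :
    IsIntegral R (Ideal.Quotient.mk (Ideal.span (Set.range (FF R p (GG R p c) f))) (X i)) := by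
  refine ⟨Polynomial.X ^ p + qq R p c f i, Polynomial.monic_X_pow_add (degree_qq_lt R p c f i), ?_⟩
  have h1 : Polynomial.eval₂ (algebraMap R (BB R p (GG R p c) f))
      (Ideal.Quotient.mk (Ideal.span (Set.range (FF R p (GG R p c) f))) (X i))
      (Polynomial.X ^ p + qq R p c f i) =
      Ideal.Quotient.mk (Ideal.span (Set.range (FF R p (GG R p c) f)))
        (Polynomial.aeval (MvPolynomial.X i : MvPolynomial (Fin r) R)
          (Polynomial.X ^ p + qq R p c f i)) := by
    rw [← Polynomial.aeval_def]
    exact (Polynomial.aeval_algHom_apply (Ideal.Quotient.mkₐ R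
      (Ideal.span (Set.range (FF R p (GG R p c) f)))) (X i) _)
  rw [h1, aeval_X_qq]
  exact Ideal.Quotient.eq_zero_iff_mem.mpr (Ideal.subset_span ⟨i, rfl⟩)

end

end H5.NG
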