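import Mathlib
import Groth.Agent.Lib.Helper5.CA.NG12

set_option autoImplicit false
universe u

open IsLocalRing MvPolynomial TensorProduct

namespace H5.NG

/-- Nagata's criterion, in the shape of S2473. -/
theorem main2473 {A : Type u} [CommRing A] [IsRegularLocalRing A] (p : ℕ) [Fact p.Prime]
    [CharP (ResidueField A) p] {r : ℕ} (c : Fin r → Fin p → A) (f : Fin r → A)
    (hp : (p : A) ∈ maximalIdeal A ^ 2) :
    IsLocalRing (MvPolynomial (Fin r) A ⧸ Ideal.span (Set.range (FF A p (GG A p c) f))) ∧
      (IsRegularRing (MvPolynomial (Fin r) A ⧸ Ideal.span (Set.range (FF A p (GG A p c) f))) ↔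
        LinearIndependent (ResidueField A)
          (fun i => (1 : ResidueField A) ⊗ₜ[A] KaehlerDifferential.D ℤ A (f i))) := by
  haveI : Algebra.IsIntegral A (BB A p (GG A p c) f) :=
    isIntegral_BB A p _ f (isIntegral_mk_X A p c f)
  haveI : Nontrivial (BB A p (GG A p c) f) := nontrivial_BB A p _ f
  haveI hloc : IsLocalRing (BB A p (GG A p c) f) := isLocalRing_of_isIntegral A p _ f
  refine ⟨hloc, ?_⟩
  rw [← core A p hp (GG A p c) f]
  constructor
  · intro h
    exact IsRegularLocalRing.of_isRegularRing_of_isLocalRing _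
  · intro h
    exact isRegularRing_of_isRegularLocalRing _

end H5.NG
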