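import Mathlib
import Groth.Agent.Lib.Helper5.CA.NG13
import Groth.Agent.Lib.Helper7.Reg1

set_option autoImplicit false
universe u

open IsLocalRing MvPolynomial TensorProduct

namespace H5.NG

section
variable (R : Type u) [CommRing R] (p : ℕ) [hpp : Fact p.Prime] {r : ℕ}

theorem GG_zero : GG R p (fun (_ : Fin r) (_ : Fin p) => (0 : R)) = 0 := by
  funext i
  simp [GG]

theorem isIntegral_BB_zero [IsLocalRing R] [CharP (ResidueField R) p] (f : Fin r → R) :
    Algebra.IsIntegral R (BB R p (0 : Fin r → MvPolynomial (Fin r) R) f) := by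
  have key : ∀ (G : Fin r → MvPolynomial (Fin r) R), G = GG R p (fun _ _ => 0) →
      Algebra.IsIntegral R (BB R p G f) := by
    intro G hG
    subst hG
    exact isIntegral_BB R p _ f (isIntegral_mk_X R p (fun _ _ => 0) f)
  exact key 0 (GG_zero R p).symm

end

section field
variable (k : Type u) [Field k] (p : ℕ) [hpp : Fact p.Prime] [CharP k p] {r : ℕ} (x : Fin r → k)

theorem charP_residueField_field : CharP (ResidueField k) p :=
  charP_of_injective_ringHom (residue k).injective p

/-- if the `d x_i` are independent then `k[T]/(T_i^p - x_i)` is a field. -/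
theorem isField_BB_of_linearIndependent
    (hx : LinearIndependent k (fun i => KaehlerDifferential.D ℤ k (x i))) :
    IsField (BB k p (0 : Fin r → MvPolynomial (Fin r) k) x) := by
  haveI := charP_residueField_field k p
  haveI : Algebra.IsIntegral k (BB k p (0 : Fin r → MvPolynomial (Fin r) k) x) :=
    isIntegral_BB_zero k p x
  haveI : Nontrivial (BB k p (0 : Fin r → MvPolynomial (Fin r) k) x) := nontrivial_BB k p _ x
  haveI : IsLocalRing (BB k p (0 : Fin r → MvPolynomial (Fin r) k) x) :=
    isLocalRing_of_isIntegral k p _ x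
  have hp0 : ((p : ℕ) : k) ∈ maximalIdeal k ^ 2 := by
    rw [CharP.cast_eq_zero]; exact Ideal.zero_mem _
  have h1 := (core k p hp0 (0 : Fin r → MvPolynomial (Fin r) k) x).mpr
    (Module.Flat.linearIndependent_one_tmul (S := ResidueField k) hx)
  haveI : IsDomain (BB k p (0 : Fin r → MvPolynomial (Fin r) k) x) :=
    Groth.Agent.H7.Reg.isDomain _
  exact isField_of_isIntegral_of_isField' (Field.toIsField k)

theorem pow_mem_range_BB (y : BB k p (0 : Fin r → MvPolynomial (Fin r) k) x) :
    y ^ p ∈ (algebraMap k (BB k p (0 : Fin r → MvPolynomial (Fin r) k) x)).range := by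
  haveI := charP_residueField_field k p
  obtain ⟨a, ha⟩ := exists_pow_sub_mem k p (0 : Fin r → MvPolynomial (Fin r) k) x y
  rw [IsLocalRing.maximalIdeal_eq_bot, Ideal.map_bot, Ideal.mem_bot, sub_eq_zero] at ha
  exact ⟨a, ha.symm⟩

end field

end H5.NG
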