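import Mathlib
import Groth.Agent.Lib.Helper5.CA.NG15

set_option autoImplicit false
universe u

open IsLocalRing MvPolynomial TensorProduct

namespace H5.NG

section
variable (k A : Type u) [CommRing k] [CommRing A] [Algebra k A] (p : ℕ) {r : ℕ} (x : Fin r → k)

theorem map_FF_zero (i : Fin r) :
    MvPolynomial.map (algebraMap k A) (FF k p (0 : Fin r → MvPolynomial (Fin r) k) x i) =
      FF A p (0 : Fin r → MvPolynomial (Fin r) A) (fun j => algebraMap k A (x j)) i := by
  simp [FF]

theorem map_span_FF :
    ((Ideal.span (Set.range (FF k p (0 : Fin r → MvPolynomial (Fin r) k) x))).map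
      (Algebra.TensorProduct.includeRight : MvPolynomial (Fin r) k →ₐ[k]
        A ⊗[k] MvPolynomial (Fin r) k)).map
      (((MvPolynomial.algebraTensorAlgEquiv k A).toRingEquiv :
        A ⊗[k] MvPolynomial (Fin r) k ≃+* MvPolynomial (Fin r) A) :
        A ⊗[k] MvPolynomial (Fin r) k →+* MvPolynomial (Fin r) A) =
    Ideal.span (Set.range (FF A p (0 : Fin r → MvPolynomial (Fin r) A)
      (fun j => algebraMap k A (x j)))) := by
  rw [Ideal.map_span, Ideal.map_span, ← Set.range_comp, ← Set.range_comp]
  congr 1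
  ext q
  constructor
  · rintro ⟨i, rfl⟩
    refine ⟨i, ?_⟩
    rw [← map_FF_zero]
    simp
  · rintro ⟨i, rfl⟩
    refine ⟨i, ?_⟩
    rw [← map_FF_zero]
    simp

/-- base change of the Nagata algebra. -/
noncomputable def bbBaseChange :
    (BB k p (0 : Fin r → MvPolynomial (Fin r) k) x) ⊗[k] A ≃+*
      BB A p (0 : Fin r → MvPolynomial (Fin r) A) (fun j => algebraMap k A (x j)) :=
  ((Algebra.TensorProduct.comm k (BB k p (0 : Fin r → MvPolynomial (Fin r) k) x) A).toRingEquiv.trans
    (Algebra.TensorProduct.tensorQuotientEquiv (R := k) A (MvPolynomial (Fin r) k) A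
      (Ideal.span (Set.range (FF k p (0 : Fin r → MvPolynomial (Fin r) k) x)))).toRingEquiv).trans
    (Ideal.quotientEquiv _ _ (MvPolynomial.algebraTensorAlgEquiv k A).toRingEquiv
      (map_span_FF k A p x).symm)

end

end H5.NG
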