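import Mathlib
import Groth.Agent.Lib.Helper5.CA.NG16
import Groth.Agent.Lib.Helper5.CA.NG14
import Groth.Agent.Lib.Helper5.CA.KF5
import Groth.Agent.Lib.Helper5.CA.GR3

set_option autoImplicit false
universe u

open IsLocalRing MvPolynomial TensorProduct

namespace H5.NG

/-- the key step of S4573: independence of differentials is preserved. -/
theorem linearIndependent_of_forall_regular {k A : Type u} [Field k] (p : ℕ) [hpp : Fact p.Prime]
    [CharP k p] [CommRing A] [IsRegularLocalRing A] [Algebra k A]
    (H : ∀ (k' : Type u) [Field k'] [Algebra k k'], Module.Finite k k' →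
        (∀ x : k', x ^ p ∈ (algebraMap k k').range) → IsRegularRing (k' ⊗[k] A))
    {r : ℕ} (x : Fin r → k)
    (hx : LinearIndependent k (fun i => KaehlerDifferential.D ℤ k (x i))) :
    LinearIndependent (ResidueField A)
      (fun i => (1 : ResidueField A) ⊗ₜ[A] KaehlerDifferential.D ℤ A (algebraMap k A (x i))) := by
  haveI : CharP (ResidueField A) p :=
    charP_of_injective_ringHom (algebraMap k (ResidueField A)).injective p
  have hp0 : ((p : ℕ) : A) ∈ maximalIdeal A ^ 2 := by
    rw [← map_natCast (algebraMap k A), CharP.cast_eq_zero, map_zero]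
    exact Ideal.zero_mem _
  have hfield := isField_BB_of_linearIndependent k p x hx
  letI : Field (BB k p (0 : Fin r → MvPolynomial (Fin r) k) x) := hfield.toField
  haveI := charP_residueField_field k p
  haveI : Algebra.IsIntegral k (BB k p (0 : Fin r → MvPolynomial (Fin r) k) x) :=
    isIntegral_BB_zero k p x
  haveI hfin : Module.Finite k (BB k p (0 : Fin r → MvPolynomial (Fin r) k) x) :=
    Algebra.IsIntegral.finite
  have hreg := H (BB k p (0 : Fin r → MvPolynomial (Fin r) k) x) hfin (pow_mem_range_BB k p x)
  haveI : IsRegularRing (BB A p (0 : Fin r → MvPolynomial (Fin r) A)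
      (fun j => algebraMap k A (x j))) :=
    IsRegularRing.of_ringEquiv (bbBaseChange k A p x)
  haveI : Algebra.IsIntegral A (BB A p (0 : Fin r → MvPolynomial (Fin r) A)
      (fun j => algebraMap k A (x j))) := isIntegral_BB_zero A p _
  haveI : Nontrivial (BB A p (0 : Fin r → MvPolynomial (Fin r) A)
      (fun j => algebraMap k A (x j))) := nontrivial_BB A p _ _
  haveI : IsLocalRing (BB A p (0 : Fin r → MvPolynomial (Fin r) A)
      (fun j => algebraMap k A (x j))) := isLocalRing_of_isIntegral A p _ _
  exact (core A p hp0 (0 : Fin r → MvPolynomial (Fin r) A) (fun j => algebraMap k A (x j))).mp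
    (IsRegularLocalRing.of_isRegularRing_of_isLocalRing _)

end H5.NG
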