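import Mathlib
import Groth.Agent.Lib.Helper5.CA.NG17
import Groth.Agent.Lib.Helper5.CA.FSField
import Groth.Agent.Lib.Helper5.CA.PerfGR

set_option autoImplicit false
universe u

open IsLocalRing MvPolynomial TensorProduct

namespace H5.NG

theorem isRegularLocalRing_of_forall {k A : Type u} [Field k] (p : ℕ) [CommRing A]
    [IsLocalRing A] [Algebra k A]
    (H : ∀ (k' : Type u) [Field k'] [Algebra k k'], Module.Finite k k' →
        (∀ x : k', x ^ p ∈ (algebraMap k k').range) → IsRegularRing (k' ⊗[k] A)) :
    IsRegularLocalRing A := by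
  have h1 := H k inferInstance (fun x => ⟨x ^ p, rfl⟩)
  haveI : IsRegularRing A := IsRegularRing.of_ringEquiv (Algebra.TensorProduct.lid k A).toRingEquiv
  exact IsRegularLocalRing.of_isRegularRing_of_isLocalRing _

/-- injectivity of `κ ⊗ Ω_k → κ ⊗ Ω_A`. -/
theorem injective_lTensor_of_forall_regular {k A : Type u} [Field k] (p : ℕ) [hpp : Fact p.Prime]
    [CharP k p] [CommRing A] [IsRegularLocalRing A] [Algebra k A]
    (H : ∀ (k' : Type u) [Field k'] [Algebra k k'], Module.Finite k k' →
        (∀ x : k', x ^ p ∈ (algebraMap k k').range) → IsRegularRing (k' ⊗[k] A)) :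
    Function.Injective
      ((KaehlerDifferential.mapBaseChange ℤ k A).lTensor (ResidueField A)) := by
  let Ψ : ResidueField A ⊗[k] Ω[k⁄ℤ] →ₗ[ResidueField A] ResidueField A ⊗[A] Ω[A⁄ℤ] :=
    ((KaehlerDifferential.mapBaseChange ℤ k A).baseChange (ResidueField A)) ∘ₗ
      (TensorProduct.AlgebraTensorModule.cancelBaseChange k A (ResidueField A) (ResidueField A)
        Ω[k⁄ℤ]).symm.toLinearMap
  have hΨ : Function.Injective Ψ := by
    refine injective_of_forall_fin Ψ (Set.range (KaehlerDifferential.D ℤ k))
      (KaehlerDifferential.span_range_derivation ℤ k) ?_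
    intro r v hv hli
    choose x hx using hv
    have hv' : v = fun i => KaehlerDifferential.D ℤ k (x i) := funext fun i => (hx i).symm
    subst hv'
    have h1 := linearIndependent_of_forall_regular p H x hli
    have h3 : (fun i => Ψ ((1 : ResidueField A) ⊗ₜ[k] KaehlerDifferential.D ℤ k (x i))) =
        fun i => (1 : ResidueField A) ⊗ₜ[A]
          KaehlerDifferential.D ℤ A (algebraMap k A (x i)) := by
      funext i
      simp [Ψ]
    rw [h3]
    exact h1
  intro a b hab
  have h1 : Ψ ((TensorProduct.AlgebraTensorModule.cancelBaseChange k A (ResidueField A)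
      (ResidueField A) Ω[k⁄ℤ]) a) = Ψ ((TensorProduct.AlgebraTensorModule.cancelBaseChange k A
      (ResidueField A) (ResidueField A) Ω[k⁄ℤ]) b) := by
    simp only [Ψ, LinearMap.comp_apply, LinearEquiv.coe_coe, LinearEquiv.symm_apply_apply]
    exact hab
  exact (LinearEquiv.injective _) (hΨ h1)

theorem main4573 {k A : Type u} [Field k] (p : ℕ) [ExpChar k p] [CommRing A] [IsLocalRing A]
    [IsNoetherianRing A] [Algebra k A] :
    CAlgX.IsAdicFormallySmooth k A (maximalIdeal A) ↔
      ∀ (k' : Type u) [Field k'] [Algebra k k'], Module.Finite k k' →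
        (∀ x : k', x ^ p ∈ (algebraMap k k').range) → IsRegularRing (k' ⊗[k] A) := by
  constructor
  · intro h k' _ _ hfin _
    exact Groth.Agent.H5.GR.isGeometricallyRegular_of_isAdicFormallySmooth k A h k' hfin
  · intro H
    haveI hreg : IsRegularLocalRing A := isRegularLocalRing_of_forall p H
    rcases ‹ExpChar k p› with _ | ⟨hprime⟩
    · -- characteristic zero
      haveI : Algebra.IsGeometricallyReduced k (ResidueField A) :=
        Groth.Agent.H5.isGeometricallyReduced_of_perfectField _ _
      exact ((Groth.Agent.H5.FSField.tfae k A).out 3 0).mp hreg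
    · haveI : Fact p.Prime := ⟨hprime⟩
      exact Groth.Agent.H5.KF.isAdicFormallySmooth_iff_regular_and_injective.mpr
        ⟨hreg, injective_lTensor_of_forall_regular p H⟩

end H5.NG
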