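import Mathlib
import Groth.Agent.Lib.Helper5.CA.NG18
import Groth.Agent.Lib.Helper1.RegRing

set_option autoImplicit false
universe u

open IsLocalRing TensorProduct

namespace H5.NG

attribute [local instance] Algebra.TensorProduct.rightAlgebra in
/-- geometric regularity passes to localizations. -/
theorem isGeometricallyRegular_of_isLocalization (k A : Type u) [Field k] [CommRing A]
    [Algebra k A] (M : Submonoid A) (A' : Type u) [CommRing A'] [Algebra A A'] [Algebra k A']
    [IsScalarTower k A A'] [IsLocalization M A'] (h : CAlg.IsGeometricallyRegular k A) :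
    CAlg.IsGeometricallyRegular k A' := by
  intro k' _ _ hfin
  haveI h1 : IsRegularRing (k' ⊗[k] A) := h k' hfin
  haveI h2 : IsRegularRing (A ⊗[k] k') :=
    IsRegularRing.of_ringEquiv (Algebra.TensorProduct.comm k k' A).toRingEquiv
  haveI h3 : IsRegularRing (A' ⊗[A] (A ⊗[k] k')) :=
    Groth.Agent.H1.Reg.isRegularRing_of_isLocalization (A ⊗[k] k')
      (Algebra.algebraMapSubmonoid (A ⊗[k] k') M) (A' ⊗[A] (A ⊗[k] k'))
  haveI h4 : IsRegularRing (A' ⊗[k] k') :=
    IsRegularRing.of_ringEquiv
      (Algebra.TensorProduct.cancelBaseChange k A A' A' k').toRingEquiv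
  exact IsRegularRing.of_ringEquiv (Algebra.TensorProduct.comm k A' k').toRingEquiv

/-- geometric regularity = formal smoothness for Noetherian local algebras over a field. -/
theorem isGeometricallyRegular_iff_isAdicFormallySmooth (k A : Type u) [Field k] [CommRing A]
    [IsLocalRing A] [IsNoetherianRing A] [Algebra k A] :
    CAlg.IsGeometricallyRegular k A ↔ CAlgX.IsAdicFormallySmooth k A (maximalIdeal A) := by
  obtain ⟨p, hp⟩ := ExpChar.exists k
  constructor
  · intro h
    exact (main4573 (k := k) (A := A) p).mpr (fun k' _ _ hfin _ => h k' hfin)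
  · intro h
    exact Groth.Agent.H5.GR.isGeometricallyRegular_of_isAdicFormallySmooth k A h

/-- S4574: formal smoothness over a field localizes. -/
theorem isAdicFormallySmooth_localization_atPrime {k A : Type u} [Field k] [CommRing A]
    [IsLocalRing A] [IsNoetherianRing A] [Algebra k A]
    (h : CAlgX.IsAdicFormallySmooth k A (maximalIdeal A)) (p : Ideal A) [p.IsPrime] :
    CAlgX.IsAdicFormallySmooth k (Localization.AtPrime p)
      (maximalIdeal (Localization.AtPrime p)) := by
  haveI : IsNoetherianRing (Localization.AtPrime p) :=
    IsLocalization.isNoetherianRing p.primeCompl _ inferInstance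
  rw [← isGeometricallyRegular_iff_isAdicFormallySmooth]
  exact isGeometricallyRegular_of_isLocalization k A p.primeCompl _
    ((isGeometricallyRegular_iff_isAdicFormallySmooth k A).mpr h)

end H5.NG
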