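import Mathlib
import Groth.Agent.Lib.Helper5.CA.NG19
import Groth.Agent.Lib.Helper5.CA.AJ7
import Groth.Agent.Lib.Helper5.CA.FSL4

set_option autoImplicit false
universe u

open IsLocalRing TensorProduct

namespace H5.NG

/-- S4578. -/
theorem tfae4578 {k₀ k C : Type u} [Field k₀] [Field k] [Algebra k₀ k]
    [Algebra.FormallySmooth k₀ k] [CommRing C] [Algebra k C] [Algebra k₀ C] [IsScalarTower k₀ k C]
    [Algebra.FiniteType k C]
    (p : Ideal C) [p.IsPrime] :
    [Algebra.FormallySmooth k₀ (Localization.AtPrime p),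
     CAlgX.IsAdicFormallySmooth k₀ (Localization.AtPrime p) (maximalIdeal (Localization.AtPrime p)),
     ∃ f : C, f ∉ p ∧ Algebra.FormallySmooth k₀ (Localization.Away f),
     CAlg.IsGeometricallyRegular k₀ (Localization.AtPrime p)].TFAE := by
  obtain ⟨n, φ, hφ⟩ := Algebra.FiniteType.iff_quotient_mvPolynomial''.mp
    (inferInstance : Algebra.FiniteType k C)
  letI : Algebra (MvPolynomial (Fin n) k) C := φ.toRingHom.toAlgebra
  haveI : IsScalarTower k (MvPolynomial (Fin n) k) C :=
    IsScalarTower.of_algebraMap_eq (fun x => (φ.commutes x).symm)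
  haveI : IsScalarTower k₀ (MvPolynomial (Fin n) k) C :=
    IsScalarTower.of_algebraMap_eq (fun x => by
      rw [IsScalarTower.algebraMap_apply k₀ k C, IsScalarTower.algebraMap_apply k₀ k
        (MvPolynomial (Fin n) k), ← IsScalarTower.algebraMap_apply k (MvPolynomial (Fin n) k) C])
  have hsurj : Function.Surjective (algebraMap (MvPolynomial (Fin n) k) C) := hφ
  haveI : Algebra.FormallySmooth k₀ (MvPolynomial (Fin n) k) :=
    Algebra.FormallySmooth.comp k₀ k (MvPolynomial (Fin n) k)
  haveI : IsNoetherianRing C := Algebra.FiniteType.isNoetherianRing k C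
  haveI : IsNoetherianRing (Localization.AtPrime p) :=
    IsLocalization.isNoetherianRing p.primeCompl _ inferInstance
  haveI := Groth.Agent.H5.AJ.finite_cotangent_of_noetherian
    (RingHom.ker (algebraMap (MvPolynomial (Fin n) k) C))
  have hT := Groth.Agent.H5.FSL.formallySmooth_atPrime_tfae (A := k₀)
    (B := MvPolynomial (Fin n) k) hsurj p
  tfae_have 1 → 2 := fun h =>
    Groth.Agent.H5.GR.isAdicFormallySmooth_of_formallySmooth k₀ _ _
  tfae_have 2 → 1 := fun h =>
    (hT.out 1 0).mp (Groth.Agent.H5.AJ.injective_of_isAdicFormallySmooth hsurj p h)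
  tfae_have 1 ↔ 3 := hT.out 0 2
  tfae_have 2 ↔ 4 := (isGeometricallyRegular_iff_isAdicFormallySmooth k₀ _).symm
  tfae_finish

end H5.NG
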