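import Mathlib
import Groth.Agent.Lib.Helper5.CA.NG20

set_option autoImplicit false
universe u

open IsLocalRing TensorProduct

namespace H5.NG

attribute [local instance] Algebra.TensorProduct.rightAlgebra in
/-- a formally smooth Noetherian algebra over a field is geometrically regular. -/
theorem isGeometricallyRegular_of_formallySmooth (k₀ C : Type u) [Field k₀] [CommRing C]
    [Algebra k₀ C] [IsNoetherianRing C] [Algebra.FormallySmooth k₀ C] :
    CAlg.IsGeometricallyRegular k₀ C := by
  intro k' _ _ hfin
  haveI := hfin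
  haveI : Module.Finite C (k' ⊗[k₀] C) :=
    Module.Finite.equiv (Algebra.TensorProduct.commRight k₀ C k').toLinearEquiv
  haveI : IsNoetherianRing (k' ⊗[k₀] C) := IsNoetherianRing.of_finite C _
  refine Groth.Agent.H1.Reg.isRegularRing_of_maximal _ (fun n' hn' => ?_)
  haveI : n'.IsPrime := hn'.isPrime
  haveI : IsNoetherianRing (Localization.AtPrime n') :=
    IsLocalization.isNoetherianRing n'.primeCompl _ inferInstance
  haveI : Algebra.FormallySmooth (k' ⊗[k₀] C) (Localization.AtPrime n') :=
    Algebra.FormallySmooth.of_isLocalization n'.primeCompl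
  haveI : Algebra.FormallySmooth k' (Localization.AtPrime n') :=
    Algebra.FormallySmooth.comp k' (k' ⊗[k₀] C) (Localization.AtPrime n')
  exact Groth.Agent.H5.GR.isRegularLocalRing_of_isAdicFormallySmooth k' _
    (Groth.Agent.H5.GR.isAdicFormallySmooth_of_formallySmooth k' _ _)

/-- S4579. -/
theorem tfae4579 {k₀ k C : Type u} [Field k₀] [Field k] [Algebra k₀ k]
    [Algebra.FormallySmooth k₀ k] [CommRing C] [Algebra k C] [Algebra k₀ C] [IsScalarTower k₀ k C]
    [Algebra.FiniteType k C] :
    [Algebra.FormallySmooth k₀ C,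
     ∀ (p : Ideal C) [p.IsPrime], Algebra.FormallySmooth k₀ (Localization.AtPrime p),
     ∀ (m : Ideal C) [m.IsMaximal], Algebra.FormallySmooth k₀ (Localization.AtPrime m),
     CAlg.IsGeometricallyRegular k₀ C].TFAE := by
  obtain ⟨n, φ, hφ⟩ := Algebra.FiniteType.iff_quotient_mvPolynomial''.mp
    (inferInstance : Algebra.FiniteType k C)
  letI : Algebra (MvPolynomial (Fin n) k) C := φ.toRingHom.toAlgebra
  haveI : IsScalarTower k (MvPolynomial (Fin n) k) C :=
    IsScalarTower.of_algebraMap_eq (fun x => (φ.commutes x).symm)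
  haveI : IsScalarTower k₀ (MvPolynomial (Fin n) k) C :=
    IsScalarTower.of_algebraMap_eq (fun x => by
      rw [IsScalarTower.algebraMap_apply k₀ k C, IsScalarTower.algebraMap_apply k₀ k
        (MvPolynomial (Fin n) k), ← IsScalarTower.algebraMap_apply k (MvPolynomial (Fin n) k) C])
  have hsurj : Function.Surjective (algebraMap (MvPolynomial (Fin n) k) C) := hφ
  haveI : Algebra.FormallySmooth k₀ (MvPolynomial (Fin n) k) :=
    Algebra.FormallySmooth.comp k₀ k (MvPolynomial (Fin n) k)
  haveI : IsNoetherianRing C := Algebra.FiniteType.isNoetherianRing k C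
  haveI := Groth.Agent.H5.AJ.finite_cotangent_of_noetherian
    (RingHom.ker (algebraMap (MvPolynomial (Fin n) k) C))
  tfae_have 1 → 2 := fun h p _ => by
    haveI := h
    haveI : Algebra.FormallySmooth C (Localization.AtPrime p) :=
      Algebra.FormallySmooth.of_isLocalization p.primeCompl
    exact Algebra.FormallySmooth.comp k₀ C (Localization.AtPrime p)
  tfae_have 2 → 3 := fun h m hm => by
    haveI : m.IsPrime := hm.isPrime
    exact h m
  tfae_have 3 → 1 := fun h =>
    (Groth.Agent.H5.FSL.formallySmooth_iff_forall_maximal (A := k₀)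
      (B := MvPolynomial (Fin n) k) hsurj).mpr h
  tfae_have 1 → 4 := fun h => by
    haveI := h
    exact isGeometricallyRegular_of_formallySmooth k₀ C
  tfae_have 4 → 3 := fun h m hm => by
    haveI : m.IsPrime := hm.isPrime
    have h1 := isGeometricallyRegular_of_isLocalization k₀ C m.primeCompl
      (Localization.AtPrime m) h
    exact ((tfae4578 (k₀ := k₀) (k := k) (C := C) m).out 3 0).mp h1
  tfae_finish

end H5.NG
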