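import Mathlib
import Groth.Agent.Lib.Helper5.CA.NG21
import Groth.Agent.Lib.Helper1.RegFlat

set_option autoImplicit false
universe u

open IsLocalRing TensorProduct

namespace H5.NG

/-- a Noetherian ring is regular if each maximal ideal survives in some regular localization. -/
theorem isRegularRing_of_forall_maximal_exists_localization (R₁ : Type u) [CommRing R₁]
    [IsNoetherianRing R₁]
    (h : ∀ (n₁ : Ideal R₁) [n₁.IsMaximal], ∃ (M₁ : Submonoid R₁) (T₁ : Type u) (_ : CommRing T₁)
      (_ : Algebra R₁ T₁) (_ : IsLocalization M₁ T₁), Disjoint (M₁ : Set R₁) (n₁ : Set R₁) ∧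
        IsRegularRing T₁) :
    IsRegularRing R₁ := by
  refine Groth.Agent.H1.Reg.isRegularRing_of_maximal _ (fun n₁ hn₁ => ?_)
  haveI : n₁.IsPrime := hn₁.isPrime
  obtain ⟨M₁, T₁, _, _, _, hdisj, hreg⟩ := h n₁
  have hp : (n₁.map (algebraMap R₁ T₁)).IsPrime :=
    IsLocalization.isPrime_of_isPrime_disjoint M₁ T₁ n₁ inferInstance hdisj
  have hcomap : (n₁.map (algebraMap R₁ T₁)).comap (algebraMap R₁ T₁) = n₁ :=
    IsLocalization.comap_map_of_isPrime_disjoint M₁ T₁ inferInstance hdisj
  haveI := hp
  haveI : IsRegularLocalRing (Localization.AtPrime (n₁.map (algebraMap R₁ T₁))) := inferInstance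
  haveI h1 : IsLocalization.AtPrime (Localization.AtPrime (n₁.map (algebraMap R₁ T₁)))
      ((n₁.map (algebraMap R₁ T₁)).comap (algebraMap R₁ T₁)) :=
    IsLocalization.isLocalization_isLocalization_atPrime_isLocalization M₁
      (Localization.AtPrime (n₁.map (algebraMap R₁ T₁))) (n₁.map (algebraMap R₁ T₁))
  haveI : ((n₁.map (algebraMap R₁ T₁)).comap (algebraMap R₁ T₁)).IsPrime := by
    rw [hcomap]; infer_instance
  have e := IsLocalization.algEquiv
    ((n₁.map (algebraMap R₁ T₁)).comap (algebraMap R₁ T₁)).primeCompl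
    (Localization.AtPrime ((n₁.map (algebraMap R₁ T₁)).comap (algebraMap R₁ T₁)))
    (Localization.AtPrime (n₁.map (algebraMap R₁ T₁)))
  haveI : IsRegularLocalRing
      (Localization.AtPrime ((n₁.map (algebraMap R₁ T₁)).comap (algebraMap R₁ T₁))) :=
    IsRegularLocalRing.of_ringEquiv e.symm.toRingEquiv
  exact Groth.Agent.H1.RegFlat.isRegularLocalRing_congr _ _ hcomap

end H5.NG

namespace H5.NG

attribute [local instance] Algebra.TensorProduct.rightAlgebra in
/-- geometric regularity is local at maximal ideals. -/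
theorem isGeometricallyRegular_of_forall_maximal (k S : Type u) [Field k] [CommRing S]
    [Algebra k S] [IsNoetherianRing S]
    (h : ∀ (m : Ideal S) [m.IsMaximal], CAlg.IsGeometricallyRegular k (Localization.AtPrime m)) :
    CAlg.IsGeometricallyRegular k S := by
  intro k' _ _ hfin
  haveI := hfin
  haveI : IsNoetherianRing (S ⊗[k] k') := IsNoetherianRing.of_finite S _
  haveI : IsRegularRing (S ⊗[k] k') := by
    apply isRegularRing_of_forall_maximal_exists_localization
    intro n₁ hn₁
    haveI : Algebra.IsIntegral S (S ⊗[k] k') := Algebra.IsIntegral.of_finite S _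
    haveI hq : (n₁.comap (algebraMap S (S ⊗[k] k'))).IsMaximal :=
      Ideal.isMaximal_comap_of_isIntegral_of_isMaximal n₁
    haveI : (n₁.comap (algebraMap S (S ⊗[k] k'))).IsPrime := hq.isPrime
    refine ⟨Algebra.algebraMapSubmonoid (S ⊗[k] k')
      (n₁.comap (algebraMap S (S ⊗[k] k'))).primeCompl,
      Localization.AtPrime (n₁.comap (algebraMap S (S ⊗[k] k'))) ⊗[S] (S ⊗[k] k'),
      inferInstance, inferInstance, inferInstance, ?_, ?_⟩
    · rw [Set.disjoint_left]
      rintro _ ⟨s, hs, rfl⟩ hmem
      exact hs hmem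
    · haveI h1 : IsRegularRing
          (k' ⊗[k] Localization.AtPrime (n₁.comap (algebraMap S (S ⊗[k] k')))) :=
        h _ k' hfin
      haveI h2 : IsRegularRing
          (Localization.AtPrime (n₁.comap (algebraMap S (S ⊗[k] k'))) ⊗[k] k') :=
        IsRegularRing.of_ringEquiv (Algebra.TensorProduct.comm k k' _).toRingEquiv
      exact IsRegularRing.of_ringEquiv
        (Algebra.TensorProduct.cancelBaseChange k S
          (Localization.AtPrime (n₁.comap (algebraMap S (S ⊗[k] k'))))
          (Localization.AtPrime (n₁.comap (algebraMap S (S ⊗[k] k')))) k').symm.toRingEquiv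
  exact IsRegularRing.of_ringEquiv (Algebra.TensorProduct.comm k S k').toRingEquiv

theorem isGeometricallyRegular_iff_forall_maximal (k S : Type u) [Field k] [CommRing S]
    [Algebra k S] [IsNoetherianRing S] :
    CAlg.IsGeometricallyRegular k S ↔
      ∀ (m : Ideal S) [m.IsMaximal], CAlg.IsGeometricallyRegular k (Localization.AtPrime m) :=
  ⟨fun h m hm => by
    haveI : m.IsPrime := hm.isPrime
    exact isGeometricallyRegular_of_isLocalization k S m.primeCompl _ h,
   isGeometricallyRegular_of_forall_maximal k S⟩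

end H5.NG
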