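import Mathlib
import Groth.Agent.Lib.Helper5.CA.NG22

set_option autoImplicit false
universe u

open IsLocalRing TensorProduct

namespace H5.NG

/-- adic formal smoothness descends along a formally unramified base extension. -/
theorem isAdicFormallySmooth_of_formallyUnramified (R S T : Type u) [CommRing R] [CommRing S]
    [CommRing T] [Algebra R S] [Algebra S T] [Algebra R T] [IsScalarTower R S T]
    [Algebra.FormallyUnramified R S] (𝔫 : Ideal T) (h : CAlgX.IsAdicFormallySmooth R T 𝔫) :
    CAlgX.IsAdicFormallySmooth S T 𝔫 := by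
  intro E _ _ N hN ψ hψ
  letI : Algebra R E := ((algebraMap S E).comp (algebraMap R S)).toAlgebra
  haveI : IsScalarTower R S E := IsScalarTower.of_algebraMap_eq (fun r => rfl)
  obtain ⟨χ₀, hχ₀⟩ := h E N hN (ψ.restrictScalars R) hψ
  have hχ₀' : ∀ t, Ideal.Quotient.mk N (χ₀ t) = ψ t := fun t => congr($hχ₀ t)
  have hnil : IsNilpotent N := ⟨2, hN⟩
  have heq : IsScalarTower.toAlgHom R S E = χ₀.comp (IsScalarTower.toAlgHom R S T) := by
    apply Algebra.FormallyUnramified.ext N hnil
    intro s
    rw [AlgHom.comp_apply, hχ₀']
    simp only [IsScalarTower.coe_toAlgHom']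
    rw [AlgHom.commutes]
    rfl
  refine ⟨{ χ₀ with commutes' := fun s => ?_ }, ?_⟩
  · have := congr($heq s)
    simpa using this.symm
  · ext t
    exact hχ₀' t

end H5.NG

namespace H5.NG

/-- S9410. -/
theorem isGeometricallyRegular_iff_of_isSeparable (k : Type u) [Field k] (k' : Type u)
    [Field k'] [Algebra k k'] [Algebra.IsSeparable k k'] (A : Type u) [CommRing A] [Algebra k' A]
    [Algebra k A] [IsScalarTower k k' A] [IsNoetherianRing A] :
    CAlg.IsGeometricallyRegular k A ↔ CAlg.IsGeometricallyRegular k' A := by
  rw [isGeometricallyRegular_iff_forall_maximal k A, isGeometricallyRegular_iff_forall_maximal k' A]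
  refine forall_congr' fun m => forall_congr' fun hm => ?_
  haveI : m.IsPrime := hm.isPrime
  haveI : IsNoetherianRing (Localization.AtPrime m) :=
    IsLocalization.isNoetherianRing m.primeCompl _ inferInstance
  rw [isGeometricallyRegular_iff_isAdicFormallySmooth, isGeometricallyRegular_iff_isAdicFormallySmooth]
  haveI hfe : Algebra.FormallyEtale k k' := Algebra.FormallyEtale.of_isSeparable k k'
  haveI : Algebra.FormallySmooth k k' :=
    (Algebra.FormallyEtale.iff_formallyUnramified_and_formallySmooth.mp hfe).2
  haveI : Algebra.FormallyUnramified k k' :=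
    (Algebra.FormallyEtale.iff_formallyUnramified_and_formallySmooth.mp hfe).1
  constructor
  · intro h
    exact isAdicFormallySmooth_of_formallyUnramified k k' _ _ h
  · intro h
    exact Groth.Agent.H5.GR.isAdicFormallySmooth_trans k k' (Localization.AtPrime m) ⊥ _
      (by rw [Ideal.map_bot]; exact bot_le)
      (Groth.Agent.H5.GR.isAdicFormallySmooth_of_formallySmooth k k' ⊥) h

end H5.NG
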