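import Mathlib
import Groth.Agent.Lib.Helper5.CA.NG23

set_option autoImplicit false
universe u

open IsLocalRing TensorProduct

namespace H5.NG

section
variable (k A : Type u) [Field k] [CommRing A] [IsLocalRing A] [Algebra k A]

/-- the map `κ ⊗_k Ω_k → κ ⊗_A Ω_A`. -/
noncomputable def psi : ResidueField A ⊗[k] Ω[k⁄ℤ] →ₗ[ResidueField A] ResidueField A ⊗[A] Ω[A⁄ℤ] :=
  ((KaehlerDifferential.mapBaseChange ℤ k A).baseChange (ResidueField A)) ∘ₗ
    (TensorProduct.AlgebraTensorModule.cancelBaseChange k A (ResidueField A) (ResidueField A)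
      Ω[k⁄ℤ]).symm.toLinearMap

theorem psi_tmul (x : k) :
    psi k A ((1 : ResidueField A) ⊗ₜ[k] KaehlerDifferential.D ℤ k x) =
      (1 : ResidueField A) ⊗ₜ[A] KaehlerDifferential.D ℤ A (algebraMap k A x) := by
  simp [psi]

theorem injective_lTensor_iff_psi :
    Function.Injective ((KaehlerDifferential.mapBaseChange ℤ k A).lTensor (ResidueField A)) ↔
      Function.Injective (psi k A) := by
  have hcoe : ⇑(psi k A) = ⇑((KaehlerDifferential.mapBaseChange ℤ k A).lTensor (ResidueField A)) ∘
      ⇑(TensorProduct.AlgebraTensorModule.cancelBaseChange k A (ResidueField A) (ResidueField A)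
        Ω[k⁄ℤ]).symm := by
    funext z
    rfl
  rw [hcoe]
  constructor
  · intro h
    exact h.comp (LinearEquiv.injective _)
  · intro h a b hab
    have h1 := @h ((TensorProduct.AlgebraTensorModule.cancelBaseChange k A (ResidueField A)
      (ResidueField A) Ω[k⁄ℤ]) a) ((TensorProduct.AlgebraTensorModule.cancelBaseChange k A
      (ResidueField A) (ResidueField A) Ω[k⁄ℤ]) b) (by
        simp only [Function.comp_apply, LinearEquiv.symm_apply_apply]
        exact hab)
    exact (LinearEquiv.injective _) h1

theorem injective_psi_iff_forall :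
    Function.Injective (psi k A) ↔
      ∀ (r : ℕ) (x : Fin r → k), LinearIndependent k (fun j => KaehlerDifferential.D ℤ k (x j)) →
        LinearIndependent (ResidueField A) (fun j => (1 : ResidueField A) ⊗ₜ[A]
          KaehlerDifferential.D ℤ A (algebraMap k A (x j))) := by
  constructor
  · intro h r x hx
    have h1 := Module.Flat.linearIndependent_one_tmul (S := ResidueField A) hx
    have h2 := h1.map' (psi k A) (LinearMap.ker_eq_bot.mpr h)
    have h3 : (fun j => (1 : ResidueField A) ⊗ₜ[A]
        KaehlerDifferential.D ℤ A (algebraMap k A (x j))) =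
        (psi k A) ∘ fun j => (1 : ResidueField A) ⊗ₜ[k] KaehlerDifferential.D ℤ k (x j) := by
      funext j
      exact (psi_tmul k A (x j)).symm
    rw [h3]
    exact h2
  · intro h
    refine injective_of_forall_fin (psi k A) (Set.range (KaehlerDifferential.D ℤ k))
      (KaehlerDifferential.span_range_derivation ℤ k) ?_
    intro r v hv hli
    choose x hx using hv
    have hv' : v = fun i => KaehlerDifferential.D ℤ k (x i) := funext fun i => (hx i).symm
    subst hv'
    have h1 := h r x hli
    have h3 : (fun i => psi k A ((1 : ResidueField A) ⊗ₜ[k] KaehlerDifferential.D ℤ k (x i))) =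
        fun i => (1 : ResidueField A) ⊗ₜ[A]
          KaehlerDifferential.D ℤ A (algebraMap k A (x i)) := by
      funext i
      exact psi_tmul k A (x i)
    rw [h3]
    exact h1

end

end H5.NG
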