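import Mathlib
import Groth.Agent.Lib.Helper5.CA.NG24

set_option autoImplicit false
universe u

open IsLocalRing TensorProduct

namespace H5.NG

theorem exists_index_of_finset {k : Type u} [Field k] {ι : Type u}
    (K : ι → Type u) [∀ i, Field (K i)] [∀ i, Algebra (K i) k]
    (hdir : ∀ i j, ∃ l, Set.range (algebraMap (K i) k) ⊆ Set.range (algebraMap (K l) k) ∧
      Set.range (algebraMap (K j) k) ⊆ Set.range (algebraMap (K l) k))
    (hcov : ∀ x : k, ∃ i, x ∈ Set.range (algebraMap (K i) k)) (s : Finset k) :
    ∃ i, ∀ y ∈ s, y ∈ Set.range (algebraMap (K i) k) := by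
  classical
  induction s using Finset.induction_on with
  | empty =>
    obtain ⟨i, -⟩ := hcov 0
    exact ⟨i, fun y hy => absurd hy (Finset.notMem_empty y)⟩
  | insert a s _ ih =>
    obtain ⟨i, hi⟩ := ih
    obtain ⟨j, hj⟩ := hcov a
    obtain ⟨l, hl1, hl2⟩ := hdir i j
    refine ⟨l, fun y hy => ?_⟩
    rcases Finset.mem_insert.mp hy with rfl | hy
    · exact hl2 hj
    · exact hl1 (hi y hy)

/-- local form of S9409. -/
theorem isAdicFormallySmooth_of_directed_subfields (k : Type u) [Field k] {ι : Type u}
    (K : ι → Type u) [∀ i, Field (K i)] [∀ i, Algebra (K i) k]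
    (hdir : ∀ i j, ∃ l, Set.range (algebraMap (K i) k) ⊆ Set.range (algebraMap (K l) k) ∧
      Set.range (algebraMap (K j) k) ⊆ Set.range (algebraMap (K l) k))
    (hcov : ∀ x : k, ∃ i, x ∈ Set.range (algebraMap (K i) k))
    (A' : Type u) [CommRing A'] [IsLocalRing A'] [IsNoetherianRing A'] [Algebra k A']
    [∀ i, Algebra (K i) A'] [∀ i, IsScalarTower (K i) k A']
    (hi : ∀ i, CAlgX.IsAdicFormallySmooth (K i) A' (maximalIdeal A')) :
    CAlgX.IsAdicFormallySmooth k A' (maximalIdeal A') := by
  classical
  rw [Groth.Agent.H5.KF.isAdicFormallySmooth_iff_regular_and_injective]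
  obtain ⟨i₀, -⟩ := hcov 0
  refine ⟨(Groth.Agent.H5.KF.isAdicFormallySmooth_iff_regular_and_injective.mp (hi i₀)).1, ?_⟩
  rw [injective_lTensor_iff_psi, injective_psi_iff_forall]
  intro r x hx
  obtain ⟨i, hxi⟩ := exists_index_of_finset K hdir hcov (Finset.univ.image x)
  have hxi' : ∀ j, ∃ y : K i, algebraMap (K i) k y = x j := fun j =>
    hxi (x j) (Finset.mem_image_of_mem x (Finset.mem_univ j))
  choose y hy using hxi'
  have hyli : LinearIndependent (K i) (fun j => KaehlerDifferential.D ℤ (K i) (y j)) := by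
    have h1 : LinearIndependent (K i) (fun j => KaehlerDifferential.D ℤ k (x j)) :=
      LinearIndependent.restrict_scalars' (K i) hx
    refine LinearIndependent.of_comp (KaehlerDifferential.map ℤ ℤ (K i) k) ?_
    have h2 : (⇑(KaehlerDifferential.map ℤ ℤ (K i) k) ∘
        fun j => KaehlerDifferential.D ℤ (K i) (y j)) =
        fun j => KaehlerDifferential.D ℤ k (x j) := by
      funext j
      simp [hy j]
    rw [h2]
    exact h1
  have hinj := (Groth.Agent.H5.KF.isAdicFormallySmooth_iff_regular_and_injective.mp (hi i)).2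
  rw [injective_lTensor_iff_psi, injective_psi_iff_forall] at hinj
  have h3 := hinj r y hyli
  have h4 : (fun j => (1 : ResidueField A') ⊗ₜ[A']
      KaehlerDifferential.D ℤ A' (algebraMap k A' (x j))) =
      fun j => (1 : ResidueField A') ⊗ₜ[A']
        KaehlerDifferential.D ℤ A' (algebraMap (K i) A' (y j)) := by
    funext j
    rw [IsScalarTower.algebraMap_apply (K i) k A', hy j]
  rw [h4]
  exact h3

/-- S9409. -/
theorem isGeometricallyRegular_of_directed_subfields (k : Type u) [Field k] {ι : Type u}
    (K : ι → Type u) [∀ i, Field (K i)] [∀ i, Algebra (K i) k]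
    (hdir : ∀ i j, ∃ l, Set.range (algebraMap (K i) k) ⊆ Set.range (algebraMap (K l) k) ∧
      Set.range (algebraMap (K j) k) ⊆ Set.range (algebraMap (K l) k))
    (hcov : ∀ x : k, ∃ i, x ∈ Set.range (algebraMap (K i) k))
    (A : Type u) [CommRing A] [Algebra k A] [IsNoetherianRing A] [∀ i, Algebra (K i) A]
    [∀ i, IsScalarTower (K i) k A] (h : ∀ i, CAlg.IsGeometricallyRegular (K i) A) :
    CAlg.IsGeometricallyRegular k A := by
  apply isGeometricallyRegular_of_forall_maximal
  intro m hm
  haveI : m.IsPrime := hm.isPrime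
  haveI : IsNoetherianRing (Localization.AtPrime m) :=
    IsLocalization.isNoetherianRing m.primeCompl _ inferInstance
  haveI hst : ∀ i, IsScalarTower (K i) k (Localization.AtPrime m) := fun i =>
    IsScalarTower.of_algebraMap_eq (fun x => by
      rw [IsScalarTower.algebraMap_apply (K i) A (Localization.AtPrime m),
        IsScalarTower.algebraMap_apply (K i) k A,
        ← IsScalarTower.algebraMap_apply k A (Localization.AtPrime m)])
  have hi : ∀ i, CAlgX.IsAdicFormallySmooth (K i) (Localization.AtPrime m)
      (maximalIdeal (Localization.AtPrime m)) := fun i =>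
    (isGeometricallyRegular_iff_isAdicFormallySmooth (K i) _).mp
      (isGeometricallyRegular_of_isLocalization (K i) A m.primeCompl _ (h i))
  rw [isGeometricallyRegular_iff_isAdicFormallySmooth]
  exact isAdicFormallySmooth_of_directed_subfields k K hdir hcov _ hi

end H5.NG
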