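import Mathlib
import Groth.Agent.Lib.Helper5.CA.NG25

set_option autoImplicit false
universe u

open IsLocalRing TensorProduct

namespace H5.NG

/-- a Noetherian ring is regular if each maximal ideal survives in a localization where it becomes
a regular point. -/
theorem isRegularRing_of_forall_maximal_exists_localization' (R₁ : Type u) [CommRing R₁]
    [IsNoetherianRing R₁]
    (h : ∀ (n₁ : Ideal R₁) [n₁.IsMaximal], ∃ (M₁ : Submonoid R₁) (T₁ : Type u) (_ : CommRing T₁)
      (_ : Algebra R₁ T₁) (_ : IsLocalization M₁ T₁), Disjoint (M₁ : Set R₁) (n₁ : Set R₁) ∧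
        ∀ [(n₁.map (algebraMap R₁ T₁)).IsPrime],
          IsRegularLocalRing (Localization.AtPrime (n₁.map (algebraMap R₁ T₁)))) :
    IsRegularRing R₁ := by
  refine Groth.Agent.H1.Reg.isRegularRing_of_maximal _ (fun n₁ hn₁ => ?_)
  haveI : n₁.IsPrime := hn₁.isPrime
  obtain ⟨M₁, T₁, _, _, _, hdisj, hreg⟩ := h n₁
  have hp : (n₁.map (algebraMap R₁ T₁)).IsPrime :=
    IsLocalization.isPrime_of_isPrime_disjoint M₁ T₁ n₁ inferInstance hdisj
  have hcomap : (n₁.map (algebraMap R₁ T₁)).comap (algebraMap R₁ T₁) = n₁ :=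
    IsLocalization.comap_map_of_isPrime_disjoint M₁ T₁ inferInstance hdisj
  haveI := hp
  haveI : IsRegularLocalRing (Localization.AtPrime (n₁.map (algebraMap R₁ T₁))) := hreg
  haveI h1 : IsLocalization.AtPrime (Localization.AtPrime (n₁.map (algebraMap R₁ T₁)))
      ((n₁.map (algebraMap R₁ T₁)).comap (algebraMap R₁ T₁)) :=
    IsLocalization.isLocalization_isLocalization_atPrime_isLocalization M₁
      (Localization.AtPrime (n₁.map (algebraMap R₁ T₁))) (n₁.map (algebraMap R₁ T₁))
  haveI : ((n₁.map (algebraMap R₁ T₁)).comap (algebraMap R₁ T₁)).IsPrime := by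
    rw [hcomap]; infer_instance
  have e := IsLocalization.algEquiv
    ((n₁.map (algebraMap R₁ T₁)).comap (algebraMap R₁ T₁)).primeCompl
    (Localization.AtPrime ((n₁.map (algebraMap R₁ T₁)).comap (algebraMap R₁ T₁)))
    (Localization.AtPrime (n₁.map (algebraMap R₁ T₁)))
  haveI : IsRegularLocalRing
      (Localization.AtPrime ((n₁.map (algebraMap R₁ T₁)).comap (algebraMap R₁ T₁))) :=
    IsRegularLocalRing.of_ringEquiv e.symm.toRingEquiv
  exact Groth.Agent.H1.RegFlat.isRegularLocalRing_congr _ _ hcomap

/-- regularity of the localization of `K ⊗ A` at a prime above the maximal ideal, for `A` adically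
formally smooth over `k` and ANY field extension `K` with `K ⊗ A` Noetherian. -/
theorem isRegularLocalRing_localization_baseChange' (k K A : Type u) [Field k] [Field K]
    [Algebra k K] [CommRing A] [IsLocalRing A] [IsNoetherianRing A]
    [Algebra k A] (h : CAlgX.IsAdicFormallySmooth k A (maximalIdeal A))
    [IsNoetherianRing (K ⊗[k] A)]
    (n' : Ideal (K ⊗[k] A)) [hn' : n'.IsPrime]
    (hle : (maximalIdeal A).map
      (Algebra.TensorProduct.includeRight : A →ₐ[k] K ⊗[k] A).toRingHom ≤ n') :
    IsRegularLocalRing (Localization.AtPrime n') := by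
  haveI : IsNoetherianRing (Localization.AtPrime n') :=
    IsLocalization.isNoetherianRing n'.primeCompl _ inferInstance
  have h' := Groth.Agent.H5.GR.isAdicFormallySmooth_baseChange k K A (maximalIdeal A) h
  have hcont : ((maximalIdeal A).map
      (Algebra.TensorProduct.includeRight : A →ₐ[k] K ⊗[k] A).toRingHom).map
      (algebraMap (K ⊗[k] A) (Localization.AtPrime n')) ≤
      maximalIdeal (Localization.AtPrime n') := by
    rw [Ideal.map_le_iff_le_comap]
    have := IsLocalization.AtPrime.comap_maximalIdeal (Localization.AtPrime n') n'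
    rw [Ideal.under_def] at this
    rw [this]
    exact hle
  have h'' := Groth.Agent.H5.GR.isAdicFormallySmooth_localization K (K ⊗[k] A)
    (Localization.AtPrime n') n'.primeCompl _ _ hcont h'
  exact Groth.Agent.H5.GR.isRegularLocalRing_of_isAdicFormallySmooth K _ h''

end H5.NG
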