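import Mathlib
import Groth.Agent.Lib.Helper5.CA.NG31

set_option autoImplicit false
universe u

open IsLocalRing TensorProduct

namespace H5.NG

set_option maxHeartbeats 1000000 in
/-- **EGA IV 6.7.4-type base change**: a geometrically regular Noetherian `k`-algebra stays regular
after any field extension `K/k` for which `K ⊗ S` is Noetherian. -/
theorem isRegularRing_baseChange_of_isGeometricallyRegular (k S K : Type u) [Field k] [CommRing S]
    [Algebra k S] [IsNoetherianRing S] [Field K] [Algebra k K] [IsNoetherianRing (K ⊗[k] S)]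
    (h : CAlg.IsGeometricallyRegular k S) : IsRegularRing (K ⊗[k] S) := by
  apply isRegularRing_of_forall_maximal_exists_localization'
  intro n₁ hn₁
  haveI : n₁.IsPrime := hn₁.isPrime
  let ι : S →+* K ⊗[k] S := (Algebra.TensorProduct.includeRight : S →ₐ[k] K ⊗[k] S).toRingHom
  let 𝔮 : Ideal S := n₁.comap ι
  haveI h𝔮 : 𝔮.IsPrime := Ideal.comap_isPrime ι n₁
  let φ : K ⊗[k] S →ₐ[K] K ⊗[k] Localization.AtPrime 𝔮 :=
    Algebra.TensorProduct.map (AlgHom.id K K) (IsScalarTower.toAlgHom k S (Localization.AtPrime 𝔮))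
  letI : Algebra (K ⊗[k] S) (K ⊗[k] Localization.AtPrime 𝔮) := φ.toRingHom.toAlgebra
  have halg : algebraMap (K ⊗[k] S) (K ⊗[k] Localization.AtPrime 𝔮) = φ.toRingHom := rfl
  haveI : IsScalarTower K (K ⊗[k] S) (K ⊗[k] Localization.AtPrime 𝔮) :=
    IsScalarTower.of_algebraMap_eq (fun x => (φ.commutes x).symm)
  have H : (algebraMap (K ⊗[k] S) (K ⊗[k] Localization.AtPrime 𝔮)).comp
      (Algebra.TensorProduct.includeRight : S →ₐ[k] K ⊗[k] S).toRingHom =
      (Algebra.TensorProduct.includeRight : Localization.AtPrime 𝔮 →ₐ[k]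
        K ⊗[k] Localization.AtPrime 𝔮).toRingHom.comp (algebraMap S (Localization.AtPrime 𝔮)) := by
    ext s
    simp [halg, φ]
  haveI hloc : IsLocalization (𝔮.primeCompl.map
      (Algebra.TensorProduct.includeRight (R := k) (A := K) (B := S)))
      (K ⊗[k] Localization.AtPrime 𝔮) :=
    IsLocalization.tensorProduct_tensorProduct_right k K 𝔮.primeCompl (Localization.AtPrime 𝔮) H
  refine ⟨_, K ⊗[k] Localization.AtPrime 𝔮, inferInstance, inferInstance, hloc, ?_, ?_⟩
  · rw [Set.disjoint_left]
    rintro _ ⟨s, hs, rfl⟩ hmem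
    exact hs hmem
  · intro hp
    haveI : IsNoetherianRing (K ⊗[k] Localization.AtPrime 𝔮) :=
      IsLocalization.isNoetherianRing (𝔮.primeCompl.map
        (Algebra.TensorProduct.includeRight (R := k) (A := K) (B := S))) _ inferInstance
    have hA : CAlg.IsGeometricallyRegular k (Localization.AtPrime 𝔮) :=
      isGeometricallyRegular_of_isLocalization k S 𝔮.primeCompl _ h
    have hfs := (isGeometricallyRegular_iff_isAdicFormallySmooth k (Localization.AtPrime 𝔮)).mp hA
    apply isRegularLocalRing_localization_baseChange' k K (Localization.AtPrime 𝔮) hfs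
    rw [← Localization.AtPrime.map_eq_maximalIdeal, Ideal.map_map]
    have H' : (Algebra.TensorProduct.includeRight : Localization.AtPrime 𝔮 →ₐ[k]
        K ⊗[k] Localization.AtPrime 𝔮).toRingHom.comp (algebraMap S (Localization.AtPrime 𝔮)) =
        (algebraMap (K ⊗[k] S) (K ⊗[k] Localization.AtPrime 𝔮)).comp ι := H.symm
    rw [H', ← Ideal.map_map]
    apply Ideal.map_mono
    rw [Ideal.map_le_iff_le_comap]

end H5.NG
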