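import Mathlib
import Groth.Agent.Lib.Helper5.CA.NG32

set_option autoImplicit false
universe u

open IsLocalRing TensorProduct

namespace H5.NG

theorem exists_isLocalization_tensor (k K S : Type u) [CommRing k] [CommRing K] [Algebra k K]
    [CommRing S] [Algebra k S] (M : Submonoid S) (A : Type u) [CommRing A] [Algebra S A]
    [Algebra k A] [IsScalarTower k S A] [IsLocalization M A] :
    ∃ (_ : Algebra (K ⊗[k] S) (K ⊗[k] A)),
      IsLocalization (M.map (Algebra.TensorProduct.includeRight (R := k) (A := K) (B := S)))
        (K ⊗[k] A) := by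
  let φ : K ⊗[k] S →ₐ[K] K ⊗[k] A :=
    Algebra.TensorProduct.map (AlgHom.id K K) (IsScalarTower.toAlgHom k S A)
  letI : Algebra (K ⊗[k] S) (K ⊗[k] A) := φ.toRingHom.toAlgebra
  have halg : algebraMap (K ⊗[k] S) (K ⊗[k] A) = φ.toRingHom := rfl
  haveI : IsScalarTower K (K ⊗[k] S) (K ⊗[k] A) :=
    IsScalarTower.of_algebraMap_eq (fun x => (φ.commutes x).symm)
  have H : (algebraMap (K ⊗[k] S) (K ⊗[k] A)).comp
      (Algebra.TensorProduct.includeRight : S →ₐ[k] K ⊗[k] S).toRingHom =
      (Algebra.TensorProduct.includeRight : A →ₐ[k] K ⊗[k] A).toRingHom.comp (algebraMap S A) := by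
    ext s
    simp [halg, φ]
  exact ⟨inferInstance, IsLocalization.tensorProduct_tensorProduct_right k K M A H⟩

/-- S2672, first half. -/
theorem isGeometricallyRegular_iff_purelyInseparable (k S : Type u) [Field k] [CommRing S]
    [Algebra k S] [IsNoetherianRing S] :
    CAlg.IsGeometricallyRegular k S ↔
      ∀ (k' : Type u) [Field k'] [Algebra k k'], Module.Finite k k' → IsPurelyInseparable k k' →
        IsRegularRing (k' ⊗[k] S) := by
  constructor
  · intro h k' _ _ hfin _
    exact h k' hfin
  · intro H
    apply isGeometricallyRegular_of_forall_maximal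
    intro m hm
    haveI : m.IsPrime := hm.isPrime
    obtain ⟨p, hp⟩ := ExpChar.exists k
    rw [isGeometricallyRegular_iff_isAdicFormallySmooth, main4573 p]
    intro k' _ _ hfin hpow
    have hpi : IsPurelyInseparable k k' :=
      (isPurelyInseparable_iff_pow_mem k p).mpr (fun x => ⟨1, by simpa using hpow x⟩)
    haveI := H k' hfin hpi
    obtain ⟨_, hloc⟩ := exists_isLocalization_tensor k k' S m.primeCompl (Localization.AtPrime m)
    exact Groth.Agent.H1.Reg.isRegularRing_of_isLocalization (k' ⊗[k] S)
      (m.primeCompl.map (Algebra.TensorProduct.includeRight (R := k) (A := k') (B := S)))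
      (k' ⊗[k] Localization.AtPrime m)

attribute [local instance] Algebra.TensorProduct.rightAlgebra in
theorem isNoetherianRing_tensor_of_essFiniteType (k S K : Type u) [Field k] [CommRing S]
    [Algebra k S] [IsNoetherianRing S] [Field K] [Algebra k K] [Algebra.EssFiniteType k K] :
    IsNoetherianRing (K ⊗[k] S) := by
  haveI : Algebra.EssFiniteType S (S ⊗[k] K) := inferInstance
  haveI : IsNoetherianRing (S ⊗[k] K) := Algebra.EssFiniteType.isNoetherianRing S _
  exact isNoetherianRing_of_ringEquiv _ (Algebra.TensorProduct.comm k S K).toRingEquiv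

/-- S2672, second half. -/
theorem isGeometricallyRegular_iff_essFiniteType (k S : Type u) [Field k] [CommRing S]
    [Algebra k S] [IsNoetherianRing S] :
    CAlg.IsGeometricallyRegular k S ↔
      ∀ (K : Type u) [Field K] [Algebra k K], Algebra.EssFiniteType k K →
        IsRegularRing (K ⊗[k] S) := by
  constructor
  · intro h K _ _ hK
    haveI := hK
    haveI : IsNoetherianRing (K ⊗[k] S) := isNoetherianRing_tensor_of_essFiniteType k S K
    exact isRegularRing_baseChange_of_isGeometricallyRegular k S K h
  · intro H k' _ _ hfin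
    haveI := hfin
    exact H k' inferInstance

end H5.NG
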