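import Mathlib
import Groth.Agent.Lib.Helper5.CA.NG33
import Groth.Agent.Lib.Helper1.RegLoc

set_option autoImplicit false
universe u

open IsLocalRing TensorProduct

namespace H5.NG

/-- regularity descends along faithfully flat ring maps. -/
theorem isRegularRing_of_faithfullyFlat (R T : Type u) [CommRing R] [IsNoetherianRing R]
    [CommRing T] [IsRegularRing T] [Algebra R T] [Module.FaithfullyFlat R T] : IsRegularRing R := by
  refine Groth.Agent.H1.Reg.isRegularRing_of_maximal R (fun 𝔭 h𝔭 => ?_)
  haveI : 𝔭.IsPrime := h𝔭.isPrime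
  obtain ⟨P, hP, hPo⟩ := Ideal.exists_isPrime_liesOver_of_faithfullyFlat (B := T) 𝔭
  letI := Localization.AtPrime.algebraOfLiesOver 𝔭 P
  haveI : Module.Flat (Localization.AtPrime 𝔭) (Localization.AtPrime P) := inferInstance
  haveI : IsLocalHom (algebraMap (Localization.AtPrime 𝔭) (Localization.AtPrime P)) :=
    Localization.isLocalHom_localRingHom 𝔭 P (algebraMap R T) Ideal.LiesOver.over
  haveI : IsRegularLocalRing (Localization.AtPrime P) := inferInstance
  exact Groth.Agent.H1.Reg.isRegularLocalRing_of_flat _ (Localization.AtPrime P)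

/-- S2674 -/
theorem isGeometricallyRegular_iff_baseChange (k S : Type u) [Field k] [CommRing S] [Algebra k S]
    [IsNoetherianRing S] (K : Type u) [Field K] [Algebra k K] [Algebra.EssFiniteType k K] :
    CAlg.IsGeometricallyRegular k S ↔ CAlg.IsGeometricallyRegular K (K ⊗[k] S) := by
  constructor
  · intro h K' _ _ hfin
    haveI := hfin
    letI : Algebra k K' := ((algebraMap K K').comp (algebraMap k K)).toAlgebra
    haveI : IsScalarTower k K K' := IsScalarTower.of_algebraMap_eq (fun _ => rfl)
    haveI : Algebra.EssFiniteType k K' := Algebra.EssFiniteType.comp k K K'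
    haveI : IsRegularRing (K' ⊗[k] S) :=
      (isGeometricallyRegular_iff_essFiniteType k S).mp h K' inferInstance
    exact IsRegularRing.of_ringEquiv
      (Algebra.TensorProduct.cancelBaseChange k K K' K' S).symm.toRingEquiv
  · intro h k' _ _ hfin
    haveI := hfin
    -- a field containing both K and k'
    haveI : Nontrivial (K ⊗[k] k') := inferInstance
    obtain ⟨𝔐, h𝔐⟩ := Ideal.exists_maximal (K ⊗[k] k')
    letI : Field ((K ⊗[k] k') ⧸ 𝔐) := Ideal.Quotient.field 𝔐
    let K' := (K ⊗[k] k') ⧸ 𝔐
    letI : Algebra k' K' :=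
      ((Ideal.Quotient.mk 𝔐).comp
        (Algebra.TensorProduct.includeRight : k' →ₐ[k] K ⊗[k] k').toRingHom).toAlgebra
    haveI : IsScalarTower k k' K' := IsScalarTower.of_algebraMap_eq (fun x => by
      show algebraMap k K' x = Ideal.Quotient.mk 𝔐 ((1 : K) ⊗ₜ[k] algebraMap k k' x)
      rw [IsScalarTower.algebraMap_apply k (K ⊗[k] k') K', Ideal.Quotient.algebraMap_eq,
        Algebra.TensorProduct.algebraMap_apply, Algebra.TensorProduct.tmul_one_eq_one_tmul])
    haveI : Module.Finite K K' := inferInstance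
    haveI h1 : IsRegularRing (K' ⊗[K] (K ⊗[k] S)) := h K' inferInstance
    haveI : IsNoetherianRing (k' ⊗[k] S) := isNoetherianRing_tensor_of_essFiniteType k S k'
    let e1 := Algebra.TensorProduct.cancelBaseChange k K K' K' S
    let e2 := Algebra.TensorProduct.cancelBaseChange k k' K' K' S
    let e3 := Algebra.TensorProduct.comm k' (k' ⊗[k] S) K'
    haveI : IsRegularRing ((k' ⊗[k] S) ⊗[k'] K') :=
      IsRegularRing.of_ringEquiv
        ((e3.toRingEquiv.trans e2.toRingEquiv).trans e1.symm.toRingEquiv).symm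
    haveI : Module.Free k' K' := Module.Free.of_divisionRing k' K'
    haveI : Module.FaithfullyFlat k' K' := inferInstance
    haveI : Module.FaithfullyFlat (k' ⊗[k] S) ((k' ⊗[k] S) ⊗[k'] K') := inferInstance
    exact isRegularRing_of_faithfullyFlat (k' ⊗[k] S) ((k' ⊗[k] S) ⊗[k'] K')

end H5.NG
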