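import Mathlib
import Groth.Agent.Lib.Helper5.CA.NG34

set_option autoImplicit false
universe u

open IsLocalRing TensorProduct

namespace H5.NG

/-- adic formal smoothness over `R` implies the same over a localization `R'` of `R`. -/
theorem isAdicFormallySmooth_base_localization {R R' S : Type u} [CommRing R] [CommRing R']
    [CommRing S] [Algebra R R'] [Algebra R S] [Algebra R' S] [IsScalarTower R R' S]
    (M : Submonoid R) [IsLocalization M R'] (𝔫 : Ideal S)
    (hS : CAlgX.IsAdicFormallySmooth R S 𝔫) : CAlgX.IsAdicFormallySmooth R' S 𝔫 := by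
  intro E _ _ N hN ψ hψ
  letI : Algebra R E := ((algebraMap R' E).comp (algebraMap R R')).toAlgebra
  haveI : IsScalarTower R R' E := IsScalarTower.of_algebraMap_eq (fun _ => rfl)
  obtain ⟨χ, hχ⟩ := hS E N hN (ψ.restrictScalars R) hψ
  have hcomm : (χ : S →+* E).comp (algebraMap R' S) = algebraMap R' E := by
    apply IsLocalization.ringHom_ext M
    ext r
    simp only [RingHom.comp_apply]
    rw [← IsScalarTower.algebraMap_apply R R' S, ← IsScalarTower.algebraMap_apply R R' E]
    exact χ.commutes r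
  let χ' : S →ₐ[R'] E :=
    { (χ : S →+* E) with
      commutes' := fun r' => congr($hcomm r') }
  refine ⟨χ', ?_⟩
  ext x
  exact congr($hχ x)

/-- adic formal smoothness passes to the quotients `A/I → B/IB`. -/
theorem isAdicFormallySmooth_quotient_map {A B : Type u} [CommRing A] [CommRing B] [Algebra A B]
    (I : Ideal A) (𝔫 : Ideal B) (hB : CAlgX.IsAdicFormallySmooth A B 𝔫) :
    CAlgX.IsAdicFormallySmooth (A ⧸ I) (B ⧸ I.map (algebraMap A B))
      (𝔫.map (Ideal.Quotient.mk (I.map (algebraMap A B)))) := by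
  intro E _ _ N hN ψ hψ
  obtain ⟨n, hn⟩ := hψ
  letI : Algebra A E := ((algebraMap (A ⧸ I) E).comp (Ideal.Quotient.mk I)).toAlgebra
  haveI : IsScalarTower A (A ⧸ I) E := IsScalarTower.of_algebraMap_eq (fun _ => rfl)
  let π : B →ₐ[A] B ⧸ I.map (algebraMap A B) := Ideal.Quotient.mkₐ A _
  let ψ' : B →ₐ[A] E ⧸ N := (ψ.restrictScalars A).comp π
  have hψ' : ∃ m : ℕ, ∀ x ∈ 𝔫 ^ m, ψ' x = 0 := by
    refine ⟨n, fun x hx => hn _ ?_⟩
    rw [← Ideal.map_pow]
    exact Ideal.mem_map_of_mem _ hx
  obtain ⟨χ', hχ'⟩ := hB E N hN ψ' hψ'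
  have hkill : ∀ b ∈ I.map (algebraMap A B), χ' b = 0 := by
    intro b hb
    have hle : I.map (algebraMap A B) ≤ RingHom.ker (χ' : B →+* E) := by
      rw [Ideal.map_le_iff_le_comap]
      intro a ha
      rw [Ideal.mem_comap, RingHom.mem_ker]
      show χ' (algebraMap A B a) = 0
      rw [χ'.commutes, IsScalarTower.algebraMap_apply A (A ⧸ I) E,
        Ideal.Quotient.algebraMap_eq, Ideal.Quotient.eq_zero_iff_mem.mpr ha, map_zero]
    exact hle hb
  let χ₀ : B ⧸ I.map (algebraMap A B) →+* E :=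
    Ideal.Quotient.lift _ (χ' : B →+* E) hkill
  let χ : B ⧸ I.map (algebraMap A B) →ₐ[A ⧸ I] E :=
    { χ₀ with
      commutes' := fun r => by
        obtain ⟨a, rfl⟩ := Ideal.Quotient.mk_surjective r
        show χ₀ (algebraMap (A ⧸ I) _ (Ideal.Quotient.mk I a)) = _
        rw [Ideal.Quotient.algebraMap_quotient_map_quotient]
        show χ' (algebraMap A B a) = _
        rw [χ'.commutes]
        rfl }
  refine ⟨χ, ?_⟩
  ext x
  obtain ⟨b, rfl⟩ := Ideal.Quotient.mk_surjective x
  exact congr($hχ' b)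

end H5.NG
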