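import Mathlib
import Groth.Agent.Lib.Helper5.CA.NG35

set_option autoImplicit false
universe u

open IsLocalRing TensorProduct

namespace H5.NG

/-- regularity ascends along a flat local homomorphism which is adically formally smooth. -/
theorem isRegularLocalRing_of_flat_of_isAdicFormallySmooth (A B : Type u) [CommRing A] [CommRing B]
    [IsRegularLocalRing A] [IsLocalRing B] [IsNoetherianRing B] [Algebra A B]
    [IsLocalHom (algebraMap A B)] [Module.Flat A B]
    (h : CAlgX.IsAdicFormallySmooth A B (maximalIdeal B)) : IsRegularLocalRing B := by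
  have h02 := (local_hom_TFAE (algebraMap A B)).out 0 2
  have hle : (maximalIdeal A).map (algebraMap A B) ≤ maximalIdeal B := h02.mp inferInstance
  haveI : Nontrivial (B ⧸ (maximalIdeal A).map (algebraMap A B)) :=
    Ideal.Quotient.nontrivial_iff.mpr
      (ne_top_of_le_ne_top (maximalIdeal.isMaximal B).ne_top hle)
  haveI : IsLocalRing (B ⧸ (maximalIdeal A).map (algebraMap A B)) :=
    IsLocalRing.of_surjective' (Ideal.Quotient.mk _) Ideal.Quotient.mk_surjective
  have h1 := isAdicFormallySmooth_quotient_map (maximalIdeal A) (maximalIdeal B) h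
  haveI : IsLocalHom (Ideal.Quotient.mk ((maximalIdeal A).map (algebraMap A B))) :=
    (Ideal.Quotient.mk_surjective).isLocalHom
  have hmax : (maximalIdeal B).map (Ideal.Quotient.mk ((maximalIdeal A).map (algebraMap A B))) =
      maximalIdeal (B ⧸ (maximalIdeal A).map (algebraMap A B)) := by
    rw [← IsLocalRing.maximalIdeal_comap (Ideal.Quotient.mk ((maximalIdeal A).map (algebraMap A B))),
      Ideal.map_comap_of_surjective _ Ideal.Quotient.mk_surjective]
  rw [hmax] at h1
  letI : Algebra (ResidueField A) (B ⧸ (maximalIdeal A).map (algebraMap A B)) :=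
    Ideal.Quotient.algebraQuotientMapQuotient (p := maximalIdeal A)
  haveI : IsRegularLocalRing (B ⧸ (maximalIdeal A).map (algebraMap A B)) :=
    Groth.Agent.H5.GR.isRegularLocalRing_of_isAdicFormallySmooth (ResidueField A) _ h1
  exact Groth.Agent.H1.RegFlat.isRegularLocalRing_of_flat_of_fiber A B

end H5.NG
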