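import Mathlib
import Groth.Agent.Lib.Helper5.CA.CF1
import Groth.Agent.Lib.Helper6.PSCotC

set_option autoImplicit false
universe u v

open IsLocalRing

namespace Groth.Agent.H5.CF

/-- `dim Λ + d ≤ dim Λ[[T₁..T_d]]`. -/
theorem ringKrullDim_add_le_mvPowerSeries (Λ : Type u) [CommRing Λ] [Nontrivial Λ] :
    ∀ d : ℕ, ringKrullDim Λ + (d : WithBot ℕ∞) ≤ ringKrullDim (MvPowerSeries (Fin d) Λ) := by
  intro d
  induction d with
  | zero =>
    simp only [Nat.cast_zero, add_zero]
    exact ringKrullDim_le_of_surjective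
      (MvPowerSeries.constantCoeff : MvPowerSeries (Fin 0) Λ →+* Λ)
      (fun a => ⟨MvPowerSeries.C a, by simp⟩)
  | succ n ih =>
    rw [ringKrullDim_eq_of_ringEquiv (MvPowerSeries.finSuccEquiv Λ n).toRingEquiv]
    refine le_trans ?_ ringKrullDim_succ_le_ringKrullDim_powerseries
    push_cast
    rw [← add_assoc]
    gcongr

/-- power series over a discrete valuation ring form a regular local ring. -/
theorem isRegularLocalRing_mvPowerSeries_dvr (W : Type u) [CommRing W] [IsDomain W]
    [IsDiscreteValuationRing W] {π : W} (hm : maximalIdeal W = Ideal.span {π}) (d : ℕ) :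
    IsRegularLocalRing (MvPowerSeries (Fin d) W) := by
  classical
  apply IsRegularLocalRing.of_spanFinrank_maximalIdeal_le
  have h1 : maximalIdeal (MvPowerSeries (Fin d) W) =
      Ideal.span (insert (MvPowerSeries.C π) (Set.range (MvPowerSeries.X : Fin d → _))) := by
    rw [Cohen2.maximalIdeal_mvPowerSeries, hm, Ideal.map_span, Set.image_singleton,
      Groth.Agent.H5.CA.ker_constantCoeff_eq_span, ← Ideal.span_union, Set.singleton_union]
  have hfin : (insert (MvPowerSeries.C π)
      (Set.range (MvPowerSeries.X : Fin d → MvPowerSeries (Fin d) W))).Finite :=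
    (Set.finite_range _).insert _
  have h2 : (maximalIdeal (MvPowerSeries (Fin d) W)).spanFinrank ≤ d + 1 := by
    rw [h1]
    refine (Submodule.spanFinrank_span_le_ncard_of_finite hfin).trans ?_
    refine (Set.ncard_insert_le _ _).trans ?_
    have : (Set.range (MvPowerSeries.X : Fin d → MvPowerSeries (Fin d) W)).ncard ≤ d := by
      calc (Set.range (MvPowerSeries.X : Fin d → MvPowerSeries (Fin d) W)).ncard
          ≤ Nat.card (Fin d) := by
            rw [← Set.image_univ]
            refine (Set.ncard_image_le (Set.finite_univ)).trans ?_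
            rw [Set.ncard_univ]
        _ = d := by simp
    omega
  have h3 : ringKrullDim W = 1 :=
    IsPrincipalIdealRing.ringKrullDim_eq_one W (IsDiscreteValuationRing.not_isField W)
  have h4 := ringKrullDim_add_le_mvPowerSeries W d
  rw [h3] at h4
  refine le_trans ?_ h4
  have : ((maximalIdeal (MvPowerSeries (Fin d) W)).spanFinrank : WithBot ℕ∞) ≤ ((d + 1 : ℕ) : WithBot ℕ∞) := by
    exact_mod_cast h2
  refine this.trans ?_
  push_cast
  rw [add_comm]

/-- generic: kernel of a map onto a local ring, sending a generating family of the maximal ideal to a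
minimal generating family, lies in the square of the maximal ideal. -/
theorem ker_le_sq {P A : Type*} [CommRing P] [CommRing A] [IsLocalRing P] [IsLocalRing A]
    (ψ : P →+* A) {n : ℕ} (g : Fin n → P)
    (hgP : Ideal.span (Set.range g) = maximalIdeal P)
    (hg : Ideal.span (Set.range (ψ ∘ g)) = maximalIdeal A)
    (hn : n = (maximalIdeal A).spanFinrank) :
    RingHom.ker ψ ≤ maximalIdeal P ^ 2 := by
  intro F hF
  have hF' : ψ F = 0 := hF
  have hFm : F ∈ maximalIdeal P := by
    rw [mem_maximalIdeal, mem_nonunits_iff]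
    intro hu
    have := hu.map ψ
    rw [hF'] at this
    exact not_isUnit_zero this
  rw [← hgP] at hFm
  obtain ⟨G, hG⟩ := (Ideal.mem_span_range_iff_exists_fun).mp hFm
  have h2 : ∑ i, ψ (G i) * (ψ ∘ g) i = 0 := by
    rw [← hG, map_sum] at hF'
    simpa using hF'
  have hmem := coeff_mem_of_minimal (ψ ∘ g) hg hn (fun i => ψ (G i)) h2
  have hGm : ∀ i, G i ∈ maximalIdeal P := by
    intro i
    rw [mem_maximalIdeal, mem_nonunits_iff]
    intro hu
    have := hu.map ψ
    exact (mem_maximalIdeal _).mp (hmem i) this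
  rw [← hG, pow_two]
  refine Ideal.sum_mem _ fun i _ => Ideal.mul_mem_mul (hGm i) ?_
  rw [← hgP]; exact Ideal.subset_span ⟨i, rfl⟩

theorem sq_le_ker {P A : Type*} [CommRing P] [CommRing A] [IsLocalRing P] [IsLocalRing A]
    (ψ : P →+* A) {n : ℕ} (g : Fin n → P)
    (hgP : Ideal.span (Set.range g) = maximalIdeal P)
    (hg : Ideal.span (Set.range (ψ ∘ g)) = maximalIdeal A)
    (hA : maximalIdeal A ^ 2 = ⊥) :
    maximalIdeal P ^ 2 ≤ RingHom.ker ψ := by
  intro x hx
  have h1 : ψ x ∈ (maximalIdeal P ^ 2).map ψ := Ideal.mem_map_of_mem _ hx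
  rw [Ideal.map_pow, ← hgP, Ideal.map_span, ← Set.range_comp, hg, hA] at h1
  exact h1

/-- generic: surjectivity onto a local ring with square-zero maximal ideal. -/
theorem surjective_of_sq_zero {P A : Type*} [CommRing P] [CommRing A] [IsLocalRing A]
    (ψ : P →+* A) (hA : maximalIdeal A ^ 2 = ⊥) {n : ℕ} (g : Fin n → P)
    (hg : Ideal.span (Set.range (ψ ∘ g)) = maximalIdeal A)
    (hres : Function.Surjective ((residue A).comp ψ)) : Function.Surjective ψ := by
  have key : ∀ y : A, ∃ x : P, y - ψ x ∈ maximalIdeal A := by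
    intro y
    obtain ⟨x, hx⟩ := hres (residue A y)
    refine ⟨x, ?_⟩
    rw [← residue_eq_zero_iff, map_sub, sub_eq_zero]
    exact hx.symm
  intro y
  obtain ⟨x₀, hx₀⟩ := key y
  rw [← hg] at hx₀
  obtain ⟨a, ha⟩ := (Ideal.mem_span_range_iff_exists_fun).mp hx₀
  choose z hz using fun i => key (a i)
  refine ⟨x₀ + ∑ i, z i * g i, ?_⟩
  rw [map_add, map_sum]
  have h1 : ∀ i, ψ (z i * g i) = a i * (ψ ∘ g) i := by
    intro i
    have hgi : (ψ ∘ g) i ∈ maximalIdeal A := by
      rw [← hg]; exact Ideal.subset_span ⟨i, rfl⟩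
    have h2 : (a i - ψ (z i)) * (ψ ∘ g) i ∈ maximalIdeal A ^ 2 := by
      rw [pow_two]; exact Ideal.mul_mem_mul (hz i) hgi
    rw [hA, Ideal.mem_bot] at h2
    rw [map_mul]
    have : a i * (ψ ∘ g) i - ψ (z i) * (ψ ∘ g) i = 0 := by rw [← sub_mul]; exact h2
    rw [sub_eq_zero] at this
    rw [this]; rfl
  rw [Finset.sum_congr rfl (fun i _ => h1 i), ha]
  ring

end Groth.Agent.H5.CF

namespace Groth.Agent.H5.CF

theorem sq_le_ker' {P A : Type*} [CommRing P] [CommRing A] [IsLocalRing P] [IsLocalRing A]
    (ψ : P →+* A) (hψ : (maximalIdeal P).map ψ ≤ maximalIdeal A)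
    (hA : maximalIdeal A ^ 2 = ⊥) :
    maximalIdeal P ^ 2 ≤ RingHom.ker ψ := by
  intro x hx
  have h1 : ψ x ∈ (maximalIdeal P ^ 2).map ψ := Ideal.mem_map_of_mem _ hx
  rw [Ideal.map_pow] at h1
  have h2 := Ideal.pow_right_mono hψ 2 h1
  rw [hA] at h2
  exact h2

/-- transfer: a surjection with kernel the square of the maximal ideal. -/
theorem nonempty_equiv_of_ker {P A : Type*} [CommRing P] [CommRing A] [IsLocalRing P]
    (ψ : P →+* A) (hsurj : Function.Surjective ψ)
    (h1 : RingHom.ker ψ ≤ maximalIdeal P ^ 2) (h2 : maximalIdeal P ^ 2 ≤ RingHom.ker ψ) :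
    Nonempty (A ≃+* P ⧸ maximalIdeal P ^ 2) :=
  ⟨(RingHom.quotientKerEquivOfSurjective hsurj).symm.trans
    (Ideal.quotEquivOfEq (le_antisymm h1 h2))⟩

open MvPowerSeries in
theorem artin_sq_zero {A : Type u} [CommRing A] [IsLocalRing A] [IsArtinianRing A]
    (h : maximalIdeal A ^ 2 = ⊥) :
    ∃ (B : Type u) (_ : CommRing B) (_ : IsRegularLocalRing B),
      Nonempty (A ≃+* B ⧸ maximalIdeal B ^ 2) := by
  classical
  obtain ⟨p, hpc⟩ := CharP.exists (ResidueField A)
  by_cases hpA : (p : A) = 0
  · -- equal characteristic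
    obtain ⟨s, hs⟩ := exists_coeffField A p hpA
    obtain ⟨n, f, hf, -, hker⟩ := exists_surjective_ker_le_sq A s hs
    haveI : IsLocalHom f := hf.isLocalHom
    have hmap : (maximalIdeal (MvPowerSeries (Fin n) (ResidueField A))).map f ≤ maximalIdeal A :=
      IsLocalRing.map_maximalIdeal_le f
    exact ⟨MvPowerSeries (Fin n) (ResidueField A), inferInstance,
      Groth.Agent.H6.PSCot.isRegularLocalRing_mvPowerSeries n,
      nonempty_equiv_of_ker f hf hker (sq_le_ker' f hmap h)⟩
  · -- mixed characteristic
    have hp : p.Prime := by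
      rcases CharP.char_is_prime_or_zero (ResidueField A) p with h' | h'
      · exact h'
      · exfalso; apply hpA; rw [h']; simp
    haveI : Fact p.Prime := ⟨hp⟩
    obtain ⟨W, _, _, hW, ⟨ε⟩⟩ := CohenZorn.exists_cohenRing p (ResidueField A)
    have hW' := hW
    obtain ⟨hdom, hdvr, hcomp, q, hq, hmq⟩ := hW'
    have hpq : p = q := Cohen8.charP_eq_of_isCohenRing hq hmq p
      (ε : ResidueField W →+* ResidueField A)
    subst hpq
    let u : W →+* ResidueField A := (ε : ResidueField W →+* ResidueField A).comp (residue W)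
    haveI : IsLocalHom u := by
      haveI : IsLocalHom (residue W) := (residue_surjective (R := W)).isLocalHom
      haveI : IsLocalHom (ε : ResidueField W →+* ResidueField A) :=
        ⟨fun a ha => by
          have := ha.map (ε.symm : ResidueField A →+* ResidueField W)
          simpa using this⟩
      exact RingHom.isLocalHom_comp _ _
    obtain ⟨v, hv⟩ := Cohen9.exists_lift_residue (Or.inr hW) u
    have husurj : Function.Surjective u := by
      intro y
      obtain ⟨x, hx⟩ := residue_surjective (ε.symm y)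
      exact ⟨x, by simp [u, hx]⟩
    have hpm : (p : A) ∈ maximalIdeal A := by
      rw [← residue_eq_zero_iff, map_natCast]
      exact CharP.cast_eq_zero _ p
    -- minimal generators
    have hfg : (maximalIdeal A).FG := IsNoetherian.noetherian _
    obtain ⟨t, htcard, htspan⟩ := Submodule.FG.exists_span_finset_card_eq_spanFinrank hfg
    set n := (maximalIdeal A).spanFinrank with hn
    let e₀ : Fin n ≃ t := (t.equivFinOfCardEq htcard).symm
    let b : Fin n → A := fun i => (e₀ i : A)
    have hb_range : Set.range b = (t : Set A) := by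
      ext x
      constructor
      · rintro ⟨i, rfl⟩
        exact (e₀ i).2
      · intro hx
        exact ⟨e₀.symm ⟨x, hx⟩, by simp [b]⟩
    have hb : Ideal.span (Set.range b) = maximalIdeal A := by
      rw [hb_range]; exact htspan
    have hbm : ∀ i, b i ∈ maximalIdeal A := fun i => by
      rw [← hb]; exact Ideal.subset_span ⟨i, rfl⟩
    have hpm' := hpm
    rw [← hb] at hpm'
    obtain ⟨a, ha⟩ := (Ideal.mem_span_range_iff_exists_fun).mp hpm'
    have hj : ∃ j, a j ∉ maximalIdeal A := by
      by_contra hcon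
      push Not at hcon
      apply hpA
      rw [← ha]
      refine Finset.sum_eq_zero fun i _ => ?_
      have : a i * b i ∈ maximalIdeal A ^ 2 := by
        rw [pow_two]; exact Ideal.mul_mem_mul (hcon i) (hbm i)
      rwa [h, Ideal.mem_bot] at this
    obtain ⟨j, hj⟩ := hj
    have hu : IsUnit (a j) := by rwa [mem_maximalIdeal, mem_nonunits_iff, not_not] at hj
    obtain ⟨uj, huj⟩ := hu
    have hnpos : 0 < n := j.pos
    obtain ⟨m, hm⟩ : ∃ m, n = m + 1 := ⟨n - 1, by omega⟩
    have hScard : (Finset.univ.erase j : Finset (Fin n)).card = m := by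
      rw [Finset.card_erase_of_mem (Finset.mem_univ _)]; simp [hm]
    let e : Fin m ≃ (Finset.univ.erase j : Finset (Fin n)) :=
      ((Finset.univ.erase j).equivFinOfCardEq hScard).symm
    let c : Fin m → A := fun i => b (e i : Fin n)
    have hcm : ∀ i, c i ∈ maximalIdeal A := fun i => hbm _
    have hgen : Ideal.span (insert (p : A) (Set.range c)) = maximalIdeal A := by
      apply le_antisymm
      · rw [Ideal.span_le]
        rintro x (rfl | ⟨i, rfl⟩)
        · exact hpm
        · exact hcm i
      · rw [← hb, Ideal.span_le]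
        rintro _ ⟨i, rfl⟩
        have hci : ∀ i, i ≠ j → b i ∈ Ideal.span (insert (p : A) (Set.range c)) := by
          intro i hij
          refine Ideal.subset_span (Set.mem_insert_of_mem _ ⟨e.symm ⟨i, by simp [hij]⟩, ?_⟩)
          simp [c]
        by_cases hij : i = j
        · rw [hij]
          have h1 : a j * b j = (p : A) - ∑ i ∈ Finset.univ.erase j, a i * b i := by
            rw [← ha, ← Finset.add_sum_erase _ _ (Finset.mem_univ j)]; ring
          have h2 : b j = ↑uj⁻¹ * (a j * b j) := by
            rw [← mul_assoc, ← huj, Units.inv_mul, one_mul]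
          rw [SetLike.mem_coe, h2, h1]
          refine Ideal.mul_mem_left _ _ (sub_mem (Ideal.subset_span (Set.mem_insert _ _))
            (Ideal.sum_mem _ fun i hi => Ideal.mul_mem_left _ _ (hci i ?_)))
          exact Finset.ne_of_mem_erase hi
        · exact hci i hij
    letI : Algebra W A := v.toAlgebra
    obtain ⟨ψ, hψX⟩ := Groth.Agent.H5.CA.exists_algHom_mvPowerSeries' W A (maximalIdeal A) c hcm
    have hψC : ∀ w, ψ.toRingHom (C w) = v w := fun w => by
      have : (C w : MvPowerSeries (Fin m) W) = algebraMap W _ w := by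
        rw [MvPowerSeries.algebraMap_apply]; simp
      show ψ (C w) = _
      rw [this, AlgHom.commutes]
      rfl
    let g : Fin (m + 1) → MvPowerSeries (Fin m) W := Fin.cons (C (p : W)) X
    have hgP : Ideal.span (Set.range g) = maximalIdeal (MvPowerSeries (Fin m) W) := by
      rw [Cohen2.maximalIdeal_mvPowerSeries, hmq, Ideal.map_span, Set.image_singleton,
        Groth.Agent.H5.CA.ker_constantCoeff_eq_span, ← Ideal.span_union, Set.singleton_union,
        Fin.range_cons]
    have hψg : ψ.toRingHom ∘ g = Fin.cons (p : A) c := by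
      funext i
      refine Fin.cases ?_ (fun i => ?_) i
      · simp only [Function.comp_apply, g, Fin.cons_zero]
        rw [hψC, map_natCast]
      · simp only [Function.comp_apply, g, Fin.cons_succ]
        exact hψX i
    have hg : Ideal.span (Set.range (ψ.toRingHom ∘ g)) = maximalIdeal A := by
      rw [hψg, Fin.range_cons]; exact hgen
    have hres : Function.Surjective ((residue A).comp ψ.toRingHom) := by
      intro y
      obtain ⟨w, hw⟩ := husurj y
      refine ⟨C w, ?_⟩
      show residue A (ψ.toRingHom (C w)) = y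
      rw [hψC]
      have := congrArg (fun φ => φ w) hv
      simp only [RingHom.comp_apply] at this
      rw [this, hw]
    have hsurj := surjective_of_sq_zero ψ.toRingHom h g hg hres
    refine ⟨MvPowerSeries (Fin m) W, inferInstance,
      isRegularLocalRing_mvPowerSeries_dvr W hmq m,
      nonempty_equiv_of_ker ψ.toRingHom hsurj (ker_le_sq ψ.toRingHom g hgP hg (by omega))
        (sq_le_ker ψ.toRingHom g hgP hg h)⟩

end Groth.Agent.H5.CF
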