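import Groth.Agent.Lib.Helper6.PSCotC
import Mathlib.RingTheory.AdicCompletion.Topology
import Mathlib.RingTheory.MvPowerSeries.Evaluation

set_option autoImplicit false
universe u

namespace Groth.Agent.H5.CA

open MvPowerSeries in
/-- power series can be evaluated at elements of `I` in an `I`-adically complete ring. -/
theorem exists_algHom_mvPowerSeries (k : Type u) [CommRing k] (R : Type u) [CommRing R] [Algebra k R]
    (I : Ideal R) [IsAdicComplete I R] {d : ℕ} (b : Fin d → R) (hb : ∀ i, b i ∈ I) :
    ∃ ψ : MvPowerSeries (Fin d) k →ₐ[k] R, ∀ i, ψ (MvPowerSeries.X i) = b i := by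
  letI : WithIdeal R := ⟨I⟩
  have hI : IsAdic I := rfl
  obtain ⟨hc, ht⟩ := hI.isAdicComplete_iff.mp inferInstance
  letI : UniformSpace k := ⊥
  haveI : DiscreteTopology k := ⟨rfl⟩
  haveI : ContinuousSMul k R := continuousSMul_of_algebraMap k R continuous_of_discreteTopology
  have ha : MvPowerSeries.HasEval b := by
    refine ⟨fun i => ?_, ?_⟩
    · rw [IsTopologicallyNilpotent, hI.hasBasis_nhds_zero.tendsto_right_iff]
      intro n _
      filter_upwards [Filter.eventually_ge_atTop n] with m hm
      exact Ideal.pow_le_pow_right hm (Ideal.pow_mem_pow (hb i) m)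
    · rw [Filter.cofinite_eq_bot]
      exact Filter.tendsto_bot
  refine ⟨MvPowerSeries.aeval ha, fun i => ?_⟩
  rw [MvPowerSeries.coe_aeval]
  exact MvPowerSeries.eval₂_X _ _ i

end Groth.Agent.H5.CA
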