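import Mathlib
import Groth.Agent.Lib.Helper5.CA.GR3

set_option autoImplicit false
universe u

namespace H5.JZ

open Algebra KaehlerDifferential

section
variable (R S T : Type*) [CommRing R] [CommRing S] [CommRing T] [Algebra R S] [Algebra R T]
  [Algebra S T] [IsScalarTower R S T]

/-- if `H₁(L_{T/S}) = 0` then `T ⊗_S Ω_{S/R} → Ω_{T/R}` is injective. -/
theorem mapBaseChange_injective_of_subsingleton [Subsingleton (H1Cotangent S T)] :
    Function.Injective (KaehlerDifferential.mapBaseChange R S T) := by
  rw [injective_iff_map_eq_zero]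
  intro x hx
  obtain ⟨h, rfl⟩ := (H1Cotangent.exact_δ_mapBaseChange R S T x).mp hx
  rw [Subsingleton.elim h 0, map_zero]

/-- if `H₁(L_{T/R}) = 0` and `T ⊗_S Ω_{S/R} → Ω_{T/R}` is injective then `H₁(L_{T/S}) = 0`. -/
theorem subsingleton_h1Cotangent_of_mapBaseChange_injective [Subsingleton (H1Cotangent R T)]
    (hinj : Function.Injective (KaehlerDifferential.mapBaseChange R S T)) :
    Subsingleton (H1Cotangent S T) := by
  refine ⟨fun a b => ?_⟩
  have key : ∀ h : H1Cotangent S T, h = 0 := by
    intro h
    have h1 : KaehlerDifferential.mapBaseChange R S T (H1Cotangent.δ R S T h) = 0 :=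
      (H1Cotangent.exact_δ_mapBaseChange R S T _).mpr ⟨h, rfl⟩
    have h2 : H1Cotangent.δ R S T h = 0 := hinj (by rw [h1, map_zero])
    obtain ⟨h', rfl⟩ := (H1Cotangent.exact_map_δ R S T h).mp h2
    rw [Subsingleton.elim h' 0, map_zero]
  rw [key a, key b]

end

theorem main2484 {K E F : Type u} [Field K] [Field E] [Field F] [Algebra K E] [Algebra E F]
    [Algebra K F] [IsScalarTower K E F] :
    (Algebra.IsGeometricallyReduced E F →
      Function.Injective (KaehlerDifferential.mapBaseChange K E F)) ∧
    (Algebra.IsGeometricallyReduced K F →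
      Function.Injective (KaehlerDifferential.mapBaseChange K E F) →
        Algebra.IsGeometricallyReduced E F) := by
  constructor
  · intro h
    haveI : Algebra.FormallySmooth E F := Groth.Agent.H5.GR.formallySmooth_field_iff.mpr h
    exact mapBaseChange_injective_of_subsingleton K E F
  · intro h hinj
    haveI : Algebra.FormallySmooth K F := Groth.Agent.H5.GR.formallySmooth_field_iff.mpr h
    have := subsingleton_h1Cotangent_of_mapBaseChange_injective K E F hinj
    exact Groth.Agent.H5.GR.formallySmooth_field_iff.mp ⟨Module.Projective.of_free, this⟩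

end H5.JZ
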