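import Mathlib
import Groth.Agent.Lib.Helper5.CA.JZ1
import Groth.Agent.Lib.Helper5.CA.PerfGR

set_option autoImplicit false
universe u

namespace H5.JZ

open Algebra KaehlerDifferential TensorProduct

section surj
variable (R S B : Type*) [CommRing R] [CommRing S] [CommRing B] [Algebra R S] [Algebra R B]
  [Algebra S B] [IsScalarTower R S B]

/-- `d_{B/R}` is `S`-linear when `R → S` is surjective. -/
noncomputable def derivOfSurjective (h : Function.Surjective (algebraMap R S)) :
    Derivation S B (Ω[B⁄R]) where
  toLinearMap :=
    { toFun := KaehlerDifferential.D R B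
      map_add' := map_add _
      map_smul' := fun s b => by
        obtain ⟨r, rfl⟩ := h s
        rw [RingHom.id_apply, algebraMap_smul, algebraMap_smul]
        exact (KaehlerDifferential.D R B).map_smul r b }
  map_one_eq_zero' := (KaehlerDifferential.D R B).map_one_eq_zero
  leibniz' := (KaehlerDifferential.D R B).leibniz

theorem map_injective_of_surjective (h : Function.Surjective (algebraMap R S)) :
    Function.Injective (KaehlerDifferential.map R S B B) := by
  let g : Ω[B⁄S] →ₗ[B] Ω[B⁄R] := (derivOfSurjective R S B h).liftKaehlerDifferential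
  have hg : g.comp (KaehlerDifferential.map R S B B) = LinearMap.id := by
    apply Derivation.liftKaehlerDifferential_unique
    apply Derivation.ext
    intro b
    show g (KaehlerDifferential.map R S B B (KaehlerDifferential.D R B b)) =
      KaehlerDifferential.D R B b
    rw [KaehlerDifferential.map_D]
    show (derivOfSurjective R S B h).liftKaehlerDifferential (KaehlerDifferential.D S B b) = _
    rw [Derivation.liftKaehlerDifferential_comp_D]
    rfl
  intro x y hxy
  have := congrArg g hxy
  rwa [← LinearMap.comp_apply, ← LinearMap.comp_apply, hg] at this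

end surj

section ext
variable {R A B M : Type*} [CommRing R] [CommRing A] [CommRing B] [Algebra R A] [Algebra A B]
  [AddCommGroup M] [Module B M] [Module A M] [IsScalarTower A B M] [Module R M]
  [IsScalarTower R A M]

/-- `B`-linear maps out of `B ⊗_A Ω_{A/R}` are determined on the `1 ⊗ da`. -/
theorem ext_tensor_kaehler (f g : B ⊗[A] Ω[A⁄R] →ₗ[B] M)
    (h : ∀ a : A, f (1 ⊗ₜ KaehlerDifferential.D R A a) = g (1 ⊗ₜ KaehlerDifferential.D R A a)) :
    f = g := by
  let f₁ : Ω[A⁄R] →ₗ[A] M := (f.restrictScalars A).comp (TensorProduct.mk A B (Ω[A⁄R]) 1)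
  let g₁ : Ω[A⁄R] →ₗ[A] M := (g.restrictScalars A).comp (TensorProduct.mk A B (Ω[A⁄R]) 1)
  have h1 : f₁ = g₁ := by
    apply Derivation.liftKaehlerDifferential_unique
    apply Derivation.ext
    intro a
    exact h a
  apply LinearMap.ext
  intro x
  induction x using TensorProduct.induction_on with
  | zero => rw [map_zero, map_zero]
  | tmul b ω =>
    have h2 : b ⊗ₜ[A] ω = b • ((1 : B) ⊗ₜ[A] ω) := by
      rw [TensorProduct.smul_tmul', smul_eq_mul, mul_one]
    rw [h2, map_smul, map_smul]
    congr 1
    exact congr($h1 ω)
  | add x y hx hy => rw [map_add, map_add, hx, hy]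

end ext


section square
variable (R R' A B : Type*) [CommRing R] [CommRing R'] [CommRing A] [CommRing B]
  [Algebra R R'] [Algebra R A] [Algebra R' A] [IsScalarTower R R' A] [Algebra A B]
  [Algebra R B] [Algebra R' B] [IsScalarTower R A B] [IsScalarTower R' A B]
  [IsScalarTower R R' B]

/-- changing the base ring along a surjection does not affect injectivity of
`B ⊗_A Ω_{A/R} → Ω_{B/R}`. -/
theorem mapBaseChange_injective_of_surjective_base (h : Function.Surjective (algebraMap R R'))
    (hinj : Function.Injective (KaehlerDifferential.mapBaseChange R A B)) :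
    Function.Injective (KaehlerDifferential.mapBaseChange R' A B) := by
  let φ : B ⊗[A] Ω[A⁄R] →ₗ[B] B ⊗[A] Ω[A⁄R'] :=
    (KaehlerDifferential.map R R' A A).baseChange B
  have hφ : Function.Surjective φ :=
    LinearMap.lTensor_surjective B (KaehlerDifferential.map_surjective R R' A)
  let ψ : Ω[B⁄R] →ₗ[B] Ω[B⁄R'] := KaehlerDifferential.map R R' B B
  have hψ : Function.Injective ψ := map_injective_of_surjective R R' B h
  have hsq : (KaehlerDifferential.mapBaseChange R' A B).comp φ =
      ψ.comp (KaehlerDifferential.mapBaseChange R A B) := by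
    apply ext_tensor_kaehler
    intro a
    simp only [LinearMap.comp_apply, φ, ψ, LinearMap.baseChange_tmul,
      KaehlerDifferential.mapBaseChange_tmul, KaehlerDifferential.map_D, one_smul,
      Algebra.algebraMap_self, RingHom.id_apply]
  rw [injective_iff_map_eq_zero]
  intro x hx
  obtain ⟨x', rfl⟩ := hφ x
  have h1 : ψ (KaehlerDifferential.mapBaseChange R A B x') = 0 := by
    rw [← LinearMap.comp_apply, ← hsq, LinearMap.comp_apply, hx]
  have h2 : KaehlerDifferential.mapBaseChange R A B x' = 0 := hψ (by rw [h1, map_zero])
  have h3 : x' = 0 := hinj (by rw [h2, map_zero])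
  rw [h3, map_zero]

end square


theorem main2117 {k K : Type u} [Field k] [Field K] [Algebra k K] (p : ℕ)
    [Fact p.Prime] [CharP k p] :
    Algebra.IsGeometricallyReduced k K ↔
      Function.Injective (KaehlerDifferential.mapBaseChange ℤ k K) := by
  constructor
  · intro h
    haveI : Algebra.FormallySmooth k K := Groth.Agent.H5.GR.formallySmooth_field_iff.mpr h
    exact mapBaseChange_injective_of_subsingleton ℤ k K
  · intro hinj
    haveI : CharP K p := charP_of_injective_algebraMap (algebraMap k K).injective p
    letI : Algebra (ZMod p) k := ZMod.algebra k p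
    letI : Algebra (ZMod p) K := ZMod.algebra K p
    letI : Algebra (ULift.{u} (ZMod p)) k := ULift.algebra' (ZMod p) k
    letI : Algebra (ULift.{u} (ZMod p)) K := ULift.algebra' (ZMod p) K
    haveI : IsScalarTower (ULift.{u} (ZMod p)) k K := IsScalarTower.of_algebraMap_eq (fun x => by
      show algebraMap (ZMod p) K x.down = algebraMap k K (algebraMap (ZMod p) k x.down)
      have : (algebraMap k K).comp (algebraMap (ZMod p) k) = algebraMap (ZMod p) K :=
        Subsingleton.elim _ _
      rw [← this]; rfl)
    have hsurj : Function.Surjective (algebraMap ℤ (ULift.{u} (ZMod p))) := by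
      intro x
      obtain ⟨n, hn⟩ := ZMod.intCast_surjective x.down
      refine ⟨n, ?_⟩
      apply ULift.down_injective
      rw [← hn]
      simp
    have hinjF := mapBaseChange_injective_of_surjective_base ℤ (ULift.{u} (ZMod p)) k K hsurj hinj
    haveI : PerfectField (ULift.{u} (ZMod p)) := PerfectField.ofFinite
    haveI : Algebra.IsGeometricallyReduced (ULift.{u} (ZMod p)) K :=
      Groth.Agent.H5.isGeometricallyReduced_of_perfectField _ K
    haveI : Algebra.FormallySmooth (ULift.{u} (ZMod p)) K :=
      Groth.Agent.H5.GR.formallySmooth_field_iff.mpr inferInstance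
    have := subsingleton_h1Cotangent_of_mapBaseChange_injective (ULift.{u} (ZMod p)) k K hinjF
    exact Groth.Agent.H5.GR.formallySmooth_field_iff.mp ⟨Module.Projective.of_free, this⟩

end H5.JZ
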