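import Mathlib
import Groth.Agent.Lib.Helper5.CA.Cohen9
import Groth.Agent.Lib.Helper5.CA.Cohen3
import Groth.Agent.S0579

set_option autoImplicit false
universe u

open IsLocalRing

namespace Groth.Agent.H5.FL

theorem isLocalHom_comp_residue {W F : Type*} [CommRing W] [IsLocalRing W] [Field F]
    (g : ResidueField W →+* F) : IsLocalHom (g.comp (residue W)) := by
  constructor
  intro a ha
  by_contra hna
  have h0 : residue W a = 0 := (residue_eq_zero_iff a).mpr ((mem_maximalIdeal a).mpr hna)
  simp [h0] at ha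

/-- injectivity of a ring hom between Cohen rings (same `p`). -/
theorem injective_of_cohen {Λ Λ' : Type u} [CommRing Λ] [CommRing Λ'] [IsLocalRing Λ]
    [IsDomain Λ] [IsDiscreteValuationRing Λ] [IsDomain Λ'] {p : ℕ}
    (hm : maximalIdeal Λ = Ideal.span {(p : Λ)}) (hp' : (p : Λ') ≠ 0) (w : Λ →+* Λ')
    [IsLocalHom w] : Function.Injective w := by
  rw [injective_iff_map_eq_zero]
  intro x hx
  by_contra hx0
  have hirr : Irreducible (p : Λ) :=
    (IsDiscreteValuationRing.irreducible_iff_uniformizer _).mpr hm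
  obtain ⟨n, u, rfl⟩ := IsDiscreteValuationRing.eq_unit_mul_pow_irreducible hx0 hirr
  rw [map_mul, map_pow, map_natCast] at hx
  rcases mul_eq_zero.mp hx with h | h
  · exact (u.isUnit.map w).ne_zero h
  · exact hp' (pow_eq_zero_iff (M₀ := Λ') (n := n) (by rintro rfl; simp at h) |>.mp h)

theorem exists_coefPair (R : Type u) [CommRing R] [IsLocalRing R]
    [IsAdicComplete (maximalIdeal R) R] (K : Type u) [Field K] (j : ResidueField R →+* K) :
    ∃ (Λ Λ' : Type u) (_ : CommRing Λ) (_ : CommRing Λ') (_ : IsLocalRing Λ) (_ : IsLocalRing Λ')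
      (v : Λ →+* R) (w : Λ →+* Λ') (ε' : ResidueField Λ' ≃+* K),
      Function.Surjective ((residue R).comp v) ∧ w.Flat ∧
      (maximalIdeal Λ).map w = maximalIdeal Λ' ∧
      ∀ a, ε' (residue Λ' (w a)) = j (residue R (v a)) := by
  obtain ⟨p, hp⟩ := CharP.exists (ResidueField R)
  rcases CharP.char_is_prime_or_zero (ResidueField R) p with hpp | hp0
  · haveI : Fact p.Prime := ⟨hpp⟩
    haveI : CharP K p := charP_of_injective_ringHom j.injective p
    obtain ⟨Λ, _, _, hΛ, ⟨ε⟩⟩ := CohenZorn.exists_cohenRing p (ResidueField R)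
    obtain ⟨Λ', _, _, hΛ', ⟨ε'⟩⟩ := CohenZorn.exists_cohenRing p K
    let u : Λ →+* ResidueField R := (ε : ResidueField Λ →+* ResidueField R).comp (residue Λ)
    haveI : IsLocalHom u := isLocalHom_comp_residue _
    obtain ⟨v, hv⟩ := Cohen9.exists_lift_residue (Or.inr hΛ) u
    let u' : Λ →+* ResidueField Λ' :=
      ((ε'.symm : K →+* ResidueField Λ').comp (j.comp (ε : ResidueField Λ →+* ResidueField R))).comp
        (residue Λ)
    haveI : IsLocalHom u' := isLocalHom_comp_residue _
    obtain ⟨hdom, hdvr, hc, q, hq, hmq⟩ := hΛ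
    obtain ⟨hdom', hdvr', hc', q', hq', hmq'⟩ := id hΛ'
    have hpq : p = q := Cohen8.charP_eq_of_isCohenRing hq hmq p
      (ε : ResidueField Λ →+* ResidueField R)
    have hpq' : p = q' := Cohen8.charP_eq_of_isCohenRing hq' hmq' p
      (ε' : ResidueField Λ' →+* K)
    subst hpq
    subst hpq'
    obtain ⟨w, hw⟩ := Cohen9.exists_lift_residue (W := Λ) (C := Λ') (Or.inr ⟨hdom, hdvr, hc, p, hq, hmq⟩) u'
    have hwl : IsLocalHom w := by
      constructor
      intro a ha
      have h1 : IsUnit (u' a) := by
        rw [← hw]; exact ha.map (residue Λ')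
      exact IsLocalHom.map_nonunit (f := u') a h1
    have hp'0 : (p : Λ') ≠ 0 := Cohen3.natCast_ne_zero_of_isCohenRing hmq'
    have hinj : Function.Injective w := injective_of_cohen hmq hp'0 w
    refine ⟨Λ, Λ', inferInstance, inferInstance, inferInstance, inferInstance, v, w, ε', ?_, ?_, ?_, ?_⟩
    · rw [hv]
      intro y
      obtain ⟨x, hx⟩ := residue_surjective (ε.symm y)
      exact ⟨x, by simp [u, hx]⟩
    · letI : Algebra Λ Λ' := w.toAlgebra
      haveI : Module.IsTorsionFree Λ Λ' := Module.isTorsionFree_iff_algebraMap_injective.mpr hinj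
      show Module.Flat Λ Λ'
      infer_instance
    · rw [hmq, hmq', Ideal.map_span, Set.image_singleton, map_natCast]
    · intro a
      have h1 : residue Λ' (w a) = u' a := by rw [← hw]; rfl
      have h2 : residue R (v a) = u a := by rw [← hv]; rfl
      rw [h1, h2]
      simp [u, u']
  · subst hp0
    haveI : CharZero (ResidueField R) := CharP.charP_to_charZero _
    obtain ⟨s, hs⟩ := Groth.Agent.S0579.result R
    let e0 : K ≃+* ResidueField K :=
      RingEquiv.ofBijective (residue K) ⟨(residue K).injective, residue_surjective⟩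
    refine ⟨ResidueField R, K, inferInstance, inferInstance, inferInstance, inferInstance, s, j,
      e0.symm, ?_, ?_, ?_, ?_⟩
    · rw [hs]; exact Function.surjective_id
    · letI : Algebra (ResidueField R) K := j.toAlgebra
      show Module.Flat (ResidueField R) K
      infer_instance
    · rw [IsLocalRing.maximalIdeal_eq_bot, IsLocalRing.maximalIdeal_eq_bot, Ideal.map_bot]
    · intro a
      have h2 : residue R (s a) = a := by
        have := congrArg (fun φ => φ a) hs
        exact this
      rw [h2, RingEquiv.symm_apply_eq]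
      rfl

end Groth.Agent.H5.FL
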