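import Mathlib

set_option autoImplicit false
universe u

open IsLocalRing TensorProduct

namespace Groth.Agent.H5.FL

theorem tensor_quotient {R Λ Λ' K : Type u} [CommRing R] [IsLocalRing R] [CommRing Λ]
    [IsLocalRing Λ] [CommRing Λ'] [IsLocalRing Λ'] [Field K] [Algebra Λ R] [Algebra Λ Λ']
    (j : ResidueField R →+* K) (ε' : ResidueField Λ' ≃+* K)
    (hsurj : Function.Surjective ((residue R).comp (algebraMap Λ R)))
    (hmax : (maximalIdeal Λ).map (algebraMap Λ Λ') = maximalIdeal Λ')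
    (hcomp : ∀ a, ε' (residue Λ' (algebraMap Λ Λ' a)) = j (residue R (algebraMap Λ R a))) :
    ∃ φ : R ⊗[Λ] Λ' →+* K, Function.Surjective φ ∧
      RingHom.ker φ = (maximalIdeal R).map (algebraMap R (R ⊗[Λ] Λ')) ∧
      ∀ r, φ (algebraMap R _ r) = j (residue R r) := by
  letI : Algebra Λ K := ((j.comp (residue R)).comp (algebraMap Λ R)).toAlgebra
  let f : R →ₐ[Λ] K := { j.comp (residue R) with commutes' := fun _ => rfl }
  let g : Λ' →ₐ[Λ] K :=
    { (ε' : ResidueField Λ' →+* K).comp (residue Λ') with commutes' := fun a => hcomp a }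
  let φ : R ⊗[Λ] Λ' →ₐ[Λ] K := Algebra.TensorProduct.lift f g (fun _ _ => Commute.all _ _)
  have hφ : ∀ r l, φ (r ⊗ₜ l) = j (residue R r) * ε' (residue Λ' l) := fun r l => by
    simp [φ, f, g]
  have hmem : ∀ a ∈ maximalIdeal Λ, algebraMap Λ R a ∈ maximalIdeal R := by
    intro a ha
    have h1 : algebraMap Λ Λ' a ∈ maximalIdeal Λ' := by
      rw [← hmax]; exact Ideal.mem_map_of_mem _ ha
    have h2 := hcomp a
    rw [(residue_eq_zero_iff _).mpr h1, map_zero] at h2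
    have h3 : residue R (algebraMap Λ R a) = 0 := by
      rw [← map_eq_zero_iff j j.injective]; exact h2.symm
    exact (residue_eq_zero_iff _).mp h3
  set J := (maximalIdeal R).map (algebraMap R (R ⊗[Λ] Λ')) with hJ
  have hJle : J ≤ RingHom.ker φ.toRingHom := by
    rw [hJ, Ideal.map_le_iff_le_comap]
    intro r hr
    rw [Ideal.mem_comap, RingHom.mem_ker]
    show φ (r ⊗ₜ 1) = 0
    rw [hφ, (residue_eq_zero_iff _).mpr hr, map_zero, zero_mul]
  have hright : (maximalIdeal Λ').comap (RingHom.id _) ≤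
      J.comap (Algebra.TensorProduct.includeRight : Λ' →ₐ[Λ] R ⊗[Λ] Λ').toRingHom := by
    rw [Ideal.comap_id, ← hmax, Ideal.map_le_iff_le_comap]
    intro a ha
    rw [Ideal.mem_comap, Ideal.mem_comap]
    have h1 : (Algebra.TensorProduct.includeRight : Λ' →ₐ[Λ] R ⊗[Λ] Λ').toRingHom
        (algebraMap Λ Λ' a) = algebraMap R (R ⊗[Λ] Λ') (algebraMap Λ R a) := by
      show (1 : R) ⊗ₜ[Λ] (algebraMap Λ Λ' a) = (algebraMap Λ R a) ⊗ₜ[Λ] (1 : Λ')
      rw [Algebra.algebraMap_eq_smul_one, Algebra.algebraMap_eq_smul_one, TensorProduct.smul_tmul]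
    rw [h1]
    exact Ideal.mem_map_of_mem _ (hmem a ha)
  have hrep : ∀ t : R ⊗[Λ] Λ', ∃ l : Λ', t - (1 : R) ⊗ₜ[Λ] l ∈ J := by
    intro t
    induction t using TensorProduct.induction_on with
    | zero => exact ⟨0, by simp⟩
    | tmul r l =>
      obtain ⟨a, ha⟩ := hsurj (residue R r)
      refine ⟨a • l, ?_⟩
      have h1 : r ⊗ₜ[Λ] l - (1 : R) ⊗ₜ[Λ] (a • l) =
          algebraMap R (R ⊗[Λ] Λ') (r - algebraMap Λ R a) * ((1 : R) ⊗ₜ[Λ] l) := by
        rw [← TensorProduct.smul_tmul, Algebra.smul_def, mul_one]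
        show _ = ((r - algebraMap Λ R a) ⊗ₜ[Λ] (1 : Λ')) * ((1 : R) ⊗ₜ[Λ] l)
        rw [Algebra.TensorProduct.tmul_mul_tmul, mul_one, one_mul, TensorProduct.sub_tmul]
      rw [h1]
      refine Ideal.mul_mem_right _ _ (Ideal.mem_map_of_mem _ ?_)
      rw [← residue_eq_zero_iff, map_sub, sub_eq_zero]
      exact ha.symm
    | add x y hx hy =>
      obtain ⟨l₁, h₁⟩ := hx
      obtain ⟨l₂, h₂⟩ := hy
      refine ⟨l₁ + l₂, ?_⟩
      have : x + y - (1 : R) ⊗ₜ[Λ] (l₁ + l₂) = (x - (1 : R) ⊗ₜ[Λ] l₁) + (y - (1 : R) ⊗ₜ[Λ] l₂) := by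
        rw [TensorProduct.tmul_add]; ring
      rw [this]
      exact J.add_mem h₁ h₂
  refine ⟨φ.toRingHom, ?_, ?_, ?_⟩
  · intro y
    obtain ⟨l, hl⟩ := residue_surjective (ε'.symm y)
    refine ⟨(1 : R) ⊗ₜ[Λ] l, ?_⟩
    show φ _ = y
    rw [hφ, hl, map_one, map_one, one_mul, RingEquiv.apply_symm_apply]
  · refine le_antisymm ?_ hJle
    intro t ht
    obtain ⟨l, hl⟩ := hrep t
    have h1 : φ ((1 : R) ⊗ₜ[Λ] l) = 0 := by
      have h2 := hJle hl
      rw [RingHom.mem_ker, map_sub, RingHom.mem_ker.mp ht, zero_sub, neg_eq_zero] at h2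
      exact h2
    rw [hφ, map_one, map_one, one_mul, map_eq_zero_iff _ ε'.injective, residue_eq_zero_iff] at h1
    have h3 : (1 : R) ⊗ₜ[Λ] l ∈ J := hright h1
    have : t = (t - (1 : R) ⊗ₜ[Λ] l) + (1 : R) ⊗ₜ[Λ] l := by ring
    rw [this]
    exact J.add_mem hl h3
  · intro r
    show φ (r ⊗ₜ 1) = _
    rw [hφ, map_one, map_one, mul_one]

end Groth.Agent.H5.FL
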