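import Groth.Agent.Lib.Helper5.CA.AdicFS2

set_option autoImplicit false
universe u

namespace Groth.Agent.H5.AdicFS

open AdicCompletion

section Compl

variable {S : Type u} [CommRing S] (I : Ideal S)

theorem mem_map_pow_iff (fg : I.FG) (n : ℕ) (x : AdicCompletion I S) :
    x ∈ (I ^ n).map (algebraMap S (AdicCompletion I S)) ↔ evalₐ I n x = 0 := by
  have h1 : x ∈ (I ^ n).map (algebraMap S (AdicCompletion I S)) ↔
      x ∈ (AdicCompletion.eval I S n).ker := by
    rw [← pow_smul_top_eq_ker_eval fg, Ideal.smul_top_eq_map]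
    rfl
  rw [h1, LinearMap.mem_ker]
  have eq : I ^ n * ⊤ = I ^ n := by simp
  have hinj : Function.Injective (Ideal.Quotient.factor (le_of_eq eq)) := by
    simpa [RingHom.injective_iff_ker_eq_bot, Ideal.Quotient.factor_ker]
      using Ideal.map_mk_eq_bot_of_le (le_of_eq eq.symm)
  rw [← factor_eval_eq_evalₐ I x (le_of_eq eq)]
  exact (map_eq_zero_iff _ hinj).symm

theorem exists_sub_mem (fg : I.FG) (n : ℕ) (x : AdicCompletion I S) :
    ∃ s : S, x - algebraMap S (AdicCompletion I S) s ∈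
      (I ^ n).map (algebraMap S (AdicCompletion I S)) := by
  obtain ⟨s, hs⟩ := Ideal.Quotient.mk_surjective (evalₐ I n x)
  refine ⟨s, ?_⟩
  rw [mem_map_pow_iff I fg, _root_.map_sub, ← hs]
  have : algebraMap S (AdicCompletion I S) s = of I S s := rfl
  rw [this, evalₐ_of, sub_self]

variable {A : Type u} [CommRing A] [Algebra A S]

instance : IsScalarTower A S (AdicCompletion I S) := IsScalarTower.of_algebraMap_eq (fun _ => rfl)

variable {D : Type u} [CommRing D] [Algebra A D]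

/-- extension of a continuous map to the completion. -/
noncomputable def extend (g : S →ₐ[A] D) (n : ℕ) (h : ∀ x ∈ I ^ n, g x = 0) :
    AdicCompletion I S →ₐ[A] D :=
  (Ideal.Quotient.liftₐ (I ^ n) g h).comp ((evalₐ I n).restrictScalars A)

theorem extend_algebraMap (g : S →ₐ[A] D) (n : ℕ) (h : ∀ x ∈ I ^ n, g x = 0) (s : S) :
    extend I g n h (algebraMap S (AdicCompletion I S) s) = g s := by
  have : algebraMap S (AdicCompletion I S) s = of I S s := rfl
  show Ideal.Quotient.liftₐ (I ^ n) g h (evalₐ I n (algebraMap S (AdicCompletion I S) s)) = g s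
  rw [this, evalₐ_of]
  rfl

theorem extend_eq_zero (fg : I.FG) (g : S →ₐ[A] D) (n : ℕ) (h : ∀ x ∈ I ^ n, g x = 0)
    (x : AdicCompletion I S) (hx : x ∈ (I ^ n).map (algebraMap S (AdicCompletion I S))) :
    extend I g n h x = 0 := by
  show Ideal.Quotient.liftₐ (I ^ n) g h (evalₐ I n x) = 0
  rw [(mem_map_pow_iff I fg n x).mp hx, _root_.map_zero]

theorem algHom_ext_of_continuous (fg : I.FG) (f₁ f₂ : AdicCompletion I S →ₐ[A] D) (n : ℕ)
    (h₁ : ∀ x ∈ (I ^ n).map (algebraMap S (AdicCompletion I S)), f₁ x = 0)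
    (h₂ : ∀ x ∈ (I ^ n).map (algebraMap S (AdicCompletion I S)), f₂ x = 0)
    (h : ∀ s : S, f₁ (algebraMap S (AdicCompletion I S) s) =
      f₂ (algebraMap S (AdicCompletion I S) s)) : f₁ = f₂ := by
  ext x
  obtain ⟨s, hs⟩ := exists_sub_mem I fg n x
  have e1 := h₁ _ hs
  have e2 := h₂ _ hs
  rw [_root_.map_sub, sub_eq_zero] at e1 e2
  rw [e1, e2, h]

end Compl

/-- adic formal smoothness is invariant under completion (finitely generated ideal). -/
theorem isFormallySmoothAdic_adicCompletion_iff {A B : Type u} [CommRing A] [CommRing B]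
    [Algebra A B] (𝔞 : Ideal A) (𝔟 : Ideal B) (fg : 𝔟.FG) :
    EGA41.IsFormallySmoothAdic A 𝔞 B 𝔟 ↔
      EGA41.IsFormallySmoothAdic A 𝔞 (AdicCompletion 𝔟 B)
        (𝔟.map (algebraMap B (AdicCompletion 𝔟 B))) := by
  constructor
  · intro hB C _ _ J hJ hC uh huh
    obtain ⟨k, hk⟩ := huh
    let u : B →ₐ[A] C ⧸ J := uh.comp (IsScalarTower.toAlgHom A B (AdicCompletion 𝔟 B))
    have hu : ∀ x ∈ 𝔟 ^ k, u x = 0 := by
      intro x hx
      refine hk _ ?_
      rw [← Ideal.map_pow]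
      exact Ideal.mem_map_of_mem _ hx
    obtain ⟨v, hv⟩ := hB C J hJ hC u ⟨k, hu⟩
    obtain ⟨m, hm⟩ := continuous_of_lift J hJ 𝔟 v (by rw [hv]; exact ⟨k, hu⟩)
    refine ⟨extend 𝔟 v m hm, ?_⟩
    refine algHom_ext_of_continuous 𝔟 fg _ _ (max m k) ?_ ?_ ?_
    · intro x hx
      have hx' : x ∈ (𝔟 ^ m).map (algebraMap B (AdicCompletion 𝔟 B)) :=
        Ideal.map_mono (Ideal.pow_le_pow_right (le_max_left m k)) hx
      rw [AlgHom.comp_apply, extend_eq_zero 𝔟 fg v m hm x hx', _root_.map_zero]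
    · intro x hx
      have hx' : x ∈ (𝔟 ^ k).map (algebraMap B (AdicCompletion 𝔟 B)) :=
        Ideal.map_mono (Ideal.pow_le_pow_right (le_max_right m k)) hx
      rw [Ideal.map_pow] at hx'
      exact hk x hx'
    · intro s
      rw [AlgHom.comp_apply, extend_algebraMap]
      exact congrArg (fun φ => φ s) hv
  · intro hB C _ _ J hJ hC u hu
    obtain ⟨k, hk⟩ := hu
    have huh : ∃ k' : ℕ, ∀ x ∈ (𝔟.map (algebraMap B (AdicCompletion 𝔟 B))) ^ k',
        extend 𝔟 u k hk x = 0 := by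
      refine ⟨k, fun x hx => ?_⟩
      rw [← Ideal.map_pow] at hx
      exact extend_eq_zero 𝔟 fg u k hk x hx
    obtain ⟨vh, hvh⟩ := hB C J hJ hC (extend 𝔟 u k hk) huh
    refine ⟨vh.comp (IsScalarTower.toAlgHom A B (AdicCompletion 𝔟 B)), ?_⟩
    ext s
    have := congrArg (fun φ => φ (algebraMap B (AdicCompletion 𝔟 B) s)) hvh
    simp only [AlgHom.comp_apply] at this
    rw [extend_algebraMap] at this
    exact this

end Groth.Agent.H5.AdicFS
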