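import Mathlib
import Groth.Agent.Lib.Helper5.CA.AdicFS3
import Groth.Agent.Lib.Helper1.LocalCriterion

set_option autoImplicit false
universe u

open TensorProduct

namespace Groth.Agent.H5.FL

theorem lTensor_quotient_bijective {R : Type*} [CommRing R] (I : Ideal R) {M N : Type*}
    [AddCommGroup M] [AddCommGroup N] [Module R M] [Module R N] (f : M →ₗ[R] N)
    (ha : ∀ y : N, ∃ x : M, y - f x ∈ I • (⊤ : Submodule R N))
    (hb : ∀ x : M, f x ∈ I • (⊤ : Submodule R N) → x ∈ I • (⊤ : Submodule R M)) :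
    Function.Bijective (f.lTensor (R ⧸ I)) := by
  have hle : I • (⊤ : Submodule R M) ≤ (I • (⊤ : Submodule R N)).comap f := by
    rw [← Submodule.map_le_iff_le_comap, Submodule.map_smul'']
    exact Submodule.smul_mono le_rfl le_top
  have hg : Function.Bijective (Submodule.mapQ _ _ f hle) := by
    constructor
    · rw [← LinearMap.ker_eq_bot, eq_bot_iff]
      intro x hx
      obtain ⟨x, rfl⟩ := Submodule.mkQ_surjective _ x
      rw [LinearMap.mem_ker, Submodule.mkQ_apply, Submodule.mapQ_apply,
        Submodule.Quotient.mk_eq_zero] at hx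
      rw [Submodule.mem_bot, Submodule.mkQ_apply, Submodule.Quotient.mk_eq_zero]
      exact hb x hx
    · intro y
      obtain ⟨y, rfl⟩ := Submodule.mkQ_surjective _ y
      obtain ⟨x, hx⟩ := ha y
      refine ⟨Submodule.Quotient.mk x, ?_⟩
      rw [Submodule.mapQ_apply, Submodule.mkQ_apply, eq_comm, Submodule.Quotient.eq]
      exact hx
  have hcomm : (quotTensorEquivQuotSMul N I).toLinearMap ∘ₗ f.lTensor (R ⧸ I) =
      (Submodule.mapQ _ _ f hle) ∘ₗ (quotTensorEquivQuotSMul M I).toLinearMap := by
    apply TensorProduct.ext'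
    intro r m
    obtain ⟨r, rfl⟩ := Ideal.Quotient.mk_surjective r
    simp
  have h1 : Function.Bijective ((quotTensorEquivQuotSMul N I).toLinearMap ∘ₗ f.lTensor (R ⧸ I)) := by
    rw [hcomm]
    exact hg.comp (quotTensorEquivQuotSMul M I).bijective
  have h2 : f.lTensor (R ⧸ I) =
      (quotTensorEquivQuotSMul N I).symm.toLinearMap ∘ₗ
        ((quotTensorEquivQuotSMul N I).toLinearMap ∘ₗ f.lTensor (R ⧸ I)) := by
    ext x; simp
  rw [h2]
  exact (quotTensorEquivQuotSMul N I).symm.bijective.comp h1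

theorem flat_quotient_of_lTensor_bijective {R : Type*} [CommRing R] (I : Ideal R) {M N : Type*}
    [AddCommGroup M] [AddCommGroup N] [Module R M] [Module R N] (f : M →ₗ[R] N)
    (hf : Function.Bijective (f.lTensor (R ⧸ I))) [Module.Flat R M] :
    Module.Flat (R ⧸ I) ((R ⧸ I) ⊗[R] N) := by
  have hb : Function.Bijective (f.baseChange (R ⧸ I)) := by
    have : ⇑(f.baseChange (R ⧸ I)) = ⇑(f.lTensor (R ⧸ I)) := by
      ext x; rfl
    rw [this]; exact hf
  exact Module.Flat.of_linearEquiv (LinearEquiv.ofBijective (f.baseChange (R ⧸ I)) hb).symm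


theorem flat_adicCompletion {R T : Type u} [CommRing R] [IsNoetherianRing R] [CommRing T]
    [Algebra R T] [Module.Flat R T] (𝔪 : Ideal R)
    [IsNoetherianRing (AdicCompletion (𝔪.map (algebraMap R T)) T)] :
    Module.Flat R (AdicCompletion (𝔪.map (algebraMap R T)) T) := by
  have fg : (𝔪.map (algebraMap R T)).FG := (Ideal.fg_of_isNoetherianRing 𝔪).map _
  haveI := AdicCompletion.isAdicComplete_self (𝔪.map (algebraMap R T)) fg
  have hmap : ∀ n : ℕ, (𝔪 ^ n).map (algebraMap R (AdicCompletion (𝔪.map (algebraMap R T)) T)) =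
      ((𝔪.map (algebraMap R T)) ^ n).map
        (algebraMap T (AdicCompletion (𝔪.map (algebraMap R T)) T)) := by
    intro n
    rw [← Ideal.map_pow, Ideal.map_map]
    rfl
  refine Groth.Agent.H1.flat_of_forall_flat_quotient_pow (A := R)
    (B := AdicCompletion (𝔪.map (algebraMap R T)) T)
    (M := AdicCompletion (𝔪.map (algebraMap R T)) T) 𝔪 ?_ ?_
  · have := hmap 1
    rw [pow_one, pow_one] at this
    rw [this]
    exact IsAdicComplete.le_jacobson_bot _
  · intro n hn
    let f : T →ₗ[R] AdicCompletion (𝔪.map (algebraMap R T)) T :=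
      (Algebra.linearMap T (AdicCompletion (𝔪.map (algebraMap R T)) T)).restrictScalars R
    refine flat_quotient_of_lTensor_bijective (𝔪 ^ n) f (lTensor_quotient_bijective _ f ?_ ?_)
    · intro y
      obtain ⟨s, hs⟩ := AdicFS.exists_sub_mem (𝔪.map (algebraMap R T)) fg n y
      refine ⟨s, ?_⟩
      rw [Ideal.smul_top_eq_map, Submodule.restrictScalars_mem, hmap]
      exact hs
    · intro x hx
      rw [Ideal.smul_top_eq_map, Submodule.restrictScalars_mem, hmap,
        AdicFS.mem_map_pow_iff _ fg] at hx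
      have h2 : (AdicCompletion.evalₐ (𝔪.map (algebraMap R T)) n) (f x) =
          Ideal.Quotient.mk _ x := AdicCompletion.evalₐ_of _ n x
      rw [h2, Ideal.Quotient.eq_zero_iff_mem, ← Ideal.map_pow] at hx
      rw [Ideal.smul_top_eq_map, Submodule.restrictScalars_mem]
      exact hx

end Groth.Agent.H5.FL
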