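import Mathlib
import Groth.Agent.Lib.Helper5.CA.FL1
import Groth.Agent.Lib.Helper5.CA.FL2
import Groth.Agent.Lib.Helper5.CA.FL3
import Groth.Agent.S0543

set_option autoImplicit false
universe u

open IsLocalRing TensorProduct

namespace Groth.Agent.H5.FL

theorem isNoetherianRing_of_complete (B : Type u) [CommRing B] [IsLocalRing B]
    [IsAdicComplete (maximalIdeal B) B] (hfg : (maximalIdeal B).FG) : IsNoetherianRing B := by
  obtain ⟨Λ, _, n, f, hΛ, hf⟩ := Cohen9.cohen_structure B hfg
  haveI : IsNoetherianRing Λ := by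
    rcases hΛ with hf | ⟨hdom, hdvr, -⟩
    · letI := hf.toField; infer_instance
    · infer_instance
  exact isNoetherianRing_of_surjective _ _ f hf

theorem completion_of_maximal {T : Type u} [CommRing T] (J : Ideal T) [J.IsMaximal] (fg : J.FG) :
    ∃ (_ : IsLocalRing (AdicCompletion J T)),
      maximalIdeal (AdicCompletion J T) = J.map (algebraMap T (AdicCompletion J T)) ∧
      IsAdicComplete (maximalIdeal (AdicCompletion J T)) (AdicCompletion J T) ∧
      IsNoetherianRing (AdicCompletion J T) := by
  haveI hmax := AdicCompletion.isMaximal_map_of_le J J le_rfl fg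
  haveI hc := AdicCompletion.isAdicComplete_self J fg
  haveI hloc : IsLocalRing (AdicCompletion J T) :=
    isLocalRing_of_isAdicComplete_maximal (J.map (algebraMap T (AdicCompletion J T)))
  have hm : maximalIdeal (AdicCompletion J T) = J.map (algebraMap T (AdicCompletion J T)) :=
    (IsLocalRing.eq_maximalIdeal hmax).symm
  haveI hc' : IsAdicComplete (maximalIdeal (AdicCompletion J T)) (AdicCompletion J T) := by
    rw [hm]; exact hc
  refine ⟨hloc, hm, hc', ?_⟩
  exact isNoetherianRing_of_complete _ (by rw [hm]; exact fg.map _)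


theorem exists_flat_complete_of_complete (R : Type u) [CommRing R] [IsLocalRing R]
    [IsNoetherianRing R] [IsAdicComplete (maximalIdeal R) R] (K : Type u) [Field K]
    (j : ResidueField R →+* K) :
    ∃ (B : Type u) (_ : CommRing B) (_ : IsLocalRing B) (_ : Algebra R B),
      IsNoetherianRing B ∧ IsAdicComplete (maximalIdeal B) B ∧ Module.Flat R B ∧
      (maximalIdeal R).map (algebraMap R B) = maximalIdeal B ∧
      ∃ ψ : B →+* K, Function.Surjective ψ ∧ RingHom.ker ψ = maximalIdeal B ∧
        ∀ r : R, ψ (algebraMap R B r) = j (residue R r) := by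
  obtain ⟨Λ, Λ', _, _, _, _, v, w, ε', hv, hw, hmax, hcomp⟩ := exists_coefPair R K j
  letI : Algebra Λ R := v.toAlgebra
  letI : Algebra Λ Λ' := w.toAlgebra
  haveI : Module.Flat Λ Λ' := hw
  obtain ⟨φ, hφs, hφk, hφc⟩ := tensor_quotient j ε' hv hmax hcomp
  haveI hJmax : ((maximalIdeal R).map (algebraMap R (R ⊗[Λ] Λ'))).IsMaximal := by
    rw [← hφk]; exact RingHom.ker_isMaximal_of_surjective φ hφs
  have fg : ((maximalIdeal R).map (algebraMap R (R ⊗[Λ] Λ'))).FG :=
    (Ideal.fg_of_isNoetherianRing _).map _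
  obtain ⟨hloc, hm, hc, hN⟩ := completion_of_maximal _ fg
  haveI : Module.Flat R (R ⊗[Λ] Λ') := inferInstance
  haveI : Module.Flat R (AdicCompletion ((maximalIdeal R).map (algebraMap R (R ⊗[Λ] Λ')))
      (R ⊗[Λ] Λ')) := flat_adicCompletion (maximalIdeal R)
  refine ⟨AdicCompletion ((maximalIdeal R).map (algebraMap R (R ⊗[Λ] Λ'))) (R ⊗[Λ] Λ'),
    inferInstance, hloc, inferInstance, hN, hc, inferInstance, ?_, ?_⟩
  · rw [hm, Ideal.map_map]; rfl
  · let lft : (R ⊗[Λ] Λ') ⧸ ((maximalIdeal R).map (algebraMap R (R ⊗[Λ] Λ'))) →+* K :=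
      Ideal.Quotient.lift _ φ (fun x hx => by rw [← hφk] at hx; exact hx)
    have hlinj : Function.Injective lft := by
      rw [injective_iff_map_eq_zero]
      intro y hy
      obtain ⟨x, rfl⟩ := Ideal.Quotient.mk_surjective y
      rw [Ideal.Quotient.eq_zero_iff_mem, ← hφk]
      exact hy
    refine ⟨lft.comp (AdicCompletion.evalOneₐ _).toRingHom, ?_, ?_, ?_⟩
    · intro y
      obtain ⟨x, hx⟩ := hφs y
      obtain ⟨z, hz⟩ := AdicCompletion.evalOneₐ_surjective
        ((maximalIdeal R).map (algebraMap R (R ⊗[Λ] Λ'))) (Ideal.Quotient.mk _ x)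
      refine ⟨z, ?_⟩
      rw [RingHom.comp_apply]
      show lft (AdicCompletion.evalOneₐ _ z) = y
      rw [hz]
      exact hx
    · rw [hm, ← AdicCompletion.ker_evalOneₐ_eq_map _ fg]
      ext x
      rw [RingHom.mem_ker, RingHom.mem_ker, RingHom.comp_apply, map_eq_zero_iff _ hlinj]
    · intro r
      rw [← hφc]
      rfl


theorem exists_flat_complete (A : Type u) [CommRing A] [IsLocalRing A] [IsNoetherianRing A]
    (K : Type u) [Field K] [Algebra (ResidueField A) K] :
    ∃ (B : Type u) (_ : CommRing B) (_ : IsLocalRing B) (_ : Algebra A B),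
      IsNoetherianRing B ∧ IsAdicComplete (maximalIdeal B) B ∧ Module.Flat A B ∧
      (maximalIdeal A).map (algebraMap A B) = maximalIdeal B ∧
      ∃ ψ : B →+* K, Function.Surjective ψ ∧ RingHom.ker ψ = maximalIdeal B ∧
        ∀ a : A, ψ (algebraMap A B a) = algebraMap (ResidueField A) K (residue A a) := by
  haveI : IsNoetherianRing (AdicCompletion (maximalIdeal A) A) := Groth.Agent.S0543.result A _
  have hbij := AdicCompletion.residueField_map_bijective A
  let e : ResidueField A ≃+* ResidueField (AdicCompletion (maximalIdeal A) A) :=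
    RingEquiv.ofBijective _ hbij
  let j : ResidueField (AdicCompletion (maximalIdeal A) A) →+* K :=
    (algebraMap (ResidueField A) K).comp (e.symm : _ →+* ResidueField A)
  obtain ⟨B, _, _, _, hN, hc, hfl, hm, ψ, hψs, hψk, hψc⟩ :=
    exists_flat_complete_of_complete (AdicCompletion (maximalIdeal A) A) K j
  letI : Algebra A B :=
    ((algebraMap (AdicCompletion (maximalIdeal A) A) B).comp
      (algebraMap A (AdicCompletion (maximalIdeal A) A))).toAlgebra
  haveI : IsScalarTower A (AdicCompletion (maximalIdeal A) A) B :=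
    IsScalarTower.of_algebraMap_eq (fun _ => rfl)
  haveI : Module.Flat A B := Module.Flat.trans A (AdicCompletion (maximalIdeal A) A) B
  refine ⟨B, inferInstance, inferInstance, inferInstance, hN, hc, inferInstance, ?_, ψ, hψs, hψk,
    ?_⟩
  · rw [← hm, AdicCompletion.maximalIdeal_eq_map, Ideal.map_map]
    rfl
  · intro a
    have h1 : algebraMap A B a = algebraMap (AdicCompletion (maximalIdeal A) A) B
        (algebraMap A (AdicCompletion (maximalIdeal A) A) a) := rfl
    rw [h1, hψc]
    have h2 : residue (AdicCompletion (maximalIdeal A) A)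
        (algebraMap A (AdicCompletion (maximalIdeal A) A) a) = e (residue A a) := rfl
    rw [h2]
    simp [j]

end Groth.Agent.H5.FL
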