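import Groth.Agent.Lib.Helper5.CA.UnivThickDer
import Mathlib.RingTheory.Unramified.Basic
import Mathlib.RingTheory.Kaehler.Basic
import Mathlib.RingTheory.TensorProduct.Basic
import Mathlib.LinearAlgebra.TensorProduct.RightExactness

set_option autoImplicit false
universe u

open TensorProduct KaehlerDifferential

namespace Groth.Agent.H5.CA

/-- upgrade an additive derivation vanishing on the image of `R` to an `R`-derivation. -/
def derivationOfInt {R B' N : Type*} [CommRing R] [CommRing B'] [Algebra R B'] [AddCommGroup N]
    [Module B' N] [Module R N] [IsScalarTower R B' N] (D : Derivation ℤ B' N)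
    (hD : ∀ r, D (algebraMap R B' r) = 0) : Derivation R B' N :=
  Derivation.mk'
    { toFun := D
      map_add' := map_add D
      map_smul' := fun r b => by
        rw [Algebra.smul_def, D.leibniz, hD, smul_zero, add_zero, RingHom.id_apply,
          algebraMap_smul] }
    (fun a b => D.leibniz a b)

@[simp] lemma derivationOfInt_apply {R B' N : Type*} [CommRing R] [CommRing B'] [Algebra R B']
    [AddCommGroup N] [Module B' N] [Module R N] [IsScalarTower R B' N] (D : Derivation ℤ B' N)
    (hD : ∀ r, D (algebraMap R B' r) = 0) (b : B') : derivationOfInt D hD b = D b := rfl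

section

variable {A : Type u} [CommRing A] {B : Type u} [CommRing B]
    [Algebra A B] {B' : Type u} [CommRing B'] [Algebra A B']
    [Algebra B' B] [IsScalarTower A B' B]

theorem formallyUnramified_of_isUnivThickeningRing
    (h : OmegaSh.IsUnivThickeningRing A B B' (IsScalarTower.toAlgHom A B' B)) :
    Algebra.FormallyUnramified A B' := by
  constructor
  let K : Ideal B' := RingHom.ker (algebraMap B' B)
  let W : Submodule B' Ω[B'⁄A] := K • ⊤
  let N := Ω[B'⁄A] ⧸ W
  letI : Module B'ᵐᵒᵖ N := Module.compHom _ ((RingHom.id B').fromOpposite mul_comm)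
  haveI : IsCentralScalar B' N := ⟨fun r m => rfl⟩
  have hN : ∀ k : B', (IsScalarTower.toAlgHom A B' B) k = 0 → ∀ n : N, k • n = 0 := by
    intro k hk n
    obtain ⟨ω, rfl⟩ := Submodule.mkQ_surjective W n
    rw [← map_smul, Submodule.mkQ_apply, Submodule.Quotient.mk_eq_zero]
    exact Submodule.smul_mem_smul hk Submodule.mem_top
  let D₁ : Derivation ℤ B' N := (W.mkQ.compDer (D A B')).restrictScalars ℤ
  have h12 : ∀ a, D₁ (algebraMap A B' a) = (0 : Derivation ℤ B' N) (algebraMap A B' a) := by
    intro a
    show W.mkQ (D A B' (algebraMap A B' a)) = 0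
    rw [Derivation.map_algebraMap, map_zero]
  have hD := derivation_ext_of_isUnivThickeningRing h hN D₁ 0 h12
  have hmem : ∀ b, D A B' b ∈ W := by
    intro b
    have := DFunLike.congr_fun hD b
    exact (Submodule.Quotient.mk_eq_zero W).mp this
  have htop : (⊤ : Submodule B' Ω[B'⁄A]) ≤ W := by
    rw [← KaehlerDifferential.span_range_derivation, Submodule.span_le]
    rintro _ ⟨b, rfl⟩
    exact hmem b
  have hK : K * K = ⊥ := by
    have := h.2.1
    rw [pow_two] at this
    exact this
  have hW : W = ⊥ := by
    have h1 : W = K • W := by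
      conv_lhs => rw [show W = K • ⊤ from rfl, ← top_le_iff.mp htop]
    rw [h1, show W = K • ⊤ from rfl, ← Submodule.mul_smul, hK, Submodule.bot_smul]
  rw [hW, top_le_iff] at htop
  exact (Submodule.subsingleton_iff B').mp (subsingleton_of_bot_eq_top htop)

end

end Groth.Agent.H5.CA

namespace Groth.Agent.H5.CA

section

variable (R : Type u) [CommRing R] {A : Type u} [CommRing A] [Algebra R A] {B : Type u} [CommRing B]
    [Algebra A B] {B' : Type u} [CommRing B'] [Algebra A B']
    [Algebra R B'] [IsScalarTower R A B'] [Algebra B' B] [IsScalarTower A B' B]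

theorem kaehler_baseChange_bijective_of_isUnivThickeningRing
    (h : OmegaSh.IsUnivThickeningRing A B B' (IsScalarTower.toAlgHom A B' B)) :
    Function.Bijective ((KaehlerDifferential.mapBaseChange R A B').baseChange B) := by
  haveI := formallyUnramified_of_isUnivThickeningRing h
  constructor
  · -- injective
    let N₀ := B ⊗[B'] (B' ⊗[A] Ω[A⁄R])
    letI : Module B'ᵐᵒᵖ N₀ := Module.compHom _ ((RingHom.id B').fromOpposite mul_comm)
    haveI : IsCentralScalar B' N₀ := ⟨fun r m => rfl⟩
    have hN : ∀ k : B', (IsScalarTower.toAlgHom A B' B) k = 0 → ∀ n : N₀, k • n = 0 := by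
      intro k hk n
      rw [← algebraMap_smul B k n]
      have : algebraMap B' B k = 0 := hk
      rw [this, zero_smul]
    let ι : Ω[A⁄R] →ₗ[A] N₀ :=
      ((TensorProduct.mk B' B (B' ⊗[A] Ω[A⁄R]) 1).restrictScalars A).comp
        (TensorProduct.mk A B' Ω[A⁄R] 1)
    let δ₀ : Derivation ℤ A N₀ := ι.compDer ((D R A).restrictScalars ℤ)
    have hδ₀ : ∀ a, δ₀ a = (1 : B) ⊗ₜ[B'] ((1 : B') ⊗ₜ[A] (D R A a)) := fun a => rfl
    obtain ⟨D', hD'⟩ := exists_derivation_extension_of_isUnivThickeningRing h hN δ₀
    letI : Module R N₀ := Module.compHom N₀ (algebraMap R B')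
    haveI : IsScalarTower R B' N₀ := ⟨fun r b n => by
      show (r • b) • n = (algebraMap R B' r) • (b • n)
      rw [Algebra.smul_def, mul_smul]⟩
    have hD'R : ∀ r, D' (algebraMap R B' r) = 0 := by
      intro r
      rw [IsScalarTower.algebraMap_apply R A B', hD', hδ₀, Derivation.map_algebraMap,
        tmul_zero, tmul_zero]
    let DR : Derivation R B' N₀ := derivationOfInt D' hD'R
    let L : Ω[B'⁄R] →ₗ[B'] N₀ := DR.liftKaehlerDifferential
    let ρ : B ⊗[B'] Ω[B'⁄R] →ₗ[B] N₀ := L.liftBaseChange B
    have h1 : ∀ ω : Ω[A⁄R], L (KaehlerDifferential.map R R A B' ω) =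
        (1 : B) ⊗ₜ[B'] ((1 : B') ⊗ₜ[A] ω) := by
      intro ω
      have hω : ω ∈ Submodule.span A (Set.range (D R A)) := by
        rw [KaehlerDifferential.span_range_derivation]; trivial
      induction hω using Submodule.span_induction with
      | mem x hx =>
        obtain ⟨a, rfl⟩ := hx
        rw [KaehlerDifferential.map_D, Derivation.liftKaehlerDifferential_comp_D]
        exact hD' a
      | zero => rw [map_zero, map_zero, tmul_zero, tmul_zero]
      | add x y _ _ hx hy => rw [map_add, map_add, hx, hy, tmul_add, tmul_add]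
      | smul a x _ hx =>
        rw [map_smul, ← algebraMap_smul B' a, map_smul, hx, tmul_smul, algebraMap_smul,
          ← tmul_smul]
    have h2 : ∀ y : B' ⊗[A] Ω[A⁄R], L (KaehlerDifferential.mapBaseChange R A B' y) =
        (1 : B) ⊗ₜ[B'] y := by
      intro y
      induction y using TensorProduct.induction_on with
      | zero => rw [map_zero, map_zero, tmul_zero]
      | tmul b ω =>
        rw [KaehlerDifferential.mapBaseChange_tmul, map_smul, h1, ← tmul_smul, smul_tmul',
          smul_eq_mul, mul_one]
      | add x y hx hy => rw [map_add, map_add, hx, hy, tmul_add]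
    have hρ : ∀ x, ρ ((mapBaseChange R A B').baseChange B x) = x := by
      intro x
      induction x using TensorProduct.induction_on with
      | zero => rw [map_zero, map_zero]
      | tmul b y =>
        rw [LinearMap.baseChange_tmul, LinearMap.liftBaseChange_tmul, h2, smul_tmul',
          smul_eq_mul, mul_one]
      | add x y hx hy => rw [map_add, map_add, hx, hy]
    exact Function.LeftInverse.injective hρ
  · -- surjective
    rw [LinearMap.baseChange_eq_ltensor]
    apply LinearMap.lTensor_surjective
    rw [← LinearMap.range_eq_top, KaehlerDifferential.range_mapBaseChange, ← top_le_iff]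
    exact fun x _ ↦ Subsingleton.elim _ _

end

end Groth.Agent.H5.CA
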