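import Mathlib
import Groth.Agent.Lib.Helper5.CA.NG36

set_option autoImplicit false
universe u

open IsLocalRing TensorProduct

namespace H5.NG

theorem exists_isLocalization_tensor' (k K S : Type u) [CommRing k] [CommRing K] [Algebra k K]
    [CommRing S] [Algebra k S] (M : Submonoid S) (A : Type u) [CommRing A] [Algebra S A]
    [Algebra k A] [IsScalarTower k S A] [IsLocalization M A] :
    ∃ (_ : Algebra (K ⊗[k] S) (K ⊗[k] A)),
      IsLocalization (M.map (Algebra.TensorProduct.includeRight (R := k) (A := K) (B := S)))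
        (K ⊗[k] A) ∧ IsScalarTower K (K ⊗[k] S) (K ⊗[k] A) ∧
      (algebraMap (K ⊗[k] S) (K ⊗[k] A)).comp
        (Algebra.TensorProduct.includeRight : S →ₐ[k] K ⊗[k] S).toRingHom =
      (Algebra.TensorProduct.includeRight : A →ₐ[k] K ⊗[k] A).toRingHom.comp (algebraMap S A) := by
  let φ : K ⊗[k] S →ₐ[K] K ⊗[k] A :=
    Algebra.TensorProduct.map (AlgHom.id K K) (IsScalarTower.toAlgHom k S A)
  letI : Algebra (K ⊗[k] S) (K ⊗[k] A) := φ.toRingHom.toAlgebra
  have halg : algebraMap (K ⊗[k] S) (K ⊗[k] A) = φ.toRingHom := rfl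
  haveI hst : IsScalarTower K (K ⊗[k] S) (K ⊗[k] A) :=
    IsScalarTower.of_algebraMap_eq (fun x => (φ.commutes x).symm)
  have H : (algebraMap (K ⊗[k] S) (K ⊗[k] A)).comp
      (Algebra.TensorProduct.includeRight : S →ₐ[k] K ⊗[k] S).toRingHom =
      (Algebra.TensorProduct.includeRight : A →ₐ[k] K ⊗[k] A).toRingHom.comp (algebraMap S A) := by
    ext s
    simp [halg, φ]
  exact ⟨inferInstance, IsLocalization.tensorProduct_tensorProduct_right k K M A H, hst, H⟩

set_option maxHeartbeats 1000000 in
/-- **EGA IV 6.7.4.1-type**: `S` regular, `T` geometrically regular over `k`, `S ⊗ T` Noetherian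
⟹ `S ⊗ T` regular. -/
theorem isRegularRing_tensor_of_isGeometricallyRegular (k S T : Type u) [Field k] [CommRing S]
    [CommRing T] [Algebra k S] [Algebra k T] [IsNoetherianRing T] [IsRegularRing S]
    [IsNoetherianRing (S ⊗[k] T)] (hT : CAlg.IsGeometricallyRegular k T) :
    IsRegularRing (S ⊗[k] T) := by
  apply isRegularRing_of_forall_maximal_exists_localization'
  intro n₁ hn₁
  haveI : n₁.IsPrime := hn₁.isPrime
  let ι : T →+* S ⊗[k] T := (Algebra.TensorProduct.includeRight : T →ₐ[k] S ⊗[k] T).toRingHom
  let 𝔮 : Ideal T := n₁.comap ι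
  haveI h𝔮 : 𝔮.IsPrime := Ideal.comap_isPrime ι n₁
  obtain ⟨alg, hloc, hst, H⟩ :=
    exists_isLocalization_tensor' k S T 𝔮.primeCompl (Localization.AtPrime 𝔮)
  refine ⟨_, S ⊗[k] Localization.AtPrime 𝔮, inferInstance, alg, hloc, ?_, ?_⟩
  · rw [Set.disjoint_left]
    rintro _ ⟨s, hs, rfl⟩ hmem
    exact hs hmem
  · intro hp
    haveI : IsNoetherianRing (S ⊗[k] Localization.AtPrime 𝔮) :=
      IsLocalization.isNoetherianRing (𝔮.primeCompl.map
        (Algebra.TensorProduct.includeRight (R := k) (A := S) (B := T))) _ inferInstance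
    have hA : CAlg.IsGeometricallyRegular k (Localization.AtPrime 𝔮) :=
      isGeometricallyRegular_of_isLocalization k T 𝔮.primeCompl _ hT
    have hfs := (isGeometricallyRegular_iff_isAdicFormallySmooth k (Localization.AtPrime 𝔮)).mp hA
    have h' := Groth.Agent.H5.GR.isAdicFormallySmooth_baseChange k S (Localization.AtPrime 𝔮)
      (maximalIdeal (Localization.AtPrime 𝔮)) hfs
    set P : Ideal (S ⊗[k] Localization.AtPrime 𝔮) :=
      n₁.map (algebraMap (S ⊗[k] T) (S ⊗[k] Localization.AtPrime 𝔮)) with hP
    have hle : (maximalIdeal (Localization.AtPrime 𝔮)).map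
        (Algebra.TensorProduct.includeRight : Localization.AtPrime 𝔮 →ₐ[k]
          S ⊗[k] Localization.AtPrime 𝔮).toRingHom ≤ P := by
      rw [← Localization.AtPrime.map_eq_maximalIdeal, Ideal.map_map]
      have H' : (Algebra.TensorProduct.includeRight : Localization.AtPrime 𝔮 →ₐ[k]
          S ⊗[k] Localization.AtPrime 𝔮).toRingHom.comp (algebraMap T (Localization.AtPrime 𝔮)) =
          (algebraMap (S ⊗[k] T) (S ⊗[k] Localization.AtPrime 𝔮)).comp ι := H.symm
      rw [H', ← Ideal.map_map]
      apply Ideal.map_mono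
      rw [Ideal.map_le_iff_le_comap]
    haveI : IsNoetherianRing (Localization.AtPrime P) :=
      IsLocalization.isNoetherianRing P.primeCompl _ inferInstance
    have hcont : ((maximalIdeal (Localization.AtPrime 𝔮)).map
        (Algebra.TensorProduct.includeRight : Localization.AtPrime 𝔮 →ₐ[k]
          S ⊗[k] Localization.AtPrime 𝔮).toRingHom).map
        (algebraMap (S ⊗[k] Localization.AtPrime 𝔮) (Localization.AtPrime P)) ≤
        maximalIdeal (Localization.AtPrime P) := by
      rw [Ideal.map_le_iff_le_comap]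
      have := IsLocalization.AtPrime.comap_maximalIdeal (Localization.AtPrime P) P
      rw [Ideal.under_def] at this
      rw [this]
      exact hle
    have h'' := Groth.Agent.H5.GR.isAdicFormallySmooth_localization S
      (S ⊗[k] Localization.AtPrime 𝔮) (Localization.AtPrime P) P.primeCompl _ _ hcont h'
    -- the prime of S
    let 𝔭 : Ideal S := (maximalIdeal (Localization.AtPrime P)).comap
      (algebraMap S (Localization.AtPrime P))
    haveI h𝔭 : 𝔭.IsPrime := Ideal.comap_isPrime _ _
    have hunits : ∀ s : 𝔭.primeCompl, IsUnit (algebraMap S (Localization.AtPrime P) s) := by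
      intro s
      by_contra hu
      exact s.2 ((mem_maximalIdeal _).mpr hu)
    letI : Algebra (Localization.AtPrime 𝔭) (Localization.AtPrime P) :=
      (IsLocalization.lift (M := 𝔭.primeCompl) (g := algebraMap S (Localization.AtPrime P))
        hunits).toAlgebra
    haveI : IsScalarTower S (Localization.AtPrime 𝔭) (Localization.AtPrime P) :=
      IsScalarTower.of_algebraMap_eq (fun r => by
        rw [RingHom.algebraMap_toAlgebra, IsLocalization.lift_eq])
    haveI : IsLocalHom (algebraMap (Localization.AtPrime 𝔭) (Localization.AtPrime P)) := by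
      have h02 := (local_hom_TFAE (algebraMap (Localization.AtPrime 𝔭) (Localization.AtPrime P))).out 0 2
      rw [h02, ← Localization.AtPrime.map_eq_maximalIdeal, Ideal.map_map,
        ← IsScalarTower.algebraMap_eq, Ideal.map_le_iff_le_comap]
    haveI : Module.Flat S (S ⊗[k] Localization.AtPrime 𝔮) := inferInstance
    haveI : Module.Flat (S ⊗[k] Localization.AtPrime 𝔮) (Localization.AtPrime P) :=
      IsLocalization.flat _ P.primeCompl
    haveI : Module.Flat S (Localization.AtPrime P) :=
      Module.Flat.trans S (S ⊗[k] Localization.AtPrime 𝔮) (Localization.AtPrime P)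
    haveI : Module.Flat (Localization.AtPrime 𝔭) (Localization.AtPrime P) :=
      (Module.flat_iff_of_isLocalization (Localization.AtPrime 𝔭) 𝔭.primeCompl
        (Localization.AtPrime P)).mpr inferInstance
    have h3 := isAdicFormallySmooth_base_localization (R := S) (R' := Localization.AtPrime 𝔭)
      (S := Localization.AtPrime P) 𝔭.primeCompl (maximalIdeal (Localization.AtPrime P)) h''
    exact isRegularLocalRing_of_flat_of_isAdicFormallySmooth (Localization.AtPrime 𝔭)
      (Localization.AtPrime P) h3

end H5.NG
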