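import Mathlib
import Groth.Agent.Lib.Helper5.CA.GR3

set_option autoImplicit false
universe u

open TensorProduct IsLocalRing

namespace Groth.Agent.H5.RegHom

/-- a smooth algebra over a field is a regular ring. -/
theorem isRegularRing_of_smooth_field (F T : Type u) [Field F] [CommRing T] [Algebra F T]
    [Algebra.Smooth F T] : IsRegularRing T := by
  haveI : Algebra.FinitePresentation F T := Algebra.Smooth.finitePresentation
  haveI : Algebra.FiniteType F T := inferInstance
  haveI : IsNoetherianRing T := Algebra.FiniteType.isNoetherianRing F T
  rw [isRegularRing_iff]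
  intro q hq
  haveI : Algebra.FormallySmooth T (Localization.AtPrime q) :=
    Algebra.FormallySmooth.of_isLocalization q.primeCompl
  haveI : Algebra.FormallySmooth F (Localization.AtPrime q) :=
    Algebra.FormallySmooth.comp F T _
  haveI : IsNoetherianRing (Localization.AtPrime q) :=
    IsLocalization.isNoetherianRing q.primeCompl _ inferInstance
  exact GR.isRegularLocalRing_of_isAdicFormallySmooth F _
    (GR.isAdicFormallySmooth_of_formallySmooth F _ _)

/-- a smooth algebra over a field is geometrically regular. -/
theorem isGeometricallyRegular_of_smooth_field (F T : Type u) [Field F] [CommRing T]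
    [Algebra F T] [Algebra.Smooth F T] : CAlg.IsGeometricallyRegular F T := by
  intro F' _ _ _
  exact isRegularRing_of_smooth_field F' (F' ⊗[F] T)

/-- a smooth ring map is regular. -/
theorem isRegularHom_of_smooth (A B : Type u) [CommRing A] [CommRing B] [Algebra A B]
    [Algebra.Smooth A B] : CAlg.IsRegularHom A B := by
  refine ⟨inferInstance, fun p _ => ?_⟩
  haveI : Algebra.Smooth p.ResidueField (p.Fiber B) :=
    inferInstanceAs (Algebra.Smooth p.ResidueField (p.ResidueField ⊗[A] B))
  haveI : Algebra.FinitePresentation p.ResidueField (p.Fiber B) :=
    Algebra.Smooth.finitePresentation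
  haveI : Algebra.FiniteType p.ResidueField (p.Fiber B) := inferInstance
  exact ⟨Algebra.FiniteType.isNoetherianRing p.ResidueField _,
    isGeometricallyRegular_of_smooth_field _ _⟩

end Groth.Agent.H5.RegHom
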