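import Mathlib
import Groth.Agent.Lib.Helper5.CA.RegHom1
import Groth.Agent.S9250

set_option autoImplicit false
universe u

open TensorProduct IsLocalRing

namespace Groth.Agent.H5.RegHom

/-- a smooth algebra over a regular ring is regular. -/
theorem isRegularRing_of_smooth (A B : Type u) [CommRing A] [CommRing B] [Algebra A B]
    [IsRegularRing A] [Algebra.Smooth A B] : IsRegularRing B := by
  haveI : Algebra.FinitePresentation A B := Algebra.Smooth.finitePresentation
  haveI : IsNoetherianRing B := Algebra.FiniteType.isNoetherianRing A B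
  exact Groth.Agent.S9250.result A B (isRegularHom_of_smooth A B)

theorem isGeometricallyRegular_of_smooth (k : Type u) [Field k] (A : Type u) [CommRing A]
    [Algebra k A] [IsNoetherianRing A] (B : Type u) [CommRing B] [Algebra k B] [Algebra A B]
    [IsScalarTower k A B] [Algebra.Smooth A B] (hA : CAlg.IsGeometricallyRegular k A) :
    CAlg.IsGeometricallyRegular k B := by
  intro k' _ _ hfin
  have hA' : IsRegularRing (k' ⊗[k] A) := hA k' hfin
  haveI : IsRegularRing (A ⊗[k] k') :=
    IsRegularRing.of_ringEquiv (Algebra.TensorProduct.comm k k' A).toRingEquiv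
  let φ : A ⊗[k] k' →ₐ[k] B ⊗[k] k' :=
    Algebra.TensorProduct.map (IsScalarTower.toAlgHom k A B) (AlgHom.id k k')
  letI : Algebra (A ⊗[k] k') (B ⊗[k] k') := φ.toRingHom.toAlgebra
  haveI : IsScalarTower A (A ⊗[k] k') (B ⊗[k] k') :=
    IsScalarTower.of_algebraMap_eq (fun a => by
      show _ = φ (a ⊗ₜ 1)
      simp [φ])
  have hpo : Algebra.IsPushout A B (A ⊗[k] k') (B ⊗[k] k') :=
    Algebra.IsPushout.tensorProduct_tensorProduct k k' A B (by
      ext x
      show φ (1 ⊗ₜ x) = _
      simp [φ])
  haveI : Algebra.Smooth (A ⊗[k] k') (B ⊗[k] k') := by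
    haveI := hpo.symm
    exact Algebra.Smooth.of_equiv (Algebra.IsPushout.equiv A (A ⊗[k] k') B (B ⊗[k] k'))
  haveI : IsRegularRing (B ⊗[k] k') := isRegularRing_of_smooth (A ⊗[k] k') _
  exact IsRegularRing.of_ringEquiv (Algebra.TensorProduct.comm k B k').toRingEquiv

end Groth.Agent.H5.RegHom
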