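import Mathlib
import Groth.Agent.Lib.Helper5.CA.RegHom2

set_option autoImplicit false
universe u

open TensorProduct IsLocalRing

namespace Groth.Agent.H5.RegHom

/-- a reduced Artinian ring is regular. -/
theorem isRegularRing_of_isArtinianRing_of_isReduced (T : Type u) [CommRing T] [IsArtinianRing T]
    [IsReduced T] : IsRegularRing T := by
  rw [isRegularRing_iff]
  intro q hq
  have hf : IsField (Localization.AtPrime q) :=
    IsArtinianRing.isField_of_isReduced_of_isLocalRing _
  letI := hf.toField
  infer_instance

attribute [local instance] Algebra.TensorProduct.rightAlgebra in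
theorem isRegularHom_field_iff (k K : Type u) [Field k] [Field K] [Algebra k K] :
    CAlg.IsRegularHom k K ↔ Algebra.IsGeometricallyReduced k K := by
  constructor
  · rintro ⟨-, hfib⟩
    refine ((Groth.Agent.S9634.result (k := k) (S := K)).out 0 1).mp ?_
    intro k' _ _ _ _
    let p : Ideal k := ⊥
    haveI : p.IsPrime := Ideal.bot_prime
    let e₀ := p.algEquivResidueFieldOfField
    letI : Algebra p.ResidueField k' :=
      ((algebraMap k k').comp e₀.symm.toAlgHom.toRingHom).toAlgebra
    haveI : IsScalarTower k p.ResidueField k' := IsScalarTower.of_algebraMap_eq (fun x => by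
      show algebraMap k k' x = algebraMap k k' (e₀.symm (algebraMap k p.ResidueField x))
      have : e₀.symm (algebraMap k p.ResidueField x) = x := by
        rw [← Ideal.algEquivResidueFieldOfField_apply, AlgEquiv.symm_apply_apply]
      rw [this])
    haveI : Module.Finite p.ResidueField k' := Module.Finite.of_restrictScalars_finite k _ _
    haveI : IsRegularRing (k' ⊗[p.ResidueField] p.Fiber K) := (hfib p).2 k' inferInstance
    haveI : IsReduced (k' ⊗[p.ResidueField] p.Fiber K) :=
      GR.isReduced_of_isRegularRing (k' ⊗[p.ResidueField] p.Fiber K)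
    let E := Algebra.TensorProduct.cancelBaseChange k p.ResidueField k' k' K
    exact isReduced_of_injective E.symm.toRingEquiv.toRingHom E.symm.injective
  · intro hgr
    refine ⟨inferInstance, fun p _ => ?_⟩
    haveI : Module.Finite K (p.Fiber K) :=
      Module.Finite.equiv (Algebra.TensorProduct.commRight k K p.ResidueField).toLinearEquiv
    haveI : IsArtinianRing (p.Fiber K) := IsArtinianRing.of_finite K _
    refine ⟨inferInstance, ?_⟩
    intro κ' _ _ hfin
    haveI := hfin
    letI : Algebra k κ' := ((algebraMap p.ResidueField κ').comp (algebraMap k p.ResidueField)).toAlgebra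
    haveI : IsScalarTower k p.ResidueField κ' := IsScalarTower.of_algebraMap_eq (fun _ => rfl)
    haveI : Module.Finite (p.Fiber K) (κ' ⊗[p.ResidueField] p.Fiber K) :=
      Module.Finite.equiv (Algebra.TensorProduct.commRight p.ResidueField (p.Fiber K) κ').toLinearEquiv
    haveI : IsArtinianRing (κ' ⊗[p.ResidueField] p.Fiber K) := IsArtinianRing.of_finite (p.Fiber K) _
    have h12 : Algebra.IsGeometricallyReduced k K →
        ∀ (K' : Type u) [Field K'] [Algebra k K'], IsReduced (K' ⊗[k] K) :=
      ((Groth.Agent.S9634.result (k := k) (S := K)).out 1 2).mp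
    haveI : IsReduced (κ' ⊗[k] K) := h12 hgr κ'
    let E := Algebra.TensorProduct.cancelBaseChange k p.ResidueField κ' κ' K
    haveI : IsReduced (κ' ⊗[p.ResidueField] p.Fiber K) :=
      isReduced_of_injective E.toRingEquiv.toRingHom E.injective
    exact isRegularRing_of_isArtinianRing_of_isReduced _

end Groth.Agent.H5.RegHom
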