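import Mathlib
import Groth.Agent.S0499
import Groth.Agent.S17982
import Groth.Agent.Lib.Helper9.ChevMod
import Groth.Agent.Lib.Helper9.CompleteDVRExt
import Groth.Agent.Lib.Helper1.Henselian

set_option autoImplicit false
universe u

open IsLocalRing

namespace Groth.Agent.H5.FinCL

/-- completeness transfers between ideals defining the same adic topology. -/
theorem isAdicComplete_of_le_of_pow_le {R : Type*} [CommRing R] {M : Type*} [AddCommGroup M]
    [Module R M] (I J : Ideal R) [h : IsAdicComplete I M] (hIJ : I ≤ J) (N : ℕ)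
    (hN : J ^ N ≤ I) : IsAdicComplete J M := by
  rcases Nat.eq_zero_or_pos N with rfl | hNpos
  · have hI : I = ⊤ := by rw [pow_zero, Ideal.one_eq_top] at hN; exact top_le_iff.mp hN
    have hJ : J = ⊤ := top_le_iff.mp (hI ▸ hIJ)
    rw [hJ, ← hI]; exact h
  have hmono : ∀ {a b : ℕ}, a ≤ b → (J ^ b • ⊤ : Submodule R M) ≤ J ^ a • ⊤ := fun hab =>
    Submodule.smul_mono_left (Ideal.pow_le_pow_right hab)
  have hJI : ∀ n : ℕ, (J ^ (N * n) • ⊤ : Submodule R M) ≤ I ^ n • ⊤ := fun n => by
    rw [pow_mul]
    exact Submodule.smul_mono_left (Ideal.pow_right_mono hN n)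
  have hIJ' : ∀ n : ℕ, (I ^ n • ⊤ : Submodule R M) ≤ J ^ n • ⊤ := fun n =>
    Submodule.smul_mono_left (Ideal.pow_right_mono hIJ n)
  have hle : ∀ n : ℕ, n ≤ N * n := fun n => Nat.le_mul_of_pos_left n hNpos
  refine { haus' := ?_, prec' := ?_ }
  · intro x hx
    apply h.toIsHausdorff.haus x
    intro n
    rw [SModEq.zero]
    have := hx (N * n)
    rw [SModEq.zero] at this
    exact hJI n this
  · intro f hf
    let g : ℕ → M := fun n => f (N * n)
    have hg : ∀ {m n : ℕ}, m ≤ n → g m ≡ g n [SMOD (I ^ m • ⊤ : Submodule R M)] := by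
      intro m n hmn
      have h1 := hf (Nat.mul_le_mul_left N hmn)
      rw [SModEq.sub_mem] at h1 ⊢
      exact hJI m h1
    obtain ⟨L, hL⟩ := h.toIsPrecomplete.prec hg
    refine ⟨L, fun n => ?_⟩
    have h1 : f n ≡ f (N * n) [SMOD (J ^ n • ⊤ : Submodule R M)] := hf (hle n)
    have h2 : f (N * n) ≡ L [SMOD (J ^ n • ⊤ : Submodule R M)] := by
      have := hL n
      rw [SModEq.sub_mem] at this ⊢
      exact hIJ' n this
    exact h1.trans h2

end Groth.Agent.H5.FinCL

namespace Groth.Agent.H5.FinCL

theorem finite_over_complete (R : Type u) [CommRing R] [IsLocalRing R] [IsNoetherianRing R]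
    [IsAdicComplete (maximalIdeal R) R] (S : Type u) [CommRing S] [Algebra R S]
    [Module.Finite R S] :
    Finite (MaximalSpectrum S) ∧
      Function.Bijective
        (algebraMap S ((m : MaximalSpectrum S) → Localization.AtPrime m.asIdeal)) ∧
      ∀ m : MaximalSpectrum S, IsNoetherianRing (Localization.AtPrime m.asIdeal) ∧
        IsAdicComplete (maximalIdeal (Localization.AtPrime m.asIdeal))
          (Localization.AtPrime m.asIdeal) := by
  classical
  haveI : HenselianLocalRing R := H1.henselianLocalRing_of_henselianRing_maximalIdeal R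
  have hdec := Groth.Agent.S0499.result R S
  have hbij := (Groth.Agent.S17982.result R S).mp hdec
  haveI : IsNoetherianRing S := IsNoetherianRing.of_finite R S
  refine ⟨H9.FinLocal.finite_maximalSpectrum R S, hbij, fun m =>
    ⟨IsLocalization.isNoetherianRing m.asIdeal.primeCompl _ inferInstance, ?_⟩⟩
  have hsurj : Function.Surjective (algebraMap S (Localization.AtPrime m.asIdeal)) := by
    intro y
    obtain ⟨x, hx⟩ := hbij.2 (Pi.single m y)
    refine ⟨x, ?_⟩
    have := congrFun hx m
    simpa using this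
  haveI : Module.Finite R (Localization.AtPrime m.asIdeal) :=
    Module.Finite.of_surjective
      (IsScalarTower.toAlgHom R S (Localization.AtPrime m.asIdeal)).toLinearMap hsurj
  haveI : IsAdicComplete (maximalIdeal R) (Localization.AtPrime m.asIdeal) :=
    H9.ChevMod.isAdicComplete_of_finite R (maximalIdeal R) _
  haveI h1 : IsAdicComplete ((maximalIdeal R).map
      (algebraMap R (Localization.AtPrime m.asIdeal))) (Localization.AtPrime m.asIdeal) :=
    H9.CDVR.isAdicComplete_map _
  have hIJ : (maximalIdeal R).map (algebraMap R (Localization.AtPrime m.asIdeal)) ≤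
      maximalIdeal (Localization.AtPrime m.asIdeal) :=
    H9.FinLocal.map_le_of_isMaximal R _ _
  haveI : IsArtinianRing (Localization.AtPrime m.asIdeal ⧸
      (maximalIdeal R).map (algebraMap R (Localization.AtPrime m.asIdeal))) :=
    H9.FinLocal.artinian_quot R _
  set I := (maximalIdeal R).map (algebraMap R (Localization.AtPrime m.asIdeal)) with hI
  have hjac : (maximalIdeal (Localization.AtPrime m.asIdeal)).map (Ideal.Quotient.mk I) ≤
      Ideal.jacobson (⊥ : Ideal (Localization.AtPrime m.asIdeal ⧸ I)) := by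
    rw [Ideal.jacobson]
    refine le_sInf ?_
    rintro n ⟨-, hn⟩
    have := Ideal.comap_isMaximal_of_surjective (Ideal.Quotient.mk I)
      Ideal.Quotient.mk_surjective (K := n)
    rw [Ideal.map_le_iff_le_comap, IsLocalRing.eq_maximalIdeal this]
  obtain ⟨N, hN⟩ := IsArtinianRing.isNilpotent_jacobson_bot
    (R := Localization.AtPrime m.asIdeal ⧸ I)
  have hJN : maximalIdeal (Localization.AtPrime m.asIdeal) ^ N ≤ I := by
    have h2 : (maximalIdeal (Localization.AtPrime m.asIdeal) ^ N).map (Ideal.Quotient.mk I) = ⊥ := by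
      rw [Ideal.map_pow, eq_bot_iff, ← Ideal.zero_eq_bot, ← hN]
      exact Ideal.pow_right_mono hjac N
    rw [Ideal.map_eq_bot_iff_le_ker, Ideal.mk_ker] at h2
    exact h2
  exact isAdicComplete_of_le_of_pow_le I _ hIJ N hJN

end Groth.Agent.H5.FinCL
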