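import Groth.Agent.Lib.Helper5.CA.AdicFS3

set_option autoImplicit false
universe u

namespace Groth.Agent.H5.AdicFS

open AdicCompletion

/-- two ring maps out of a completion which are continuous and agree on the ring are equal. -/
theorem ringHom_ext_of_continuous {R D : Type u} [CommRing R] [CommRing D] (𝔪 : Ideal R)
    (fg : 𝔪.FG) (f₁ f₂ : AdicCompletion 𝔪 R →+* D) (n₁ n₂ : ℕ)
    (h₁ : ∀ x ∈ (𝔪 ^ n₁).map (algebraMap R (AdicCompletion 𝔪 R)), f₁ x = 0)
    (h₂ : ∀ x ∈ (𝔪 ^ n₂).map (algebraMap R (AdicCompletion 𝔪 R)), f₂ x = 0)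
    (h : ∀ r : R, f₁ (algebraMap R (AdicCompletion 𝔪 R) r) =
      f₂ (algebraMap R (AdicCompletion 𝔪 R) r)) : f₁ = f₂ := by
  ext x
  obtain ⟨s, hs⟩ := exists_sub_mem 𝔪 fg (max n₁ n₂) x
  have e1 := h₁ _ (Ideal.map_mono (Ideal.pow_le_pow_right (le_max_left n₁ n₂)) hs)
  have e2 := h₂ _ (Ideal.map_mono (Ideal.pow_le_pow_right (le_max_right n₁ n₂)) hs)
  rw [_root_.map_sub, sub_eq_zero] at e1 e2
  rw [e1, e2, h]

theorem isAdicFormallySmooth_base_completion_iff {R T : Type u} [CommRing R] [CommRing T]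
    (𝔪 : Ideal R) (fg : 𝔪.FG) [Algebra R T] [Algebra (AdicCompletion 𝔪 R) T]
    [IsScalarTower R (AdicCompletion 𝔪 R) T] (𝔑 : Ideal T)
    (hc : ∃ c : ℕ, (𝔪 ^ c).map (algebraMap R T) ≤ 𝔑) :
    CAlgX.IsAdicFormallySmooth R T 𝔑 ↔ CAlgX.IsAdicFormallySmooth (AdicCompletion 𝔪 R) T 𝔑 := by
  obtain ⟨c, hc⟩ := hc
  -- continuity of `R̂ → T`
  have hcont : ∀ m : ℕ, ∀ x ∈ (𝔪 ^ (c * m)).map (algebraMap R (AdicCompletion 𝔪 R)),
      algebraMap (AdicCompletion 𝔪 R) T x ∈ 𝔑 ^ m := by
    intro m x hx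
    have h1 : ((𝔪 ^ (c * m)).map (algebraMap R (AdicCompletion 𝔪 R))).map
        (algebraMap (AdicCompletion 𝔪 R) T) ≤ 𝔑 ^ m := by
      rw [Ideal.map_map, ← IsScalarTower.algebraMap_eq, pow_mul, Ideal.map_pow]
      exact Ideal.pow_right_mono hc m
    exact h1 (Ideal.mem_map_of_mem _ hx)
  constructor
  · intro h A _ _ J hJ φ hφ
    obtain ⟨k, hk⟩ := hφ
    letI : Algebra R A :=
      ((algebraMap (AdicCompletion 𝔪 R) A).comp (algebraMap R (AdicCompletion 𝔪 R))).toAlgebra
    haveI : IsScalarTower R (AdicCompletion 𝔪 R) A := IsScalarTower.of_algebraMap_eq (fun _ => rfl)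
    obtain ⟨χ, hχ⟩ := h A J hJ (φ.restrictScalars R) ⟨k, hk⟩
    obtain ⟨m, hm⟩ := continuous_of_lift J ⟨2, hJ⟩ 𝔑 χ (by rw [hχ]; exact ⟨k, hk⟩)
    have key : χ.toRingHom.comp (algebraMap (AdicCompletion 𝔪 R) T) =
        algebraMap (AdicCompletion 𝔪 R) A := by
      refine ringHom_ext_of_continuous 𝔪 fg _ _ (c * m) (c * k * 2) ?_ ?_ ?_
      · intro x hx
        exact hm _ (hcont m x hx)
      · intro x hx
        have h1 : ((𝔪 ^ (c * k)).map (algebraMap R (AdicCompletion 𝔪 R))).map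
            (algebraMap (AdicCompletion 𝔪 R) A) ≤ J := by
          rw [Ideal.map_le_iff_le_comap]
          intro y hy
          rw [Ideal.mem_comap, ← Ideal.Quotient.eq_zero_iff_mem]
          have : Ideal.Quotient.mk J (algebraMap (AdicCompletion 𝔪 R) A y) =
              φ (algebraMap (AdicCompletion 𝔪 R) T y) := (φ.commutes y).symm
          rw [this]
          exact hk _ (hcont k y hy)
        have h2 : ((𝔪 ^ (c * k * 2)).map (algebraMap R (AdicCompletion 𝔪 R))).map
            (algebraMap (AdicCompletion 𝔪 R) A) ≤ ⊥ := by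
          rw [pow_mul, Ideal.map_pow, Ideal.map_pow, ← hJ]
          exact Ideal.pow_right_mono h1 2
        have := h2 (Ideal.mem_map_of_mem _ hx)
        simpa using this
      · intro r
        show χ (algebraMap (AdicCompletion 𝔪 R) T (algebraMap R (AdicCompletion 𝔪 R) r)) = _
        rw [← IsScalarTower.algebraMap_apply, χ.commutes]
        rfl
    let χ' : T →ₐ[AdicCompletion 𝔪 R] A :=
      { χ.toRingHom with
        commutes' := fun x => congrArg (fun f => f x) key }
    refine ⟨χ', ?_⟩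
    ext t
    exact congrArg (fun f => f t) hχ
  · intro h A _ _ J hJ φ hφ
    obtain ⟨k, hk⟩ := hφ
    have h1 : (𝔪 ^ (c * k)).map (algebraMap R A) ≤ J := by
      rw [Ideal.map_le_iff_le_comap]
      intro r hr
      rw [Ideal.mem_comap, ← Ideal.Quotient.eq_zero_iff_mem]
      have : Ideal.Quotient.mk J (algebraMap R A r) = φ (algebraMap R T r) := (φ.commutes r).symm
      rw [this]
      refine hk _ ?_
      have h2 : (𝔪 ^ (c * k)).map (algebraMap R T) ≤ 𝔑 ^ k := by
        rw [pow_mul, Ideal.map_pow]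
        exact Ideal.pow_right_mono hc k
      exact h2 (Ideal.mem_map_of_mem _ hr)
    have hker : ∀ r ∈ 𝔪 ^ (c * k * 2), (Algebra.ofId R A) r = 0 := by
      intro r hr
      have h2 : (𝔪 ^ (c * k * 2)).map (algebraMap R A) ≤ ⊥ := by
        rw [pow_mul, Ideal.map_pow, ← hJ]
        exact Ideal.pow_right_mono h1 2
      have := h2 (Ideal.mem_map_of_mem _ hr)
      simpa using this
    let gh : AdicCompletion 𝔪 R →ₐ[R] A := extend 𝔪 (Algebra.ofId R A) (c * k * 2) hker
    letI : Algebra (AdicCompletion 𝔪 R) A := gh.toRingHom.toAlgebra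
    haveI : IsScalarTower R (AdicCompletion 𝔪 R) A :=
      IsScalarTower.of_algebraMap_eq (fun r => (gh.commutes r).symm)
    have key : φ.toRingHom.comp (algebraMap (AdicCompletion 𝔪 R) T) =
        algebraMap (AdicCompletion 𝔪 R) (A ⧸ J) := by
      refine ringHom_ext_of_continuous 𝔪 fg _ _ (c * k) (c * k * 2) ?_ ?_ ?_
      · intro x hx
        exact hk _ (hcont k x hx)
      · intro x hx
        show Ideal.Quotient.mk J (gh x) = 0
        rw [extend_eq_zero 𝔪 fg _ _ hker x hx, _root_.map_zero]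
      · intro r
        show φ (algebraMap (AdicCompletion 𝔪 R) T (algebraMap R (AdicCompletion 𝔪 R) r)) =
          Ideal.Quotient.mk J (gh (algebraMap R (AdicCompletion 𝔪 R) r))
        rw [← IsScalarTower.algebraMap_apply, φ.commutes, gh.commutes]
        rfl
    let φ' : T →ₐ[AdicCompletion 𝔪 R] A ⧸ J :=
      { φ.toRingHom with
        commutes' := fun x => congrArg (fun f => f x) key }
    obtain ⟨χ', hχ'⟩ := h A J hJ φ' ⟨k, hk⟩
    refine ⟨χ'.restrictScalars R, ?_⟩
    ext t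
    exact congrArg (fun f => f t) hχ'

end Groth.Agent.H5.AdicFS
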