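import Mathlib

set_option autoImplicit false

namespace Groth.Agent.H5.AdicPow

variable {R : Type*} [CommRing R] (I : Ideal R) (M : Type*) [AddCommGroup M] [Module R M]

theorem pow_pow_smul_le (k : ℕ) (hk : k ≠ 0) (n : ℕ) :
    ((I ^ k) ^ n • ⊤ : Submodule R M) ≤ I ^ n • ⊤ := by
  rw [← pow_mul]
  refine Submodule.smul_mono_left (Ideal.pow_le_pow_right ?_)
  exact Nat.le_mul_of_pos_left n (Nat.pos_of_ne_zero hk)

theorem isAdicComplete_pow [IsAdicComplete I M] (k : ℕ) (hk : k ≠ 0) : IsAdicComplete (I ^ k) M where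
  haus' := by
    intro x hx
    apply IsHausdorff.haus' (I := I)
    intro n
    have h1 := hx n
    rw [SModEq.zero] at h1 ⊢
    exact pow_pow_smul_le I M k hk n h1
  prec' := by
    intro f hf
    obtain ⟨L, hL⟩ := IsPrecomplete.prec' (I := I) f (by
      intro m n hmn
      rw [SModEq.sub_mem]
      have := hf hmn
      rw [SModEq.sub_mem] at this
      exact pow_pow_smul_le I M k hk m this)
    refine ⟨L, fun n => ?_⟩
    rw [SModEq.sub_mem]
    have h1 : f n - f (k * n) ∈ ((I ^ k) ^ n • ⊤ : Submodule R M) := by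
      have := hf (show n ≤ k * n from Nat.le_mul_of_pos_left n (Nat.pos_of_ne_zero hk))
      rw [SModEq.sub_mem] at this
      exact this
    have h2 : f (k * n) - L ∈ ((I ^ k) ^ n • ⊤ : Submodule R M) := by
      have := hL (k * n)
      rw [SModEq.sub_mem] at this
      rw [← pow_mul]
      exact this
    have : f n - L = (f n - f (k * n)) + (f (k * n) - L) := by abel
    rw [this]
    exact Submodule.add_mem _ h1 h2

end Groth.Agent.H5.AdicPow
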