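import Mathlib
import Groth.Prelude.Def_FlatCA

universe u

open TensorProduct

namespace Groth.Agent.H5.CA

section
variable {R : Type u} [CommRing R] {N M : Type u} [AddCommGroup N] [Module R N]
  [AddCommGroup M] [Module R M]

/-- right-hand version of `TensorProduct.eq_zero_of_fg_of_subtype_eq_zero` -/
lemma eq_zero_of_fg_of_lTensor_subtype_eq_zero {P : Submodule R M} (hP : P.FG) (t : N ⊗[R] P)
    (h : LinearMap.lTensor N P.subtype t = 0) :
    ∃ (Q : Submodule R M) (hPQ : P ≤ Q), Q.FG ∧
      LinearMap.lTensor N (Submodule.inclusion hPQ) t = 0 := by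
  have h1 : LinearMap.rTensor N P.subtype (TensorProduct.comm R N P t) = 0 := by
    rw [LinearMap.rTensor_comm, h, map_zero]
  obtain ⟨Q, hPQ, hQ, h2⟩ := TensorProduct.eq_zero_of_fg_of_subtype_eq_zero hP h1
  refine ⟨Q, hPQ, hQ, ?_⟩
  rw [LinearMap.rTensor_comm] at h2
  exact (TensorProduct.comm R N Q).injective (by rw [h2, map_zero])

end

section
variable {R S : Type u} [CommRing R] [CommRing S] [Algebra R S] {N : Type u} [AddCommGroup N]
  [Module S N] [Module R N] [IsScalarTower R S N] {M M' : Type u} [AddCommGroup M] [Module R M]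
  [AddCommGroup M'] [Module R M']

lemma lTensor_smul (f : M' →ₗ[R] M) (s : S) (w : N ⊗[R] M') :
    f.lTensor N (s • w) = s • f.lTensor N w := by
  induction w using TensorProduct.induction_on with
  | zero => simp
  | tmul n m => simp [TensorProduct.smul_tmul']
  | add x y hx hy => rw [smul_add, map_add, hx, hy, map_add, smul_add]

end

end Groth.Agent.H5.CA

namespace Groth.Agent.H5.CA

section
variable {R S : Type u} [CommRing R] [CommRing S] [Algebra R S] (N : Type u) [AddCommGroup N]
  [Module S N] [Module R N] [IsScalarTower R S N] (M : Type u) [AddCommGroup M] [Module R M]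

/-- Finitely many elements of `S` killing the image of `z₀` in `N ⊗ M` already kill its image
in `N ⊗ M''` for a finitely generated `M''`. -/
lemma exists_fg_forall_smul_eq_zero {M₀ : Submodule R M} (hM₀ : M₀.FG) (z₀ : N ⊗[R] M₀)
    (G : Finset S) (hG : ∀ g ∈ G, g • LinearMap.lTensor N M₀.subtype z₀ = 0) :
    ∃ (Q : Submodule R M) (hPQ : M₀ ≤ Q), Q.FG ∧
      ∀ g ∈ G, g • LinearMap.lTensor N (Submodule.inclusion hPQ) z₀ = 0 := by
  classical
  induction G using Finset.induction_on with
  | empty => exact ⟨M₀, le_rfl, hM₀, by simp⟩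
  | insert g G hg ih =>
    obtain ⟨Q₁, h₁, hQ₁, hz₁⟩ := ih (fun g' hg' => hG g' (Finset.mem_insert_of_mem hg'))
    have h0 : LinearMap.lTensor N Q₁.subtype
        (g • LinearMap.lTensor N (Submodule.inclusion h₁) z₀) = 0 := by
      rw [lTensor_smul, ← LinearMap.comp_apply, ← LinearMap.lTensor_comp,
        Submodule.subtype_comp_inclusion]
      exact hG g (Finset.mem_insert_self _ _)
    obtain ⟨Q₂, h₂, hQ₂, hz₂⟩ := eq_zero_of_fg_of_lTensor_subtype_eq_zero hQ₁ _ h0
    refine ⟨Q₂, h₁.trans h₂, hQ₂, ?_⟩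
    have hcomp : LinearMap.lTensor N (Submodule.inclusion (h₁.trans h₂)) z₀ =
        LinearMap.lTensor N (Submodule.inclusion h₂)
          (LinearMap.lTensor N (Submodule.inclusion h₁) z₀) := by
      rw [← LinearMap.comp_apply, ← LinearMap.lTensor_comp]
      rfl
    intro g' hg'
    rw [hcomp, ← lTensor_smul]
    rcases Finset.mem_insert.mp hg' with rfl | hg''
    · exact hz₂
    · rw [hz₁ g' hg'', map_zero]

theorem ass_tensor_fg_of_noetherian [IsNoetherianRing S] (q : Ideal S) [q.IsPrime]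
    (h : q ∈ FlatCA.ass S (N ⊗[R] M)) :
    ∃ M' : Submodule R M, M'.FG ∧ q ∈ FlatCA.ass S (N ⊗[R] ↥M') := by
  classical
  obtain ⟨hq, z, hz⟩ := h
  obtain ⟨M₀, hM₀, hsub⟩ := TensorProduct.exists_finite_submodule_right_of_setFinite
    ({z} : Set (N ⊗[R] M)) (Set.finite_singleton z)
  obtain ⟨z₀, hz₀⟩ := hsub (Set.mem_singleton z)
  rw [Module.Finite.iff_fg] at hM₀
  obtain ⟨G, hGq⟩ := (isNoetherianRing_iff_ideal_fg S).mp ‹_› q
  have hG : ∀ g ∈ G, g • LinearMap.lTensor N M₀.subtype z₀ = 0 := by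
    intro g hg
    rw [hz₀]
    have : g ∈ q := hGq ▸ Ideal.subset_span hg
    rw [hz] at this
    exact (Submodule.mem_annihilator_span_singleton z g).mp this
  obtain ⟨Q, hPQ, hQ, hQz⟩ := exists_fg_forall_smul_eq_zero N M hM₀ z₀ G hG
  refine ⟨Q, hQ, hq, LinearMap.lTensor N (Submodule.inclusion hPQ) z₀, ?_⟩
  apply le_antisymm
  · rw [← hGq, Ideal.span_le]
    intro g hg
    exact (Submodule.mem_annihilator_span_singleton _ g).mpr (hQz g hg)
  · intro s hs
    rw [Submodule.mem_annihilator_span_singleton] at hs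
    rw [hz, Submodule.mem_annihilator_span_singleton, ← hz₀]
    have : LinearMap.lTensor N M₀.subtype z₀ = LinearMap.lTensor N Q.subtype
        (LinearMap.lTensor N (Submodule.inclusion hPQ) z₀) := by
      rw [← LinearMap.comp_apply, ← LinearMap.lTensor_comp, Submodule.subtype_comp_inclusion]
    rw [this, ← lTensor_smul, hs, map_zero]

theorem ass_tensor_fg_of_flat [Module.Flat R N] (q : Ideal S) [q.IsPrime]
    (h : q ∈ FlatCA.ass S (N ⊗[R] M)) :
    ∃ M' : Submodule R M, M'.FG ∧ q ∈ FlatCA.ass S (N ⊗[R] ↥M') := by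
  obtain ⟨hq, z, hz⟩ := h
  obtain ⟨M₀, hM₀, hsub⟩ := TensorProduct.exists_finite_submodule_right_of_setFinite
    ({z} : Set (N ⊗[R] M)) (Set.finite_singleton z)
  obtain ⟨z₀, hz₀⟩ := hsub (Set.mem_singleton z)
  rw [Module.Finite.iff_fg] at hM₀
  have hinj : Function.Injective (LinearMap.lTensor N M₀.subtype) :=
    Module.Flat.lTensor_preserves_injective_linearMap _ M₀.injective_subtype
  refine ⟨M₀, hM₀, hq, z₀, ?_⟩
  rw [hz]
  ext s
  rw [Submodule.mem_annihilator_span_singleton, Submodule.mem_annihilator_span_singleton, ← hz₀,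
    ← lTensor_smul]
  constructor
  · intro h0
    exact hinj (by rw [h0, map_zero])
  · intro h0
    rw [h0, map_zero]

end

end Groth.Agent.H5.CA
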