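import Mathlib

set_option autoImplicit false
universe u

namespace Groth.Agent.H5.BijJ

theorem bijective_of_flat_complete {A : Type u} [CommRing A] (J : Ideal A)
    {M N : Type u} [AddCommGroup M] [Module A M] [AddCommGroup N] [Module A N]
    [IsHausdorff J M] [IsAdicComplete J N] [Module.Flat A M] (u : N →ₗ[A] M)
    (hsurj : ∀ m : M, ∃ n : N, m - u n ∈ (J • ⊤ : Submodule A M))
    (hinj : ∀ n : N, u n ∈ (J • ⊤ : Submodule A M) → n ∈ (J • ⊤ : Submodule A N)) :
    Function.Bijective u := by
  have hs : Function.Surjective u := by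
    apply surjective_of_mkQ_comp_surjective (I := J)
    intro y
    obtain ⟨m, rfl⟩ := Submodule.mkQ_surjective _ y
    obtain ⟨n, hn⟩ := hsurj m
    refine ⟨n, ?_⟩
    simp only [LinearMap.coe_comp, Function.comp_apply]
    rw [eq_comm, ← sub_eq_zero, ← map_sub, Submodule.mkQ_apply, Submodule.Quotient.mk_eq_zero]
    exact hn
  refine ⟨?_, hs⟩
  have hK : LinearMap.ker u ⊓ (J • (⊤ : Submodule A N)) = J • LinearMap.ker u :=
    LinearMap.ker_inf_smul_top_eq_smul_of_flat J u hs
  have hK' : LinearMap.ker u = J • LinearMap.ker u := by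
    rw [← hK]
    refine le_antisymm (le_inf le_rfl ?_) inf_le_left
    intro x hx
    apply hinj
    rw [LinearMap.mem_ker.mp hx]
    exact Submodule.zero_mem _
  have hpow : ∀ n : ℕ, LinearMap.ker u ≤ (J ^ n • ⊤ : Submodule A N) := by
    intro n
    induction n with
    | zero => simp
    | succ n ih =>
      rw [hK', pow_succ', mul_smul]
      exact Submodule.smul_mono le_rfl ih
  rw [← LinearMap.ker_eq_bot, eq_bot_iff]
  intro x hx
  rw [Submodule.mem_bot]
  apply IsHausdorff.haus (I := J) inferInstance x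
  intro n
  rw [SModEq.zero]
  exact hpow n hx

end Groth.Agent.H5.BijJ
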