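import Mathlib
import Groth.Agent.Lib.Helper5.CA.CSq1

namespace H5.CSq
universe u
open TensorProduct

variable {A : Type u} [CommRing A] {B : Type u} [CommRing B] [Algebra A B] {C : Type u}
  [CommRing C] [Algebra B C] [Algebra A C] [IsScalarTower A B C]

theorem map_ker_le : (RingHom.ker (algebraMap A C)).map (algebraMap A B) ≤
    RingHom.ker (algebraMap B C) := by
  rw [Ideal.map_le_iff_le_comap]
  intro a ha
  rw [Ideal.mem_comap, RingHom.mem_ker, ← IsScalarTower.algebraMap_apply]
  exact ha

variable (A B C) in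
/-- `A/I² → B/J²`. -/
noncomputable def τ : A ⧸ (RingHom.ker (algebraMap A C)) ^ 2 →ₐ[A]
    B ⧸ (RingHom.ker (algebraMap B C)) ^ 2 :=
  Ideal.Quotient.liftₐ _ ((Ideal.Quotient.mkₐ A _).comp (Algebra.ofId A B)) (fun a ha => by
    rw [AlgHom.comp_apply, Ideal.Quotient.mkₐ_eq_mk, Ideal.Quotient.eq_zero_iff_mem]
    have h1 : algebraMap A B a ∈ ((RingHom.ker (algebraMap A C)) ^ 2).map (algebraMap A B) :=
      Ideal.mem_map_of_mem _ ha
    rw [Ideal.map_pow] at h1
    exact Ideal.pow_right_mono map_ker_le 2 h1)

theorem τ_mk (a : A) : τ A B C (Ideal.Quotient.mk _ a) = Ideal.Quotient.mk _ (algebraMap A B a) :=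
  rfl

variable [Algebra.FormallySmooth A B]

theorem D_mem (hC : Function.Surjective (algebraMap A C)) (b : B) :
    Ideal.Quotient.mk ((RingHom.ker (algebraMap B C)) ^ 2) b - τ A B C (g B hC b) ∈
      (RingHom.ker (algebraMap B C)).cotangentIdeal := by
  obtain ⟨a, ha⟩ := Ideal.Quotient.mk_surjective (g B hC b)
  rw [← ha, τ_mk, ← map_sub, Ideal.mk_mem_cotangentIdeal, RingHom.mem_ker, map_sub, sub_eq_zero,
    ← IsScalarTower.algebraMap_apply, ← q_g hC b, ← ha, q_mk]

/-- the derivation `π - σ`. -/
noncomputable def Dd (hC : Function.Surjective (algebraMap A C)) :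
    Derivation A B (B ⧸ (RingHom.ker (algebraMap B C)) ^ 2) :=
  Derivation.mk' ((Ideal.Quotient.mkₐ A _).toLinearMap - ((τ A B C).comp (g B hC)).toLinearMap)
    (fun b b' => by
      simp only [LinearMap.sub_apply, AlgHom.toLinearMap_apply, AlgHom.comp_apply,
        Ideal.Quotient.mkₐ_eq_mk, map_mul, Algebra.smul_def, Ideal.Quotient.algebraMap_eq]
      have h2 := Ideal.mul_mem_mul (D_mem hC b) (D_mem hC b')
      rw [← pow_two, Ideal.cotangentIdeal_square, Ideal.mem_bot] at h2
      linear_combination -h2)

theorem Dd_apply (hC : Function.Surjective (algebraMap A C)) (b : B) :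
    Dd hC b = Ideal.Quotient.mk ((RingHom.ker (algebraMap B C)) ^ 2) b - τ A B C (g B hC b) := rfl

theorem lift_mem (hC : Function.Surjective (algebraMap A C)) (ω : Ω[B⁄A]) :
    (Dd hC).liftKaehlerDifferential ω ∈ (RingHom.ker (algebraMap B C)).cotangentIdeal := by
  have hω : ω ∈ Submodule.span B (Set.range (KaehlerDifferential.D A B)) := by
    rw [KaehlerDifferential.span_range_derivation]; trivial
  induction hω using Submodule.span_induction with
  | mem x hx =>
    obtain ⟨b, rfl⟩ := hx
    rw [Derivation.liftKaehlerDifferential_comp_D]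
    exact D_mem hC b
  | zero => rw [map_zero]; exact Ideal.zero_mem _
  | add x y _ _ hx hy => rw [map_add]; exact Ideal.add_mem _ hx hy
  | smul b x _ h =>
    rw [map_smul, Algebra.smul_def]
    exact Ideal.mul_mem_left _ _ h

theorem lift_eq_zero (hC : Function.Surjective (algebraMap A C)) (ω : Ω[B⁄A])
    (hω : ω ∈ (RingHom.ker (algebraMap B C)) • (⊤ : Submodule B Ω[B⁄A])) :
    (Dd hC).liftKaehlerDifferential ω = 0 := by
  refine Submodule.smul_induction_on hω ?_ ?_
  · intro j hj n _
    rw [map_smul, Algebra.smul_def, Ideal.Quotient.algebraMap_eq]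
    have h1 : Ideal.Quotient.mk ((RingHom.ker (algebraMap B C)) ^ 2) j ∈
        (RingHom.ker (algebraMap B C)).cotangentIdeal := Ideal.mk_mem_cotangentIdeal.mpr hj
    have h2 := Ideal.mul_mem_mul h1 (lift_mem hC n)
    rw [← pow_two, Ideal.cotangentIdeal_square, Ideal.mem_bot] at h2
    exact h2
  · intro x y hx hy
    rw [map_add, hx, hy, add_zero]

theorem main (hC : Function.Surjective (algebraMap A C)) :
    Function.Injective (Ideal.mapCotangent (RingHom.ker (algebraMap A C))
        (RingHom.ker (algebraMap B C)) (Algebra.ofId A B)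
        (le_of_eq (congrArg RingHom.ker (IsScalarTower.algebraMap_eq A B C)))) ∧
      (∃ r : (RingHom.ker (algebraMap B C)).Cotangent →ₗ[A] (RingHom.ker (algebraMap A C)).Cotangent,
        r ∘ₗ (Ideal.mapCotangent (RingHom.ker (algebraMap A C)) (RingHom.ker (algebraMap B C))
          (Algebra.ofId A B)
          (le_of_eq (congrArg RingHom.ker (IsScalarTower.algebraMap_eq A B C)))) = LinearMap.id) ∧
      LinearMap.range (Ideal.mapCotangent (RingHom.ker (algebraMap A C))
          (RingHom.ker (algebraMap B C)) (Algebra.ofId A B)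
          (le_of_eq (congrArg RingHom.ker (IsScalarTower.algebraMap_eq A B C)))) =
        LinearMap.ker ((KaehlerDifferential.kerCotangentToTensor A B C).restrictScalars A) ∧
      Function.Surjective (KaehlerDifferential.kerCotangentToTensor A B C) := by
  have hBC : Function.Surjective (algebraMap B C) := by
    intro c
    obtain ⟨a, rfl⟩ := hC c
    exact ⟨algebraMap A B a, (IsScalarTower.algebraMap_apply A B C a).symm⟩
  refine ⟨?_, ⟨r hC, r_comp hC⟩, ?_, ?_⟩
  · intro x y hxy
    have h := congrArg (r (B := B) hC) hxy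
    have h1 := LinearMap.congr_fun (r_comp (B := B) hC) x
    have h2 := LinearMap.congr_fun (r_comp (B := B) hC) y
    rw [LinearMap.comp_apply, LinearMap.id_apply] at h1 h2
    rw [← h1, ← h2, h]
  · apply le_antisymm
    · rintro _ ⟨x, rfl⟩
      obtain ⟨x, rfl⟩ := Ideal.toCotangent_surjective _ x
      rw [LinearMap.mem_ker, LinearMap.restrictScalars_apply, Ideal.mapCotangent_toCotangent,
        KaehlerDifferential.kerCotangentToTensor_toCotangent]
      have : (Algebra.ofId A B) x.1 = algebraMap A B x.1 := rfl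
      simp only [this, Derivation.map_algebraMap, TensorProduct.tmul_zero]
    · intro ξ hξ
      obtain ⟨j, rfl⟩ := Ideal.toCotangent_surjective _ ξ
      rw [LinearMap.mem_ker, LinearMap.restrictScalars_apply,
        KaehlerDifferential.kerCotangentToTensor_toCotangent] at hξ
      have h1 := mem_smul_top_of_one_tmul_eq_zero hBC _ hξ
      have h2 := lift_eq_zero hC _ h1
      rw [Derivation.liftKaehlerDifferential_comp_D, Dd_apply, sub_eq_zero] at h2
      obtain ⟨a, ha⟩ := Ideal.Quotient.mk_surjective (g B hC j.1)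
      have haI : a ∈ RingHom.ker (algebraMap A C) := by
        rw [← Ideal.mk_mem_cotangentIdeal, ha]
        exact g_mem hC j.2
      refine ⟨Ideal.toCotangent _ ⟨a, haI⟩, ?_⟩
      rw [Ideal.mapCotangent_toCotangent, Ideal.toCotangent_eq]
      rw [← ha, τ_mk, Ideal.Quotient.mk_eq_mk_iff_sub_mem] at h2
      have h3 := neg_mem h2
      rw [neg_sub] at h3
      exact h3
  · intro t
    have hex := KaehlerDifferential.exact_kerCotangentToTensor_mapBaseChange A B C hBC
    haveI : Subsingleton (Ω[C⁄A]) := KaehlerDifferential.subsingleton_of_surjective A C hC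
    exact (hex t).mp (Subsingleton.elim _ _)

end H5.CSq
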