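import Mathlib
import Groth.Agent.Lib.Helper5.CA.CSq1

namespace H5.CSq
universe u
open TensorProduct

theorem mem_sup_of_tmul_eq_zero {Λ A C : Type u} [CommRing Λ] [CommRing A] [CommRing C]
    [Algebra Λ A] [Algebra A C] [Algebra Λ C] [IsScalarTower Λ A C]
    (hsurj : Function.Surjective (algebraMap A C)) (p : ℕ)
    [Algebra (Λ ⧸ Ideal.span {(p : Λ)}) C] [IsScalarTower Λ (Λ ⧸ Ideal.span {(p : Λ)}) C]
    [Algebra.FormallySmooth (Λ ⧸ Ideal.span {(p : Λ)}) C]
    (hp : (p : A) ∈ RingHom.ker (algebraMap A C))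
    (x : A) (hx : x ∈ RingHom.ker (algebraMap A C))
    (h : (1 : C) ⊗ₜ[A] KaehlerDifferential.D Λ A x = 0) :
    x ∈ (RingHom.ker (algebraMap A C)) ^ 2 ⊔ Ideal.span {(p : A)} := by
  set J := RingHom.ker (algebraMap A C) with hJ
  set K := J ^ 2 ⊔ Ideal.span {(p : A)} with hK
  have hKJ : K ≤ J := by
    rw [hK, sup_le_iff]
    refine ⟨Ideal.pow_le_self two_ne_zero, ?_⟩
    rw [Ideal.span_le, Set.singleton_subset_iff]; exact hp
  have hpK : (p : A) ∈ K := Ideal.mem_sup_right (Ideal.subset_span rfl)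
  let φ : (Λ ⧸ Ideal.span {(p : Λ)}) →+* A ⧸ K :=
    Ideal.Quotient.lift _ ((Ideal.Quotient.mk K).comp (algebraMap Λ A)) (by
      intro t ht
      obtain ⟨s, rfl⟩ := Ideal.mem_span_singleton'.mp ht
      rw [RingHom.comp_apply, map_mul, map_natCast, Ideal.Quotient.eq_zero_iff_mem]
      exact Ideal.mul_mem_left _ _ hpK)
  letI : Algebra (Λ ⧸ Ideal.span {(p : Λ)}) (A ⧸ K) := φ.toAlgebra
  haveI : IsScalarTower Λ (Λ ⧸ Ideal.span {(p : Λ)}) (A ⧸ K) :=
    IsScalarTower.of_algebraMap_eq (fun t => rfl)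
  let ρ : A ⧸ K →ₐ[Λ ⧸ Ideal.span {(p : Λ)}] C :=
    { Ideal.Quotient.lift K (algebraMap A C) (fun a ha => hKJ ha) with
      commutes' := by
        intro t
        obtain ⟨t, rfl⟩ := Ideal.Quotient.mk_surjective t
        change algebraMap A C (algebraMap Λ A t) = algebraMap (Λ ⧸ Ideal.span {(p : Λ)}) C _
        rw [← IsScalarTower.algebraMap_apply,
          IsScalarTower.algebraMap_apply Λ (Λ ⧸ Ideal.span {(p : Λ)}) C]
        rfl }
  have hρmk : ∀ a : A, ρ (Ideal.Quotient.mk K a) = algebraMap A C a := fun a => rfl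
  have hρ : Function.Surjective ρ := by
    intro c
    obtain ⟨a, rfl⟩ := hsurj c
    exact ⟨Ideal.Quotient.mk K a, rfl⟩
  have hmul : ∀ u v : A ⧸ K, ρ u = 0 → ρ v = 0 → u * v = 0 := by
    intro u v hu hv
    obtain ⟨a, rfl⟩ := Ideal.Quotient.mk_surjective u
    obtain ⟨b, rfl⟩ := Ideal.Quotient.mk_surjective v
    rw [hρmk] at hu hv
    rw [← map_mul, Ideal.Quotient.eq_zero_iff_mem]
    apply Ideal.mem_sup_left
    rw [pow_two]
    exact Ideal.mul_mem_mul hu hv
  have hker : RingHom.ker (ρ : A ⧸ K →+* C) ^ 2 = ⊥ := by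
    rw [eq_bot_iff, pow_two, Ideal.mul_le]
    intro u hu v hv
    rw [Ideal.mem_bot]
    exact hmul u v hu hv
  let σ : C →ₐ[Λ ⧸ Ideal.span {(p : Λ)}] A ⧸ K :=
    Algebra.FormallySmooth.liftOfSurjective (AlgHom.id _ C) ρ hρ ⟨2, hker⟩
  have hσ : ∀ c, ρ (σ c) = c := fun c =>
    Algebra.FormallySmooth.liftOfSurjective_apply (AlgHom.id _ C) ρ hρ ⟨2, hker⟩ c
  have hDmem : ∀ a : A, ρ (Ideal.Quotient.mk K a - σ (algebraMap A C a)) = 0 := by
    intro a
    rw [map_sub, hσ, hρmk, sub_self]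
  let D : Derivation Λ A (A ⧸ K) :=
    Derivation.mk' ((Ideal.Quotient.mkₐ Λ K).toLinearMap -
      (σ.restrictScalars Λ).toLinearMap ∘ₗ (IsScalarTower.toAlgHom Λ A C).toLinearMap)
      (fun a b => by
        simp only [LinearMap.sub_apply, AlgHom.toLinearMap_apply, LinearMap.comp_apply,
          Ideal.Quotient.mkₐ_eq_mk, map_mul, Algebra.smul_def, Ideal.Quotient.algebraMap_eq,
          AlgHom.coe_restrictScalars', IsScalarTower.coe_toAlgHom']
        have h2 := hmul _ _ (hDmem a) (hDmem b)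
        linear_combination -h2)
  have hD : ∀ a, D a = Ideal.Quotient.mk K a - σ (algebraMap A C a) := fun a => rfl
  have hlift_mem : ∀ ω : Ω[A⁄Λ], ρ (D.liftKaehlerDifferential ω) = 0 := by
    intro ω
    have hω : ω ∈ Submodule.span A (Set.range (KaehlerDifferential.D Λ A)) := by
      rw [KaehlerDifferential.span_range_derivation]; trivial
    induction hω using Submodule.span_induction with
    | mem y hy =>
      obtain ⟨b, rfl⟩ := hy
      rw [Derivation.liftKaehlerDifferential_comp_D]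
      exact hDmem b
    | zero => rw [map_zero, map_zero]
    | add y z _ _ hy hz => rw [map_add, map_add, hy, hz, add_zero]
    | smul b y _ h =>
      rw [map_smul, Algebra.smul_def, map_mul, h, mul_zero]
  have hlift_zero : ∀ ω : Ω[A⁄Λ], ω ∈ J • (⊤ : Submodule A Ω[A⁄Λ]) →
      D.liftKaehlerDifferential ω = 0 := by
    intro ω hω
    refine Submodule.smul_induction_on hω ?_ ?_
    · intro j hj n _
      rw [map_smul, Algebra.smul_def, Ideal.Quotient.algebraMap_eq]
      exact hmul _ _ (by rw [hρmk]; exact hj) (hlift_mem n)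
    · intro y z hy hz
      rw [map_add, hy, hz, add_zero]
  have h1 := mem_smul_top_of_one_tmul_eq_zero hsurj _ h
  have h2 := hlift_zero _ h1
  rw [Derivation.liftKaehlerDifferential_comp_D, hD] at h2
  have hx0 : algebraMap A C x = 0 := hx
  rw [hx0, map_zero, sub_zero, Ideal.Quotient.eq_zero_iff_mem] at h2
  exact h2

theorem main4594 {Λ A C : Type u} [CommRing Λ] [CommRing A]
    [CommRing C] [Algebra Λ A] [Algebra A C] [Algebra Λ C] [IsScalarTower Λ A C]
    (hsurj : Function.Surjective (algebraMap A C)) (p : ℕ)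
    [Algebra (Λ ⧸ Ideal.span {(p : Λ)}) C] [IsScalarTower Λ (Λ ⧸ Ideal.span {(p : Λ)}) C]
    [Algebra.FormallySmooth (Λ ⧸ Ideal.span {(p : Λ)}) C]
    (hp : (p : A) ∈ RingHom.ker (algebraMap A C)) :
    LinearMap.ker (KaehlerDifferential.kerCotangentToTensor Λ A C) =
        Submodule.span A {(RingHom.ker (algebraMap A C)).toCotangent ⟨(p : A), hp⟩} ∧
      LinearMap.range (KaehlerDifferential.kerCotangentToTensor Λ A C) =
        (LinearMap.ker (KaehlerDifferential.mapBaseChange Λ A C)).restrictScalars A ∧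
      Function.Surjective (KaehlerDifferential.mapBaseChange Λ A C) := by
  refine ⟨?_, KaehlerDifferential.range_kerCotangentToTensor Λ A C hsurj,
    KaehlerDifferential.mapBaseChange_surjective Λ A C hsurj⟩
  apply le_antisymm
  · intro ξ hξ
    obtain ⟨⟨x, hx⟩, rfl⟩ := Ideal.toCotangent_surjective _ ξ
    rw [LinearMap.mem_ker, KaehlerDifferential.kerCotangentToTensor_toCotangent] at hξ
    have h1 := mem_sup_of_tmul_eq_zero hsurj p hp x hx hξ
    obtain ⟨y, hy, z, hz, hyz⟩ := Submodule.mem_sup.mp h1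
    obtain ⟨a, rfl⟩ := Ideal.mem_span_singleton'.mp hz
    have h2 : (RingHom.ker (algebraMap A C)).toCotangent ⟨x, hx⟩ =
        a • (RingHom.ker (algebraMap A C)).toCotangent ⟨(p : A), hp⟩ := by
      rw [← map_smul, Ideal.toCotangent_eq]
      change x - a * (p : A) ∈ _
      rw [← hyz, add_sub_cancel_right]
      exact hy
    rw [h2]
    exact Submodule.smul_mem _ _ (Submodule.subset_span rfl)
  · rw [Submodule.span_le, Set.singleton_subset_iff, SetLike.mem_coe, LinearMap.mem_ker,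
      KaehlerDifferential.kerCotangentToTensor_toCotangent]
    rw [Derivation.map_natCast, TensorProduct.tmul_zero]

end H5.CSq
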