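import Mathlib
import Groth.Agent.Lib.Helper5.CA.Cohen4

set_option autoImplicit false
universe u

open IsLocalRing

namespace Groth.Agent.H5.Cohen10

attribute [local instance] ULift.algebra'

/-- `Λ ⧸ pⁿ` is formally smooth over `ℤ ⧸ pⁿ` (with `ULift ℤ` as the base). -/
theorem formallySmooth_ulift_quotient_pow (Λ : Type u) [CommRing Λ] [IsDomain Λ]
    [IsDiscreteValuationRing Λ] (p : ℕ) (hp : p.Prime)
    (hm : maximalIdeal Λ = Ideal.span {(p : Λ)}) (n : ℕ) :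
    Algebra.FormallySmooth (ULift.{u} ℤ ⧸ Ideal.span {(p : ULift.{u} ℤ)} ^ n)
      (Λ ⧸ (Ideal.span {(p : ULift.{u} ℤ)} ^ n).map (algebraMap (ULift.{u} ℤ) Λ)) := by
  haveI : Fact p.Prime := ⟨hp⟩
  haveI := Cohen3.charZero_of_isCohenRing hp hm
  haveI : Module.Flat (ULift.{u} ℤ) Λ := Module.Flat.ulift_left_iff.mpr inferInstance
  have hmap := Cohen4.map_span_ulift Λ p
  let e : (ULift.{u} ℤ ⧸ Ideal.span {(p : ULift.{u} ℤ)}) ≃+* ZMod p :=
    (Ideal.quotientEquiv _ (Ideal.span {(p : ℤ)}) (ULift.ringEquiv : ULift.{u} ℤ ≃+* ℤ) (by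
      rw [Ideal.map_span, Set.image_singleton]; simp)).trans (Int.quotientSpanNatEquivZMod p)
  have hk : IsField (ULift.{u} ℤ ⧸ Ideal.span {(p : ULift.{u} ℤ)}) :=
    MulEquiv.isField (Field.toIsField (ZMod p)) e.toMulEquiv
  haveI : Finite (ULift.{u} ℤ ⧸ Ideal.span {(p : ULift.{u} ℤ)}) :=
    Finite.of_equiv _ e.symm.toEquiv
  have hK : IsField (Λ ⧸ (Ideal.span {(p : ULift.{u} ℤ)}).map (algebraMap (ULift.{u} ℤ) Λ)) := by
    rw [hmap, ← hm]
    exact (Ideal.Quotient.maximal_ideal_iff_isField_quotient _).mp inferInstance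
  haveI := Cohen3.formallySmooth_of_isField hk hK
  exact Cohen2.formallySmooth_quotient_pow (A := ULift.{u} ℤ) (B := Λ)
    (Ideal.span {(p : ULift.{u} ℤ)}) n

theorem formallySmooth_zmod_quotient_pow (Λ : Type u) [CommRing Λ] [IsDomain Λ]
    [IsDiscreteValuationRing Λ] (p : ℕ)
    (hp : p.Prime) (hm : maximalIdeal Λ = Ideal.span {(p : Λ)}) (n : ℕ)
    [Algebra (ZMod (p ^ n)) (Λ ⧸ Ideal.span {((p : Λ) ^ n)})] :
    Algebra.FormallySmooth (ZMod (p ^ n)) (Λ ⧸ Ideal.span {((p : Λ) ^ n)}) := by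
  have h1 := formallySmooth_ulift_quotient_pow Λ p hp hm n
  rw [← RingHom.formallySmooth_algebraMap] at h1 ⊢
  -- the base isomorphism
  have hI : Ideal.span {(p : ULift.{u} ℤ)} ^ n =
      (Ideal.span {((p ^ n : ℕ) : ℤ)}).map
        ((ULift.ringEquiv : ULift.{u} ℤ ≃+* ℤ).symm : ℤ →+* ULift.{u} ℤ) := by
    rw [Ideal.span_singleton_pow, Ideal.map_span, Set.image_singleton]
    congr 2
  let eR : ZMod (p ^ n) ≃+* (ULift.{u} ℤ ⧸ Ideal.span {(p : ULift.{u} ℤ)} ^ n) :=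
    (Int.quotientSpanNatEquivZMod (p ^ n)).symm.trans
      (Ideal.quotientEquiv _ _ (ULift.ringEquiv : ULift.{u} ℤ ≃+* ℤ).symm hI)
  have hJ : (Ideal.span {(p : ULift.{u} ℤ)} ^ n).map (algebraMap (ULift.{u} ℤ) Λ) =
      Ideal.span {((p : Λ) ^ n)} := by
    rw [Ideal.map_pow, Cohen4.map_span_ulift, Ideal.span_singleton_pow]
  let eA : (Λ ⧸ (Ideal.span {(p : ULift.{u} ℤ)} ^ n).map (algebraMap (ULift.{u} ℤ) Λ)) ≃+*
      (Λ ⧸ Ideal.span {((p : Λ) ^ n)}) := Ideal.quotEquivOfEq hJ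
  have hcomp : algebraMap (ZMod (p ^ n)) (Λ ⧸ Ideal.span {((p : Λ) ^ n)}) =
      ((eA.toRingHom).comp (algebraMap _ _)).comp (eR.toRingHom) :=
    Subsingleton.elim _ _
  rw [hcomp]
  have hR : eR.toRingHom.FormallySmooth := RingHom.FormallySmooth.of_bijective eR.bijective
  have hA : eA.toRingHom.FormallySmooth := RingHom.FormallySmooth.of_bijective eA.bijective
  exact (hR.comp (h1.comp hA))

end Groth.Agent.H5.Cohen10
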