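import Mathlib
import Groth.Agent.Lib.Helper5.CA.AdicFS2

set_option autoImplicit false
universe u

namespace Groth.Agent.H5.Cohen6

open IsLocalRing

/-- EGA 0_IV 19.7.1.5. -/
theorem exists_algEquiv_lift {A B B' : Type u} [CommRing A] (J : Ideal A)
    [CommRing B] [IsLocalRing B] [IsNoetherianRing B] [Algebra A B]
    [CommRing B'] [Algebra A B']
    (hB : J.map (algebraMap A B) ≤ maximalIdeal B)
    [IsAdicComplete (J.map (algebraMap A B)) B] [IsAdicComplete (J.map (algebraMap A B')) B']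
    (hfs : EGA41.IsFormallySmoothAdic A J B (J.map (algebraMap A B))) [Module.Flat A B']
    (u₀ : (B ⧸ J.map (algebraMap A B)) ≃ₐ[A ⧸ J] (B' ⧸ J.map (algebraMap A B'))) :
    ∃ u : B ≃ₐ[A] B', ∀ b : B,
      Ideal.Quotient.mk (J.map (algebraMap A B')) (u b) =
        u₀ (Ideal.Quotient.mk (J.map (algebraMap A B)) b) := by
  set 𝔟 := J.map (algebraMap A B) with h𝔟
  set 𝔠 := J.map (algebraMap A B') with h𝔠
  -- the map to lift
  let ũ : B →ₐ[A] B' ⧸ 𝔠 :=
    { toRingHom := (u₀ : (B ⧸ 𝔟) →+* (B' ⧸ 𝔠)).comp (Ideal.Quotient.mk 𝔟)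
      commutes' := fun a => by
        have := u₀.commutes (Ideal.Quotient.mk J a)
        exact this }
  have hũ : ∀ b, ũ b = u₀ (Ideal.Quotient.mk 𝔟 b) := fun b => rfl
  haveI : IsHausdorff (𝔠.map (Ideal.Quotient.mk 𝔠)) (B' ⧸ 𝔠) := by
    rw [Ideal.map_quotient_self]; infer_instance
  obtain ⟨v, -, hv⟩ := AdicFS.exists_lift_of_isAdicComplete 𝔠 𝔠 J 𝔟 hfs
    ⟨1, by rw [pow_one]⟩ ⟨1, by rw [pow_one]⟩ ũ ⟨1, by
      rw [pow_one, Ideal.map_le_iff_le_comap]
      intro b hb
      rw [Ideal.mem_comap]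
      have : ũ b = 0 := by rw [hũ, Ideal.Quotient.eq_zero_iff_mem.mpr hb, map_zero]
      show ũ b ∈ _
      rw [this]; exact zero_mem _⟩
  have hvb : ∀ b, Ideal.Quotient.mk 𝔠 (v b) = u₀ (Ideal.Quotient.mk 𝔟 b) := fun b => by
    have := congrArg (fun φ => φ b) hv
    exact this
  have hmap : 𝔟.map v.toRingHom = 𝔠 := by
    rw [h𝔟, h𝔠, Ideal.map_map]
    congr 1
    exact v.comp_algebraMap
  -- surjectivity
  have hsurj : Function.Surjective v := by
    haveI : IsHausdorff (𝔟.map v.toRingHom) B' := by rw [hmap]; infer_instance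
    apply surjective_of_mk_map_comp_surjective (I := 𝔟) v.toRingHom
    rw [hmap]
    intro y
    obtain ⟨x, hx⟩ := Ideal.Quotient.mk_surjective (u₀.symm y)
    refine ⟨x, ?_⟩
    show Ideal.Quotient.mk 𝔠 (v x) = y
    rw [hvb, hx, AlgEquiv.apply_symm_apply]
  -- injectivity
  have hker : ∀ x, v x = 0 → x ∈ 𝔟 := by
    intro x hx
    have h1 := hvb x
    rw [hx, map_zero] at h1
    have h2 : Ideal.Quotient.mk 𝔟 x = 0 := by
      apply u₀.injective
      rw [← h1, map_zero]
    exact Ideal.Quotient.eq_zero_iff_mem.mp h2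
  have hflat := LinearMap.ker_inf_smul_top_eq_smul_of_flat J v.toLinearMap hsurj
  have hle : RingHom.ker v.toRingHom ≤ 𝔟 • RingHom.ker v.toRingHom := by
    intro x hx
    have hx1 : x ∈ LinearMap.ker v.toLinearMap ⊓ (J • ⊤ : Submodule A B) := by
      refine ⟨hx, ?_⟩
      rw [Ideal.smul_top_eq_map]
      exact hker x hx
    rw [hflat] at hx1
    refine Submodule.smul_induction_on hx1 ?_ ?_
    · intro j hj k hk
      have e : j • k = (algebraMap A B j) • k := (algebraMap_smul B j k).symm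
      rw [e]
      have hk' : k ∈ RingHom.ker v.toRingHom := hk
      exact Submodule.smul_mem_smul (Ideal.mem_map_of_mem (algebraMap A B) hj) hk'
    · intro x y hx hy
      exact add_mem hx hy
  have hK : RingHom.ker v.toRingHom = ⊥ :=
    Submodule.eq_bot_of_le_smul_of_le_jacobson_bot 𝔟 _ (IsNoetherian.noetherian _) hle
      (by rw [IsLocalRing.jacobson_eq_maximalIdeal ⊥ bot_ne_top]; exact hB)
  have hinj : Function.Injective v := (RingHom.injective_iff_ker_eq_bot v.toRingHom).mpr hK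
  exact ⟨AlgEquiv.ofBijective v ⟨hinj, hsurj⟩, hvb⟩

end Groth.Agent.H5.Cohen6
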