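import Groth.Agent.Lib.Helper5.CA.PrincipalPartsBC
import Groth.Agent.Lib.Lead.DiffOpLin

set_option autoImplicit false
universe u

open TensorProduct Groth.Agent.LD

namespace Groth.Agent.H5.CA

section Reduce

variable {A B : Type u} [CommRing A] [CommRing B] [Algebra A B]
variable {M N : Type u} [AddCommGroup M] [Module A M] [Module B M] [IsScalarTower A B M]
  [AddCommGroup N] [Module A N] [Module B N] [IsScalarTower A B N]

/-- evaluation of an operator along the orbit of an element: `b ↦ D (b • m)`. -/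
noncomputable def atElt (D : M →ₗ[A] N) (m : M) : B →ₗ[A] N :=
  D ∘ₗ ((LinearMap.toSpanSingleton B M m).restrictScalars A)

lemma atElt_apply (D : M →ₗ[A] N) (m : M) (b : B) : atElt D m b = D (b • m) := rfl

lemma commutator_atElt (D : M →ₗ[A] N) (m : M) (b : B) :
    Diff16.commutator A B B N (atElt D m) b = atElt (Diff16.commutator A B M N D b) m := by
  ext c
  simp only [commutator_apply, atElt_apply, smul_eq_mul, mul_smul]

theorem isDiffOpLE_iff_atElt (n : ℕ) : ∀ D : M →ₗ[A] N,
    Diff16.IsDiffOpLE A B M N n D ↔ ∀ m, Diff16.IsDiffOpLE A B B N n (atElt D m) := by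
  induction n with
  | zero =>
    intro D
    constructor
    · intro h m b c
      rw [atElt_apply, atElt_apply, smul_eq_mul, mul_smul, h b]
    · intro h b m
      have := h m b 1
      rw [atElt_apply, atElt_apply, smul_eq_mul, mul_one, one_smul] at this
      exact this
  | succ n ih =>
    intro D
    rw [isDiffOpLE_succ_iff]
    constructor
    · intro h m b
      rw [commutator_atElt]
      exact (ih _).mp (h b) m
    · intro h b
      rw [ih]
      intro m
      rw [← commutator_atElt]
      exact h m b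

end Reduce

end Groth.Agent.H5.CA

namespace Groth.Agent.H5.CA

section K0

variable (R S S' : Type u) [CommRing R] [CommRing S] [CommRing S'] [Algebra R S] [Algebra R S']
  [Algebra S S'] [IsScalarTower R S S']
variable {N' : Type u} [AddCommGroup N'] [Module S' N'] [Module R N'] [IsScalarTower R S' N']
  [Module S N'] [IsScalarTower S S' N'] [IsScalarTower R S N']

/-- the map `S ⊗ S → S' ⊗ S`. -/
noncomputable def psiL : S ⊗[R] S →ₐ[R] S' ⊗[R] S :=
  Algebra.TensorProduct.map (IsScalarTower.toAlgHom R S S') (AlgHom.id R S)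

lemma psiL_tmul (a b : S) : psiL R S S' (a ⊗ₜ b) = (algebraMap S S' a) ⊗ₜ b := rfl

/-- the kernel of `S' ⊗ S → S'`. -/
noncomputable def mixIdeal : Ideal (S' ⊗[R] S) :=
  (KaehlerDifferential.ideal R S').comap (rhoR R S S').toRingHom

variable {R S S'}

lemma liftBaseChange_psiL (E : S →ₗ[R] N') (x : S ⊗[R] S) :
    E.liftBaseChange S' (psiL R S S' x) = Diff16.linearize R S S N' E x := by
  induction x using TensorProduct.induction_on with
  | zero => simp
  | tmul a b =>
    rw [psiL_tmul, LinearMap.liftBaseChange_tmul, linearize_tmul, algebraMap_smul]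
  | add x y hx hy => rw [map_add, map_add, map_add, hx, hy]

variable (R S S')

lemma sub_lmul_mem (x : S' ⊗[R] S) :
    x - (Algebra.TensorProduct.lmul' R (rhoR R S S' x) : S') ⊗ₜ[R] (1 : S) ∈
      Ideal.map (psiL R S S') (KaehlerDifferential.ideal R S) := by
  induction x using TensorProduct.induction_on with
  | zero => simp
  | tmul a b =>
    have h1 : (a ⊗ₜ[R] b : S' ⊗[R] S) -
        (Algebra.TensorProduct.lmul' R (rhoR R S S' (a ⊗ₜ[R] b)) : S') ⊗ₜ[R] (1 : S) =
        (a ⊗ₜ[R] (1 : S)) * psiL R S S' ((1 : S) ⊗ₜ[R] b - b ⊗ₜ[R] (1 : S)) := by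
      rw [map_sub, psiL_tmul, psiL_tmul, mul_sub, Algebra.TensorProduct.tmul_mul_tmul,
        Algebra.TensorProduct.tmul_mul_tmul, map_one, mul_one, one_mul, mul_one]
      simp [rhoR]
    rw [h1]
    exact Ideal.mul_mem_left _ _ (Ideal.mem_map_of_mem _ (gen_mem_ideal b))
  | add x y hx hy =>
    have : x + y - (Algebra.TensorProduct.lmul' R (rhoR R S S' (x + y)) : S') ⊗ₜ[R] (1 : S) =
        (x - (Algebra.TensorProduct.lmul' R (rhoR R S S' x) : S') ⊗ₜ[R] (1 : S)) +
        (y - (Algebra.TensorProduct.lmul' R (rhoR R S S' y) : S') ⊗ₜ[R] (1 : S)) := by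
      rw [map_add, map_add, add_tmul]; abel
    rw [this]
    exact Ideal.add_mem _ hx hy

lemma mixIdeal_le :
    mixIdeal R S S' ≤ Ideal.map (psiL R S S') (KaehlerDifferential.ideal R S) := by
  intro x hx
  have h0 : (Algebra.TensorProduct.lmul' R (rhoR R S S' x) : S') = 0 := hx
  have := sub_lmul_mem R S S' x
  rwa [h0, zero_tmul, sub_zero] at this

variable {R S S'}

lemma liftBaseChange_eq_zero_of_mem_map (E : S →ₗ[R] N') (K : Ideal (S ⊗[R] S))
    (hK : ∀ x ∈ K, Diff16.linearize R S S N' E x = 0) :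
    ∀ z ∈ Ideal.map (psiL R S S') K, E.liftBaseChange S' z = 0 := by
  have key : ∀ x ∈ K, ∀ y : S' ⊗[R] S, E.liftBaseChange S' (y * psiL R S S' x) = 0 := by
    intro x hx y
    induction y using TensorProduct.induction_on with
    | zero => simp
    | tmul a b =>
      have h1 : (a ⊗ₜ[R] b : S' ⊗[R] S) * psiL R S S' x =
          a • psiL R S S' (((1 : S) ⊗ₜ[R] b) * x) := by
        rw [map_mul, psiL_tmul, map_one, ← smul_mul_assoc, smul_tmul', smul_eq_mul, mul_one]
      rw [h1, map_smul, liftBaseChange_psiL, hK _ (Ideal.mul_mem_left _ _ hx), smul_zero]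
    | add y y' hy hy' => rw [add_mul, map_add, hy, hy', add_zero]
  have key2 : ∀ z ∈ Ideal.map (psiL R S S') K, ∀ y : S' ⊗[R] S,
      E.liftBaseChange S' (y * z) = 0 := by
    intro z hz
    refine Submodule.span_induction ?_ ?_ ?_ ?_ hz
    · rintro _ ⟨x, hx, rfl⟩ y
      exact key x hx y
    · intro y
      rw [mul_zero, map_zero]
    · intro a b _ _ ha hb y
      rw [mul_add, map_add, ha, hb, add_zero]
    · intro y' z _ hz y
      rw [smul_eq_mul, ← mul_assoc]
      exact hz (y * y')
  intro z hz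
  have := key2 z hz 1
  rwa [one_mul] at this

end K0

end Groth.Agent.H5.CA

namespace Groth.Agent.H5.CA

section ExtLin

variable {A T T' : Type*} [CommRing A] [CommRing T] [CommRing T'] [Algebra A T] [Algebra A T']
  (φ : T →ₐ[A] T') (I : Ideal T) (J : Ideal T') (hIJ : I ≤ J.comap φ.toRingHom)
  {N : Type*} [AddCommGroup N] [Module A N]

include hIJ in
lemma exists_sub_mem_of_quotientMap_surjective
    (hsurj : Function.Surjective (Ideal.quotientMap J φ.toRingHom hIJ)) (y : T') :
    ∃ x : T, y - φ x ∈ J := by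
  obtain ⟨xb, hxb⟩ := hsurj (Ideal.Quotient.mk J y)
  obtain ⟨x, rfl⟩ := Ideal.Quotient.mk_surjective xb
  refine ⟨x, ?_⟩
  rw [Ideal.quotientMap_mk] at hxb
  exact Ideal.Quotient.eq.mp hxb.symm

include hIJ in
lemma mem_of_quotientMap_injective
    (hinj : Function.Injective (Ideal.quotientMap J φ.toRingHom hIJ)) (x : T) (hx : φ x ∈ J) :
    x ∈ I := by
  rw [← Ideal.Quotient.eq_zero_iff_mem]
  apply hinj
  rw [Ideal.quotientMap_mk, map_zero]
  exact Ideal.Quotient.eq_zero_iff_mem.mpr hx

theorem exists_linearMap_of_quotientMap_bijective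
    (hbij : Function.Bijective (Ideal.quotientMap J φ.toRingHom hIJ))
    (L : T →ₗ[A] N) (hL : ∀ x ∈ I, L x = 0) :
    ∃ L' : T' →ₗ[A] N, (∀ y ∈ J, L' y = 0) ∧ ∀ x, L' (φ x) = L x := by
  choose c hc using exists_sub_mem_of_quotientMap_surjective φ I J hIJ hbij.2
  have wd : ∀ x₁ x₂ : T, φ x₁ - φ x₂ ∈ J → L x₁ = L x₂ := by
    intro x₁ x₂ h
    have : x₁ - x₂ ∈ I := mem_of_quotientMap_injective φ I J hIJ hbij.1 _ (by rwa [map_sub])
    have := hL _ this
    rwa [map_sub, sub_eq_zero] at this
  refine ⟨{ toFun := fun y => L (c y), map_add' := ?_, map_smul' := ?_ }, ?_, ?_⟩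
  · intro y₁ y₂
    rw [← map_add]
    apply wd
    have : φ (c (y₁ + y₂)) - φ (c y₁ + c y₂) =
        (y₁ - φ (c y₁)) + (y₂ - φ (c y₂)) - (y₁ + y₂ - φ (c (y₁ + y₂))) := by
      rw [map_add]; ring
    rw [this]
    exact J.sub_mem (J.add_mem (hc _) (hc _)) (hc _)
  · intro a y
    rw [RingHom.id_apply, ← map_smul]
    apply wd
    have : φ (c (a • y)) - φ (a • c y) = a • (y - φ (c y)) - (a • y - φ (c (a • y))) := by
      rw [map_smul, smul_sub]; ring
    rw [this]
    refine J.sub_mem ?_ (hc _)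
    rw [Algebra.smul_def]
    exact J.mul_mem_left _ (hc _)
  · intro y hy
    show L (c y) = 0
    rw [← map_zero L]
    apply wd
    rw [map_zero, sub_zero]
    have := J.sub_mem hy (hc y)
    rwa [sub_sub_cancel] at this
  · intro x
    show L (c (φ x)) = L x
    apply wd
    have := hc (φ x)
    rw [← neg_sub]
    exact J.neg_mem this

end ExtLin

section K0main

variable {R S S' : Type u} [CommRing R] [CommRing S] [CommRing S'] [Algebra R S] [Algebra R S']
  [Algebra S S'] [IsScalarTower R S S']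
variable {N' : Type u} [AddCommGroup N'] [Module S' N'] [Module R N'] [IsScalarTower R S' N']
  [Module S N'] [IsScalarTower S S' N'] [IsScalarTower R S N']

lemma liftBaseChange_eq_zero_of_isDiffOpLE (k : ℕ) (E : S →ₗ[R] N')
    (hE : Diff16.IsDiffOpLE R S S N' k E) :
    ∀ z ∈ mixIdeal R S S' ^ (k + 1), E.liftBaseChange S' z = 0 := by
  have hv := (isDiffOpLE_iff_vanishes k E).mp hE
  intro z hz
  apply liftBaseChange_eq_zero_of_mem_map E (KaehlerDifferential.ideal R S ^ (k + 1)) hv
  rw [Ideal.map_pow]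
  exact Ideal.pow_right_mono (mixIdeal_le R S S') _ hz

variable [Algebra.FormallyEtale S S']

theorem exists_diffOp_extension_ring (k : ℕ) (E : S →ₗ[R] N')
    (hE : Diff16.IsDiffOpLE R S S N' k E) :
    ∃ E' : S' →ₗ[R] N', Diff16.IsDiffOpLE R S' S' N' k E' ∧
      ∀ b : S, E' (algebraMap S S' b) = E b := by
  obtain ⟨L', hL'J, hL'φ⟩ := exists_linearMap_of_quotientMap_bijective (rhoR R S S')
    (mixIdeal R S S' ^ (k + 1)) (KaehlerDifferential.ideal R S' ^ (k + 1))
    (Ideal.le_comap_pow (rhoR R S S').toRingHom (K := KaehlerDifferential.ideal R S') (k + 1))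
    (principalParts_baseChange_bijective R S S' k)
    (E.liftBaseChange S') (liftBaseChange_eq_zero_of_isDiffOpLE k E hE)
  let E' : S' →ₗ[R] N' := (L'.restrictScalars R) ∘ₗ (TensorProduct.mk R S' S' 1)
  have hE' : ∀ s', E' s' = L' ((1 : S') ⊗ₜ[R] s') := fun s' => rfl
  refine ⟨E', ?_, ?_⟩
  · rw [isDiffOpLE_iff_vanishes]
    have hlin : ∀ x, Diff16.linearize R S' S' N' E' x = L' x := by
      intro x
      induction x using TensorProduct.induction_on with
      | zero => simp
      | tmul a s' =>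
        rw [linearize_tmul, hE', ← map_smul, smul_tmul', smul_eq_mul, mul_one]
      | add x y hx hy => rw [map_add, map_add, hx, hy]
    intro x hx
    rw [hlin]
    exact hL'J x hx
  · intro b
    rw [hE']
    have := hL'φ ((1 : S') ⊗ₜ[R] b)
    rw [LinearMap.liftBaseChange_tmul, one_smul] at this
    rw [← this]
    rfl

theorem diffOp_ring_eq_zero_of_restrict (k : ℕ) (E' : S' →ₗ[R] N')
    (hE' : Diff16.IsDiffOpLE R S' S' N' k E') (h0 : ∀ b : S, E' (algebraMap S S' b) = 0) :
    E' = 0 := by
  have hv := (isDiffOpLE_iff_vanishes k E').mp hE'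
  have hφ : ∀ x : S' ⊗[R] S, Diff16.linearize R S' S' N' E' (rhoR R S S' x) = 0 := by
    intro x
    induction x using TensorProduct.induction_on with
    | zero => simp
    | tmul a b =>
      have : rhoR R S S' (a ⊗ₜ[R] b) = a ⊗ₜ[R] (algebraMap S S' b) := rfl
      rw [this, linearize_tmul, h0, smul_zero]
    | add x y hx hy => rw [map_add, map_add, hx, hy, add_zero]
  ext s'
  obtain ⟨x, hx⟩ := exists_sub_mem_of_quotientMap_surjective (rhoR R S S')
    (mixIdeal R S S' ^ (k + 1)) (KaehlerDifferential.ideal R S' ^ (k + 1))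
    (Ideal.le_comap_pow (rhoR R S S').toRingHom (K := KaehlerDifferential.ideal R S') (k + 1))
    (principalParts_baseChange_bijective R S S' k).2 ((1 : S') ⊗ₜ[R] s')
  have h1 := hv _ hx
  rw [map_sub, hφ, sub_zero, linearize_tmul, one_smul] at h1
  exact h1

end K0main

end Groth.Agent.H5.CA
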