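import Groth.Agent.Lib.Helper5.CA.DiffOpEtale

set_option autoImplicit false
universe u

open TensorProduct Groth.Agent.LD

namespace Groth.Agent.H5.CA

section K

variable {R S S' : Type u} [CommRing R] [CommRing S] [CommRing S'] [Algebra R S] [Algebra R S']
  [Algebra S S'] [IsScalarTower R S S'] [Algebra.FormallyEtale S S']
variable {M : Type u} [AddCommGroup M] [Module S M] [Module R M] [IsScalarTower R S M]
variable {N' : Type u} [AddCommGroup N'] [Module S' N'] [Module R N'] [IsScalarTower R S' N']
  [Module S N'] [IsScalarTower S S' N'] [IsScalarTower R S N']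

theorem diffOp_eq_zero_of_restrict (k : ℕ) (D' : S' ⊗[S] M →ₗ[R] N')
    (hD' : Diff16.IsDiffOpLE R S' (S' ⊗[S] M) N' k D')
    (h0 : ∀ m : M, D' ((1 : S') ⊗ₜ[S] m) = 0) : D' = 0 := by
  have h1 : ∀ m : M, atElt (B := S') D' ((1 : S') ⊗ₜ[S] m) = 0 := by
    intro m
    apply diffOp_ring_eq_zero_of_restrict (S := S) k _ ((isDiffOpLE_iff_atElt k D').mp hD' _)
    intro b
    rw [atElt_apply, smul_tmul', smul_eq_mul, mul_one, Algebra.algebraMap_eq_smul_one,
      smul_tmul, h0]
  have h2 : ∀ (s' : S') (m : M), D' (s' ⊗ₜ[S] m) = 0 := by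
    intro s' m
    have := DFunLike.congr_fun (h1 m) s'
    rwa [atElt_apply, smul_tmul', smul_eq_mul, mul_one] at this
  ext x
  induction x using TensorProduct.induction_on with
  | zero => simp
  | tmul s' m => rw [h2]; rfl
  | add x y hx hy => rw [map_add, hx, hy]; simp

theorem exists_diffOp_extension (k : ℕ) (D : M →ₗ[R] N')
    (hD : Diff16.IsDiffOpLE R S M N' k D) :
    ∃ D' : S' ⊗[S] M →ₗ[R] N', Diff16.IsDiffOpLE R S' (S' ⊗[S] M) N' k D' ∧
      ∀ m : M, D' ((1 : S') ⊗ₜ[S] m) = D m := by
  choose E' hE'ord hE'res using fun m : M =>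
    exists_diffOp_extension_ring (S' := S') k (atElt D m) ((isDiffOpLE_iff_atElt k D).mp hD m)
  have hadd : ∀ m₁ m₂, E' (m₁ + m₂) = E' m₁ + E' m₂ := by
    intro m₁ m₂
    rw [← sub_eq_zero]
    apply diffOp_ring_eq_zero_of_restrict (S := S) k _
      (isDiffOpLE_sub (hE'ord _) (isDiffOpLE_add (hE'ord _) (hE'ord _)))
    intro b
    rw [LinearMap.sub_apply, LinearMap.add_apply, hE'res, hE'res, hE'res, atElt_apply,
      atElt_apply, atElt_apply, smul_add, map_add, sub_self]
  have hbal : ∀ (s : S) (m : M), E' (s • m) =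
      E' m ∘ₗ ((LinearMap.lsmul S' S' (algebraMap S S' s)).restrictScalars R) := by
    intro s m
    rw [← sub_eq_zero]
    apply diffOp_ring_eq_zero_of_restrict (S := S) k _
      (isDiffOpLE_sub (hE'ord _) (isDiffOpLE_comp_lsmul_right (hE'ord _) _))
    intro b
    rw [LinearMap.sub_apply, LinearMap.comp_apply, LinearMap.coe_restrictScalars,
      LinearMap.lsmul_apply, smul_eq_mul, ← map_mul, hE'res, hE'res, atElt_apply, atElt_apply,
      mul_smul, smul_comm, sub_self]
  have hzero : E' 0 = 0 := by
    have := hadd 0 0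
    rw [add_zero] at this
    exact left_eq_add.mp this
  let f : S' →+ M →+ N' :=
    { toFun := fun s' =>
        { toFun := fun m => E' m s'
          map_zero' := by rw [hzero]; rfl
          map_add' := fun m₁ m₂ => by rw [hadd]; rfl }
      map_zero' := by ext m; simp
      map_add' := fun s₁ s₂ => by ext m; simp }
  have hf : ∀ (s : S) (s' : S') (m : M), f (s • s') m = f s' (s • m) := by
    intro s s' m
    show E' m (s • s') = E' (s • m) s'
    rw [hbal, LinearMap.comp_apply, LinearMap.coe_restrictScalars, LinearMap.lsmul_apply,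
      Algebra.smul_def, smul_eq_mul]
  let D₀ : S' ⊗[S] M →+ N' := TensorProduct.liftAddHom f hf
  have hD₀ : ∀ s' m, D₀ (s' ⊗ₜ[S] m) = E' m s' := fun s' m => rfl
  let D' : S' ⊗[S] M →ₗ[R] N' :=
    { toFun := D₀
      map_add' := map_add D₀
      map_smul' := fun r x => by
        rw [RingHom.id_apply]
        induction x using TensorProduct.induction_on with
        | zero => simp
        | tmul s' m => rw [smul_tmul', hD₀, hD₀, map_smul]
        | add x y hx hy => rw [smul_add, map_add, map_add, hx, hy, smul_add] }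
  have hD'₀ : ∀ s' m, D' (s' ⊗ₜ[S] m) = E' m s' := fun s' m => rfl
  refine ⟨D', ?_, ?_⟩
  · rw [isDiffOpLE_iff_atElt]
    intro y
    induction y using TensorProduct.induction_on with
    | zero =>
      have : atElt (B := S') D' (0 : S' ⊗[S] M) = 0 := by
        ext t; rw [atElt_apply, smul_zero, map_zero]; rfl
      rw [this]
      exact isDiffOpLE_zero_map R S' S' N' k
    | tmul s' m =>
      have : atElt (B := S') D' (s' ⊗ₜ[S] m) =
          E' m ∘ₗ ((LinearMap.lsmul S' S' s').restrictScalars R) := by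
        ext t
        rw [atElt_apply, smul_tmul', hD'₀, LinearMap.comp_apply, LinearMap.coe_restrictScalars,
          LinearMap.lsmul_apply, smul_eq_mul, smul_eq_mul, mul_comm]
      rw [this]
      exact isDiffOpLE_comp_lsmul_right (hE'ord m) s'
    | add x y hx hy =>
      have : atElt (B := S') D' (x + y) = atElt (B := S') D' x + atElt (B := S') D' y := by
        ext t
        rw [LinearMap.add_apply, atElt_apply, atElt_apply, atElt_apply, smul_add, map_add]
      rw [this]
      exact isDiffOpLE_add hx hy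
  · intro m
    rw [hD'₀]
    have := hE'res m 1
    rw [map_one, atElt_apply, one_smul] at this
    exact this

theorem existsUnique_diffOp_extension (k : ℕ) (D : M →ₗ[R] N')
    (hD : Diff16.IsDiffOpLE R S M N' k D) :
    ∃! D' : S' ⊗[S] M →ₗ[R] N', Diff16.IsDiffOpLE R S' (S' ⊗[S] M) N' k D' ∧
      D' ∘ₗ (TensorProduct.mk S S' M 1).restrictScalars R = D := by
  obtain ⟨D', h1, h2⟩ := exists_diffOp_extension (S' := S') k D hD
  refine ⟨D', ⟨h1, ?_⟩, ?_⟩
  · ext m
    exact h2 m
  · rintro D'' ⟨h1', h2'⟩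
    rw [← sub_eq_zero]
    apply diffOp_eq_zero_of_restrict k _ (isDiffOpLE_sub h1' h1)
    intro m
    rw [LinearMap.sub_apply, h2 m, sub_eq_zero]
    exact DFunLike.congr_fun h2' m

end K

end Groth.Agent.H5.CA
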