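import Groth.Agent.Lib.Helper5.CA.DiffOpEtale2

set_option autoImplicit false
universe u

open TensorProduct Groth.Agent.LD

namespace Groth.Agent.H5.CA

section Restrict

variable {R S S' : Type u} [CommRing R] [CommRing S] [CommRing S'] [Algebra R S] [Algebra R S']
  [Algebra S S'] [IsScalarTower R S S']
variable {M' : Type u} [AddCommGroup M'] [Module S' M'] [Module R M'] [IsScalarTower R S' M']
  [Module S M'] [IsScalarTower S S' M'] [IsScalarTower R S M']
variable {N' : Type u} [AddCommGroup N'] [Module S' N'] [Module R N'] [IsScalarTower R S' N']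
  [Module S N'] [IsScalarTower S S' N'] [IsScalarTower R S N']

lemma commutator_restrict (D' : M' →ₗ[R] N') (s : S) :
    Diff16.commutator R S M' N' D' s = Diff16.commutator R S' M' N' D' (algebraMap S S' s) := by
  ext m
  rw [commutator_apply, commutator_apply, algebraMap_smul, algebraMap_smul]

theorem isDiffOpLE_restrict (k : ℕ) : ∀ (D' : M' →ₗ[R] N'),
    Diff16.IsDiffOpLE R S' M' N' k D' → Diff16.IsDiffOpLE R S M' N' k D' := by
  induction k with
  | zero =>
    intro D' h b m
    rw [← algebraMap_smul S' b m, h, algebraMap_smul S' b (D' m)]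
  | succ k ih =>
    intro D' h b
    rw [commutator_restrict (S' := S')]
    exact ih _ (h _)

end Restrict

section Univ

variable {R S S' : Type u} [CommRing R] [CommRing S] [CommRing S'] [Algebra R S] [Algebra R S']
  [Algebra S S'] [IsScalarTower R S S'] [Algebra.FormallyEtale S S']
variable {M : Type u} [AddCommGroup M] [Module S M] [Module R M] [IsScalarTower R S M]
variable {P : Type u} [AddCommGroup P] [Module S P] [Module R P] [IsScalarTower R S P]
variable {N' : Type u} [AddCommGroup N'] [Module S' N'] [Module R N'] [IsScalarTower R S' N']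
  [Module S N'] [IsScalarTower S S' N'] [IsScalarTower R S N']

theorem existsUnique_factor_baseChange (k : ℕ) (Du : M →ₗ[R] P)
    (huniv : ∀ (D : M →ₗ[R] N'), Diff16.IsDiffOpLE R S M N' k D →
      ∃! α : P →ₗ[S] N', α.restrictScalars R ∘ₗ Du = D)
    (Du' : S' ⊗[S] M →ₗ[R] S' ⊗[S] P)
    (hDu' : Diff16.IsDiffOpLE R S' (S' ⊗[S] M) (S' ⊗[S] P) k Du')
    (hext : Du' ∘ₗ (TensorProduct.mk S S' M 1).restrictScalars R =
      (TensorProduct.mk S S' P 1).restrictScalars R ∘ₗ Du)
    (D' : S' ⊗[S] M →ₗ[R] N') (hD' : Diff16.IsDiffOpLE R S' (S' ⊗[S] M) N' k D') :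
    ∃! α : S' ⊗[S] P →ₗ[S'] N', α.restrictScalars R ∘ₗ Du' = D' := by
  have hιM : Diff16.IsDiffOpLE R S M (S' ⊗[S] M) 0
      ((TensorProduct.mk S S' M 1).restrictScalars R) := by
    intro b m
    exact map_smul (TensorProduct.mk S S' M 1) b m
  have hD₀ : Diff16.IsDiffOpLE R S M N' k
      (D' ∘ₗ (TensorProduct.mk S S' M 1).restrictScalars R) := by
    have := isDiffOpLE_comp hιM (isDiffOpLE_restrict (S := S) k D' hD')
    rwa [zero_add] at this
  obtain ⟨α₀, hα₀, hα₀u⟩ := huniv _ hD₀
  have hext' : ∀ m, Du' ((1 : S') ⊗ₜ[S] m) = (1 : S') ⊗ₜ[S] Du m :=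
    fun m => DFunLike.congr_fun hext m
  have hα₀' : ∀ m, α₀ (Du m) = D' ((1 : S') ⊗ₜ[S] m) := fun m => DFunLike.congr_fun hα₀ m
  have key : ∀ α : S' ⊗[S] P →ₗ[S'] N',
      α.restrictScalars R ∘ₗ Du' = D' ↔ (LinearMap.liftBaseChangeEquiv S').symm α = α₀ := by
    intro α
    have hαord : Diff16.IsDiffOpLE R S' (S' ⊗[S] P) N' 0 (α.restrictScalars R) := by
      intro b m
      exact map_smul α b m
    constructor
    · intro h
      apply hα₀u
      ext m
      show α ((1 : S') ⊗ₜ[S] Du m) = D' ((1 : S') ⊗ₜ[S] m)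
      rw [← hext', ← h]
      rfl
    · intro h
      rw [← sub_eq_zero]
      have hord : Diff16.IsDiffOpLE R S' (S' ⊗[S] M) N' k (α.restrictScalars R ∘ₗ Du') := by
        have := isDiffOpLE_comp hDu' hαord
        rwa [add_zero] at this
      apply diffOp_eq_zero_of_restrict k _ (isDiffOpLE_sub hord hD')
      intro m
      rw [LinearMap.sub_apply, LinearMap.comp_apply, hext', sub_eq_zero, ← hα₀', ← h]
      rfl
  refine ⟨LinearMap.liftBaseChangeEquiv S' α₀, (key _).mpr (LinearEquiv.symm_apply_apply _ _), ?_⟩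
  intro α hα
  rw [← (key α).mp hα, LinearEquiv.apply_symm_apply]

end Univ

end Groth.Agent.H5.CA
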