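import Groth.Agent.Lib.Helper5.CA.DiffOpEtale2
import Mathlib.RingTheory.Localization.BaseChange
import Mathlib.RingTheory.Etale.Basic

set_option autoImplicit false
universe u

open TensorProduct Groth.Agent.LD

namespace Groth.Agent.H5.CA

theorem existsUnique_diffOp_localizedModule (A B : Type u) [CommRing A] [CommRing B] [Algebra A B]
    (S : Submonoid B) (M N : Type u) [AddCommGroup M] [Module B M] [Module A M] [IsScalarTower A B M]
    [AddCommGroup N] [Module B N] [Module A N] [IsScalarTower A B N] (k : ℕ) (D : M →ₗ[A] N)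
    (hD : Diff16.IsDiffOpLE A B M N k D) :
    ∃! E : LocalizedModule S M →ₗ[A] LocalizedModule S N,
      Diff16.IsDiffOpLE A (Localization S) (LocalizedModule S M) (LocalizedModule S N) k E ∧
        E ∘ₗ (LocalizedModule.mkLinearMap S M).restrictScalars A =
          (LocalizedModule.mkLinearMap S N).restrictScalars A ∘ₗ D := by
  haveI : Algebra.FormallyEtale B (Localization S) := Algebra.FormallyEtale.of_isLocalization S
  let eM := LocalizedModule.equivTensorProduct S M
  let eN := LocalizedModule.equivTensorProduct S N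
  have hι : Diff16.IsDiffOpLE A B N (Localization S ⊗[B] N) 0
      ((TensorProduct.mk B (Localization S) N 1).restrictScalars A) := by
    intro b m
    exact map_smul (TensorProduct.mk B (Localization S) N 1) b m
  have hcomp : Diff16.IsDiffOpLE A B M (Localization S ⊗[B] N) k
      ((TensorProduct.mk B (Localization S) N 1).restrictScalars A ∘ₗ D) := by
    have := isDiffOpLE_comp hD hι
    rwa [add_zero] at this
  obtain ⟨D', ⟨hD'1, hD'2⟩, hD'u⟩ :=
    existsUnique_diffOp_extension (S' := Localization S) k _ hcomp
  have heM : Diff16.IsDiffOpLE A (Localization S) (LocalizedModule S M) (Localization S ⊗[B] M) 0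
      (eM.toLinearMap.restrictScalars A) := fun b m => map_smul eM b m
  have heMs : Diff16.IsDiffOpLE A (Localization S) (Localization S ⊗[B] M) (LocalizedModule S M) 0
      (eM.symm.toLinearMap.restrictScalars A) := fun b m => map_smul eM.symm b m
  have heN : Diff16.IsDiffOpLE A (Localization S) (LocalizedModule S N) (Localization S ⊗[B] N) 0
      (eN.toLinearMap.restrictScalars A) := fun b m => map_smul eN b m
  have heNs : Diff16.IsDiffOpLE A (Localization S) (Localization S ⊗[B] N) (LocalizedModule S N) 0
      (eN.symm.toLinearMap.restrictScalars A) := fun b m => map_smul eN.symm b m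
  have hD'2' : ∀ m, D' ((1 : Localization S) ⊗ₜ[B] m) = (1 : Localization S) ⊗ₜ[B] D m :=
    fun m => DFunLike.congr_fun hD'2 m
  have heM1 : ∀ m, eM (LocalizedModule.mk m 1) = (1 : Localization S) ⊗ₜ[B] m := by
    intro m
    rw [LocalizedModule.equivTensorProduct_apply_mk, Localization.mk_one]
  have heN1 : ∀ n, eN (LocalizedModule.mk n 1) = (1 : Localization S) ⊗ₜ[B] n := by
    intro n
    rw [LocalizedModule.equivTensorProduct_apply_mk, Localization.mk_one]
  refine ⟨(eN.symm.toLinearMap.restrictScalars A) ∘ₗ D' ∘ₗ (eM.toLinearMap.restrictScalars A),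
    ⟨?_, ?_⟩, ?_⟩
  · have h1 := isDiffOpLE_comp (isDiffOpLE_comp heM hD'1) heNs
    rw [zero_add, add_zero] at h1
    exact h1
  · ext m
    show eN.symm (D' (eM (LocalizedModule.mk m 1))) = LocalizedModule.mk (D m) 1
    rw [heM1, hD'2', ← heN1, LinearEquiv.symm_apply_apply]
  · rintro E ⟨hE1, hE2⟩
    have hE2' : ∀ m, E (LocalizedModule.mk m 1) = LocalizedModule.mk (D m) 1 :=
      fun m => DFunLike.congr_fun hE2 m
    have h1 := isDiffOpLE_comp (isDiffOpLE_comp heMs hE1) heN
    rw [zero_add, add_zero] at h1
    have h2 := hD'u _ ⟨h1, by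
      ext m
      show eN (E (eM.symm ((1 : Localization S) ⊗ₜ[B] m))) = (1 : Localization S) ⊗ₜ[B] D m
      rw [← heM1, LinearEquiv.symm_apply_apply, hE2', heN1]⟩
    ext x
    have h3 := DFunLike.congr_fun h2 (eM x)
    show E x = eN.symm (D' (eM x))
    rw [← h3]
    show E x = eN.symm (eN (E (eM.symm (eM x))))
    rw [LinearEquiv.symm_apply_apply, LinearEquiv.symm_apply_apply]

end Groth.Agent.H5.CA
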