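import Groth.Agent.Lib.Lead.DiffOpAlt
import Mathlib.RingTheory.TensorProduct.Basic
import Mathlib.LinearAlgebra.Quotient.Basic

set_option autoImplicit false
universe u

open TensorProduct Groth.Agent.LD

namespace Groth.Agent.H5.CA

section

variable (R S : Type u) [CommRing R] [CommRing S] [Algebra R S] (M : Type u)
    [AddCommGroup M] [Module S M] [Module R M] [IsScalarTower R S M] (k : ℕ)

/-- the relation elements. -/
noncomputable def ppRel (b : Fin (k + 1) → S) (t : M) : S ⊗[R] M :=
  ∑ H ∈ (Finset.univ : Finset (Fin (k + 1))).powerset,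
    ((-1 : ℤ) ^ H.card) • ((∏ i ∈ H, b i) ⊗ₜ[R] ((∏ i ∈ Finset.univ \ H, b i) • t))

/-- the submodule of relations. -/
noncomputable def ppSub : Submodule S (S ⊗[R] M) :=
  Submodule.span S (Set.range (fun p : (Fin (k + 1) → S) × M => ppRel R S M k p.1 p.2))

/-- module of principal parts of a module. -/
abbrev PP : Type u := (S ⊗[R] M) ⧸ ppSub R S M k

/-- the universal operator. -/
noncomputable def ppD : M →ₗ[R] PP R S M k :=
  ((ppSub R S M k).mkQ.restrictScalars R) ∘ₗ (TensorProduct.mk R S M 1)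

lemma ppD_apply (m : M) : ppD R S M k m = (ppSub R S M k).mkQ ((1 : S) ⊗ₜ[R] m) := rfl

lemma alt_ppD (b : Fin (k + 1) → S) (t : M) :
    alt (ppD R S M k) b Finset.univ t = (ppSub R S M k).mkQ (ppRel R S M k b t) := by
  unfold alt ppRel
  rw [map_sum]
  refine Finset.sum_congr rfl (fun H _ => ?_)
  rw [ppD_apply, ← map_smul, smul_tmul', smul_eq_mul, mul_one, map_zsmul]

theorem isDiffOpLE_ppD : Diff16.IsDiffOpLE R S M (PP R S M k) k (ppD R S M k) := by
  rw [isDiffOpLE_iff_alt k (ppD R S M k) (Finset.univ : Finset (Fin (k + 1))) (by simp)]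
  intro b t
  rw [alt_ppD, Submodule.mkQ_apply, Submodule.Quotient.mk_eq_zero]
  exact Submodule.subset_span ⟨(b, t), rfl⟩

variable {R S M k}

theorem existsUnique_factor_ppD {N : Type u} [AddCommGroup N] [Module S N] [Module R N]
    [IsScalarTower R S N] (D' : M →ₗ[R] N) (hD' : Diff16.IsDiffOpLE R S M N k D') :
    ∃! α : PP R S M k →ₗ[S] N, α.restrictScalars R ∘ₗ ppD R S M k = D' := by
  have hkill : ppSub R S M k ≤ LinearMap.ker (D'.liftBaseChange S) := by
    unfold ppSub
    rw [Submodule.span_le]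
    rintro _ ⟨⟨b, t⟩, rfl⟩
    rw [SetLike.mem_coe, LinearMap.mem_ker]
    have := (isDiffOpLE_iff_alt k D' (Finset.univ : Finset (Fin (k + 1))) (by simp)).mp hD' b t
    rw [← this]
    unfold alt ppRel
    rw [map_sum]
    refine Finset.sum_congr rfl (fun H _ => ?_)
    rw [map_zsmul, LinearMap.liftBaseChange_tmul]
  refine ⟨(ppSub R S M k).liftQ (D'.liftBaseChange S) hkill, ?_, ?_⟩
  · ext m
    show (ppSub R S M k).liftQ (D'.liftBaseChange S) hkill
      ((ppSub R S M k).mkQ ((1 : S) ⊗ₜ[R] m)) = D' m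
    rw [Submodule.mkQ_apply, Submodule.liftQ_apply, LinearMap.liftBaseChange_tmul, one_smul]
  · intro α hα
    apply Submodule.linearMap_qext
    rw [Submodule.liftQ_mkQ]
    apply TensorProduct.AlgebraTensorModule.ext
    intro s m
    have h1 := DFunLike.congr_fun hα m
    have h2 : α ((ppSub R S M k).mkQ ((1 : S) ⊗ₜ[R] m)) = D' m := h1
    rw [LinearMap.comp_apply, LinearMap.liftBaseChange_tmul, ← h2, ← map_smul, ← map_smul,
      smul_tmul', smul_eq_mul, mul_one]

end

end Groth.Agent.H5.CA
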