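import Mathlib

set_option autoImplicit false
universe u

open IsLocalRing MvPolynomial

namespace H5.EI

section
variable {A : Type u} [CommRing A] {r : ℕ} (d : Fin r → ℕ) (c : Fin r → ℕ → A)

/-- the Eisenstein-type polynomials `T_i^{d_i} + Σ_{k<d_i} c_{ik} T_i^k`. -/
noncomputable def EF (i : Fin r) : MvPolynomial (Fin r) A :=
  X i ^ d i + (Finset.range (d i)).sum fun k => C (c i k) * X i ^ k

/-- the quotient algebra. -/
abbrev EA : Type u := MvPolynomial (Fin r) A ⧸ Ideal.span (Set.range (EF d c))

/-- the class of `T_i`. -/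
noncomputable def tt (i : Fin r) : EA d c := Ideal.Quotient.mk _ (X i)

theorem tt_pow (i : Fin r) :
    tt d c i ^ d i = -(Finset.range (d i)).sum fun k => algebraMap A (EA d c) (c i k) * tt d c i ^ k := by
  have h0 : Ideal.Quotient.mk (Ideal.span (Set.range (EF d c))) (EF d c i) = 0 :=
    Ideal.Quotient.eq_zero_iff_mem.mpr (Ideal.subset_span ⟨i, rfl⟩)
  rw [EF, map_add, map_pow, map_sum] at h0
  have h1 : ∀ k, Ideal.Quotient.mk (Ideal.span (Set.range (EF d c))) (C (c i k) * X i ^ k) =
      algebraMap A (EA d c) (c i k) * tt d c i ^ k := by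
    intro k
    rw [map_mul, map_pow]
    rfl
  simp only [h1] at h0
  exact eq_neg_of_add_eq_zero_left h0

/-- evaluation at `T = 0` modulo the constant terms. -/
noncomputable def theta (hd : ∀ i, d i ≠ 0) :
    EA d c →+* A ⧸ Ideal.span (Set.range fun i => c i 0) :=
  Ideal.Quotient.lift _ (MvPolynomial.eval₂Hom (Ideal.Quotient.mk _) (fun _ => 0)) (by
    intro q hq
    have hle : Ideal.span (Set.range (EF d c)) ≤ RingHom.ker
        (MvPolynomial.eval₂Hom (Ideal.Quotient.mk (Ideal.span (Set.range fun i => c i 0)))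
          (fun _ : Fin r => (0 : A ⧸ Ideal.span (Set.range fun i => c i 0)))) := by
      rw [Ideal.span_le]
      rintro _ ⟨i, rfl⟩
      rw [SetLike.mem_coe, RingHom.mem_ker, EF, map_add, map_pow, map_sum]
      simp only [MvPolynomial.coe_eval₂Hom, MvPolynomial.eval₂_X, map_mul, map_pow,
        MvPolynomial.eval₂_C]
      rw [zero_pow (hd i), zero_add, Finset.sum_eq_single 0]
      · rw [pow_zero, mul_one, Ideal.Quotient.eq_zero_iff_mem]
        exact Ideal.subset_span ⟨i, rfl⟩
      · intro k _ hk
        rw [zero_pow hk, mul_zero]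
      · intro h0
        exact absurd (Finset.mem_range.mpr (Nat.pos_of_ne_zero (hd i))) h0
    exact hle hq)

theorem theta_algebraMap (hd : ∀ i, d i ≠ 0) (a : A) :
    theta d c hd (algebraMap A (EA d c) a) = Ideal.Quotient.mk _ a := by
  show theta d c hd (Ideal.Quotient.mk _ (C a)) = _
  simp [theta]

theorem theta_surjective (hd : ∀ i, d i ≠ 0) : Function.Surjective (theta d c hd) := by
  intro y
  obtain ⟨a, rfl⟩ := Ideal.Quotient.mk_surjective y
  exact ⟨algebraMap A (EA d c) a, theta_algebraMap d c hd a⟩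

end

section local_
variable {A : Type u} [CommRing A] [IsLocalRing A] {r : ℕ} (d : Fin r → ℕ) (c : Fin r → ℕ → A)

theorem span_le_maximalIdeal (hc : ∀ i k, c i k ∈ maximalIdeal A) :
    Ideal.span (Set.range fun i => c i 0) ≤ maximalIdeal A := by
  rw [Ideal.span_le]
  rintro _ ⟨i, rfl⟩
  exact hc i 0

theorem nontrivial_EA (hd : ∀ i, d i ≠ 0) (hc : ∀ i k, c i k ∈ maximalIdeal A) :
    Nontrivial (EA d c) := by
  haveI : Nontrivial (A ⧸ Ideal.span (Set.range fun i => c i 0)) :=
    Ideal.Quotient.nontrivial_iff.mpr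
      (ne_top_of_le_ne_top (maximalIdeal.isMaximal A).ne_top (span_le_maximalIdeal c hc))
  exact (theta d c hd).domain_nontrivial

/-- every element is congruent to a constant modulo the ideal generated by the `T_i`. -/
theorem exists_sub_mem_span_tt (x : EA d c) :
    ∃ a : A, x - algebraMap A (EA d c) a ∈ Ideal.span (Set.range (tt d c)) := by
  obtain ⟨q, rfl⟩ := Ideal.Quotient.mk_surjective x
  induction q using MvPolynomial.induction_on with
  | C a =>
    refine ⟨a, ?_⟩
    have h1 : (Ideal.Quotient.mk (Ideal.span (Set.range (EF d c))) (C a) : EA d c) =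
        algebraMap A (EA d c) a := rfl
    rw [h1, sub_self]
    exact Ideal.zero_mem _
  | add u v hu hv =>
    obtain ⟨a, ha⟩ := hu
    obtain ⟨b, hb⟩ := hv
    refine ⟨a + b, ?_⟩
    rw [map_add, map_add]
    have := Ideal.add_mem _ ha hb
    convert this using 1
    ring
  | mul_X u i hu =>
    refine ⟨0, ?_⟩
    rw [map_zero, sub_zero, map_mul]
    exact Ideal.mul_mem_left _ _ (Ideal.subset_span ⟨i, rfl⟩)

end local_

end H5.EI
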