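import Mathlib
import Groth.Agent.Lib.Helper5.CA.EI1

set_option autoImplicit false
universe u

open IsLocalRing MvPolynomial

namespace H5.EI

section
variable {A : Type u} [CommRing A] [IsLocalRing A] (hm : maximalIdeal A ^ 2 = ⊥) {r : ℕ}
  (d : Fin r → ℕ) (hd : ∀ i, 2 ≤ d i) (c : Fin r → ℕ → A) (hc : ∀ i k, c i k ∈ maximalIdeal A)

include hm in
theorem map_sq_eq_bot : ((maximalIdeal A).map (algebraMap A (EA d c))) ^ 2 = ⊥ := by
  rw [← Ideal.map_pow, hm, Ideal.map_bot]

include hm in
theorem mul_eq_zero_of_mem_map {x y : EA d c}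
    (hx : x ∈ (maximalIdeal A).map (algebraMap A (EA d c)))
    (hy : y ∈ (maximalIdeal A).map (algebraMap A (EA d c))) : x * y = 0 := by
  have h1 : x * y ∈ ((maximalIdeal A).map (algebraMap A (EA d c))) ^ 2 := by
    rw [pow_two]; exact Ideal.mul_mem_mul hx hy
  rwa [map_sq_eq_bot hm, Ideal.mem_bot] at h1

include hm in
theorem isNilpotent_of_mem_map {x : EA d c}
    (hx : x ∈ (maximalIdeal A).map (algebraMap A (EA d c))) : IsNilpotent x :=
  ⟨2, by rw [pow_two]; exact mul_eq_zero_of_mem_map hm d c hx hx⟩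

include hc in
theorem tt_pow_mem (i : Fin r) :
    tt d c i ^ d i ∈ (maximalIdeal A).map (algebraMap A (EA d c)) := by
  rw [tt_pow, Ideal.neg_mem_iff]
  refine Ideal.sum_mem _ fun k _ => ?_
  exact Ideal.mul_mem_right _ _ (Ideal.mem_map_of_mem _ (hc i k))

include hm hc in
theorem isNilpotent_tt (i : Fin r) : IsNilpotent (tt d c i) := by
  have h := isNilpotent_of_mem_map hm d c (tt_pow_mem d c hc i)
  obtain ⟨n, hn⟩ := h
  exact ⟨d i * n, by rw [pow_mul, hn]⟩

include hm hc in
theorem span_tt_le_nilradical : Ideal.span (Set.range (tt d c)) ≤ nilradical (EA d c) := by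
  rw [Ideal.span_le]
  rintro _ ⟨i, rfl⟩
  exact isNilpotent_tt hm d c hc i

include hm hd hc in
theorem isLocalRing_EA : IsLocalRing (EA d c) := by
  haveI : Nontrivial (EA d c) := nontrivial_EA d c (fun i => by have := hd i; omega) hc
  apply IsLocalRing.of_isUnit_or_isUnit_one_sub_self
  intro x
  obtain ⟨a, ha⟩ := exists_sub_mem_span_tt d c x
  have hν : IsNilpotent (x - algebraMap A (EA d c) a) := span_tt_le_nilradical hm d c hc ha
  by_cases hau : IsUnit a
  · left
    have h1 := hν.isUnit_add_left_of_commute (hau.map (algebraMap A (EA d c))) (Commute.all _ _)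
    simpa using h1
  · right
    have ham : a ∈ maximalIdeal A := (mem_maximalIdeal a).mpr hau
    have h2 : IsNilpotent (algebraMap A (EA d c) a) :=
      isNilpotent_of_mem_map hm d c (Ideal.mem_map_of_mem _ ham)
    have h3 : IsNilpotent x := by
      have := Commute.isNilpotent_add (Commute.all _ _) hν h2
      simpa using this
    exact h3.isUnit_one_sub

end

end H5.EI
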