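import Mathlib
import Groth.Agent.Lib.Helper5.CA.EI2

set_option autoImplicit false
universe u

open IsLocalRing MvPolynomial

namespace H5.EI

section
variable {A : Type u} [CommRing A] [IsLocalRing A] (hm : maximalIdeal A ^ 2 = ⊥) {r : ℕ}
  (d : Fin r → ℕ) (hd : ∀ i, 2 ≤ d i) (c : Fin r → ℕ → A) (hc : ∀ i k, c i k ∈ maximalIdeal A)

include hm hd hc in
theorem main4604 :
    ∃ _ : IsLocalRing (EA d c),
      Function.Surjective ((Ideal.Quotient.mk (maximalIdeal (EA d c))).comp
        (algebraMap A (EA d c))) ∧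
      maximalIdeal A ⊓ Ideal.comap (algebraMap A (EA d c)) (maximalIdeal (EA d c) ^ 2) =
        Ideal.span (Set.range fun i => c i 0) := by
  haveI hloc : IsLocalRing (EA d c) := isLocalRing_EA hm d hd c hc
  have hd0 : ∀ i, d i ≠ 0 := fun i => by have := hd i; omega
  refine ⟨hloc, ?_, ?_⟩
  · intro y
    obtain ⟨x, rfl⟩ := Ideal.Quotient.mk_surjective y
    obtain ⟨a, ha⟩ := exists_sub_mem_span_tt d c x
    have hν : IsNilpotent (x - algebraMap A (EA d c) a) := span_tt_le_nilradical hm d c hc ha
    refine ⟨a, ?_⟩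
    rw [RingHom.comp_apply, eq_comm, Ideal.Quotient.eq, mem_maximalIdeal, mem_nonunits_iff]
    exact hν.not_isUnit
  · have htm : ∀ i, tt d c i ∈ maximalIdeal (EA d c) := fun i => by
      rw [mem_maximalIdeal, mem_nonunits_iff]
      exact (isNilpotent_tt hm d c hc i).not_isUnit
    have hcm : ∀ a ∈ maximalIdeal A, algebraMap A (EA d c) a ∈ maximalIdeal (EA d c) := by
      intro a ha
      rw [mem_maximalIdeal, mem_nonunits_iff]
      exact (isNilpotent_of_mem_map hm d c (Ideal.mem_map_of_mem _ ha)).not_isUnit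
    apply le_antisymm
    · rintro a ⟨ha1, ha2⟩
      rw [SetLike.mem_coe, Ideal.mem_comap] at ha2
      haveI : Nontrivial (A ⧸ Ideal.span (Set.range fun i => c i 0)) :=
        Ideal.Quotient.nontrivial_iff.mpr
          (ne_top_of_le_ne_top (maximalIdeal.isMaximal A).ne_top (span_le_maximalIdeal c hc))
      haveI : IsLocalRing (A ⧸ Ideal.span (Set.range fun i => c i 0)) :=
        IsLocalRing.of_surjective' (Ideal.Quotient.mk _) Ideal.Quotient.mk_surjective
      haveI : IsLocalHom (theta d c hd0) := (theta_surjective d c hd0).isLocalHom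
      have h1 : theta d c hd0 (algebraMap A (EA d c) a) ∈
          (maximalIdeal (EA d c) ^ 2).map (theta d c hd0) := Ideal.mem_map_of_mem _ ha2
      rw [Ideal.map_pow] at h1
      have h2 : (maximalIdeal (EA d c)).map (theta d c hd0) ≤
          maximalIdeal (A ⧸ Ideal.span (Set.range fun i => c i 0)) :=
        IsLocalRing.map_maximalIdeal_le _
      have h3 := Ideal.pow_right_mono h2 2 h1
      haveI : IsLocalHom (Ideal.Quotient.mk (Ideal.span (Set.range fun i => c i 0))) :=
        (Ideal.Quotient.mk_surjective).isLocalHom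
      have h4 : maximalIdeal (A ⧸ Ideal.span (Set.range fun i => c i 0)) =
          (maximalIdeal A).map (Ideal.Quotient.mk _) := by
        rw [← IsLocalRing.maximalIdeal_comap (Ideal.Quotient.mk (Ideal.span (Set.range fun i => c i 0))),
          Ideal.map_comap_of_surjective _ Ideal.Quotient.mk_surjective]
      rw [h4, ← Ideal.map_pow, hm, Ideal.map_bot, Ideal.mem_bot, theta_algebraMap,
        Ideal.Quotient.eq_zero_iff_mem] at h3
      exact h3
    · rw [Ideal.span_le]
      rintro _ ⟨i, rfl⟩
      refine ⟨hc i 0, ?_⟩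
      rw [SetLike.mem_coe, Ideal.mem_comap]
      -- c_{i0} = -(t^d + Σ_{k≥1} c_k t^k)
      have h1 := tt_pow d c i
      obtain ⟨e, he⟩ : ∃ e, d i = e + 1 := ⟨d i - 1, by have := hd i; omega⟩
      rw [he, Finset.sum_range_succ', pow_zero, mul_one] at h1
      have h2 : algebraMap A (EA d c) (c i 0) = -(tt d c i ^ (e + 1)) -
          (Finset.range e).sum fun k => algebraMap A (EA d c) (c i (k + 1)) * tt d c i ^ (k + 1) := by
        rw [h1]; ring
      rw [h2]
      refine Ideal.sub_mem _ ?_ ?_
      · rw [Ideal.neg_mem_iff]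
        have : 2 ≤ e + 1 := by have := hd i; omega
        exact Ideal.pow_le_pow_right this (Ideal.pow_mem_pow (htm i) _)
      · refine Ideal.sum_mem _ fun k _ => ?_
        rw [pow_two]
        refine Ideal.mul_mem_mul (hcm _ (hc i _)) ?_
        exact Ideal.pow_mem_of_mem _ (htm i) _ (Nat.succ_pos k)

end

end H5.EI
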