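import Mathlib

set_option autoImplicit false
universe u

open IsLocalRing

namespace H5.EI

/-- a linear combination of classes vanishes in the cotangent space iff the corresponding
combination lies in `𝔪²`. -/
theorem sum_smul_toCotangent_eq_zero_iff {S : Type*} [CommRing S] [IsLocalRing S] {ι : Type*}
    [Fintype ι] (x : ι → maximalIdeal S) (s : ι → S) :
    (∑ i, residue S (s i) • (maximalIdeal S).toCotangent (x i)) = 0 ↔
      (∑ i, s i * (x i : S)) ∈ maximalIdeal S ^ 2 := by
  have h1 : (∑ i, residue S (s i) • (maximalIdeal S).toCotangent (x i)) =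
      (maximalIdeal S).toCotangent (∑ i, s i • x i) := by
    rw [map_sum]
    refine Finset.sum_congr rfl fun i _ => ?_
    rw [map_smul]
    rfl
  rw [h1, Ideal.toCotangent_eq_zero]
  simp [Submodule.coe_sum]

/-- transfer of linear independence in cotangent spaces along a local homomorphism with a local
retraction. -/
theorem linearIndependent_toCotangent_iff_of_retraction {S₁ S₂ : Type*} [CommRing S₁] [CommRing S₂]
    [IsLocalRing S₁] [IsLocalRing S₂] (φ : S₁ →+* S₂) [IsLocalHom φ] (ε : S₂ →+* S₁)
    [IsLocalHom ε] (hε : ∀ a, ε (φ a) = a) {ι : Type*} [Fintype ι] (x : ι → maximalIdeal S₁)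
    (hx : ∀ i, φ (x i : S₁) ∈ maximalIdeal S₂) :
    LinearIndependent (ResidueField S₁) (fun i => (maximalIdeal S₁).toCotangent (x i)) ↔
      LinearIndependent (ResidueField S₂)
        (fun i => (maximalIdeal S₂).toCotangent ⟨φ (x i : S₁), hx i⟩) := by
  have hφ : (maximalIdeal S₁).map φ ≤ maximalIdeal S₂ := IsLocalRing.map_maximalIdeal_le φ
  have hεm : (maximalIdeal S₂).map ε ≤ maximalIdeal S₁ := IsLocalRing.map_maximalIdeal_le ε
  rw [Fintype.linearIndependent_iff, Fintype.linearIndependent_iff]
  constructor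
  · intro h g hg i
    choose s hs using fun i => residue_surjective (g i)
    have hg' : (∑ i, residue S₂ (s i) • (maximalIdeal S₂).toCotangent
        (⟨φ (x i : S₁), hx i⟩ : maximalIdeal S₂)) = 0 := by
      simpa [hs] using hg
    rw [sum_smul_toCotangent_eq_zero_iff] at hg'
    have h1 : ε (∑ i, s i * φ (x i : S₁)) ∈ (maximalIdeal S₂ ^ 2).map ε :=
      Ideal.mem_map_of_mem _ hg'
    rw [Ideal.map_pow] at h1
    have h2 := Ideal.pow_right_mono hεm 2 h1
    rw [map_sum] at h2
    simp only [map_mul, hε] at h2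
    rw [← sum_smul_toCotangent_eq_zero_iff] at h2
    have h3 := h (fun i => residue S₁ (ε (s i))) h2 i
    have h4 : ε (s i) ∈ maximalIdeal S₁ := (residue_eq_zero_iff _).mp h3
    have h5 : s i ∈ maximalIdeal S₂ := by
      rw [mem_maximalIdeal, mem_nonunits_iff] at h4 ⊢
      intro hu
      exact h4 (hu.map ε)
    rw [← hs i]
    exact (residue_eq_zero_iff _).mpr h5
  · intro h g hg i
    choose a ha using fun i => residue_surjective (g i)
    have hg' : (∑ i, residue S₁ (a i) • (maximalIdeal S₁).toCotangent (x i)) = 0 := by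
      simpa [ha] using hg
    rw [sum_smul_toCotangent_eq_zero_iff] at hg'
    have h1 : φ (∑ i, a i * (x i : S₁)) ∈ (maximalIdeal S₁ ^ 2).map φ :=
      Ideal.mem_map_of_mem _ hg'
    rw [Ideal.map_pow] at h1
    have h2 := Ideal.pow_right_mono hφ 2 h1
    rw [map_sum] at h2
    simp only [map_mul] at h2
    have h2' : (∑ i, φ (a i) * ((⟨φ (x i : S₁), hx i⟩ : maximalIdeal S₂) : S₂)) ∈
        maximalIdeal S₂ ^ 2 := h2
    rw [← sum_smul_toCotangent_eq_zero_iff] at h2'
    have h3 := h (fun i => residue S₂ (φ (a i))) h2' i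
    have h4 : φ (a i) ∈ maximalIdeal S₂ := (residue_eq_zero_iff _).mp h3
    have h5 : a i ∈ maximalIdeal S₁ := by
      rw [mem_maximalIdeal, mem_nonunits_iff] at h4 ⊢
      intro hu
      exact h4 (hu.map φ)
    rw [← ha i]
    exact (residue_eq_zero_iff _).mpr h5

end H5.EI
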