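import Mathlib
import Groth.Agent.Lib.Helper5.CA.NG5

set_option autoImplicit false
universe u

open TensorProduct IsLocalRing

namespace H5.NG

/-- if `𝔪_R` acts as zero on the `R`-algebra `K`, then `1 ⊗ dx = 0` in `K ⊗_R Ω_R` for `x ∈ 𝔪_R²`. -/
theorem one_tmul_D_eq_zero_of_mem_sq (R : Type u) [CommRing R] [IsLocalRing R]
    (K : Type u) [CommRing K] [Algebra R K]
    (hK : ∀ a ∈ maximalIdeal R, algebraMap R K a = 0) (x : R) (hx : x ∈ maximalIdeal R ^ 2) :
    (1 : K) ⊗ₜ[R] KaehlerDifferential.D ℤ R x = 0 := by
  rw [pow_two] at hx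
  refine Submodule.mul_induction_on hx ?_ ?_
  · intro a ha b hb
    rw [Derivation.leibniz, TensorProduct.tmul_add, TensorProduct.tmul_smul, TensorProduct.tmul_smul,
      TensorProduct.smul_tmul', TensorProduct.smul_tmul', Algebra.smul_def, Algebra.smul_def,
      hK a ha, hK b hb]
    simp
  · intro a b ha hb
    rw [map_add, TensorProduct.tmul_add, ha, hb, add_zero]

section
variable (R S : Type u) [CommRing R] [CommRing S] [IsLocalRing R] [IsLocalRing S] [Algebra R S]
  [IsLocalHom (algebraMap R S)]

theorem injective_baseChange_mapBaseChange_of_surjective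
    (hsurj : Function.Surjective (algebraMap R S))
    (hker : RingHom.ker (algebraMap R S) ≤ maximalIdeal R ^ 2) :
    Function.Injective
      ((KaehlerDifferential.mapBaseChange ℤ R S).baseChange (ResidueField S)) := by
  set g := KaehlerDifferential.mapBaseChange ℤ R S with hg
  have hgs : Function.Surjective g := KaehlerDifferential.mapBaseChange_surjective ℤ R S hsurj
  have hex : Function.Exact (LinearMap.ker g).subtype g := LinearMap.exact_subtype_ker_map g
  have hex2 := lTensor_exact (M := LinearMap.ker g) (f := (LinearMap.ker g).subtype) (ResidueField S) hex hgs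
  -- the left map vanishes
  have hzero : (LinearMap.ker g).subtype.lTensor (ResidueField S) = 0 := by
    apply TensorProduct.ext'
    intro c m
    rw [LinearMap.lTensor_tmul, LinearMap.zero_apply]
    obtain ⟨m, hm⟩ := m
    have hm' : m ∈ Set.range (KaehlerDifferential.kerCotangentToTensor ℤ R S) := by
      have := (KaehlerDifferential.exact_kerCotangentToTensor_mapBaseChange ℤ R S hsurj) m
      exact this.mp hm
    obtain ⟨ξ, rfl⟩ := hm'
    obtain ⟨x, rfl⟩ := Ideal.toCotangent_surjective _ ξ
    rw [Submodule.subtype_apply]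
    show c ⊗ₜ[S] (KaehlerDifferential.kerCotangentToTensor ℤ R S (Ideal.toCotangent _ x)) = 0
    rw [KaehlerDifferential.kerCotangentToTensor_toCotangent]
    -- transport to K' ⊗_R Ω_R
    apply (TensorProduct.AlgebraTensorModule.cancelBaseChange R S (ResidueField S) (ResidueField S)
      Ω[R⁄ℤ]).injective
    rw [TensorProduct.AlgebraTensorModule.cancelBaseChange_tmul, map_zero, one_smul]
    have h1 : (1 : ResidueField S) ⊗ₜ[R] KaehlerDifferential.D ℤ R (x : R) = 0 := by
      apply one_tmul_D_eq_zero_of_mem_sq R (ResidueField S) _ _ (hker x.2)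
      intro a ha
      rw [IsScalarTower.algebraMap_apply R S (ResidueField S)]
      show residue S (algebraMap R S a) = 0
      rw [residue_eq_zero_iff]
      have h02 := (local_hom_TFAE (algebraMap R S)).out 0 2
      have h3 : (maximalIdeal R).map (algebraMap R S) ≤ maximalIdeal S := h02.mp inferInstance
      exact h3 (Ideal.mem_map_of_mem _ ha)
    have h2 : c ⊗ₜ[R] KaehlerDifferential.D ℤ R (x : R) =
        c • ((1 : ResidueField S) ⊗ₜ[R] KaehlerDifferential.D ℤ R (x : R)) := by
      rw [TensorProduct.smul_tmul', smul_eq_mul, mul_one]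
    rw [h2, h1, smul_zero]
  intro a b hab
  have h0 : (LinearMap.lTensor (ResidueField S) g) (a - b) = 0 := by
    have : (LinearMap.baseChange (ResidueField S) g) (a - b) = 0 := by
      rw [map_sub, hab, sub_self]
    exact this
  obtain ⟨y, hy⟩ := (hex2 (a - b)).mp h0
  rw [hzero, LinearMap.zero_apply] at hy
  exact sub_eq_zero.mp hy.symm

theorem gam_injective_of_surjective (hsurj : Function.Surjective (algebraMap R S))
    (hker : RingHom.ker (algebraMap R S) ≤ maximalIdeal R ^ 2) :
    Function.Injective (gam R S) := by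
  have h1 := injective_baseChange_mapBaseChange_of_surjective R S hsurj hker
  unfold gam
  rw [LinearMap.coe_comp, LinearMap.coe_comp]
  exact h1.comp ((LinearEquiv.injective _).comp (LinearEquiv.injective _))

theorem linearIndependent_iff_of_gam_injective (hinj : Function.Injective (gam R S)) {ι : Type*}
    (f : ι → R) :
    LinearIndependent (ResidueField R)
        (fun i => (1 : ResidueField R) ⊗ₜ[R] KaehlerDifferential.D ℤ R (f i)) ↔
      LinearIndependent (ResidueField S)
        (fun i => (1 : ResidueField S) ⊗ₜ[S] KaehlerDifferential.D ℤ S (algebraMap R S (f i))) := by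
  constructor
  · intro h
    have h1 := Module.Flat.linearIndependent_one_tmul (S := ResidueField S) h
    have h2 := h1.map' (gam R S) (LinearMap.ker_eq_bot.mpr hinj)
    have h3 : (fun i => (1 : ResidueField S) ⊗ₜ[S]
        KaehlerDifferential.D ℤ S (algebraMap R S (f i))) =
        (gam R S) ∘ fun x => (1 : ResidueField S) ⊗ₜ[ResidueField R]
          ((1 : ResidueField R) ⊗ₜ[R] KaehlerDifferential.D ℤ R (f x)) := by
      funext i
      exact (gam_tmul R S (f i)).symm
    rw [h3]
    exact h2
  · intro h
    let θ : (ResidueField R ⊗[R] Ω[R⁄ℤ]) →ₗ[ResidueField R] ResidueField S ⊗[S] Ω[S⁄ℤ] :=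
      ((gam R S).restrictScalars (ResidueField R)) ∘ₗ
        (TensorProduct.mk (ResidueField R) (ResidueField S) (ResidueField R ⊗[R] Ω[R⁄ℤ]) 1)
    have h1 : LinearIndependent (ResidueField R)
        (fun i => (1 : ResidueField S) ⊗ₜ[S] KaehlerDifferential.D ℤ S (algebraMap R S (f i))) := by
      exact LinearIndependent.restrict_scalars' (ResidueField R) h
    refine LinearIndependent.of_comp θ ?_
    have h3 : (θ ∘ fun i => (1 : ResidueField R) ⊗ₜ[R] KaehlerDifferential.D ℤ R (f i)) =
        fun i => (1 : ResidueField S) ⊗ₜ[S]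
          KaehlerDifferential.D ℤ S (algebraMap R S (f i)) := by
      funext i
      exact gam_tmul R S (f i)
    rw [h3]
    exact h1

theorem linearIndependent_iff_of_surjective (hsurj : Function.Surjective (algebraMap R S))
    (hker : RingHom.ker (algebraMap R S) ≤ maximalIdeal R ^ 2) {ι : Type*} (f : ι → R) :
    LinearIndependent (ResidueField R)
        (fun i => (1 : ResidueField R) ⊗ₜ[R] KaehlerDifferential.D ℤ R (f i)) ↔
      LinearIndependent (ResidueField S)
        (fun i => (1 : ResidueField S) ⊗ₜ[S] KaehlerDifferential.D ℤ S (algebraMap R S (f i))) :=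
  linearIndependent_iff_of_gam_injective R S (gam_injective_of_surjective R S hsurj hker) f

end

end H5.NG
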