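import Mathlib
import Groth.Agent.Lib.Helper5.CA.NG26

set_option autoImplicit false
universe u

open TensorProduct IsLocalRing

namespace H5.NG

section
variable (R S : Type u) [CommRing R] [CommRing S] [IsLocalRing R] [IsLocalRing S] [Algebra R S]
  [IsLocalHom (algebraMap R S)]

/-- a surjection of local rings with kernel in `𝔪²` preserves the embedding dimension. -/
theorem finrank_cotangentSpace_eq_of_surjective
    (hsurj : Function.Surjective (algebraMap R S))
    (hker : RingHom.ker (algebraMap R S) ≤ maximalIdeal R ^ 2) :
    Module.finrank (ResidueField R) (CotangentSpace R) =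
      Module.finrank (ResidueField S) (CotangentSpace S) := by
  have comapeq := IsLocalRing.maximalIdeal_comap (algebraMap R S)
  let f := Ideal.mapCotangent (maximalIdeal R) (maximalIdeal S) (Algebra.ofId R S)
    (le_of_eq comapeq.symm)
  have hmap : (maximalIdeal R).map (algebraMap R S) = maximalIdeal S := by
    rw [← comapeq, Ideal.map_comap_of_surjective _ hsurj]
  have inj : Function.Injective f := by
    rw [← LinearMap.ker_eq_bot, LinearMap.ker_eq_bot']
    intro m hm
    rcases Ideal.toCotangent_surjective _ m with ⟨m', rfl⟩
    simp only [Ideal.mapCotangent_toCotangent, Algebra.ofId_apply, Ideal.toCotangent_eq_zero, f] at hm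
    rw [Ideal.toCotangent_eq_zero]
    have h1 : algebraMap R S (m' : R) ∈ (maximalIdeal R ^ 2).map (algebraMap R S) := by
      rw [Ideal.map_pow, hmap]; exact hm
    have h2 : (m' : R) ∈ ((maximalIdeal R ^ 2).map (algebraMap R S)).comap (algebraMap R S) := h1
    rw [Ideal.comap_map_of_surjective _ hsurj] at h2
    have h3 : (⊥ : Ideal S).comap (algebraMap R S) ≤ maximalIdeal R ^ 2 := hker
    exact (sup_le le_rfl h3) h2
  have surj : Function.Surjective f := by
    intro m
    rcases Ideal.toCotangent_surjective _ m with ⟨m', rfl⟩
    obtain ⟨l, hl⟩ := hsurj (m' : S)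
    have lmem : l ∈ maximalIdeal R := by
      rw [← comapeq, Ideal.mem_comap, hl]; exact m'.2
    refine ⟨(maximalIdeal R).toCotangent ⟨l, lmem⟩, ?_⟩
    simp only [Ideal.mapCotangent_toCotangent, Algebra.ofId_apply, f]
    congr 1
    exact Subtype.ext hl
  have hres : Function.Bijective (IsLocalRing.ResidueField.map (algebraMap R S)) := by
    refine ⟨RingHom.injective _, fun x => ?_⟩
    obtain ⟨y, rfl⟩ := residue_surjective x
    obtain ⟨z, rfl⟩ := hsurj y
    exact ⟨residue R z, IsLocalRing.ResidueField.map_residue _ _⟩
  have rkeq := rank_eq_of_equiv_equiv _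
    (LinearEquiv.ofBijective f ⟨inj, surj⟩).toAddEquiv hres (fun r m ↦ by
      rcases IsLocalRing.residue_surjective r with ⟨s, rfl⟩
      change f (s • m) = (algebraMap R S s) • f m
      rw [map_smul, algebraMap_smul])
  simp [Module.finrank, CotangentSpace, rkeq]

end

end H5.NG
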