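import Mathlib
import Groth.Agent.Lib.Helper5.CA.NG27
import Groth.Agent.Lib.Helper5.CA.NG15

set_option autoImplicit false
universe u

open IsLocalRing MvPolynomial TensorProduct

namespace H5.NG

set_option maxHeartbeats 1000000 in
/-- the Nagata algebra over a regular local ring has the same dimension. -/
theorem ringKrullDim_BB (R : Type u) [CommRing R] [IsRegularLocalRing R] (p : ℕ) {r : ℕ}
    (G : Fin r → MvPolynomial (Fin r) R) (f : Fin r → R)
    [IsLocalRing (MvPolynomial (Fin r) R ⧸ Ideal.span (Set.range (FF R p G f)))]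
    [Algebra.IsIntegral R (MvPolynomial (Fin r) R ⧸ Ideal.span (Set.range (FF R p G f)))] :
    ringKrullDim (MvPolynomial (Fin r) R ⧸ Ideal.span (Set.range (FF R p G f))) =
      ringKrullDim R := by
  haveI : IsRegularRing R := isRegularRing_of_isRegularLocalRing R
  set J : Ideal (MvPolynomial (Fin r) R) := Ideal.span (Set.range (FF R p G f)) with hJ
  let 𝔫 : Ideal (MvPolynomial (Fin r) R) :=
    (maximalIdeal (MvPolynomial (Fin r) R ⧸ J)).comap (Ideal.Quotient.mk J)
  haveI h𝔫max : 𝔫.IsMaximal := Ideal.comap_isMaximal_of_surjective _ Ideal.Quotient.mk_surjective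
  have hcomap : 𝔫.comap (C : R →+* MvPolynomial (Fin r) R) = maximalIdeal R := by
    have h1 : ((maximalIdeal (MvPolynomial (Fin r) R ⧸ J)).comap
        (algebraMap R (MvPolynomial (Fin r) R ⧸ J))).IsMaximal :=
      Ideal.isMaximal_comap_of_isIntegral_of_isMaximal _
    exact IsLocalRing.eq_maximalIdeal h1
  have hxmem : ∀ i, algebraMap (MvPolynomial (Fin r) R) (Localization.AtPrime 𝔫) (FF R p G f i) ∈
      maximalIdeal (Localization.AtPrime 𝔫) := by
    intro i
    rw [← Localization.AtPrime.map_eq_maximalIdeal]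
    apply Ideal.mem_map_of_mem
    show Ideal.Quotient.mk J (FF R p G f i) ∈ maximalIdeal _
    have h0 : Ideal.Quotient.mk J (FF R p G f i) = 0 :=
      Ideal.Quotient.eq_zero_iff_mem.mpr (Ideal.subset_span ⟨i, rfl⟩)
    rw [h0]
    exact Ideal.zero_mem _
  let x : Fin r → maximalIdeal (Localization.AtPrime 𝔫) := fun i =>
    ⟨algebraMap (MvPolynomial (Fin r) R) (Localization.AtPrime 𝔫) (FF R p G f i), hxmem i⟩
  have hspan : Ideal.span (Set.range fun i => (x i : Localization.AtPrime 𝔫)) =
      J.map (algebraMap (MvPolynomial (Fin r) R) (Localization.AtPrime 𝔫)) := by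
    have h1 : J.map (algebraMap (MvPolynomial (Fin r) R) (Localization.AtPrime 𝔫)) =
        Ideal.span ((algebraMap (MvPolynomial (Fin r) R) (Localization.AtPrime 𝔫)) ''
          (Set.range (FF R p G f))) := Ideal.map_span _ _
    rw [h1, ← Set.range_comp]
    rfl
  let E : (Localization.AtPrime 𝔫 ⧸ Ideal.span (Set.range fun i => (x i : Localization.AtPrime 𝔫)))
      ≃+* MvPolynomial (Fin r) R ⧸ J :=
    (Ideal.quotEquivOfEq hspan).trans (quotEquivLoc J 𝔫 rfl)
  have hdimS : ringKrullDim (Localization.AtPrime 𝔫) = ringKrullDim R + r := by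
    rw [IsLocalization.AtPrime.ringKrullDim_eq_height 𝔫 (Localization.AtPrime 𝔫),
      height_eq_add R 𝔫 hcomap, ← IsLocalRing.maximalIdeal_height_eq_ringKrullDim]
    push_cast
    rfl
  have hdimB : ringKrullDim (MvPolynomial (Fin r) R ⧸ J) ≤ ringKrullDim R :=
    ringKrullDim_le_of_isIntegral R _
  have hkrull : ringKrullDim (Localization.AtPrime 𝔫) ≤ ringKrullDim (Localization.AtPrime 𝔫 ⧸
      Ideal.span (Set.range fun i => (x i : Localization.AtPrime 𝔫))) + r := by
    refine le_trans (ringKrullDim_le_ringKrullDim_quotient_add_encard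
      (Set.range fun i => (x i : Localization.AtPrime 𝔫)) ?_) ?_
    · rintro _ ⟨i, rfl⟩
      rw [IsLocalRing.ringJacobson_eq_maximalIdeal]
      exact (x i).2
    · gcongr
      have h1 : (Set.range fun i => (x i : Localization.AtPrime 𝔫)).encard ≤ (r : ℕ∞) := by
        rw [← Set.image_univ]
        refine le_trans (Set.encard_image_le _ _) ?_
        rw [Set.encard_univ, ENat.card_eq_coe_fintype_card, Fintype.card_fin]
      exact_mod_cast h1
  have hE : ringKrullDim (Localization.AtPrime 𝔫 ⧸
      Ideal.span (Set.range fun i => (x i : Localization.AtPrime 𝔫))) =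
      ringKrullDim (MvPolynomial (Fin r) R ⧸ J) := ringKrullDim_eq_of_ringEquiv E
  rw [hE, hdimS] at hkrull
  refine le_antisymm hdimB ?_
  -- cancel `r`
  have hR : ringKrullDim R = ((maximalIdeal R).spanFinrank : ℕ) :=
    (IsRegularLocalRing.spanFinrank_maximalIdeal (R := R)).symm
  haveI : IsNoetherianRing (MvPolynomial (Fin r) R ⧸ J) := inferInstance
  have hB : ringKrullDim (MvPolynomial (Fin r) R ⧸ J) =
      (((maximalIdeal (MvPolynomial (Fin r) R ⧸ J)).height.toNat : ℕ) : WithBot ℕ∞) := by
    rw [← IsLocalRing.maximalIdeal_height_eq_ringKrullDim]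
    have hne : (maximalIdeal (MvPolynomial (Fin r) R ⧸ J)).height ≠ ⊤ := Ideal.height_ne_top
      (IsLocalRing.maximalIdeal.isMaximal _).ne_top
    conv_lhs => rw [← ENat.coe_toNat hne]
    rfl
  rw [hR, hB] at hkrull ⊢
  have h2 : (maximalIdeal R).spanFinrank + r ≤
      (maximalIdeal (MvPolynomial (Fin r) R ⧸ J)).height.toNat + r := by
    exact_mod_cast hkrull
  have h3 : (maximalIdeal R).spanFinrank ≤
      (maximalIdeal (MvPolynomial (Fin r) R ⧸ J)).height.toNat := by omega
  exact_mod_cast h3

end H5.NG
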