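import Mathlib
import Groth.Agent.Lib.Helper5.CA.NG28

set_option autoImplicit false
universe u

open IsLocalRing MvPolynomial TensorProduct

namespace H5.GQ

open H5.NG

set_option maxHeartbeats 1000000 in
/-- Generic form: for a regular local ring `R` and polynomials `F_1, …, F_r ∈ R[T_1..T_r]` such that
`B = R[T]/(F)` is local and integral over `R`, `B` is regular iff the classes of the `F_i` in the
cotangent space of `R[T]_𝔫` are linearly independent, and `dim B = dim R`. -/
theorem regular_iff_LI (R : Type u) [CommRing R] [IsRegularLocalRing R] {r : ℕ}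
    (F : Fin r → MvPolynomial (Fin r) R)
    [IsLocalRing (MvPolynomial (Fin r) R ⧸ Ideal.span (Set.range F))]
    [Algebra.IsIntegral R (MvPolynomial (Fin r) R ⧸ Ideal.span (Set.range F))]
    (hx : ∀ i, algebraMap (MvPolynomial (Fin r) R)
      (Localization.AtPrime ((maximalIdeal (MvPolynomial (Fin r) R ⧸ Ideal.span (Set.range F))).comap
        (Ideal.Quotient.mk (Ideal.span (Set.range F))))) (F i) ∈
      maximalIdeal (Localization.AtPrime
        ((maximalIdeal (MvPolynomial (Fin r) R ⧸ Ideal.span (Set.range F))).comap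
        (Ideal.Quotient.mk (Ideal.span (Set.range F)))))) :
    (IsRegularLocalRing (MvPolynomial (Fin r) R ⧸ Ideal.span (Set.range F)) ↔
      LinearIndependent (ResidueField (Localization.AtPrime
        ((maximalIdeal (MvPolynomial (Fin r) R ⧸ Ideal.span (Set.range F))).comap
        (Ideal.Quotient.mk (Ideal.span (Set.range F))))))
        (fun i => (maximalIdeal (Localization.AtPrime
        ((maximalIdeal (MvPolynomial (Fin r) R ⧸ Ideal.span (Set.range F))).comap
        (Ideal.Quotient.mk (Ideal.span (Set.range F)))))).toCotangent ⟨_, hx i⟩)) := by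
  haveI : IsRegularRing R := isRegularRing_of_isRegularLocalRing R
  set J : Ideal (MvPolynomial (Fin r) R) := Ideal.span (Set.range F) with hJ
  set 𝔫 : Ideal (MvPolynomial (Fin r) R) :=
    (maximalIdeal (MvPolynomial (Fin r) R ⧸ J)).comap (Ideal.Quotient.mk J) with h𝔫
  haveI h𝔫max : 𝔫.IsMaximal := Ideal.comap_isMaximal_of_surjective _ Ideal.Quotient.mk_surjective
  have hcomap : 𝔫.comap (C : R →+* MvPolynomial (Fin r) R) = maximalIdeal R := by
    have h1 : ((maximalIdeal (MvPolynomial (Fin r) R ⧸ J)).comap
        (algebraMap R (MvPolynomial (Fin r) R ⧸ J))).IsMaximal :=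
      Ideal.isMaximal_comap_of_isIntegral_of_isMaximal _
    exact IsLocalRing.eq_maximalIdeal h1
  let x : Fin r → maximalIdeal (Localization.AtPrime 𝔫) := fun i =>
    ⟨algebraMap (MvPolynomial (Fin r) R) (Localization.AtPrime 𝔫) (F i), hx i⟩
  have hspan : Ideal.span (Set.range fun i => (x i : Localization.AtPrime 𝔫)) =
      J.map (algebraMap (MvPolynomial (Fin r) R) (Localization.AtPrime 𝔫)) := by
    have h1 : J.map (algebraMap (MvPolynomial (Fin r) R) (Localization.AtPrime 𝔫)) =
        Ideal.span ((algebraMap (MvPolynomial (Fin r) R) (Localization.AtPrime 𝔫)) ''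
          (Set.range F)) := Ideal.map_span _ _
    rw [h1, ← Set.range_comp]
    rfl
  obtain ⟨h5779, -⟩ := Groth.Agent.S5779.result (Localization.AtPrime 𝔫) r x
  let E : (Localization.AtPrime 𝔫 ⧸ Ideal.span (Set.range fun i => (x i : Localization.AtPrime 𝔫)))
      ≃+* MvPolynomial (Fin r) R ⧸ J :=
    (Ideal.quotEquivOfEq hspan).trans (quotEquivLoc J 𝔫 rfl)
  -- dimensions
  have hdimS : ringKrullDim (Localization.AtPrime 𝔫) = ringKrullDim R + r := by
    rw [IsLocalization.AtPrime.ringKrullDim_eq_height 𝔫 (Localization.AtPrime 𝔫),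
      height_eq_add R 𝔫 hcomap, ← IsLocalRing.maximalIdeal_height_eq_ringKrullDim]
    push_cast
    rfl
  have hdimB : ringKrullDim (Localization.AtPrime 𝔫 ⧸
      Ideal.span (Set.range fun i => (x i : Localization.AtPrime 𝔫))) ≤ ringKrullDim R := by
    rw [ringKrullDim_eq_of_ringEquiv E]
    exact ringKrullDim_le_of_isIntegral R _
  have hkrull : ringKrullDim (Localization.AtPrime 𝔫) ≤ ringKrullDim (Localization.AtPrime 𝔫 ⧸
      Ideal.span (Set.range fun i => (x i : Localization.AtPrime 𝔫))) + r := by
    refine le_trans (ringKrullDim_le_ringKrullDim_quotient_add_encard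
      (Set.range fun i => (x i : Localization.AtPrime 𝔫)) ?_) ?_
    · rintro _ ⟨i, rfl⟩
      rw [IsLocalRing.ringJacobson_eq_maximalIdeal]
      exact (x i).2
    · gcongr
      have h1 : (Set.range fun i => (x i : Localization.AtPrime 𝔫)).encard ≤ (r : ℕ∞) := by
        rw [← Set.image_univ]
        refine le_trans (Set.encard_image_le _ _) ?_
        rw [Set.encard_univ, ENat.card_eq_coe_fintype_card, Fintype.card_fin]
      exact_mod_cast h1
  have hdim : ringKrullDim (Localization.AtPrime 𝔫 ⧸
      Ideal.span (Set.range fun i => (x i : Localization.AtPrime 𝔫))) + r =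
      ringKrullDim (Localization.AtPrime 𝔫) := by
    apply le_antisymm
    · rw [hdimS]
      gcongr
    · exact hkrull
  haveI hS : IsRegularLocalRing (Localization.AtPrime 𝔫) := inferInstance
  constructor
  · intro hB
    haveI : IsRegularLocalRing (Localization.AtPrime 𝔫 ⧸
        Ideal.span (Set.range fun i => (x i : Localization.AtPrime 𝔫))) :=
      IsRegularLocalRing.of_ringEquiv E.symm
    exact (h5779.mpr ⟨hdim, inferInstance⟩).2
  · intro hLI
    have h2 := (h5779.mp ⟨hS, hLI⟩).2
    exact IsRegularLocalRing.of_ringEquiv (R := Localization.AtPrime 𝔫 ⧸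
      Ideal.span (Set.range fun i => (x i : Localization.AtPrime 𝔫))) E

end H5.GQ
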