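import Mathlib
import Groth.Agent.Lib.Helper5.CA.EI3
import Groth.Agent.Lib.Helper5.CA.EI4
import Groth.Agent.Lib.Helper5.CA.GQ1

set_option autoImplicit false
universe u

open IsLocalRing MvPolynomial

namespace H5.EI

section general
variable {A : Type u} [CommRing A] {r : ℕ} (d : Fin r → ℕ) (c : Fin r → ℕ → A)

/-- the one-variable polynomial. -/
noncomputable def pp (i : Fin r) : Polynomial A :=
  (Finset.range (d i)).sum fun k => Polynomial.C (c i k) * Polynomial.X ^ k

theorem degree_pp_lt (hd : ∀ i, d i ≠ 0) (i : Fin r) : (pp d c i).degree < (d i : WithBot ℕ) := by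
  unfold pp
  refine lt_of_le_of_lt (Polynomial.degree_sum_le _ _) ?_
  rw [Finset.sup_lt_iff (by exact_mod_cast WithBot.bot_lt_coe (d i))]
  intro k hk
  refine lt_of_le_of_lt (Polynomial.degree_C_mul_X_pow_le _ _) ?_
  exact_mod_cast Finset.mem_range.mp hk

theorem aeval_X_pp (i : Fin r) :
    Polynomial.aeval (MvPolynomial.X i : MvPolynomial (Fin r) A)
      (Polynomial.X ^ d i + pp d c i) = EF d c i := by
  unfold pp EF
  simp only [map_add, map_mul, map_pow, map_sum, Polynomial.aeval_X,
    Polynomial.aeval_C, MvPolynomial.algebraMap_eq]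

theorem isIntegral_tt (hd : ∀ i, d i ≠ 0) (i : Fin r) : IsIntegral A (tt d c i) := by
  refine ⟨Polynomial.X ^ d i + pp d c i, Polynomial.monic_X_pow_add (degree_pp_lt d c hd i), ?_⟩
  have h1 : Polynomial.eval₂ (algebraMap A (EA d c)) (tt d c i)
      (Polynomial.X ^ d i + pp d c i) =
      Ideal.Quotient.mk (Ideal.span (Set.range (EF d c)))
        (Polynomial.aeval (MvPolynomial.X i : MvPolynomial (Fin r) A)
          (Polynomial.X ^ d i + pp d c i)) := by
    rw [← Polynomial.aeval_def]
    exact (Polynomial.aeval_algHom_apply (Ideal.Quotient.mkₐ A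
      (Ideal.span (Set.range (EF d c)))) (X i) _)
  rw [h1, aeval_X_pp]
  exact Ideal.Quotient.eq_zero_iff_mem.mpr (Ideal.subset_span ⟨i, rfl⟩)

theorem isIntegral_EA (hd : ∀ i, d i ≠ 0) : Algebra.IsIntegral A (EA d c) := by
  constructor
  intro b
  obtain ⟨q, rfl⟩ := Ideal.Quotient.mk_surjective b
  induction q using MvPolynomial.induction_on with
  | C a => exact isIntegral_algebraMap (R := A) (A := EA d c) (x := a)
  | add u v hu hv =>
    rw [map_add]
    exact hu.add hv
  | mul_X u i hu =>
    rw [map_mul]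
    exact hu.mul (isIntegral_tt d c hd i)

/-- refined form: the constant is the constant coefficient. -/
theorem mk_sub_constantCoeff_mem (q : MvPolynomial (Fin r) A) :
    (Ideal.Quotient.mk (Ideal.span (Set.range (EF d c))) q : EA d c) -
      algebraMap A (EA d c) (MvPolynomial.constantCoeff q) ∈ Ideal.span (Set.range (tt d c)) := by
  induction q using MvPolynomial.induction_on with
  | C a =>
    have h1 : (Ideal.Quotient.mk (Ideal.span (Set.range (EF d c))) (C a) : EA d c) =
        algebraMap A (EA d c) a := rfl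
    rw [h1, MvPolynomial.constantCoeff_C, sub_self]
    exact Ideal.zero_mem _
  | add u v hu hv =>
    rw [map_add, map_add, map_add]
    have := Ideal.add_mem _ hu hv
    convert this using 1
    ring
  | mul_X u i hu =>
    simp only [map_mul, MvPolynomial.constantCoeff_X, mul_zero, map_zero, sub_zero]
    exact Ideal.mul_mem_left _ _ (Ideal.subset_span ⟨i, rfl⟩)

end general

section local_
variable {A : Type u} [CommRing A] [IsLocalRing A] {r : ℕ} (d : Fin r → ℕ) (hd : ∀ i, d i ≠ 0)
  (c : Fin r → ℕ → A) (hc : ∀ i k, c i k ∈ maximalIdeal A)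

include hd hc in
theorem span_tt_le_jacobson : Ideal.span (Set.range (tt d c)) ≤ Ideal.jacobson (⊥ : Ideal (EA d c)) := by
  haveI := isIntegral_EA d c hd
  have hjac := H5.NG.map_maximalIdeal_le_jacobson A (EA d c)
  rw [Ideal.span_le]
  rintro _ ⟨i, rfl⟩
  unfold Ideal.jacobson
  rw [SetLike.mem_coe, Ideal.mem_sInf]
  rintro M ⟨-, hM⟩
  haveI := hM
  have h1 : tt d c i ^ d i ∈ M := by
    have h2 : tt d c i ^ d i ∈ Ideal.jacobson (⊥ : Ideal (EA d c)) := hjac (tt_pow_mem d c hc i)
    unfold Ideal.jacobson at h2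
    rw [Ideal.mem_sInf] at h2
    exact h2 ⟨bot_le, hM⟩
  exact hM.isPrime.mem_of_pow_mem _ h1

include hd hc in
theorem isLocalRing_EA' : IsLocalRing (EA d c) := by
  haveI : Nontrivial (EA d c) := nontrivial_EA d c hd hc
  haveI := isIntegral_EA d c hd
  have hjac := H5.NG.map_maximalIdeal_le_jacobson A (EA d c)
  apply IsLocalRing.of_isUnit_or_isUnit_one_sub_self
  intro x
  obtain ⟨a, ha⟩ := exists_sub_mem_span_tt d c x
  have hν := span_tt_le_jacobson d hd c hc ha
  by_cases hau : IsUnit a
  · left
    have h1 := Ideal.mem_jacobson_bot.mp hν (algebraMap A (EA d c) (↑hau.unit⁻¹ : A))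
    have h2 : x = algebraMap A (EA d c) a *
        ((x - algebraMap A (EA d c) a) * algebraMap A (EA d c) (↑hau.unit⁻¹ : A) + 1) := by
      have h3 : algebraMap A (EA d c) a * algebraMap A (EA d c) (↑hau.unit⁻¹ : A) = 1 := by
        rw [← map_mul, IsUnit.mul_val_inv, map_one]
      linear_combination (-(x - algebraMap A (EA d c) a)) * h3
    rw [h2]
    exact (hau.map (algebraMap A (EA d c))).mul h1
  · right
    have ham : a ∈ maximalIdeal A := (mem_maximalIdeal a).mpr hau
    have h2 : algebraMap A (EA d c) a ∈ Ideal.jacobson (⊥ : Ideal (EA d c)) :=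
      hjac (Ideal.mem_map_of_mem _ ham)
    have h3 : x ∈ Ideal.jacobson (⊥ : Ideal (EA d c)) := by
      have := Ideal.add_mem _ hν h2
      simpa using this
    have h4 := Ideal.mem_jacobson_bot.mp h3 (-1)
    have h5 : x * -1 + 1 = 1 - x := by ring
    rwa [h5] at h4

end local_

end H5.EI
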