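import Mathlib
import Groth.Agent.Lib.Helper5.CA.EI5

set_option autoImplicit false
universe u

open IsLocalRing MvPolynomial

namespace H5.EI

set_option maxHeartbeats 1600000 in
theorem main4588 {A : Type u} [CommRing A] [IsRegularLocalRing A] {r : ℕ} (d : Fin r → ℕ)
    (hd : ∀ i, 2 ≤ d i) (c : Fin r → ℕ → A) (hc : ∀ i k, c i k ∈ maximalIdeal A) :
    IsLocalRing (EA d c) ∧
    (∀ (M : Ideal (EA d c)) [M.IsMaximal],
      Function.Surjective ((Ideal.Quotient.mk M).comp (algebraMap A (EA d c)))) ∧
    (IsRegularRing (EA d c) ↔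
      LinearIndependent (ResidueField A)
        (fun i => (maximalIdeal A).toCotangent ⟨c i 0, hc i 0⟩)) := by
  have hd0 : ∀ i, d i ≠ 0 := fun i => by have := hd i; omega
  haveI hloc : IsLocalRing (EA d c) := isLocalRing_EA' d hd0 c hc
  haveI hint : Algebra.IsIntegral A (EA d c) := isIntegral_EA d c hd0
  have hjac := H5.NG.map_maximalIdeal_le_jacobson A (EA d c)
  have hjeq : Ideal.jacobson (⊥ : Ideal (EA d c)) = maximalIdeal (EA d c) :=
    IsLocalRing.jacobson_eq_maximalIdeal ⊥ bot_ne_top
  have htt := span_tt_le_jacobson d hd0 c hc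
  refine ⟨hloc, ?_, ?_⟩
  · intro M hM y
    obtain ⟨x, rfl⟩ := Ideal.Quotient.mk_surjective y
    obtain ⟨a, ha⟩ := exists_sub_mem_span_tt d c x
    refine ⟨a, ?_⟩
    rw [RingHom.comp_apply, eq_comm, Ideal.Quotient.eq]
    have h1 := htt ha
    rw [hjeq] at h1
    rw [← IsLocalRing.eq_maximalIdeal hM] at h1
    exact h1
  · -- regularity
    have hreg : IsRegularRing (EA d c) ↔ IsRegularLocalRing (EA d c) :=
      ⟨fun h => IsRegularLocalRing.of_isRegularRing_of_isLocalRing _,
       fun h => H5.NG.isRegularRing_of_isRegularLocalRing _⟩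
    rw [hreg]
    set J : Ideal (MvPolynomial (Fin r) A) := Ideal.span (Set.range (EF d c)) with hJ
    set 𝔫 : Ideal (MvPolynomial (Fin r) A) :=
      (maximalIdeal (EA d c)).comap (Ideal.Quotient.mk J) with h𝔫
    haveI h𝔫max : 𝔫.IsMaximal := Ideal.comap_isMaximal_of_surjective _ Ideal.Quotient.mk_surjective
    have hXn : ∀ i, (X i : MvPolynomial (Fin r) A) ∈ 𝔫 := by
      intro i
      show tt d c i ∈ maximalIdeal (EA d c)
      rw [← hjeq]
      exact htt (Ideal.subset_span ⟨i, rfl⟩)
    have hCn : ∀ a ∈ maximalIdeal A, (C a : MvPolynomial (Fin r) A) ∈ 𝔫 := by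
      intro a ha
      show algebraMap A (EA d c) a ∈ maximalIdeal (EA d c)
      rw [← hjeq]
      exact hjac (Ideal.mem_map_of_mem _ ha)
    have hcomap : 𝔫.comap (C : A →+* MvPolynomial (Fin r) A) = maximalIdeal A := by
      have h1 : ((maximalIdeal (EA d c)).comap (algebraMap A (EA d c))).IsMaximal :=
        Ideal.isMaximal_comap_of_isIntegral_of_isMaximal _
      exact IsLocalRing.eq_maximalIdeal h1
    have hccn : ∀ q ∈ 𝔫, MvPolynomial.constantCoeff q ∈ maximalIdeal A := by
      intro q hq
      have h1 := htt (mk_sub_constantCoeff_mem d c q)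
      rw [hjeq] at h1
      have h2 : algebraMap A (EA d c) (MvPolynomial.constantCoeff q) ∈ maximalIdeal (EA d c) := by
        have h3 : (Ideal.Quotient.mk J q : EA d c) ∈ maximalIdeal (EA d c) := hq
        have h4 : algebraMap A (EA d c) (MvPolynomial.constantCoeff q) =
            (Ideal.Quotient.mk J q : EA d c) - ((Ideal.Quotient.mk J q : EA d c) -
              algebraMap A (EA d c) (MvPolynomial.constantCoeff q)) := by ring
        rw [h4]
        exact Ideal.sub_mem _ h3 h1
      rw [← hcomap]
      exact h2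
    have hx : ∀ i, algebraMap (MvPolynomial (Fin r) A) (Localization.AtPrime 𝔫) (EF d c i) ∈
        maximalIdeal (Localization.AtPrime 𝔫) := by
      intro i
      rw [← Localization.AtPrime.map_eq_maximalIdeal]
      apply Ideal.mem_map_of_mem
      show Ideal.Quotient.mk J (EF d c i) ∈ maximalIdeal _
      have h0 : Ideal.Quotient.mk J (EF d c i) = 0 :=
        Ideal.Quotient.eq_zero_iff_mem.mpr (Ideal.subset_span ⟨i, rfl⟩)
      rw [h0]
      exact Ideal.zero_mem _
    rw [H5.GQ.regular_iff_LI A (EF d c) hx]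
    -- the two maps
    let φ : A →+* Localization.AtPrime 𝔫 :=
      (algebraMap (MvPolynomial (Fin r) A) (Localization.AtPrime 𝔫)).comp C
    have hφm : (maximalIdeal A).map φ ≤ maximalIdeal (Localization.AtPrime 𝔫) := by
      rw [← Ideal.map_map, ← Localization.AtPrime.map_eq_maximalIdeal]
      apply Ideal.map_mono
      rw [Ideal.map_le_iff_le_comap]
      intro a ha
      exact hCn a ha
    haveI : IsLocalHom φ := by
      have h02 := (local_hom_TFAE φ).out 0 2
      exact h02.mpr hφm
    have hunits : ∀ q : 𝔫.primeCompl, IsUnit (MvPolynomial.constantCoeff (q : MvPolynomial (Fin r) A)) := by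
      intro q
      by_contra hu
      have h1 : MvPolynomial.constantCoeff (q : MvPolynomial (Fin r) A) ∈ maximalIdeal A :=
        (mem_maximalIdeal _).mpr hu
      apply q.2
      show Ideal.Quotient.mk J (q : MvPolynomial (Fin r) A) ∈ maximalIdeal (EA d c)
      have h2 := htt (mk_sub_constantCoeff_mem d c (q : MvPolynomial (Fin r) A))
      rw [hjeq] at h2
      have h3 : algebraMap A (EA d c) (MvPolynomial.constantCoeff (q : MvPolynomial (Fin r) A)) ∈
          maximalIdeal (EA d c) := hCn _ h1
      have h4 : (Ideal.Quotient.mk J (q : MvPolynomial (Fin r) A) : EA d c) =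
          ((Ideal.Quotient.mk J (q : MvPolynomial (Fin r) A) : EA d c) -
            algebraMap A (EA d c) (MvPolynomial.constantCoeff (q : MvPolynomial (Fin r) A))) +
          algebraMap A (EA d c) (MvPolynomial.constantCoeff (q : MvPolynomial (Fin r) A)) := by ring
      rw [h4]
      exact Ideal.add_mem _ h2 h3
    let ε : Localization.AtPrime 𝔫 →+* A :=
      IsLocalization.lift (M := 𝔫.primeCompl) (g := (MvPolynomial.constantCoeff :
        MvPolynomial (Fin r) A →+* A)) hunits
    have hεcomp : ε.comp (algebraMap (MvPolynomial (Fin r) A) (Localization.AtPrime 𝔫)) =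
        (MvPolynomial.constantCoeff : MvPolynomial (Fin r) A →+* A) :=
      IsLocalization.lift_comp hunits
    haveI : IsLocalHom ε := by
      have h02 := (local_hom_TFAE ε).out 0 2
      apply h02.mpr
      rw [← Localization.AtPrime.map_eq_maximalIdeal, Ideal.map_map, hεcomp,
        Ideal.map_le_iff_le_comap]
      intro q hq
      exact hccn q hq
    have hε : ∀ a, ε (φ a) = a := by
      intro a
      have h1 : ε (φ a) = (ε.comp (algebraMap (MvPolynomial (Fin r) A)
          (Localization.AtPrime 𝔫))) (C a) := rfl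
      rw [h1, hεcomp, MvPolynomial.constantCoeff_C]
    let x₀ : Fin r → maximalIdeal A := fun i => ⟨c i 0, hc i 0⟩
    have hx₀ : ∀ i, φ (x₀ i : A) ∈ maximalIdeal (Localization.AtPrime 𝔫) :=
      fun i => hφm (Ideal.mem_map_of_mem _ (x₀ i).2)
    have key := linearIndependent_toCotangent_iff_of_retraction φ ε hε x₀ hx₀
    rw [key]
    have hfam : (fun i => (maximalIdeal (Localization.AtPrime 𝔫)).toCotangent
        ⟨algebraMap (MvPolynomial (Fin r) A) (Localization.AtPrime 𝔫) (EF d c i), hx i⟩) =
        (fun i => (maximalIdeal (Localization.AtPrime 𝔫)).toCotangent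
          ⟨φ (x₀ i : A), hx₀ i⟩) := by
      funext i
      rw [Ideal.toCotangent_eq]
      show algebraMap (MvPolynomial (Fin r) A) (Localization.AtPrime 𝔫) (EF d c i) -
        algebraMap (MvPolynomial (Fin r) A) (Localization.AtPrime 𝔫) (C (c i 0)) ∈ _
      rw [← map_sub]
      have hmem : EF d c i - C (c i 0) ∈ 𝔫 ^ 2 := by
        obtain ⟨e, he⟩ : ∃ e, d i = e + 1 := ⟨d i - 1, by have := hd i; omega⟩
        have h1 : EF d c i - C (c i 0) = X i ^ (e + 1) +
            (Finset.range e).sum fun k => C (c i (k + 1)) * X i ^ (k + 1) := by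
          rw [EF, he, Finset.sum_range_succ', pow_zero, mul_one]
          ring
        rw [h1]
        refine Ideal.add_mem _ ?_ ?_
        · have : 2 ≤ e + 1 := by have := hd i; omega
          exact Ideal.pow_le_pow_right this (Ideal.pow_mem_pow (hXn i) _)
        · refine Ideal.sum_mem _ fun k _ => ?_
          rw [pow_two]
          refine Ideal.mul_mem_mul (hCn _ (hc i _)) ?_
          exact Ideal.pow_mem_of_mem _ (hXn i) _ (Nat.succ_pos k)
      have h2 : algebraMap (MvPolynomial (Fin r) A) (Localization.AtPrime 𝔫) (EF d c i - C (c i 0)) ∈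
          (𝔫 ^ 2).map (algebraMap (MvPolynomial (Fin r) A) (Localization.AtPrime 𝔫)) :=
        Ideal.mem_map_of_mem _ hmem
      rw [Ideal.map_pow, Localization.AtPrime.map_eq_maximalIdeal] at h2
      exact h2
    rw [hfam]

end H5.EI
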