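import Mathlib
import Groth.Agent.Lib.Helper5.CA.FL4
import Groth.Agent.Lib.Helper5.CA.Cohen1
import Groth.Agent.Lib.Helper5.CA.Cohen6

set_option autoImplicit false
universe u

open IsLocalRing TensorProduct

namespace Groth.Agent.H5.FL

/-- existence of Cohen algebras. -/
theorem exists_cohenAlgebra {A : Type u} [CommRing A] [IsLocalRing A] [IsNoetherianRing A]
    (K : Type u) [Field K] [Algebra (ResidueField A) K]
    [Algebra.IsGeometricallyReduced (ResidueField A) K] :
    ∃ (B : Type u) (_ : CommRing B) (_ : IsLocalRing B) (_ : Algebra A B)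
      (_ : IsLocalHom (algebraMap A B)),
      EGA41.IsCohenAlgebra A B ∧ Nonempty (ResidueField B ≃ₐ[ResidueField A] K) := by
  obtain ⟨B, _, _, _, hN, hc, hfl, hm, ψ, hψs, hψk, hψc⟩ := exists_flat_complete A K
  haveI hloc : IsLocalHom (algebraMap A B) :=
    ((IsLocalRing.local_hom_TFAE (algebraMap A B)).out 0 2).mpr (le_of_eq hm)
  let ψ' : ResidueField B →+* K := Ideal.Quotient.lift (maximalIdeal B) ψ
    (fun x hx => by rw [← hψk] at hx; exact hx)
  have hψ'res : ∀ b : B, ψ' (residue B b) = ψ b := fun b => rfl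
  let ψa : ResidueField B →ₐ[ResidueField A] K :=
    { ψ' with
      commutes' := fun x => by
        obtain ⟨a, rfl⟩ := residue_surjective x
        have h1 : algebraMap (ResidueField A) (ResidueField B) (residue A a) =
            residue B (algebraMap A B a) := rfl
        show ψ' (algebraMap (ResidueField A) (ResidueField B) (residue A a)) = _
        rw [h1, hψ'res, hψc] }
  have hbij : Function.Bijective ψa := by
    refine ⟨ψ'.injective, fun y => ?_⟩
    obtain ⟨b, hb⟩ := hψs y
    exact ⟨residue B b, hb⟩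
  let e : ResidueField B ≃ₐ[ResidueField A] K := AlgEquiv.ofBijective ψa hbij
  haveI : Algebra.IsGeometricallyReduced (ResidueField A) (ResidueField B) :=
    Algebra.IsGeometricallyReduced.of_injective e.toAlgHom e.injective
  exact ⟨B, inferInstance, inferInstance, inferInstance, hloc,
    ⟨inferInstance, hN, hc, hfl, hm, inferInstance⟩, ⟨e⟩⟩

/-- uniqueness of Cohen algebras. -/
theorem cohenAlgebra_unique {A : Type u} [CommRing A] [IsLocalRing A]
    (K : Type u) [Field K] [Algebra (ResidueField A) K]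
    (B B' : Type u) [CommRing B] [IsLocalRing B] [Algebra A B] [IsLocalHom (algebraMap A B)]
    [CommRing B'] [IsLocalRing B'] [Algebra A B'] [IsLocalHom (algebraMap A B')]
    (hB : EGA41.IsCohenAlgebra A B) (hB' : EGA41.IsCohenAlgebra A B')
    (iB : ResidueField B ≃ₐ[ResidueField A] K) (iB' : ResidueField B' ≃ₐ[ResidueField A] K) :
    Nonempty (B ≃ₐ[A] B') := by
  have hfs := Cohen1.isFormallySmoothAdic_of_isCohenAlgebra hB
  obtain ⟨hNA, hNB, hcB, hflB, hmB, -⟩ := hB
  obtain ⟨-, hNB', hcB', hflB', hmB', -⟩ := hB'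
  rw [← hmB] at hfs hcB
  rw [← hmB'] at hcB'
  let f : (B ⧸ (maximalIdeal A).map (algebraMap A B)) ≃+*
      (B' ⧸ (maximalIdeal A).map (algebraMap A B')) :=
    (Ideal.quotEquivOfEq hmB).trans
      (iB.toRingEquiv.trans (iB'.symm.toRingEquiv.trans (Ideal.quotEquivOfEq hmB'.symm)))
  let u₀ : (B ⧸ (maximalIdeal A).map (algebraMap A B)) ≃ₐ[A ⧸ maximalIdeal A]
      (B' ⧸ (maximalIdeal A).map (algebraMap A B')) :=
    AlgEquiv.ofRingEquiv (f := f) (fun x => by
      obtain ⟨a, rfl⟩ := Ideal.Quotient.mk_surjective x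
      have h1 : algebraMap (A ⧸ maximalIdeal A) (B ⧸ (maximalIdeal A).map (algebraMap A B))
          (Ideal.Quotient.mk _ a) = Ideal.Quotient.mk _ (algebraMap A B a) := rfl
      have h2 : algebraMap (A ⧸ maximalIdeal A) (B' ⧸ (maximalIdeal A).map (algebraMap A B'))
          (Ideal.Quotient.mk _ a) = Ideal.Quotient.mk _ (algebraMap A B' a) := rfl
      rw [h1, h2]
      show (Ideal.quotEquivOfEq hmB'.symm) (iB'.symm (iB
        ((Ideal.quotEquivOfEq hmB) (Ideal.Quotient.mk _ (algebraMap A B a))))) = _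
      rw [Ideal.quotEquivOfEq_mk]
      have h3 : (Ideal.Quotient.mk (maximalIdeal B) (algebraMap A B a) : ResidueField B) =
          algebraMap (ResidueField A) (ResidueField B) (residue A a) := rfl
      rw [h3, AlgEquiv.commutes, AlgEquiv.commutes]
      have h4 : algebraMap (ResidueField A) (ResidueField B') (residue A a) =
          (Ideal.Quotient.mk (maximalIdeal B') (algebraMap A B' a) : ResidueField B') := rfl
      rw [h4, Ideal.quotEquivOfEq_mk])
  obtain ⟨u, -⟩ := Cohen6.exists_algEquiv_lift (maximalIdeal A) (le_of_eq hmB) hfs u₀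
  exact ⟨u⟩

end Groth.Agent.H5.FL
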