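import Mathlib.RingTheory.Etale.Basic
import Mathlib.RingTheory.Smooth.Basic
import Mathlib.RingTheory.Unramified.Basic

set_option autoImplicit false
universe u

namespace Groth.Agent.H5.CA

lemma isNilpotent_of_le_map_mk {A : Type*} [CommRing A] (J : Ideal A) (n : ℕ)
    (K : Ideal (A ⧸ J ^ n)) (hK : K ≤ J.map (Ideal.Quotient.mk (J ^ n))) : IsNilpotent K := by
  refine ⟨n, ?_⟩
  rw [Ideal.zero_eq_bot, eq_bot_iff]
  calc K ^ n ≤ (J.map (Ideal.Quotient.mk (J ^ n))) ^ n := Ideal.pow_right_mono hK n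
    _ = (J ^ n).map (Ideal.Quotient.mk (J ^ n)) := (Ideal.map_pow _ _ _).symm
    _ = ⊥ := Ideal.map_quotient_self _

theorem quotientMap_pow_bijective_of_formallySmooth_of_formallyUnramified (R : Type u)
    [CommRing R] (S : Type u)
    [CommRing S] [Algebra R S] [Algebra.FormallySmooth R S] [Algebra.FormallyUnramified R S]
    (J : Ideal S)
    (hJ : Function.Surjective (algebraMap R (S ⧸ J))) (n : ℕ) :
    Function.Bijective (Ideal.quotientMap (J ^ n) (algebraMap R S)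
      (le_of_le_of_eq (Ideal.le_comap_pow (algebraMap R S) n) rfl :
        (J.comap (algebraMap R S)) ^ n ≤ (J ^ n).comap (algebraMap R S))) := by
  rcases Nat.eq_zero_or_pos n with rfl | hpos
  · haveI : Subsingleton (R ⧸ (J.comap (algebraMap R S)) ^ 0) := by
      rw [pow_zero, Ideal.one_eq_top]; exact Ideal.Quotient.subsingleton_iff.mpr rfl
    haveI : Subsingleton (S ⧸ J ^ 0) := by
      rw [pow_zero, Ideal.one_eq_top]; exact Ideal.Quotient.subsingleton_iff.mpr rfl
    exact ⟨fun a b _ => Subsingleton.elim a b, fun y => ⟨0, Subsingleton.elim _ _⟩⟩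
  have hn : n ≠ 0 := Nat.pos_iff_ne_zero.mp hpos
  set I := J.comap (algebraMap R S) with hI
  set φ := Ideal.quotientMap (J ^ n) (algebraMap R S)
      (le_of_le_of_eq (Ideal.le_comap_pow (algebraMap R S) n) rfl :
        I ^ n ≤ (J ^ n).comap (algebraMap R S)) with hφ
  have hφmk : ∀ r : R, φ (Ideal.Quotient.mk (I ^ n) r) =
      Ideal.Quotient.mk (J ^ n) (algebraMap R S r) := fun r => Ideal.quotientMap_mk
  have hmkJ : ∀ r : R, algebraMap R (S ⧸ J) r = Ideal.Quotient.mk J (algebraMap R S r) :=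
    fun r => rfl
  have hIn : I ^ n ≤ RingHom.ker (Algebra.ofId R (S ⧸ J) : R →+* S ⧸ J) := by
    intro r hr
    have : r ∈ I := Ideal.pow_le_self hn hr
    rw [RingHom.mem_ker]
    show algebraMap R (S ⧸ J) r = 0
    rw [hmkJ, Ideal.Quotient.eq_zero_iff_mem]
    exact this
  let g : (R ⧸ I ^ n) →ₐ[R] S ⧸ J :=
    Ideal.Quotient.liftₐ (I ^ n) (Algebra.ofId R (S ⧸ J)) (fun r hr => hIn hr)
  have hgmk : ∀ r : R, g (Ideal.Quotient.mk (I ^ n) r) = algebraMap R (S ⧸ J) r := fun r => rfl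
  have hgsurj : Function.Surjective g := by
    intro y
    obtain ⟨r, rfl⟩ := hJ y
    exact ⟨Ideal.Quotient.mk _ r, rfl⟩
  have hgker : RingHom.ker (g : (R ⧸ I ^ n) →+* S ⧸ J) ≤ I.map (Ideal.Quotient.mk (I ^ n)) := by
    intro b hb
    obtain ⟨r, rfl⟩ := Ideal.Quotient.mk_surjective b
    rw [RingHom.mem_ker] at hb
    have hb' : algebraMap R (S ⧸ J) r = 0 := hb
    rw [hmkJ, Ideal.Quotient.eq_zero_iff_mem] at hb'
    exact Ideal.mem_map_of_mem _ hb'
  have hgnil : IsNilpotent (RingHom.ker (g : (R ⧸ I ^ n) →+* S ⧸ J)) :=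
    isNilpotent_of_le_map_mk I n _ hgker
  let ψ₀ : S →ₐ[R] R ⧸ I ^ n :=
    Algebra.FormallySmooth.liftOfSurjective (Ideal.Quotient.mkₐ R J) g hgsurj hgnil
  have hψ₀ : ∀ x, g (ψ₀ x) = Ideal.Quotient.mk J x := fun x =>
    Algebra.FormallySmooth.liftOfSurjective_apply (Ideal.Quotient.mkₐ R J) g hgsurj hgnil x
  -- ψ₀ kills J^n
  have hψ₀J : ∀ x ∈ J ^ n, ψ₀ x = 0 := by
    have h1 : J.map (ψ₀ : S →+* R ⧸ I ^ n) ≤ I.map (Ideal.Quotient.mk (I ^ n)) := by
      rw [Ideal.map_le_iff_le_comap]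
      intro x hx
      apply hgker
      rw [RingHom.mem_ker]
      show g (ψ₀ x) = 0
      rw [hψ₀, Ideal.Quotient.eq_zero_iff_mem]
      exact hx
    intro x hx
    have h2 : (ψ₀ : S →+* R ⧸ I ^ n) x ∈ (J ^ n).map (ψ₀ : S →+* R ⧸ I ^ n) :=
      Ideal.mem_map_of_mem _ hx
    rw [Ideal.map_pow] at h2
    have h3 := Ideal.pow_right_mono h1 n h2
    rw [← Ideal.map_pow, Ideal.map_quotient_self] at h3
    exact h3
  constructor
  · rw [injective_iff_map_eq_zero]
    intro b hb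
    obtain ⟨r, rfl⟩ := Ideal.Quotient.mk_surjective b
    rw [hφmk, Ideal.Quotient.eq_zero_iff_mem] at hb
    have := hψ₀J _ hb
    rw [AlgHom.commutes] at this
    exact this
  · intro y
    obtain ⟨s, rfl⟩ := Ideal.Quotient.mk_surjective y
    refine ⟨ψ₀ s, ?_⟩
    -- two R-algebra maps S → S/J^n
    let φa : (R ⧸ I ^ n) →ₐ[R] S ⧸ J ^ n :=
      { φ with commutes' := fun r => hφmk r }
    let f : (S ⧸ J ^ n) →+* S ⧸ J := Ideal.Quotient.factor (Ideal.pow_le_self hn)
    have hfmk : ∀ x : S, f (Ideal.Quotient.mk (J ^ n) x) = Ideal.Quotient.mk J x := fun x => rfl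
    have hfker : RingHom.ker f ≤ J.map (Ideal.Quotient.mk (J ^ n)) := by
      intro b hb
      obtain ⟨x, rfl⟩ := Ideal.Quotient.mk_surjective b
      rw [RingHom.mem_ker, hfmk, Ideal.Quotient.eq_zero_iff_mem] at hb
      exact Ideal.mem_map_of_mem _ hb
    have hfnil : IsNilpotent (RingHom.ker f) := isNilpotent_of_le_map_mk J n _ hfker
    have hfφ : ∀ b, f (φ b) = g b := by
      intro b
      obtain ⟨r, rfl⟩ := Ideal.Quotient.mk_surjective b
      rw [hφmk, hfmk, hgmk, hmkJ]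
    have key : φa.comp ψ₀ = Ideal.Quotient.mkₐ R (J ^ n) := by
      apply Algebra.FormallyUnramified.ext' f hfnil
      intro x
      show f (φ (ψ₀ x)) = f (Ideal.Quotient.mk (J ^ n) x)
      rw [hfφ, hψ₀, hfmk]
    exact AlgHom.congr_fun key s

theorem quotientMap_pow_bijective_of_formallyEtale (R : Type u) [CommRing R] (S : Type u)
    [CommRing S] [Algebra R S] [Algebra.FormallyEtale R S] (J : Ideal S)
    (hJ : Function.Surjective (algebraMap R (S ⧸ J))) (n : ℕ) :
    Function.Bijective (Ideal.quotientMap (J ^ n) (algebraMap R S)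
      (le_of_le_of_eq (Ideal.le_comap_pow (algebraMap R S) n) rfl :
        (J.comap (algebraMap R S)) ^ n ≤ (J ^ n).comap (algebraMap R S))) :=
  quotientMap_pow_bijective_of_formallySmooth_of_formallyUnramified R S J hJ n

end Groth.Agent.H5.CA
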