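import Mathlib
import Groth.Prelude.Def_CAlg2

universe u

namespace Groth.Agent.H5.CA

theorem isGeomUnibranch_of_isIntegrallyClosed (A : Type u) [CommRing A] [IsLocalRing A] [IsDomain A]
    [IsIntegrallyClosed A] : CAlg2.IsGeomUnibranch A := by
  have hnil : nilradical A = ⊥ := nilradical_eq_zero A
  have hprime : (nilradical A).IsPrime := hnil ▸ Ideal.isPrime_bot
  have hdom : IsDomain (CAlg2.red A) := Ideal.Quotient.isDomain (nilradical A)
  let e : A ≃+* CAlg2.red A :=
    (RingEquiv.quotientBot A).symm.trans (Ideal.quotEquivOfEq hnil.symm)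
  have hic : IsIntegrallyClosed (CAlg2.red A) := IsIntegrallyClosed.of_equiv e
  have hbot : integralClosure (CAlg2.red A) (FractionRing (CAlg2.red A)) = ⊥ :=
    IsIntegrallyClosed.integralClosure_eq_bot _ _
  have hsurj : Function.Surjective (algebraMap (CAlg2.red A) (CAlg2.normRed A)) := by
    rintro ⟨x, hx⟩
    have hx' : x ∈ (⊥ : Subalgebra (CAlg2.red A) (FractionRing (CAlg2.red A))) := hbot ▸ hx
    obtain ⟨y, hy⟩ := Algebra.mem_bot.mp hx'
    exact ⟨y, Subtype.ext hy⟩
  have hinj : Function.Injective (algebraMap (CAlg2.red A) (CAlg2.normRed A)) := by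
    intro a b hab
    have := congrArg Subtype.val hab
    exact IsFractionRing.injective (CAlg2.red A) (FractionRing (CAlg2.red A)) this
  let e2 : CAlg2.red A ≃+* CAlg2.normRed A :=
    RingEquiv.ofBijective (algebraMap (CAlg2.red A) (CAlg2.normRed A)) ⟨hinj, hsurj⟩
  have hloc : IsLocalRing (CAlg2.normRed A) := (e.trans e2).isLocalRing
  refine ⟨⟨hdom, hloc⟩, ?_⟩
  intro m' _ x
  refine ⟨0, ?_⟩
  rw [pow_zero, pow_one]
  obtain ⟨y, rfl⟩ := Ideal.Quotient.mk_surjective x
  obtain ⟨z, rfl⟩ := hsurj y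
  obtain ⟨a, rfl⟩ := Ideal.Quotient.mk_surjective z
  exact ⟨a, rfl⟩

end Groth.Agent.H5.CA
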