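import Groth.Prelude.Def_CAlgX
import Mathlib

set_option autoImplicit false
universe u

namespace H5H1Reg

open CAlgX

variable {A B : Type u} [CommRing A] [CommRing B]

/-- The submodule of trivial (Koszul) relations. -/
def triv {R : Type u} [CommRing R] {c : ℕ} (f : Fin c → R) : Submodule R (Fin c → R) :=
  Submodule.span R {v : Fin c → R | ∃ i j : Fin c, v = Pi.single i (f j) - Pi.single j (f i)}

lemma sum_mul_eq_zero_of_mem_triv {R : Type u} [CommRing R] {c : ℕ} (f : Fin c → R)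
    {t : Fin c → R} (ht : t ∈ triv f) : ∑ i, t i * f i = 0 := by
  classical
  refine Submodule.span_induction ?_ ?_ ?_ ?_ ht
  · rintro _ ⟨i, j, rfl⟩
    simp only [Pi.sub_apply, sub_mul, Finset.sum_sub_distrib]
    simp only [Pi.single_apply, ite_mul, zero_mul, Finset.sum_ite_eq', Finset.mem_univ, if_true]
    ring
  · simp
  · intro x y _ _ hx hy
    simp only [Pi.add_apply, add_mul, Finset.sum_add_distrib, hx, hy, add_zero]
  · intro a x _ hx
    simp only [Pi.smul_apply, smul_eq_mul, mul_assoc, ← Finset.mul_sum, hx, mul_zero]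

/-- Lifting trivial relations along a surjection. -/
lemma exists_lift_triv (π : A →+* B) (hπ : Function.Surjective π) {c : ℕ} (F : Fin c → A)
    {v : Fin c → B} (hv : v ∈ triv (fun i => π (F i))) :
    ∃ t ∈ triv F, ∀ i, π (t i) = v i := by
  classical
  refine Submodule.span_induction ?_ ?_ ?_ ?_ hv
  · rintro _ ⟨i, j, rfl⟩
    refine ⟨Pi.single i (F j) - Pi.single j (F i), Submodule.subset_span ⟨i, j, rfl⟩, ?_⟩
    intro k
    simp only [Pi.sub_apply, Pi.single_apply, map_sub]
    split_ifs <;> simp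
  · exact ⟨0, zero_mem _, by simp⟩
  · rintro x y _ _ ⟨t, ht, h1⟩ ⟨s, hs, h2⟩
    exact ⟨t + s, add_mem ht hs, fun i => by simp [h1, h2]⟩
  · rintro b x _ ⟨t, ht, h1⟩
    obtain ⟨a, rfl⟩ := hπ b
    exact ⟨a • t, Submodule.smul_mem _ _ ht, fun i => by simp [h1]⟩

end H5H1Reg

namespace H5H1Reg

open CAlgX

variable {A B : Type u} [CommRing A] [CommRing B]

theorem inf_sq_le_mul (π : A →+* B) (hπ : Function.Surjective π) (I J : Ideal A) (hIJ : I ≤ J)
    (hker : RingHom.ker π = I) {c : ℕ} (f : Fin c → B) (hf : IsH1Regular f)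
    (hspan : Ideal.span (Set.range f) = J.map π) : I ⊓ J ^ 2 ≤ I * J := by
  classical
  choose F hF using fun i => hπ (f i)
  have hf' : f = fun i => π (F i) := by funext i; exact (hF i).symm
  have hFJ : ∀ i, F i ∈ J := by
    intro i
    have h1 : π (F i) ∈ J.map π := by
      rw [← hspan, hF]; exact Ideal.subset_span ⟨i, rfl⟩
    have h2 : F i ∈ (J.map π).comap π := h1
    rw [Ideal.comap_map_of_surjective π hπ, ← RingHom.ker_eq_comap_bot, hker, sup_eq_left.2 hIJ] at h2
    exact h2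
  have hJ : J ≤ I ⊔ Ideal.span (Set.range F) := by
    intro j hj
    have h1 : π j ∈ Ideal.span (Set.range f) := by
      rw [hspan]; exact Ideal.mem_map_of_mem _ hj
    obtain ⟨β, hβ⟩ := (Ideal.mem_span_range_iff_exists_fun).1 h1
    choose Bc hBc using fun i => hπ (β i)
    have h2 : j - ∑ i, Bc i * F i ∈ I := by
      rw [← hker, RingHom.mem_ker, map_sub, map_sum, ← hβ, sub_eq_zero]
      refine Finset.sum_congr rfl fun i _ => ?_
      rw [map_mul, hBc, hF]
    have h3 : ∑ i, Bc i * F i ∈ Ideal.span (Set.range F) :=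
      Ideal.sum_mem _ fun i _ => Ideal.mul_mem_left _ _ (Ideal.subset_span ⟨i, rfl⟩)
    have : j = (j - ∑ i, Bc i * F i) + ∑ i, Bc i * F i := by ring
    rw [this]
    exact Submodule.add_mem_sup h2 h3
  have hJ2 : J ^ 2 ≤ I * J ⊔ Ideal.span (Set.range F) := by
    rw [pow_two]
    calc J * J ≤ (I ⊔ Ideal.span (Set.range F)) * J := Ideal.mul_mono_left hJ
      _ = I * J ⊔ Ideal.span (Set.range F) * J := Ideal.sup_mul _ _ _
      _ ≤ I * J ⊔ Ideal.span (Set.range F) := sup_le_sup_left Ideal.mul_le_left _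
  intro x hx
  have hxI : x ∈ I := (Submodule.mem_inf.1 hx).1
  have hxJ : x ∈ J ^ 2 := (Submodule.mem_inf.1 hx).2
  obtain ⟨y, hy, z, hz, hyz⟩ := Submodule.mem_sup.1 (hJ2 hxJ)
  subst hyz
  obtain ⟨b, hb⟩ := (Ideal.mem_span_range_iff_exists_fun).1 hz
  have hyI : y ∈ I := (Ideal.mul_le_left : I * J ≤ I) hy
  have hzI : z ∈ I := by
    have h0 : y + z - y ∈ I := I.sub_mem hxI hyI
    have h00 : y + z - y = z := add_sub_cancel_left y z
    rw [h00] at h0
    exact h0
  have hrel : ∑ i, π (b i) * f i = 0 := by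
    have : π z = 0 := by rw [← RingHom.mem_ker, hker]; exact hzI
    rw [← this, ← hb, map_sum]
    refine Finset.sum_congr rfl fun i _ => ?_
    rw [map_mul, hF]
  have h1 := hf (fun i => π (b i)) hrel
  rw [hf'] at h1
  obtain ⟨t, ht, hts⟩ := exists_lift_triv π hπ F h1
  have h2 := sum_mul_eq_zero_of_mem_triv F ht
  have h3 : z = ∑ i, (b i - t i) * F i := by
    rw [← hb, ← sub_zero (∑ i, b i * F i), ← h2, ← Finset.sum_sub_distrib]
    exact Finset.sum_congr rfl fun i _ => (sub_mul _ _ _).symm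
  refine Ideal.add_mem _ hy ?_
  rw [h3]
  refine Ideal.sum_mem _ fun i _ => Ideal.mul_mem_mul ?_ (hFJ i)
  rw [← hker, RingHom.mem_ker, map_sub, hts, sub_self]

end H5H1Reg
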