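import Groth.Agent.Lib.Helper5.CA.WeakColimit
import Mathlib

set_option autoImplicit false
universe u v

namespace Groth.Agent.H5.CA

open TensorProduct

namespace WeakColimit

variable {K : Type u} [CommRing K] {ι : Type v} {G : ι → Type u} [∀ i, CommRing (G i)]
  [∀ i, Algebra K (G i)] {A : Type u} [CommRing A] [Algebra K A] (W : WeakColimit K G A)

include W in
/-- A weak colimit of flat algebras is flat. -/
theorem flat_of_forall_flat (h : ∀ i, Module.Flat K (G i)) : Module.Flat K A := by
  rw [Module.Flat.iff_rTensor_preserves_injective_linearMap]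
  intro N N' _ _ _ _ f hf
  rw [injective_iff_map_eq_zero]
  intro y hy
  obtain ⟨i₀⟩ := W.nonempty
  obtain ⟨j, -, -, x, rfl⟩ := W.exists_lTensor_lift N i₀ y
  have h1 : (W.g j).toLinearMap.lTensor N' (f.rTensor (G j) x) = 0 := by
    rw [← LinearMap.comp_apply, LinearMap.lTensor_comp_rTensor, ← LinearMap.rTensor_comp_lTensor,
      LinearMap.comp_apply]
    exact hy
  obtain ⟨k, φ, hφ, h2⟩ := W.exists_lTensor_kill N' _ h1
  rw [← LinearMap.comp_apply, LinearMap.lTensor_comp_rTensor, ← LinearMap.rTensor_comp_lTensor,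
    LinearMap.comp_apply] at h2
  have h3 : φ.toLinearMap.lTensor N x = 0 := by
    have := Module.Flat.rTensor_preserves_injective_linearMap (M := G k) f hf
    exact (injective_iff_map_eq_zero _).mp this _ h2
  have h4 : (W.g j).toLinearMap = (W.g k).toLinearMap.comp φ.toLinearMap := by
    rw [← W.adm_compat φ hφ]; rfl
  rw [h4, LinearMap.lTensor_comp, LinearMap.comp_apply, h3, map_zero]

end WeakColimit

end Groth.Agent.H5.CA
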