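import Groth.Agent.Lib.Helper5.CA.WeakColimitDescent
import Mathlib

set_option autoImplicit false

namespace Groth.Agent.H5.CA

open TensorProduct

section Ring

variable {R S : Type*} [CommRing R] [CommRing S] [Algebra R S]

/-- A finite type algebra which is quasi-finite at all primes is quasi-finite. -/
lemma quasiFinite_of_forall_quasiFiniteAt [Algebra.FiniteType R S]
    (H : ∀ (q : Ideal S) [q.IsPrime], Algebra.QuasiFiniteAt R q) : Algebra.QuasiFinite R S := by
  rw [Algebra.QuasiFinite.iff_finite_comap_preimage_singleton]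
  intro x
  have : CompactSpace (PrimeSpectrum.comap (algebraMap R S) ⁻¹' {x}) :=
    (PrimeSpectrum.preimageHomeomorphFiber R S x).symm.compactSpace
  have : DiscreteTopology (PrimeSpectrum.comap (algebraMap R S) ⁻¹' {x}) := by
    rw [discreteTopology_iff_isOpen_singleton]
    rintro ⟨q, hq⟩
    obtain rfl : q.comap (algebraMap R S) = x := hq
    exact (Algebra.quasiFiniteAt_iff_isOpen_singleton_fiber q).mp (H q.asIdeal)
  exact Set.finite_coe_iff.mp finite_of_compact_of_discrete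

/-- The Zariski main theorem certificate of a quasi-finite algebra of finite type. -/
lemma exists_qfCert [Algebra.FiniteType R S] [Algebra.QuasiFinite R S] :
    ∃ (n : ℕ) (r u : Fin n → S), ∑ i, u i * r i = 1 ∧ (∀ i, IsIntegral R (r i)) ∧
      ∀ i x, ∃ m, IsIntegral R (r i ^ m * x) := by
  classical
  have key : ∀ q : PrimeSpectrum S, ∃ r ∉ q.asIdeal, IsIntegral R r ∧
      ∀ x, ∃ m, IsIntegral R (r ^ m * x) := fun q =>
    Algebra.zariskisMainProperty_iff.mp (Algebra.ZariskisMainProperty.of_finiteType q.asIdeal)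
  choose r hrq hr hrx using key
  have hspan : Ideal.span (Set.range r) = ⊤ := by
    by_contra h
    obtain ⟨m, hm, hle⟩ := Ideal.exists_le_maximal _ h
    exact hrq ⟨m, hm.isPrime⟩ (hle (Ideal.subset_span ⟨⟨m, hm.isPrime⟩, rfl⟩))
  obtain ⟨s', hs', hs'top⟩ := (Ideal.span_eq_top_iff_finite _).mp hspan
  choose q hq using fun x : s' => hs' x.2
  let e := s'.equivFin
  let v : Fin s'.card → S := fun i => (e.symm i).1
  have hv : Set.range v = ↑s' := by
    ext x
    constructor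
    · rintro ⟨i, rfl⟩; exact (e.symm i).2
    · intro hx; exact ⟨e ⟨x, hx⟩, by simp [v]⟩
  have h1 : (1 : S) ∈ Ideal.span (Set.range v) := by rw [hv, hs'top]; trivial
  obtain ⟨u, hu⟩ := (Ideal.mem_span_range_iff_exists_fun).mp h1
  refine ⟨s'.card, v, u, hu, fun i => ?_, fun i x => ?_⟩
  · have := hr (q (e.symm i)); rwa [hq] at this
  · have := hrx (q (e.symm i)) x; rwa [hq] at this

/-- The converse: a certificate gives quasi-finiteness. -/
lemma quasiFinite_of_qfCert [Algebra.FiniteType R S] {n : ℕ} (r u : Fin n → S)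
    (h1 : ∑ i, u i * r i = 1) (hr : ∀ i, IsIntegral R (r i))
    (hx : ∀ i x, ∃ m, IsIntegral R (r i ^ m * x)) : Algebra.QuasiFinite R S := by
  refine quasiFinite_of_forall_quasiFiniteAt fun q _ => ?_
  have : ∃ i, r i ∉ q := by
    by_contra! h
    have : (1 : S) ∈ q := by
      rw [← h1]
      exact q.sum_mem fun i _ => q.mul_mem_left _ (h i)
    exact Ideal.IsPrime.ne_top ‹_› ((Ideal.eq_top_iff_one _).mpr this)
  obtain ⟨i, hi⟩ := this
  exact Algebra.ZariskisMainProperty.quasiFiniteAt q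
    (Algebra.zariskisMainProperty_iff.mpr ⟨r i, hi, hr i, hx i⟩)

/-- Extension of the "power times element is integral" condition from generators. -/
lemma forall_exists_isIntegral_pow_mul {r : S} (hr : IsIntegral R r) (s : Set S)
    (hs : Algebra.adjoin R s = ⊤) (h : ∀ c ∈ s, ∃ m, IsIntegral R (r ^ m * c)) (x : S) :
    ∃ m, IsIntegral R (r ^ m * x) := by
  have hx : x ∈ Algebra.adjoin R s := hs ▸ Algebra.mem_top
  induction hx using Algebra.adjoin_induction with
  | mem c hc => exact h c hc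
  | algebraMap a => exact ⟨0, by simpa using isIntegral_algebraMap⟩
  | add a b _ _ iha ihb =>
    obtain ⟨m₁, h₁⟩ := iha
    obtain ⟨m₂, h₂⟩ := ihb
    refine ⟨m₁ + m₂, ?_⟩
    have : r ^ (m₁ + m₂) * (a + b) = r ^ m₂ * (r ^ m₁ * a) + r ^ m₁ * (r ^ m₂ * b) := by ring
    rw [this]
    exact ((hr.pow _).mul h₁).add ((hr.pow _).mul h₂)
  | mul a b _ _ iha ihb =>
    obtain ⟨m₁, h₁⟩ := iha
    obtain ⟨m₂, h₂⟩ := ihb
    refine ⟨m₁ + m₂, ?_⟩
    have : r ^ (m₁ + m₂) * (a * b) = (r ^ m₁ * a) * (r ^ m₂ * b) := by ring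
    rw [this]
    exact h₁.mul h₂

end Ring

namespace WeakColimit

open Polynomial

variable {K : Type*} [CommRing K] {ι : Type*} {G : ι → Type*} [∀ i, CommRing (G i)]
  [∀ i, Algebra K (G i)] {A : Type*} [CommRing A] [Algebra K A] (W : WeakColimit K G A)
  (C : Type*) [CommRing C] [Algebra K C]

omit W in
lemma isIntegral_map_tensor {S S' : Type*} [CommRing S] [Algebra K S] [CommRing S'] [Algebra K S']
    (ψ : S →ₐ[K] S') {y : S ⊗[K] C} (hy : IsIntegral S y) :
    IsIntegral S' (Algebra.TensorProduct.map ψ (AlgHom.id K C) y) :=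
  hy.map_of_comp_eq ψ.toRingHom (Algebra.TensorProduct.map ψ (AlgHom.id K C)).toRingHom
    (by ext; simp)

/-- Integrality of an element of `G j ⊗ C` in the weak colimit descends to a stage. -/
lemma exists_isIntegral {j : ι} (y : G j ⊗[K] C)
    (hy : IsIntegral A (Algebra.TensorProduct.map (W.g j) (AlgHom.id K C) y)) :
    ∃ (j' : ι) (φ : G j →ₐ[K] G j'), W.Adm φ ∧
      IsIntegral (G j') (Algebra.TensorProduct.map φ (AlgHom.id K C) y) := by
  obtain ⟨p, hpm, hp⟩ := hy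
  obtain ⟨j₁, φ₁, hφ₁, q, hqm, hq⟩ := W.exists_lift_monic_family (σ := Unit) j (fun _ => p)
    (fun _ => hpm)
  let y₁ := Algebra.TensorProduct.map φ₁ (AlgHom.id K C) y
  have hy₁ : Algebra.TensorProduct.map (W.g j₁) (AlgHom.id K C) y₁ =
      Algebra.TensorProduct.map (W.g j) (AlgHom.id K C) y := by
    dsimp only [y₁]
    rw [← AlgHom.comp_apply, ← Algebra.TensorProduct.map_comp, W.adm_compat φ₁ hφ₁]
    rfl
  obtain ⟨j₂, Φ, ⟨φ₂, hφ₂, rfl⟩, hkill⟩ := (W.tensorRight C).ker j₁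
    ((q ()).eval₂ (algebraMap (G j₁) (G j₁ ⊗[K] C)) y₁) (by
      change (Algebra.TensorProduct.map (W.g j₁) (AlgHom.id K C)).toRingHom _ = _
      rw [hom_eval₂]
      have e1 : (Algebra.TensorProduct.map (W.g j₁) (AlgHom.id K C)).toRingHom.comp
          (algebraMap (G j₁) (G j₁ ⊗[K] C)) =
          (algebraMap A (A ⊗[K] C)).comp (W.g j₁).toRingHom := by ext r; simp
      rw [e1, ← eval₂_map, hq ()]
      change eval₂ _ (Algebra.TensorProduct.map (W.g j₁) (AlgHom.id K C) y₁) p = 0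
      rw [hy₁]
      exact hp)
  refine ⟨j₂, φ₂.comp φ₁, W.adm_comp _ _ hφ₁ hφ₂, (q ()).map φ₂.toRingHom, (hqm ()).map _, ?_⟩
  change (Algebra.TensorProduct.map φ₂ (AlgHom.id K C)).toRingHom _ = _ at hkill
  rw [hom_eval₂] at hkill
  have e1 : (Algebra.TensorProduct.map φ₂ (AlgHom.id K C)).toRingHom.comp
      (algebraMap (G j₁) (G j₁ ⊗[K] C)) =
      (algebraMap (G j₂) (G j₂ ⊗[K] C)).comp φ₂.toRingHom := by ext r; simp
  rw [e1] at hkill
  rw [eval₂_map]
  have e2 : Algebra.TensorProduct.map (φ₂.comp φ₁) (AlgHom.id K C) y =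
      (Algebra.TensorProduct.map φ₂ (AlgHom.id K C)).toRingHom y₁ := by
    dsimp only [y₁]
    change _ = Algebra.TensorProduct.map φ₂ (AlgHom.id K C) _
    rw [← AlgHom.comp_apply, ← Algebra.TensorProduct.map_comp]; rfl
  rw [e2]
  exact hkill

/-- Family version of `exists_isIntegral`. -/
lemma exists_isIntegral_family {σ : Type*} [Finite σ] {j : ι} (y : σ → G j ⊗[K] C)
    (hy : ∀ s, IsIntegral A (Algebra.TensorProduct.map (W.g j) (AlgHom.id K C) (y s))) :
    ∃ (j' : ι) (φ : G j →ₐ[K] G j'), W.Adm φ ∧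
      ∀ s, IsIntegral (G j') (Algebra.TensorProduct.map φ (AlgHom.id K C) (y s)) := by
  classical
  have := Fintype.ofFinite σ
  suffices H : ∀ t : Finset σ, ∃ (j' : ι) (φ : G j →ₐ[K] G j'), W.Adm φ ∧
      ∀ s ∈ t, IsIntegral (G j') (Algebra.TensorProduct.map φ (AlgHom.id K C) (y s)) by
    obtain ⟨j', φ, hφ, h⟩ := H Finset.univ
    exact ⟨j', φ, hφ, fun s => h s (Finset.mem_univ s)⟩
  intro t
  induction t using Finset.induction with
  | empty => exact ⟨j, AlgHom.id K _, W.adm_id j, by simp⟩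
  | insert a t _ ih =>
    obtain ⟨j₁, φ₁, hφ₁, h1⟩ := ih
    obtain ⟨j₂, φ₂, hφ₂, h2⟩ := W.exists_isIntegral C
      (Algebra.TensorProduct.map φ₁ (AlgHom.id K C) (y a)) (by
        rw [← AlgHom.comp_apply, ← Algebra.TensorProduct.map_comp, W.adm_compat φ₁ hφ₁]
        exact hy a)
    refine ⟨j₂, φ₂.comp φ₁, W.adm_comp _ _ hφ₁ hφ₂, fun s hs => ?_⟩
    have e : ∀ z, Algebra.TensorProduct.map (φ₂.comp φ₁) (AlgHom.id K C) z =
        Algebra.TensorProduct.map φ₂ (AlgHom.id K C)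
          (Algebra.TensorProduct.map φ₁ (AlgHom.id K C) z) := fun z => by
      rw [← AlgHom.comp_apply, ← Algebra.TensorProduct.map_comp]; rfl
    rw [e]
    rcases Finset.mem_insert.mp hs with rfl | hs
    · exact h2
    · exact isIntegral_map_tensor C φ₂ (h1 s hs)

/-- Witness for quasi-finiteness of `S → S ⊗ C`. -/
def QFWit (S : Type*) [CommRing S] [Algebra K S] (s : Set C) : Prop :=
  ∃ (n : ℕ) (r u : Fin n → S ⊗[K] C), ∑ i, u i * r i = 1 ∧ (∀ i, IsIntegral S (r i)) ∧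
    ∀ i, ∀ c ∈ s, ∃ m, IsIntegral S (r i ^ m * ((1 : S) ⊗ₜ[K] c))

variable {C}

omit W in
lemma QFWit.map {S S' : Type*} [CommRing S] [Algebra K S] [CommRing S'] [Algebra K S']
    {s : Set C} (h : QFWit (K := K) C S s) (ψ : S →ₐ[K] S') : QFWit (K := K) C S' s := by
  obtain ⟨n, r, u, h1, hr, hx⟩ := h
  let T := Algebra.TensorProduct.map ψ (AlgHom.id K C)
  refine ⟨n, fun i => T (r i), fun i => T (u i), ?_, fun i => isIntegral_map_tensor C ψ (hr i),
    fun i c hc => ?_⟩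
  · simp only [← map_mul, ← map_sum, h1, map_one]
  · obtain ⟨m, hm⟩ := hx i c hc
    refine ⟨m, ?_⟩
    have := isIntegral_map_tensor C ψ hm
    simpa [T] using this

omit W in
lemma QFWit.quasiFinite {S : Type*} [CommRing S] [Algebra K S] {s : Set C}
    [Algebra.FiniteType K C] (hs : Algebra.adjoin K s = ⊤) (h : QFWit (K := K) C S s) :
    Algebra.QuasiFinite S (S ⊗[K] C) := by
  obtain ⟨n, r, u, h1, hr, hx⟩ := h
  have hgen := Algebra.TensorProduct.adjoin_one_tmul_image_eq_top (A := S) s hs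
  refine quasiFinite_of_qfCert r u h1 hr fun i x => ?_
  refine forall_exists_isIntegral_pow_mul (hr i) _ hgen ?_ x
  rintro _ ⟨c, hc, rfl⟩
  exact hx i c hc

include W in
/-- Quasi-finiteness of `A → A ⊗ C` descends to a stage (and all later stages). -/
theorem exists_quasiFinite [Algebra.FiniteType K C] (h : Algebra.QuasiFinite A (A ⊗[K] C)) :
    ∃ j : ι, ∀ (S : Type _) [CommRing S] [Algebra K S] (_ : G j →ₐ[K] S),
      Algebra.QuasiFinite S (S ⊗[K] C) := by
  classical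
  obtain ⟨s, hs⟩ := (inferInstance : Algebra.FiniteType K C).out
  obtain ⟨i₀⟩ := W.nonempty
  obtain ⟨n, r, u, h1, hr, hx⟩ := exists_qfCert (R := A) (S := A ⊗[K] C)
  choose m hm using fun (z : Fin n × s) => hx z.1 ((1 : A) ⊗ₜ[K] z.2.1)
  -- lift `r` and `u`
  obtain ⟨j₁, -, -, x, hx'⟩ := (W.tensorRight C).exists_lift_family i₀ (Sum.elim r u)
  let r₁ : Fin n → G j₁ ⊗[K] C := fun i => x (Sum.inl i)
  let u₁ : Fin n → G j₁ ⊗[K] C := fun i => x (Sum.inr i)
  have hr₁ : ∀ i, Algebra.TensorProduct.map (W.g j₁) (AlgHom.id K C) (r₁ i) = r i := fun i =>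
    hx' (Sum.inl i)
  have hu₁ : ∀ i, Algebra.TensorProduct.map (W.g j₁) (AlgHom.id K C) (u₁ i) = u i := fun i =>
    hx' (Sum.inr i)
  -- the relation `∑ u r = 1`
  obtain ⟨j₂, Φ₂, ⟨φ₂, hφ₂, rfl⟩, hkill⟩ := (W.tensorRight C).ker j₁ (∑ i, u₁ i * r₁ i - 1) (by
    change Algebra.TensorProduct.map (W.g j₁) (AlgHom.id K C) _ = 0
    simp only [map_sub, map_sum, map_mul, map_one, hr₁, hu₁, h1, sub_self])
  let T₂ := Algebra.TensorProduct.map φ₂ (AlgHom.id K C)
  have hT₂ : ∀ z, Algebra.TensorProduct.map (W.g j₂) (AlgHom.id K C) (T₂ z) =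
      Algebra.TensorProduct.map (W.g j₁) (AlgHom.id K C) z := fun z => by
    dsimp only [T₂]
    rw [← AlgHom.comp_apply, ← Algebra.TensorProduct.map_comp, W.adm_compat φ₂ hφ₂]
    rfl
  -- integrality
  obtain ⟨j₃, φ₃, hφ₃, hint⟩ := W.exists_isIntegral_family C
    (σ := Fin n ⊕ (Fin n × s)) (j := j₂)
    (Sum.elim (fun i => T₂ (r₁ i))
      (fun z => T₂ (r₁ z.1) ^ m z * ((1 : G j₂) ⊗ₜ[K] z.2.1))) (by
    rintro (i | z)
    · simp only [Sum.elim_inl, hT₂, hr₁]
      exact hr i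
    · simp only [Sum.elim_inr, map_mul, map_pow, hT₂, hr₁]
      have := hm z
      simpa using this)
  let T₃ := Algebra.TensorProduct.map φ₃ (AlgHom.id K C)
  have hwit : QFWit (K := K) C (G j₃) (s : Set C) := by
    refine ⟨n, fun i => T₃ (T₂ (r₁ i)), fun i => T₃ (T₂ (u₁ i)), ?_, fun i => hint (Sum.inl i),
      fun i c hc => ⟨m (i, ⟨c, hc⟩), ?_⟩⟩
    · have h2 : T₂ (∑ i, u₁ i * r₁ i - 1) = 0 := hkill
      have h3 := congrArg T₃ h2
      simp only [map_sub, map_sum, map_mul, map_one, map_zero, sub_eq_zero] at h3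
      exact h3
    · have := hint (Sum.inr (i, ⟨c, hc⟩))
      simpa [T₃] using this
  exact ⟨j₃, fun S _ _ ψ => (hwit.map ψ).quasiFinite hs⟩

end WeakColimit

end Groth.Agent.H5.CA
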