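import Mathlib
import Groth.Prelude.Def_Smoothing
import Groth.Agent.Lib.Helper5.CA.WeakColimitQuasiFinite
import Groth.Agent.Lib.Helper5.CA.WeakColimitFlat

set_option autoImplicit false
universe u

open TensorProduct

namespace Groth.Agent.H5.IndSm

open Groth.Agent.H5.CA

/-- index: smooth algebras mapping to `S`. -/
structure Idx (R S : Type u) [CommRing R] [CommRing S] [Algebra R S] where
  B : Type u
  [cr : CommRing B]
  [alg : Algebra R B]
  [sm : Algebra.Smooth R B]
  h : B →ₐ[R] S

attribute [instance] Idx.cr Idx.alg Idx.sm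

variable {R S : Type u} [CommRing R] [CommRing S] [Algebra R S]

/-- an ind-smooth algebra is a weak colimit of smooth algebras. -/
noncomputable def weakColimit (hS : Smoothing.IndSmooth R S) :
    WeakColimit R (fun i : Idx R S => i.B) S where
  g i := i.h
  Adm i j φ := j.h.comp φ = i.h
  adm_id i := AlgHom.comp_id _
  adm_comp := by
    intro i j k φ ψ hφ hψ
    rw [← AlgHom.comp_assoc, hψ, hφ]
  adm_compat := fun _ _ _ h => h
  nonempty := ⟨⟨R, Algebra.ofId R S⟩⟩
  directed i j := by
    haveI : Algebra.Smooth R (i.B ⊗[R] j.B) := Algebra.Smooth.comp R i.B _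
    refine ⟨⟨i.B ⊗[R] j.B, Algebra.TensorProduct.productMap i.h j.h⟩,
      Algebra.TensorProduct.includeLeft, Algebra.TensorProduct.includeRight, ?_, ?_⟩
    · ext x; simp
    · ext x; simp
  surj a := by
    obtain ⟨B, _, _, hsm, g, h, hgh⟩ := hS (MvPolynomial Unit R) inferInstance
      (MvPolynomial.aeval (fun _ => a))
    haveI := hsm
    refine ⟨⟨B, h⟩, g (MvPolynomial.X ()), ?_⟩
    show h (g (MvPolynomial.X ())) = a
    rw [← AlgHom.comp_apply, hgh]; simp
  ker i x hx := by
    haveI : Algebra.FinitePresentation R i.B := Algebra.Smooth.finitePresentation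
    have hfp : Algebra.FinitePresentation R (i.B ⧸ Ideal.span {x}) :=
      Algebra.FinitePresentation.quotient ⟨{x}, by simp⟩
    let f : (i.B ⧸ Ideal.span {x}) →ₐ[R] S :=
      Ideal.Quotient.liftₐ (Ideal.span {x}) i.h (by
        intro a ha
        obtain ⟨c, rfl⟩ := Ideal.mem_span_singleton'.mp ha
        rw [map_mul, hx, mul_zero])
    obtain ⟨B, _, _, hsm, g, h, hgh⟩ := hS _ hfp f
    haveI := hsm
    refine ⟨⟨B, h⟩, g.comp (Ideal.Quotient.mkₐ R _), ?_, ?_⟩
    · show h.comp (g.comp (Ideal.Quotient.mkₐ R _)) = i.h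
      rw [← AlgHom.comp_assoc, hgh]
      ext a
      simp [f]
    · show g (Ideal.Quotient.mkₐ R _ x) = 0
      have : Ideal.Quotient.mkₐ R (Ideal.span {x}) x = 0 := by
        rw [Ideal.Quotient.mkₐ_eq_mk, Ideal.Quotient.eq_zero_iff_mem]
        exact Ideal.mem_span_singleton_self x
      rw [this, map_zero]

theorem toIntegralClosure_bijective (hS : Smoothing.IndSmooth R S) (B : Type u) [CommRing B]
    [Algebra R B] : Function.Bijective (TensorProduct.toIntegralClosure R S B) := by
  let W := weakColimit hS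
  haveI : Module.Flat R S := W.flat_of_forall_flat (fun i => inferInstance)
  refine ⟨TensorProduct.toIntegralClosure_injective_of_flat, ?_⟩
  rintro ⟨z, hz⟩
  obtain ⟨i₀⟩ := W.nonempty
  obtain ⟨i, -, -, y, hy⟩ := W.exists_rTensor_lift B i₀ z
  have hy' : Algebra.TensorProduct.map (W.g i) (AlgHom.id R B) y = z := by
    rw [← hy]
    exact (WeakColimit.map_id_apply_eq_rTensor _ _).symm
  obtain ⟨j, φ, hφ, hint⟩ := W.exists_isIntegral B y (by rw [hy']; exact hz)
  obtain ⟨w, hw⟩ := (TensorProduct.toIntegralClosure_bijective_of_smooth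
    (R := R) (S := j.B) (B := B)).2 ⟨_, hint⟩
  refine ⟨Algebra.TensorProduct.map j.h (AlgHom.id R _) w, ?_⟩
  apply Subtype.ext
  have hw' := congrArg Subtype.val hw
  simp only [TensorProduct.toIntegralClosure, AlgHom.coe_codRestrict] at hw' ⊢
  have e1 : ∀ w : j.B ⊗[R] integralClosure R B,
      (Algebra.TensorProduct.map (AlgHom.id S S) (integralClosure R B).val)
      (Algebra.TensorProduct.map j.h (AlgHom.id R _) w) =
      Algebra.TensorProduct.map j.h (AlgHom.id R B)
        ((Algebra.TensorProduct.map (AlgHom.id j.B j.B) (integralClosure R B).val) w) := by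
    intro w
    induction w using TensorProduct.induction_on with
    | zero => simp
    | tmul a b => simp
    | add a b ha hb => simp only [map_add, ha, hb]
  rw [e1 w, hw']
  rw [← AlgHom.comp_apply, ← Algebra.TensorProduct.map_comp]
  have : j.h.comp φ = i.h := hφ
  rw [this]
  exact hy'

end Groth.Agent.H5.IndSm
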