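import Mathlib
import Groth.Agent.Lib.Helper5.CA.JZ2
import Groth.Agent.Lib.Helper5.PB.PB17

set_option autoImplicit false
universe u

namespace H5.JZ

open Algebra KaehlerDifferential TensorProduct

section
variable {k K : Type u} [Field k] [Field K] [Algebra k K]

theorem isGeometricallyReduced_iff_injective :
    Algebra.IsGeometricallyReduced k K ↔
      Function.Injective (KaehlerDifferential.mapBaseChange ℤ k K) := by
  obtain ⟨p, hp⟩ := CharP.exists k
  rcases CharP.char_is_prime_or_zero k p with hpp | rfl
  · haveI : Fact p.Prime := ⟨hpp⟩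
    exact main2117 p
  · haveI : CharZero k := CharP.charP_to_charZero k
    haveI : Algebra.IsGeometricallyReduced k K :=
      Groth.Agent.H5.isGeometricallyReduced_of_perfectField k K
    haveI : Algebra.FormallySmooth k K :=
      Groth.Agent.H5.GR.formallySmooth_field_iff.mpr inferInstance
    exact ⟨fun _ => mapBaseChange_injective_of_subsingleton ℤ k K, fun _ => inferInstance⟩

theorem injective_of_forall_extends
    (h : ∀ D : Derivation ℤ k K, ∃ D' : Derivation ℤ K K, ∀ a : k, D' (algebraMap k K a) = D a) :
    Function.Injective (KaehlerDifferential.mapBaseChange ℤ k K) := by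
  rw [injective_iff_map_eq_zero]
  intro ω hω
  rw [← Module.forall_dual_apply_eq_zero_iff K ω]
  intro φ
  let f : Ω[k⁄ℤ] →ₗ[k] K := (φ.restrictScalars k).comp (TensorProduct.mk k K (Ω[k⁄ℤ]) 1)
  obtain ⟨D', hD'⟩ := h (f.compDer (KaehlerDifferential.D ℤ k))
  let ψ : Ω[K⁄ℤ] →ₗ[K] K := D'.liftKaehlerDifferential
  have h1 : ψ.comp (KaehlerDifferential.mapBaseChange ℤ k K) = φ := by
    apply ext_tensor_kaehler
    intro a
    rw [LinearMap.comp_apply, KaehlerDifferential.mapBaseChange_tmul, one_smul,
      KaehlerDifferential.map_D]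
    show D'.liftKaehlerDifferential (KaehlerDifferential.D ℤ K (algebraMap k K a)) = _
    rw [Derivation.liftKaehlerDifferential_comp_D, hD']
    rfl
  rw [← h1, LinearMap.comp_apply, hω, map_zero]

theorem main4523 :
    (Algebra.IsGeometricallyReduced k K ↔ EGA41.imperfection ℤ k K = ⊥) ∧
    (Algebra.IsGeometricallyReduced k K ↔
      ∀ D : Derivation ℤ k K, ∃ D' : Derivation ℤ K K, ∀ a : k, D' (algebraMap k K a) = D a) := by
  refine ⟨?_, ?_, ?_⟩
  · rw [isGeometricallyReduced_iff_injective]
    unfold EGA41.imperfection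
    rw [LinearMap.ker_eq_bot]
  · intro hgr D
    haveI : Algebra.FormallySmooth k K := Groth.Agent.H5.GR.formallySmooth_field_iff.mpr hgr
    exact H5.PB.exists_extension_of_formallySmooth D
  · intro h
    exact isGeometricallyReduced_iff_injective.mpr (injective_of_forall_extends h)

end

end H5.JZ
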