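import Mathlib

set_option autoImplicit false
universe u v

namespace Groth.Agent.H5.KP

variable {R : Type u} [CommRing R] {P : Type v} [AddCommGroup P] [Module R P]

/-- Nakayama for nilpotent ideals, no finiteness. -/
theorem eq_top_of_sup_smul_top_of_nilpotent (I : Ideal R) {n : ℕ} (hI : I ^ n = ⊥)
    (N : Submodule R P) (h : N ⊔ I • (⊤ : Submodule R P) = ⊤) : N = ⊤ := by
  have key : ∀ k : ℕ, N ⊔ I ^ k • (⊤ : Submodule R P) = ⊤ := by
    intro k
    induction k with
    | zero => simp
    | succ k ih =>
      rw [eq_top_iff]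
      calc (⊤ : Submodule R P) = N ⊔ I • (⊤ : Submodule R P) := h.symm
        _ = N ⊔ I • (N ⊔ I ^ k • (⊤ : Submodule R P)) := by rw [ih]
        _ = N ⊔ (I • N ⊔ I • (I ^ k • (⊤ : Submodule R P))) := by rw [Submodule.smul_sup]
        _ ≤ N ⊔ I ^ (k + 1) • (⊤ : Submodule R P) := by
          refine sup_le le_sup_left (sup_le (le_sup_of_le_left Submodule.smul_le_right) ?_)
          rw [← Submodule.mul_smul, ← pow_succ']
          exact le_sup_right
  have := key n
  rwa [hI, Submodule.bot_smul, sup_bot_eq] at this

theorem eq_bot_of_le_smul_of_nilpotent (I : Ideal R) {n : ℕ} (hI : I ^ n = ⊥)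
    (N : Submodule R P) (h : N ≤ I • N) : N = ⊥ := by
  have key : ∀ k : ℕ, N ≤ I ^ k • N := by
    intro k
    induction k with
    | zero => simp
    | succ k ih =>
      calc N ≤ I • N := h
        _ ≤ I • (I ^ k • N) := Submodule.smul_mono le_rfl ih
        _ = I ^ (k + 1) • N := by rw [← Submodule.mul_smul, ← pow_succ']
  have := key n
  rwa [hI, Submodule.bot_smul, le_bot_iff] at this

/-- a projective module over a ring with a nilpotent maximal ideal is free. -/
theorem free_of_projective_of_nilpotent (I : Ideal R) [hmax : I.IsMaximal] {n : ℕ}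
    (hI : I ^ n = ⊥) [Module.Projective R P] : Module.Free R P := by
  letI : Field (R ⧸ I) := Ideal.Quotient.field I
  let V := P ⧸ (I • ⊤ : Submodule R P)
  let b := Module.Free.chooseBasis (R ⧸ I) V
  let ι := Module.Free.ChooseBasisIndex (R ⧸ I) V
  choose p hp using fun i : ι => Submodule.Quotient.mk_surjective (I • ⊤ : Submodule R P) (b i)
  let φ : (ι →₀ R) →ₗ[R] P := Finsupp.linearCombination R p
  -- key computation mod I
  have hmk : ∀ c : ι →₀ R, Submodule.Quotient.mk (p := (I • ⊤ : Submodule R P)) (φ c) =
      Finsupp.linearCombination (R ⧸ I) b (c.mapRange (Ideal.Quotient.mk I) (map_zero _)) := by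
    intro c
    induction c using Finsupp.induction_linear with
    | zero => simp
    | add x y hx hy =>
      rw [map_add, Submodule.Quotient.mk_add, hx, hy, Finsupp.mapRange_add (by intros; simp),
        map_add]
    | single i r =>
      rw [Finsupp.mapRange_single, Finsupp.linearCombination_single,
        Finsupp.linearCombination_single, ← hp i]
      rfl
  -- surjectivity
  have hsurj : Function.Surjective φ := by
    rw [← LinearMap.range_eq_top]
    apply eq_top_of_sup_smul_top_of_nilpotent I hI
    have h1 : Submodule.span R (Set.range b) = ⊤ := by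
      rw [← Submodule.restrictScalars_span R (R ⧸ I) Ideal.Quotient.mk_surjective, b.span_eq]
      rfl
    have h2 : (LinearMap.range φ).map (I • ⊤ : Submodule R P).mkQ = ⊤ := by
      rw [eq_top_iff, ← h1, Submodule.span_le]
      rintro _ ⟨i, rfl⟩
      refine ⟨p i, ⟨Finsupp.single i 1, ?_⟩, hp i⟩
      simp [φ]
    have h3 := Submodule.comap_map_eq (I • ⊤ : Submodule R P).mkQ (LinearMap.range φ)
    rw [h2, Submodule.comap_top, Submodule.ker_mkQ] at h3
    exact h3.symm
  -- elements of the kernel are in `I • ⊤`
  have hker : ∀ x ∈ LinearMap.ker φ, x ∈ (I • ⊤ : Submodule R (ι →₀ R)) := by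
    intro x hx
    have h1 := hmk x
    rw [LinearMap.mem_ker.mp hx, Submodule.Quotient.mk_zero] at h1
    have h2 := (linearIndependent_iff.mp b.linearIndependent) _ h1.symm
    have h3 : ∀ i, x i ∈ I := by
      intro i
      have := DFunLike.congr_fun h2 i
      rw [Finsupp.mapRange_apply, Finsupp.zero_apply] at this
      exact Ideal.Quotient.eq_zero_iff_mem.mp this
    have h4 : x = x.sum (fun i r => r • Finsupp.single i (1 : R)) := by
      conv_lhs => rw [← Finsupp.sum_single x]
      congr 1
      ext i r j
      simp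
    rw [h4]
    refine Submodule.sum_mem _ (fun i _ => ?_)
    exact Submodule.smul_mem_smul (h3 i) Submodule.mem_top
  obtain ⟨s, hs⟩ := Module.projective_lifting_property φ LinearMap.id hsurj
  let q : (ι →₀ R) →ₗ[R] (ι →₀ R) := LinearMap.id - s ∘ₗ φ
  have hq1 : ∀ x ∈ LinearMap.ker φ, q x = x := by
    intro x hx
    simp [q, LinearMap.mem_ker.mp hx]
  have hq2 : LinearMap.range q ≤ LinearMap.ker φ := by
    rintro _ ⟨x, rfl⟩
    rw [LinearMap.mem_ker]
    have := DFunLike.congr_fun hs (φ x)
    simp only [LinearMap.comp_apply, LinearMap.id_apply] at this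
    simp [q, this]
  have hK : LinearMap.ker φ = ⊥ := by
    apply eq_bot_of_le_smul_of_nilpotent I hI
    intro x hx
    have h1 : q x ∈ (I • ⊤ : Submodule R (ι →₀ R)).map q := ⟨x, hker x hx, rfl⟩
    rw [Submodule.map_smul'', Submodule.map_top, hq1 x hx] at h1
    exact Submodule.smul_mono le_rfl hq2 h1
  have hbij : Function.Bijective φ := ⟨LinearMap.ker_eq_bot.mp hK, hsurj⟩
  exact Module.Free.of_equiv (LinearEquiv.ofBijective φ hbij)

end Groth.Agent.H5.KP
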