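import Mathlib

set_option autoImplicit false
universe u

namespace Groth.Agent.H5.LocalNilp

variable {A L : Type*} [CommRing A] [CommRing L]

theorem isUnit_iff_of_isNilpotent_ker (f : A →+* L) (hf : Function.Surjective f)
    (hK : IsNilpotent (RingHom.ker f)) (a : A) : IsUnit (f a) ↔ IsUnit a := by
  refine ⟨fun h => ?_, fun h => h.map f⟩
  obtain ⟨c, hc⟩ := h.exists_right_inv
  obtain ⟨b, rfl⟩ := hf c
  have h1 : a * b - 1 ∈ RingHom.ker f := by
    rw [RingHom.mem_ker, map_sub, map_mul, hc, map_one, sub_self]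
  obtain ⟨n, hn⟩ := hK
  have h2 : IsNilpotent (a * b - 1) := by
    refine ⟨n, ?_⟩
    have := Ideal.pow_mem_pow h1 n
    rw [hn] at this
    exact this
  have h3 : IsUnit (a * b) := by
    have := h2.isUnit_add_one
    simpa using this
  exact isUnit_of_mul_isUnit_left h3

theorem isLocalHom_of_isNilpotent_ker (f : A →+* L) (hf : Function.Surjective f)
    (hK : IsNilpotent (RingHom.ker f)) : IsLocalHom f :=
  ⟨fun a h => (isUnit_iff_of_isNilpotent_ker f hf hK a).mp h⟩

theorem isLocalRing_of_isNilpotent_ker (f : A →+* L) (hf : Function.Surjective f)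
    (hK : IsNilpotent (RingHom.ker f)) [IsLocalRing L] : IsLocalRing A := by
  haveI : Nontrivial A := f.domain_nontrivial
  refine IsLocalRing.of_nonunits_add ?_
  intro a b ha hb
  rw [mem_nonunits_iff, ← isUnit_iff_of_isNilpotent_ker f hf hK] at ha hb ⊢
  rw [map_add]
  exact IsLocalRing.nonunits_add ha hb

end Groth.Agent.H5.LocalNilp
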