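import Mathlib

set_option autoImplicit false
universe u

namespace H5N1

open Polynomial LaurentPolynomial

/-- coefficient functionals on a localization of `R[X]` away from `X`. -/
theorem exists_coeff_family (R : Type u) [CommRing R] (S : Type u) [CommRing S]
    [Algebra (Polynomial R) S] [IsLocalization.Away (Polynomial.X : Polynomial R) S] :
    ∃ c : ℤ → S →+ R,
      (∀ j (r : R) (s : S), c j (algebraMap (Polynomial R) S (Polynomial.C r) * s) = r * c j s) ∧
      (∀ d : S, d ≠ 0 → ∃ j, c j d ≠ 0) := by
  let e : S ≃ₐ[Polynomial R] R[T;T⁻¹] :=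
    IsLocalization.algEquiv (Submonoid.powers (Polynomial.X : Polynomial R)) S R[T;T⁻¹]
  refine ⟨fun j => (Finsupp.applyAddHom j).comp
    ((AddMonoidAlgebra.coeffAddEquiv (R := R) (M := ℤ)).toAddMonoidHom.comp
      e.toRingEquiv.toAddMonoidHom), ?_, ?_⟩
  · intro j r s
    simp only [AddMonoidHom.coe_comp, Function.comp_apply]
    change (e (algebraMap (Polynomial R) S (Polynomial.C r) * s)).coeff j = r * (e s).coeff j
    rw [map_mul, e.commutes, LaurentPolynomial.algebraMap_eq_toLaurent, Polynomial.toLaurent_C]
    exact AddMonoidAlgebra.coeff_single_zero_mul (e s) r j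
  · intro d hd
    have hed : e d ≠ 0 := by
      intro h
      exact hd (e.injective (by rw [h, map_zero]))
    by_contra hcon
    push Not at hcon
    apply hed
    have : (e d).coeff = 0 := by
      ext j
      exact hcon j
    exact AddMonoidAlgebra.coeff_inj.mp (by rw [this]; rfl)

end H5N1
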