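import Mathlib
import Groth.Prelude.Def_Found
import Groth.Agent.Lib.Helper5.CA.N1LaurentA

set_option autoImplicit false
universe u

namespace H5N1

open Polynomial

theorem isN1_of_coeff_family (R S : Type u) [CommRing R] [IsDomain R] [IsNoetherianRing R]
    [CommRing S] [IsDomain S] (φ : R →+* S) (hφ : Function.Injective φ) {ι : Type*}
    (c : ι → S →+ R) (hc : ∀ j (r : R) (s : S), c j (φ r * s) = r * c j s)
    (hsep : ∀ d : S, d ≠ 0 → ∃ j, c j d ≠ 0) (h : CAlg.IsN1 S) : CAlg.IsN1 R := by
  unfold CAlg.IsN1 at h ⊢
  set K := FractionRing R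
  set L := FractionRing S
  letI algRS : Algebra R S := φ.toAlgebra
  haveI : IsScalarTower R S L := inferInstance
  have halg : ∀ r : R, algebraMap R L r = algebraMap S L (φ r) := fun r =>
    IsScalarTower.algebraMap_apply R S L r
  have hinjRL : Function.Injective (algebraMap R L) := by
    intro x y hxy
    rw [halg, halg] at hxy
    exact hφ (IsFractionRing.injective S L hxy)
  let ψ : K →ₐ[R] L := IsLocalization.liftAlgHom (M := nonZeroDivisors R) (S := K)
    (f := Algebra.ofId R L) (fun y => by
      apply IsUnit.mk0
      change algebraMap R L y ≠ 0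
      rw [Ne, map_eq_zero_iff _ hinjRL]
      exact nonZeroDivisors.ne_zero y.2)
  -- common denominator
  obtain ⟨G, hG⟩ : (Subalgebra.toSubmodule (integralClosure S L)).FG :=
    (Module.Finite.iff_fg).mp h
  obtain ⟨b, hb⟩ := IsLocalization.exist_integer_multiples_of_finset (nonZeroDivisors S) G
  have hbint : ∀ y ∈ integralClosure S L, IsLocalization.IsInteger S ((b : S) • y) := by
    intro y hy
    have hy' : y ∈ Submodule.span S (G : Set L) := by rw [hG]; exact hy
    clear hy
    induction hy' using Submodule.span_induction with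
    | mem x hx => exact hb x hx
    | zero => rw [smul_zero]; exact IsLocalization.isInteger_zero
    | add x y _ _ hx hy => rw [smul_add]; exact IsLocalization.isInteger_add hx hy
    | smul a x _ hx => rw [smul_comm]; exact IsLocalization.isInteger_smul hx
  have hb0 : (b : S) ≠ 0 := nonZeroDivisors.ne_zero b.2
  obtain ⟨j, hj⟩ := hsep b hb0
  set δ : R := c j b with hδ
  -- key: δ x ∈ R for x integral
  have key : ∀ x ∈ integralClosure R K, ∃ r : R, algebraMap R K r = algebraMap R K δ * x := by
    intro x hx
    have hxi : IsIntegral R x := hx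
    have h1 : IsIntegral R (ψ x) := hxi.map ψ
    have h2 : IsIntegral S (ψ x) := h1.tower_top
    obtain ⟨s, hs⟩ := hbint (ψ x) h2
    obtain ⟨a, b₀, hb₀, hab⟩ := IsFractionRing.div_surjective (A := R) x
    have hb₀' : b₀ ≠ 0 := nonZeroDivisors.ne_zero hb₀
    have hψx : ψ x * algebraMap S L (φ b₀) = algebraMap S L (φ a) := by
      have e1 : algebraMap S L (φ b₀) = ψ (algebraMap R K b₀) := by
        rw [ψ.commutes, halg]
      have e2 : algebraMap S L (φ a) = ψ (algebraMap R K a) := by
        rw [ψ.commutes, halg]
      rw [e1, e2, ← map_mul, ← hab, div_mul_cancel₀]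
      rw [Ne, map_eq_zero_iff _ (IsFractionRing.injective R K)]
      exact hb₀'
    have hS : s * φ b₀ = (b : S) * φ a := by
      apply IsFractionRing.injective S L
      rw [map_mul, map_mul, hs, Algebra.smul_def, mul_assoc, hψx]
    have hR : b₀ * c j s = a * δ := by
      have e1 := hc j b₀ s
      have e2 := hc j a (b : S)
      rw [← e1, ← e2, mul_comm (φ b₀) s, hS, mul_comm]
    refine ⟨c j s, ?_⟩
    have hb₀K : algebraMap R K b₀ ≠ 0 := by
      rw [Ne, map_eq_zero_iff _ (IsFractionRing.injective R K)]; exact hb₀'
    rw [← hab, mul_div_assoc', eq_div_iff hb₀K, ← map_mul, ← map_mul, mul_comm, hR, mul_comm]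
  -- conclude
  have hδK : algebraMap R K δ ≠ 0 := by
    rw [Ne, map_eq_zero_iff _ (IsFractionRing.injective R K)]; exact hj
  have hle : Subalgebra.toSubmodule (integralClosure R K)
      ≤ Submodule.span R {(algebraMap R K δ)⁻¹} := by
    intro x hx
    obtain ⟨r, hr⟩ := key x hx
    rw [Submodule.mem_span_singleton]
    refine ⟨r, ?_⟩
    rw [Algebra.smul_def, hr, mul_comm, ← mul_assoc, inv_mul_cancel₀ hδK, one_mul]
  haveI : IsNoetherian R (Submodule.span R {(algebraMap R K δ)⁻¹}) :=
    isNoetherian_span_of_finite R (Set.finite_singleton _)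
  haveI : IsNoetherian R (Subalgebra.toSubmodule (integralClosure R K)) := isNoetherian_of_le hle
  have : Module.Finite R (Subalgebra.toSubmodule (integralClosure R K)) := inferInstance
  exact this

theorem main9395 (R : Type u) [CommRing R] [IsDomain R] [IsNoetherianRing R]
    (S : Type u) [CommRing S] [IsDomain S] [Algebra (Polynomial R) S]
    [IsLocalization.Away (Polynomial.X : Polynomial R) S] (h : CAlg.IsN1 S) : CAlg.IsN1 R := by
  obtain ⟨c, hc, hsep⟩ := exists_coeff_family R S
  have hinj : Function.Injective ((algebraMap (Polynomial R) S).comp Polynomial.C) := by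
    refine (IsLocalization.injective S
      (M := Submonoid.powers (Polynomial.X : Polynomial R)) ?_).comp Polynomial.C_injective
    exact powers_le_nonZeroDivisors_of_noZeroDivisors Polynomial.X_ne_zero
  exact isN1_of_coeff_family R S ((algebraMap (Polynomial R) S).comp Polynomial.C) hinj c
    (fun j r s => hc j r s) hsep h

end H5N1
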