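import Mathlib
import Groth.Agent.Lib.Helper5.CA.NG28
import Groth.Agent.Lib.Helper5.CA.CF2

set_option autoImplicit false
universe u

open IsLocalRing MvPolynomial TensorProduct

namespace H5.NG

theorem charP_residueField_of_charP (A : Type u) [CommRing A] [IsLocalRing A] (p : ℕ)
    [hpp : Fact p.Prime] [CharP A p] : CharP (ResidueField A) p := by
  obtain ⟨q, hq⟩ := CharP.exists (ResidueField A)
  have h0 : ((p : ℕ) : ResidueField A) = 0 := by
    rw [← map_natCast (residue A), CharP.cast_eq_zero, map_zero]
  have hdvd : q ∣ p := (CharP.cast_eq_zero_iff (ResidueField A) q p).mp h0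
  rcases (Nat.dvd_prime hpp.out).mp hdvd with h1 | h1
  · exfalso; subst h1; exact CharP.char_ne_one (ResidueField A) 1 rfl
  · subst h1; exact hq

section
variable (R A : Type u) [CommRing R] [CommRing A] [IsLocalRing R] [IsLocalRing A] [Algebra R A]
  (p : ℕ) {r : ℕ} (F : Fin r → R)

/-- the comparison map between Nagata algebras. -/
noncomputable def psiBB :
    (MvPolynomial (Fin r) R ⧸ Ideal.span (Set.range (FF R p 0 F))) →+*
      (MvPolynomial (Fin r) A ⧸ Ideal.span (Set.range (FF A p 0 (fun i => algebraMap R A (F i))))) :=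
  Ideal.Quotient.lift _ ((Ideal.Quotient.mk _).comp (MvPolynomial.map (algebraMap R A))) (by
    intro q hq
    have hle : Ideal.span (Set.range (FF R p 0 F)) ≤
        RingHom.ker ((Ideal.Quotient.mk (Ideal.span (Set.range
          (FF A p 0 (fun i => algebraMap R A (F i)))))).comp (MvPolynomial.map (algebraMap R A))) := by
      rw [Ideal.span_le]
      rintro _ ⟨i, rfl⟩
      rw [SetLike.mem_coe, RingHom.mem_ker, RingHom.comp_apply, Ideal.Quotient.eq_zero_iff_mem]
      apply Ideal.subset_span
      refine ⟨i, ?_⟩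
      simp [FF]
    exact hle hq)

theorem psiBB_mk (q : MvPolynomial (Fin r) R) :
    psiBB R A p F (Ideal.Quotient.mk _ q) =
      Ideal.Quotient.mk _ (MvPolynomial.map (algebraMap R A) q) := rfl

theorem psiBB_surjective (hsurj : Function.Surjective (algebraMap R A)) :
    Function.Surjective (psiBB R A p F) := by
  apply Ideal.Quotient.lift_surjective_of_surjective
  exact Ideal.Quotient.mk_surjective.comp (MvPolynomial.map_surjective _ hsurj)

theorem ker_psiBB_le (hsurj : Function.Surjective (algebraMap R A)) :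
    RingHom.ker (psiBB R A p F) ≤ (RingHom.ker (algebraMap R A)).map
      (algebraMap R (MvPolynomial (Fin r) R ⧸ Ideal.span (Set.range (FF R p 0 F)))) := by
  intro b hb
  obtain ⟨q, rfl⟩ := Ideal.Quotient.mk_surjective b
  rw [RingHom.mem_ker, psiBB_mk, Ideal.Quotient.eq_zero_iff_mem] at hb
  have hJ : Ideal.span (Set.range (FF A p 0 (fun i => algebraMap R A (F i)))) =
      (Ideal.span (Set.range (FF R p 0 F))).map (MvPolynomial.map (algebraMap R A)) := by
    rw [Ideal.map_span, ← Set.range_comp]
    congr 2
    funext i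
    simp [FF]
  rw [hJ] at hb
  have h2 : q ∈ ((Ideal.span (Set.range (FF R p 0 F))).map
      (MvPolynomial.map (algebraMap R A))).comap (MvPolynomial.map (algebraMap R A)) := hb
  rw [Ideal.comap_map_of_surjective _ (MvPolynomial.map_surjective _ hsurj)] at h2
  obtain ⟨j, hj, k, hk, rfl⟩ := Submodule.mem_sup.mp h2
  have hk' : k ∈ RingHom.ker (MvPolynomial.map (σ := Fin r) (algebraMap R A)) := hk
  rw [MvPolynomial.ker_map] at hk'
  rw [map_add, Ideal.Quotient.eq_zero_iff_mem.mpr hj, zero_add]
  have h3 : Ideal.Quotient.mk (Ideal.span (Set.range (FF R p 0 F))) k ∈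
      ((RingHom.ker (algebraMap R A)).map (C : R →+* MvPolynomial (Fin r) R)).map
        (Ideal.Quotient.mk (Ideal.span (Set.range (FF R p 0 F)))) :=
    Ideal.mem_map_of_mem _ hk'
  rw [Ideal.map_map] at h3
  exact h3

end

end H5.NG
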