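import Mathlib
import Groth.Agent.Lib.Helper5.CA.NG29

set_option autoImplicit false
universe u

open IsLocalRing MvPolynomial TensorProduct

namespace H5.NG

set_option maxHeartbeats 1000000 in
theorem main4595_FF {A : Type u} [CommRing A] [IsArtinianRing A] [IsLocalRing A]
    (hm : maximalIdeal A ^ 2 = ⊥) (p : ℕ) [hpp : Fact p.Prime] [CharP A p] {r : ℕ} (f : Fin r → A) :
    ∃ _ : IsLocalRing (MvPolynomial (Fin r) A ⧸ Ideal.span (Set.range (FF A p 0 f))),
      (Module.finrank (ResidueField A) (CotangentSpace A) =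
          Module.finrank (ResidueField (MvPolynomial (Fin r) A ⧸ Ideal.span (Set.range (FF A p 0 f))))
            (CotangentSpace (MvPolynomial (Fin r) A ⧸ Ideal.span (Set.range (FF A p 0 f)))) ↔
        LinearIndependent (ResidueField A)
          (fun i => (1 : ResidueField A) ⊗ₜ[A] KaehlerDifferential.D ℤ A (f i))) := by
  haveI : CharP (ResidueField A) p := charP_residueField_of_charP A p
  obtain ⟨R, _, hRreg, ⟨e⟩⟩ := Groth.Agent.H5.CF.artin_sq_zero hm
  letI : Algebra R A :=
    ((e.symm : R ⧸ maximalIdeal R ^ 2 →+* A).comp (Ideal.Quotient.mk _)).toAlgebra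
  have halg : algebraMap R A =
      (e.symm : R ⧸ maximalIdeal R ^ 2 →+* A).comp (Ideal.Quotient.mk _) := rfl
  have hsurj : Function.Surjective (algebraMap R A) := by
    rw [halg]
    exact e.symm.surjective.comp Ideal.Quotient.mk_surjective
  have hker : RingHom.ker (algebraMap R A) = maximalIdeal R ^ 2 := by
    rw [halg, RingHom.ker_comp_of_injective _ (f := (e.symm : R ⧸ maximalIdeal R ^ 2 →+* A))
      e.symm.injective, Ideal.mk_ker]
  haveI : IsLocalHom (algebraMap R A) := hsurj.isLocalHom
  have hp : (p : R) ∈ maximalIdeal R ^ 2 := by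
    rw [← hker, RingHom.mem_ker, map_natCast, CharP.cast_eq_zero]
  haveI : CharP (ResidueField R) p :=
    ((IsLocalRing.ResidueField.map (algebraMap R A)).charP_iff_charP p).mpr inferInstance
  choose F hF using fun i => hsurj (f i)
  have hfF : (fun i => algebraMap R A (F i)) = f := funext hF
  subst hfF
  -- the Nagata algebra over R
  haveI : Algebra.IsIntegral R (BB R p 0 F) := isIntegral_BB_zero R p F
  haveI : Nontrivial (BB R p 0 F) := nontrivial_BB R p 0 F
  haveI : IsLocalRing (BB R p 0 F) := isLocalRing_of_isIntegral R p 0 F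
  have hcore := core R p hp 0 F
  have hdim := ringKrullDim_BB R p 0 F
  have hLI := linearIndependent_iff_of_surjective R A hsurj hker.le F
  -- the Nagata algebra over A
  haveI : Algebra.IsIntegral A (BB A p 0 fun i => algebraMap R A (F i)) := isIntegral_BB_zero A p _
  haveI : Nontrivial (BB A p 0 fun i => algebraMap R A (F i)) := nontrivial_BB A p 0 _
  haveI hlocA : IsLocalRing (BB A p 0 fun i => algebraMap R A (F i)) :=
    isLocalRing_of_isIntegral A p 0 _
  refine ⟨hlocA, ?_⟩
  -- the comparison
  letI : Algebra (BB R p 0 F) (BB A p 0 fun i => algebraMap R A (F i)) := (psiBB R A p F).toAlgebra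
  have hψs : Function.Surjective
      (algebraMap (BB R p 0 F) (BB A p 0 fun i => algebraMap R A (F i))) :=
    psiBB_surjective R A p F hsurj
  haveI : IsLocalHom (algebraMap (BB R p 0 F) (BB A p 0 fun i => algebraMap R A (F i))) :=
    hψs.isLocalHom
  have hψk : RingHom.ker (algebraMap (BB R p 0 F) (BB A p 0 fun i => algebraMap R A (F i))) ≤
      maximalIdeal (BB R p 0 F) ^ 2 := by
    refine (ker_psiBB_le R A p F hsurj).trans ?_
    rw [hker, Ideal.map_pow]
    refine Ideal.pow_right_mono ?_ 2
    have h1 := map_maximalIdeal_le_jacobson R (BB R p 0 F)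
    rwa [IsLocalRing.jacobson_eq_maximalIdeal ⊥ bot_ne_top] at h1
  have h1 := finrank_cotangentSpace_eq_of_surjective R A hsurj hker.le
  have h2 := finrank_cotangentSpace_eq_of_surjective (BB R p 0 F)
    (BB A p 0 fun i => algebraMap R A (F i)) hψs hψk
  rw [← h1, ← h2, ← hLI, ← hcore]
  rw [IsRegularLocalRing.iff_finrank_cotangentSpace, hdim]
  have hR := (IsRegularLocalRing.iff_finrank_cotangentSpace R).mp inferInstance
  rw [← hR]
  constructor
  · intro h; rw [h]
  · intro h; exact_mod_cast h.symm

end H5.NG
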