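import Groth.Agent.Lib.Helper6.PSCotC
import Groth.Agent.Lib.Helper9.AdicComplete
import Mathlib.RingTheory.MvPowerSeries.Derivative

set_option autoImplicit false
universe u

namespace Groth.Agent.H5.PSKaehler

open IsLocalRing MvPowerSeries

variable (k : Type u) [Field k] (r : ℕ)

local notation "P" => MvPowerSeries (Fin r) k

/-- the map `Pʳ → Ω`, `eᵢ ↦ dTᵢ`. -/
noncomputable def alpha : (Fin r → P) →ₗ[P] Ω[P⁄k] :=
  Fintype.linearCombination P (fun i : Fin r => KaehlerDifferential.D k P (X i))

/-- the map `Ω → Pʳ` given by the partial derivatives. -/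
noncomputable def beta : Ω[P⁄k] →ₗ[P] (Fin r → P) :=
  LinearMap.pi (fun i => (pderiv k i).liftKaehlerDifferential)

theorem beta_alpha : (beta k r) ∘ₗ (alpha k r) = LinearMap.id := by
  classical
  refine LinearMap.ext (fun v => ?_)
  funext i
  rw [LinearMap.comp_apply, LinearMap.id_apply, alpha, Fintype.linearCombination_apply, beta,
    LinearMap.pi_apply, map_sum]
  simp only [map_smul, Derivation.liftKaehlerDifferential_comp_D, pderiv_X, smul_eq_mul]
  rw [Finset.sum_eq_single i]
  · simp
  · intro j _ hji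
    simp [Pi.single_apply, hji]
  · intro h
    exact absurd (Finset.mem_univ i) h

theorem D_mem (f : P) : KaehlerDifferential.D k P f ∈
    LinearMap.range (alpha k r) ⊔ maximalIdeal P • (⊤ : Submodule P (Ω[P⁄k])) := by
  classical
  have h1 : f - C (constantCoeff f) ∈ Ideal.span (Set.range (X : Fin r → P)) := by
    rw [Groth.Agent.H4.MvPSVars.mem_span_range_X_iff, map_sub, constantCoeff_C, sub_self]
  obtain ⟨g, hg⟩ := (Ideal.mem_span_range_iff_exists_fun).mp h1
  have h2 : f = C (constantCoeff f) + ∑ i, g i * X i := by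
    rw [hg]; ring
  have hC : KaehlerDifferential.D k P (C (constantCoeff f)) = 0 := by
    have : (C (constantCoeff f) : P) = algebraMap k P (constantCoeff f) := by
      rw [MvPowerSeries.algebraMap_apply]; simp
    rw [this, Derivation.map_algebraMap]
  rw [h2, map_add, hC, zero_add, map_sum]
  refine Submodule.sum_mem _ (fun i _ => ?_)
  rw [Derivation.leibniz]
  refine Submodule.add_mem _ ?_ ?_
  · refine Submodule.mem_sup_left ⟨Pi.single i (g i), ?_⟩
    rw [alpha, Fintype.linearCombination_apply_single]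
  · refine Submodule.mem_sup_right ?_
    refine Submodule.smul_mem_smul ?_ Submodule.mem_top
    rw [Groth.Agent.H4.MvPSVars.maximalIdeal_eq_span_range_X]
    exact Ideal.subset_span ⟨i, rfl⟩

theorem alpha_surjective_mod :
    Function.Surjective ((maximalIdeal P • (⊤ : Submodule P (Ω[P⁄k]))).mkQ ∘ₗ alpha k r) := by
  have htop : LinearMap.range (alpha k r) ⊔ maximalIdeal P • (⊤ : Submodule P (Ω[P⁄k])) = ⊤ := by
    rw [eq_top_iff]
    have h0 : (⊤ : Submodule P (Ω[P⁄k])) ≤ Submodule.span P (Set.range (KaehlerDifferential.D k P)) :=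
      (KaehlerDifferential.span_range_derivation k P).ge
    refine h0.trans ?_
    rw [Submodule.span_le]
    rintro _ ⟨f, rfl⟩
    exact D_mem k r f
  intro y
  obtain ⟨ω, rfl⟩ := Submodule.mkQ_surjective _ y
  have hω : ω ∈ LinearMap.range (alpha k r) ⊔ maximalIdeal P • (⊤ : Submodule P (Ω[P⁄k])) := by
    rw [htop]; trivial
  obtain ⟨a, ⟨v, rfl⟩, n, hn, rfl⟩ := Submodule.mem_sup.mp hω
  refine ⟨v, ?_⟩
  have h0 : (maximalIdeal P • (⊤ : Submodule P (Ω[P⁄k]))).mkQ n = 0 :=
    (Submodule.Quotient.mk_eq_zero _).mpr hn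
  rw [LinearMap.comp_apply, map_add, h0, add_zero]

theorem main : Module.Finite P (AdicCompletion (maximalIdeal P) (Ω[P⁄k])) ∧
    Module.Free P (AdicCompletion (maximalIdeal P) (Ω[P⁄k])) ∧
    Module.finrank P (AdicCompletion (maximalIdeal P) (Ω[P⁄k])) = r := by
  classical
  have hsurj : Function.Surjective (AdicCompletion.map (maximalIdeal P) (alpha k r)) :=
    AdicCompletion.map_surjective_of_mkQ_comp_surjective (alpha_surjective_mod k r)
  have hinj : Function.Injective (AdicCompletion.map (maximalIdeal P) (alpha k r)) := by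
    have h : ∀ x, AdicCompletion.map (maximalIdeal P) (beta k r)
        (AdicCompletion.map (maximalIdeal P) (alpha k r) x) = x := by
      intro x
      rw [AdicCompletion.map_comp_apply, beta_alpha, AdicCompletion.map_id]
      rfl
    exact Function.LeftInverse.injective h
  haveI : IsAdicComplete (maximalIdeal P) (Fin r → P) :=
    Groth.Agent.H9.isAdicComplete_pi (maximalIdeal P) (fun _ : Fin r => P)
  let e1 : (Fin r → P) ≃ₗ[P] AdicCompletion (maximalIdeal P) (Fin r → P) :=
    AdicCompletion.ofLinearEquiv (maximalIdeal P) (Fin r → P)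
  let e2 : AdicCompletion (maximalIdeal P) (Fin r → P) ≃ₗ[P]
      AdicCompletion (maximalIdeal P) (Ω[P⁄k]) :=
    LinearEquiv.ofBijective ((AdicCompletion.map (maximalIdeal P) (alpha k r)).restrictScalars P)
      ⟨hinj, hsurj⟩
  let e := e1.trans e2
  refine ⟨Module.Finite.equiv e, Module.Free.of_equiv e, ?_⟩
  rw [← LinearEquiv.finrank_eq e, Module.finrank_fin_fun]

end Groth.Agent.H5.PSKaehler
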