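import Groth.Agent.Lib.Helper7.PS1

set_option autoImplicit false
universe u

open MvPowerSeries

namespace Groth.Agent.H5.CA

theorem subst_bijective_of_span_eq (K : Type u) [Field K] (n : ℕ)
    (y : Fin n → MvPowerSeries (Fin n) K)
    (hy : Ideal.span (Set.range y) = IsLocalRing.maximalIdeal (MvPowerSeries (Fin n) K)) :
    Function.Bijective (MvPowerSeries.subst y : MvPowerSeries (Fin n) K → MvPowerSeries (Fin n) K) := by
  classical
  have hmem : ∀ f : MvPowerSeries (Fin n) K, f ∈ IsLocalRing.maximalIdeal (MvPowerSeries (Fin n) K) ↔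
      constantCoeff f = 0 := by
    intro f
    rw [IsLocalRing.mem_maximalIdeal, mem_nonunits_iff, MvPowerSeries.isUnit_iff_constantCoeff,
      isUnit_iff_ne_zero, not_not]
  have hy0 : ∀ i, constantCoeff (y i) = 0 := by
    intro i
    rw [← hmem, ← hy]
    exact Ideal.subset_span ⟨i, rfl⟩
  have ha : HasSubst y := hasSubst_of_constantCoeff_zero hy0
  have hX : ∀ l : Fin n, ∃ c : Fin n → MvPowerSeries (Fin n) K,
      ∑ i, c i * y i = (X l : MvPowerSeries (Fin n) K) := by
    intro l
    have : (X l : MvPowerSeries (Fin n) K) ∈ Ideal.span (Set.range y) := by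
      rw [hy, hmem, MvPowerSeries.constantCoeff_X]
    exact (Ideal.mem_span_range_iff_exists_fun).mp this
  choose c hc using hX
  have hcoeff : ∀ (j : Fin n) (a b : MvPowerSeries (Fin n) K), constantCoeff b = 0 →
      coeff (Finsupp.single j 1) (a * b) = constantCoeff a * coeff (Finsupp.single j 1) b := by
    intro j a b hb
    rw [MvPowerSeries.coeff_mul, Finsupp.antidiagonal_single, Finset.sum_map]
    rw [Finset.Nat.antidiagonal_succ, Finset.sum_cons, Finset.Nat.antidiagonal_zero,
      Finset.sum_map, Finset.sum_singleton]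
    simp [hb]
  let φ : MvPowerSeries (Fin n) K →ₐ[K] MvPowerSeries (Fin n) K := substAlgHom ha
  have hφX : ∀ i, φ (X i) = y i := fun i => substAlgHom_X ha i
  have hbij : Function.Bijective φ := by
    apply Groth.Agent.H7.PS.bijective_of_isUnit_det φ (fun i => by rw [hφX]; exact hy0 i)
    apply Matrix.isUnit_det_of_left_inverse
      (B := Matrix.of fun l i : Fin n => constantCoeff (c l i))
    ext l j
    rw [Matrix.mul_apply]
    simp only [Matrix.of_apply]
    have h1 : ∀ i, constantCoeff (c l i) * coeff (Finsupp.single j 1) (φ (X i)) =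
        coeff (Finsupp.single j 1) (c l i * y i) := by
      intro i
      rw [hφX, hcoeff j _ _ (hy0 i)]
    rw [Finset.sum_congr rfl (fun i _ => h1 i), ← map_sum, hc l, MvPowerSeries.coeff_X,
      Matrix.one_apply]
    by_cases hlj : l = j
    · subst hlj; simp
    · rw [if_neg hlj, if_neg]
      intro h
      apply hlj
      have := congrArg (fun f => f l) h
      simp only [Finsupp.single_apply] at this
      by_contra hne
      rw [if_neg (Ne.symm hne)] at this
      simp at this
  have : (φ : MvPowerSeries (Fin n) K → MvPowerSeries (Fin n) K) = subst y := coe_substAlgHom ha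
  rw [← this]
  exact hbij

end Groth.Agent.H5.CA
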