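import Groth.Agent.Lib.Helper5.CA.PSSubst

set_option autoImplicit false
universe u

open MvPowerSeries

namespace Groth.Agent.H5.CA

theorem subst_bijective_cohenRing (Λ : Type u) [CommRing Λ] [IsLocalRing Λ] (p : ℕ)
    (hm : IsLocalRing.maximalIdeal Λ = Ideal.span {(p : Λ)}) (n : ℕ)
    (y : Fin n → MvPowerSeries (Fin n) Λ) (hy0 : ∀ i, MvPowerSeries.constantCoeff (y i) = 0)
    (hy : Ideal.span (insert (p : MvPowerSeries (Fin n) Λ) (Set.range y)) =
      IsLocalRing.maximalIdeal (MvPowerSeries (Fin n) Λ)) :
    Function.Bijective (MvPowerSeries.subst y : MvPowerSeries (Fin n) Λ → MvPowerSeries (Fin n) Λ) := by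
  classical
  have ha : HasSubst y := hasSubst_of_constantCoeff_zero hy0
  have hX : ∀ l : Fin n, ∃ (c₀ : MvPowerSeries (Fin n) Λ) (c : Fin n → MvPowerSeries (Fin n) Λ),
      (X l : MvPowerSeries (Fin n) Λ) = c₀ * (p : MvPowerSeries (Fin n) Λ) + ∑ i, c i * y i := by
    intro l
    have : (X l : MvPowerSeries (Fin n) Λ) ∈
        Ideal.span (insert (p : MvPowerSeries (Fin n) Λ) (Set.range y)) := by
      rw [hy, IsLocalRing.mem_maximalIdeal, mem_nonunits_iff, MvPowerSeries.isUnit_iff_constantCoeff,
        MvPowerSeries.constantCoeff_X]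
      exact not_isUnit_zero
    obtain ⟨c₀, z, hz, hzX⟩ := Ideal.mem_span_insert.mp this
    obtain ⟨c, hc⟩ := (Ideal.mem_span_range_iff_exists_fun).mp hz
    exact ⟨c₀, c, by rw [hzX, hc]⟩
  choose c₀ c hc using hX
  have hcoeff : ∀ (j : Fin n) (a b : MvPowerSeries (Fin n) Λ), constantCoeff b = 0 →
      coeff (Finsupp.single j 1) (a * b) = constantCoeff a * coeff (Finsupp.single j 1) b := by
    intro j a b hb
    rw [MvPowerSeries.coeff_mul, Finsupp.antidiagonal_single, Finset.sum_map]
    rw [Finset.Nat.antidiagonal_succ, Finset.sum_cons, Finset.Nat.antidiagonal_zero,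
      Finset.sum_map, Finset.sum_singleton]
    simp [hb]
  have hpcast : (p : MvPowerSeries (Fin n) Λ) = C (p : Λ) := (map_natCast C p).symm
  let φ : MvPowerSeries (Fin n) Λ →ₐ[Λ] MvPowerSeries (Fin n) Λ := substAlgHom ha
  have hφX : ∀ i, φ (X i) = y i := fun i => substAlgHom_X ha i
  have hbij : Function.Bijective φ := by
    apply Groth.Agent.H7.PS.bijective_of_isUnit_det φ (fun i => by rw [hφX]; exact hy0 i)
    set Jm : Matrix (Fin n) (Fin n) Λ :=
      Matrix.of fun i j : Fin n => coeff (Finsupp.single j 1) (φ (X i)) with hJm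
    let C₀ : Matrix (Fin n) (Fin n) Λ := Matrix.of fun l i : Fin n => constantCoeff (c l i)
    have hres : (C₀ * Jm).map (IsLocalRing.residue Λ) = 1 := by
      ext l j
      rw [Matrix.map_apply, Matrix.mul_apply]
      simp only [C₀, Jm, Matrix.of_apply]
      have h1 : ∀ i, constantCoeff (c l i) * coeff (Finsupp.single j 1) (φ (X i)) =
          coeff (Finsupp.single j 1) (c l i * y i) := by
        intro i
        rw [hφX, hcoeff j _ _ (hy0 i)]
      rw [Finset.sum_congr rfl (fun i _ => h1 i), ← map_sum]
      have h2 : ∑ i, c l i * y i = X l - c₀ l * (p : MvPowerSeries (Fin n) Λ) := by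
        rw [hc l]; ring
      rw [h2, map_sub, hpcast, MvPowerSeries.coeff_mul_C, map_sub, map_mul]
      have hp0 : IsLocalRing.residue Λ (p : Λ) = 0 := by
        rw [IsLocalRing.residue_eq_zero_iff, hm]
        exact Ideal.subset_span rfl
      rw [hp0, mul_zero, sub_zero, MvPowerSeries.coeff_X, Matrix.one_apply]
      by_cases hlj : l = j
      · subst hlj; simp
      · rw [if_neg hlj, if_neg, map_zero]
        intro h
        apply hlj
        have := congrArg (fun f => f l) h
        simp only [Finsupp.single_apply] at this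
        by_contra hne
        rw [if_neg (Ne.symm hne)] at this
        simp at this
    have hdet : IsUnit (C₀ * Jm).det := by
      rw [← IsLocalRing.residue_ne_zero_iff_isUnit, RingHom.map_det, RingHom.mapMatrix_apply, hres,
        Matrix.det_one]
      exact one_ne_zero
    rw [Matrix.det_mul] at hdet
    exact isUnit_of_mul_isUnit_right hdet
  have : (φ : MvPowerSeries (Fin n) Λ → MvPowerSeries (Fin n) Λ) = subst y := coe_substAlgHom ha
  rw [← this]
  exact hbij

end Groth.Agent.H5.CA
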