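import Groth.Agent.Lib.Helper5.CA.FormallyEtaleQuot
import Mathlib.RingTheory.RingHom.Smooth
import Mathlib.RingTheory.RingHom.Unramified
import Mathlib.RingTheory.Kaehler.Basic
import Mathlib.RingTheory.IsTensorProduct

set_option autoImplicit false
universe u
open TensorProduct

namespace Groth.Agent.H5.CA

section

variable (R : Type u) [CommRing R] (S : Type u) [CommRing S] [Algebra R S] (S' : Type u)
  [CommRing S'] [Algebra R S'] [Algebra S S'] [IsScalarTower R S S']

/-- the base change map with the varying factor on the left. -/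
noncomputable def rhoL : S ⊗[R] S' →ₐ[R] S' ⊗[R] S' :=
  Algebra.TensorProduct.map (IsScalarTower.toAlgHom R S S') (AlgHom.id R S')

/-- the base change map with the varying factor on the right. -/
noncomputable def rhoR : S' ⊗[R] S →ₐ[S'] S' ⊗[R] S' :=
  Algebra.TensorProduct.map (AlgHom.id S' S') (IsScalarTower.toAlgHom R S S')

lemma rhoR_eq : (rhoR R S S').toRingHom =
    ((Algebra.TensorProduct.comm R S' S').toAlgHom.toRingHom.comp (rhoL R S S').toRingHom).comp
      (Algebra.TensorProduct.comm R S' S).toAlgHom.toRingHom := by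
  have : ((rhoR R S S').restrictScalars R) =
      ((Algebra.TensorProduct.comm R S' S').toAlgHom.comp (rhoL R S S')).comp
        (Algebra.TensorProduct.comm R S' S).toAlgHom := by
    apply Algebra.TensorProduct.ext'
    intro a b
    simp [rhoR, rhoL]
  exact congrArg (fun f : S' ⊗[R] S →ₐ[R] S' ⊗[R] S' => f.toRingHom) this

lemma isScalarTower_rhoL :
    letI : Algebra (S ⊗[R] S') (S' ⊗[R] S') := (rhoL R S S').toRingHom.toAlgebra
    IsScalarTower S (S ⊗[R] S') (S' ⊗[R] S') := by
  letI : Algebra (S ⊗[R] S') (S' ⊗[R] S') := (rhoL R S S').toRingHom.toAlgebra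
  exact IsScalarTower.of_algebraMap_eq (fun s => by
    show algebraMap S (S' ⊗[R] S') s = rhoL R S S' (algebraMap S (S ⊗[R] S') s)
    simp [rhoL, Algebra.TensorProduct.algebraMap_apply])

lemma isPushout_rhoL :
    letI : Algebra (S ⊗[R] S') (S' ⊗[R] S') := (rhoL R S S').toRingHom.toAlgebra
    haveI := isScalarTower_rhoL R S S'
    Algebra.IsPushout S S' (S ⊗[R] S') (S' ⊗[R] S') := by
  letI : Algebra (S ⊗[R] S') (S' ⊗[R] S') := (rhoL R S S').toRingHom.toAlgebra
  haveI := isScalarTower_rhoL R S S'
  refine Algebra.IsPushout.tensorProduct_tensorProduct R S' S S' ?_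
  ext x
  show rhoL R S S' (1 ⊗ₜ x) = 1 ⊗ₜ x
  simp [rhoL]

variable [Algebra.FormallyEtale S S']

lemma formallySmooth_rhoL : (rhoL R S S').toRingHom.FormallySmooth := by
  letI : Algebra (S ⊗[R] S') (S' ⊗[R] S') := (rhoL R S S').toRingHom.toAlgebra
  haveI := isScalarTower_rhoL R S S'
  haveI := isPushout_rhoL R S S'
  have h : (algebraMap S S').FormallySmooth :=
    RingHom.formallySmooth_algebraMap.mpr inferInstance
  exact RingHom.FormallySmooth.isStableUnderBaseChange S S' (S ⊗[R] S') (S' ⊗[R] S') h

lemma formallyUnramified_rhoL : (rhoL R S S').toRingHom.FormallyUnramified := by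
  letI : Algebra (S ⊗[R] S') (S' ⊗[R] S') := (rhoL R S S').toRingHom.toAlgebra
  haveI := isScalarTower_rhoL R S S'
  haveI := isPushout_rhoL R S S'
  have h : (algebraMap S S').FormallyUnramified :=
    RingHom.formallyUnramified_algebraMap.mpr inferInstance
  exact RingHom.FormallyUnramified.isStableUnderBaseChange S S' (S ⊗[R] S') (S' ⊗[R] S') h

lemma formallySmooth_rhoR : (rhoR R S S').toRingHom.FormallySmooth := by
  rw [rhoR_eq]
  refine RingHom.FormallySmooth.comp ?_ (RingHom.FormallySmooth.comp (formallySmooth_rhoL R S S') ?_)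
  · exact RingHom.FormallySmooth.of_bijective (Algebra.TensorProduct.comm R S' S).bijective
  · exact RingHom.FormallySmooth.of_bijective (Algebra.TensorProduct.comm R S' S').bijective

lemma formallyUnramified_rhoR : (rhoR R S S').toRingHom.FormallyUnramified := by
  rw [rhoR_eq]
  refine RingHom.FormallyUnramified.comp ?_
    (RingHom.FormallyUnramified.comp (formallyUnramified_rhoL R S S') ?_)
  · exact RingHom.FormallyUnramified.of_surjective
      (Algebra.TensorProduct.comm R S' S).surjective
  · exact RingHom.FormallyUnramified.of_surjective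
      (Algebra.TensorProduct.comm R S' S').surjective

theorem principalParts_baseChange_bijective (k : ℕ) :
    Function.Bijective (Ideal.quotientMap (KaehlerDifferential.ideal R S' ^ (k + 1))
      (Algebra.TensorProduct.map (AlgHom.id S' S') (IsScalarTower.toAlgHom R S S')).toRingHom
      (Ideal.le_comap_pow
        (Algebra.TensorProduct.map (AlgHom.id S' S') (IsScalarTower.toAlgHom R S S')).toRingHom
        (K := KaehlerDifferential.ideal R S') (k + 1))) := by
  letI : Algebra (S' ⊗[R] S) (S' ⊗[R] S') := (rhoR R S S').toRingHom.toAlgebra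
  haveI : Algebra.FormallySmooth (S' ⊗[R] S) (S' ⊗[R] S') := formallySmooth_rhoR R S S'
  haveI : Algebra.FormallyUnramified (S' ⊗[R] S) (S' ⊗[R] S') := formallyUnramified_rhoR R S S'
  refine quotientMap_pow_bijective_of_formallySmooth_of_formallyUnramified (S' ⊗[R] S)
    (S' ⊗[R] S') (KaehlerDifferential.ideal R S') ?_ (k + 1)
  intro y
  obtain ⟨x, rfl⟩ := Ideal.Quotient.mk_surjective y
  refine ⟨(Algebra.TensorProduct.lmul' R x : S') ⊗ₜ (1 : S), ?_⟩
  show Ideal.Quotient.mk _ (rhoR R S S' ((Algebra.TensorProduct.lmul' R x : S') ⊗ₜ (1 : S))) = _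
  rw [Ideal.Quotient.eq]
  show _ ∈ RingHom.ker (Algebra.TensorProduct.lmul' R : S' ⊗[R] S' →ₐ[R] S')
  rw [RingHom.mem_ker, map_sub, sub_eq_zero]
  simp [rhoR]

end

end Groth.Agent.H5.CA
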