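import Mathlib
import Groth.Agent.Lib.Helper5.CA.AJ7

set_option autoImplicit false
universe u

open TensorProduct IsLocalRing KaehlerDifferential

namespace Groth.Agent.H5.SM

theorem smoothAt_iff_adicFormallySmooth (A B : Type u) [CommRing A] [IsNoetherianRing A]
    [CommRing B] [Algebra A B] [Algebra.FiniteType A B] (q : Ideal B) [q.IsPrime] :
    (∃ g : B, g ∉ q ∧ Algebra.Smooth A (Localization.Away g)) ↔
      letI := (Localization.localRingHom (Ideal.comap (algebraMap A B) q) q (algebraMap A B) rfl).toAlgebra
      CAlgX.IsAdicFormallySmooth (Localization.AtPrime (Ideal.comap (algebraMap A B) q))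
        (Localization.AtPrime q) (IsLocalRing.maximalIdeal (Localization.AtPrime q)) := by
  letI := (Localization.localRingHom (Ideal.comap (algebraMap A B) q) q (algebraMap A B) rfl).toAlgebra
  haveI : IsScalarTower A (Localization.AtPrime (Ideal.comap (algebraMap A B) q))
      (Localization.AtPrime q) := IsScalarTower.of_algebraMap_eq (fun a => by
    rw [RingHom.algebraMap_toAlgebra, Localization.localRingHom_to_map,
      ← IsScalarTower.algebraMap_apply])
  obtain ⟨n, f, hf⟩ := Algebra.FiniteType.iff_quotient_mvPolynomial''.mp
    (inferInstance : Algebra.FiniteType A B)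
  letI : Algebra (MvPolynomial (Fin n) A) B := f.toRingHom.toAlgebra
  haveI : IsScalarTower A (MvPolynomial (Fin n) A) B :=
    IsScalarTower.of_algebraMap_eq (fun a => (f.commutes a).symm)
  have hsurj : Function.Surjective (algebraMap (MvPolynomial (Fin n) A) B) := hf
  haveI := AJ.finite_cotangent_of_noetherian
    (RingHom.ker (algebraMap (MvPolynomial (Fin n) A) B))
  have htfae := FSL.formallySmooth_atPrime_tfae (A := A) hsurj q
  have h12 := htfae.out 1 2
  have hadic := AJ.isAdicFormallySmooth_atPrime_iff (A := A) hsurj q
  show _ ↔ CAlgX.IsAdicFormallySmooth _ _ _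
  rw [hadic, h12]
  refine exists_congr fun g => and_congr Iff.rfl ?_
  constructor
  · intro h
    exact h.formallySmooth
  · intro h
    haveI : Algebra.FiniteType A (Localization.Away g) :=
      Algebra.FiniteType.trans (inferInstance : Algebra.FiniteType A B)
        (IsLocalization.finiteType_of_monoid_fg (Submonoid.powers g) (Localization.Away g))
    exact ⟨h, Algebra.FinitePresentation.of_finiteType.mp inferInstance⟩

end Groth.Agent.H5.SM
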