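import Mathlib
import Groth.Agent.Lib.Lead.Chev

set_option autoImplicit false
universe u

open IsLocalRing

namespace Groth.Agent.H5.Symb

variable (A : Type u) [CommRing A] [IsDomain A] [IsLocalRing A] [IsNoetherianRing A]

/-- symbolic power -/
noncomputable def symb (p : Ideal A) [p.IsPrime] (m : ℕ) : Ideal A :=
  ((Ideal.map (algebraMap A (Localization.AtPrime p)) p) ^ m).comap
    (algebraMap A (Localization.AtPrime p))

theorem symb_antitone (p : Ideal A) [p.IsPrime] : Antitone (symb A p) := by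
  intro a b hab
  exact Ideal.comap_mono (Ideal.pow_le_pow_right hab)

theorem iInf_symb (p : Ideal A) [p.IsPrime] : ⨅ m, symb A p m = ⊥ := by
  rw [eq_bot_iff]
  intro x hx
  rw [Ideal.mem_iInf] at hx
  have h1 : algebraMap A (Localization.AtPrime p) x ∈
      ⨅ m, (Ideal.map (algebraMap A (Localization.AtPrime p)) p) ^ m := by
    rw [Ideal.mem_iInf]
    intro m
    exact hx m
  have hne : Ideal.map (algebraMap A (Localization.AtPrime p)) p ≠ ⊤ := by
    rw [Localization.AtPrime.map_eq_maximalIdeal]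
    exact Ideal.IsPrime.ne_top'
  rw [Ideal.iInf_pow_eq_bot_of_isLocalRing _ hne, Ideal.mem_bot] at h1
  have hinj : Function.Injective (algebraMap A (Localization.AtPrime p)) :=
    IsLocalization.injective _ p.primeCompl_le_nonZeroDivisors
  rw [Ideal.mem_bot]
  exact hinj (by rw [h1, map_zero])

theorem pow_le_symb (p : Ideal A) [p.IsPrime] (m : ℕ) : p ^ m ≤ symb A p m := by
  unfold symb
  rw [← Ideal.map_pow]
  exact Ideal.le_comap_map

/-- there is an element outside `p` multiplying the symbolic power into the ordinary power. -/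
theorem exists_mul_symb_le (p : Ideal A) [p.IsPrime] (n : ℕ) :
    ∃ t : A, t ∉ p ∧ ∀ s ∈ symb A p n, t * s ∈ p ^ n := by
  classical
  obtain ⟨G, hG⟩ := (IsNoetherian.noetherian (symb A p n) : (symb A p n).FG)
  have hg : ∀ g ∈ G, ∃ t : A, t ∈ p.primeCompl ∧ t * g ∈ p ^ n := by
    intro g hg
    have hgs : g ∈ symb A p n := by
      rw [← hG]; exact Ideal.subset_span hg
    unfold symb at hgs
    rw [Ideal.mem_comap, ← Ideal.map_pow] at hgs
    exact (IsLocalization.algebraMap_mem_map_algebraMap_iff p.primeCompl _ _ _).mp hgs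
  choose! τ hτ1 hτ2 using hg
  refine ⟨∏ g ∈ G, τ g, ?_, ?_⟩
  · have : ∏ g ∈ G, τ g ∈ p.primeCompl := Submonoid.prod_mem _ (fun g hg => hτ1 g hg)
    exact this
  · intro s hs
    rw [← hG] at hs
    have hle : Ideal.span (G : Set A) ≤ Submodule.comap
        (LinearMap.mulLeft A (∏ g ∈ G, τ g) : A →ₗ[A] A) (p ^ n) := by
      rw [Ideal.span_le]
      intro g hg
      show (∏ g ∈ G, τ g) * g ∈ p ^ n
      rw [← Finset.mul_prod_erase G τ hg, mul_right_comm]
      exact Ideal.mul_mem_right _ _ (hτ2 g hg)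
    exact hle hs

end Groth.Agent.H5.Symb

namespace Groth.Agent.H5.Symb

variable (A : Type u) [CommRing A] [IsDomain A] [IsLocalRing A] [IsNoetherianRing A]

theorem symb_le_pow [IsAdicComplete (maximalIdeal A) A] (p : Ideal A) [p.IsPrime]
    (hp : ringKrullDim (A ⧸ p) = 1) (n : ℕ) :
    ∃ m, n ≤ m ∧ symb A p m ≤ p ^ n := by
  classical
  let J : Ideal A := Submodule.colon (p ^ n : Ideal A) ((symb A p n : Ideal A) : Set A)
  have hpJ : p ^ n ≤ J := fun r hr =>
    Submodule.mem_colon.mpr (fun s _ => Ideal.mul_mem_right _ _ hr)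
  obtain ⟨t, htp, ht⟩ := exists_mul_symb_le A p n
  have htJ : t ∈ J := Submodule.mem_colon.mpr (fun s hs => ht s hs)
  have hrad : maximalIdeal A ≤ J.radical := by
    rw [Ideal.radical_eq_sInf]
    refine le_sInf ?_
    rintro q ⟨hJq, hq⟩
    have hpq : p ≤ q := hq.le_of_pow_le (hpJ.trans hJq)
    by_cases hqp : q = p
    · exact absurd (hJq htJ) (hqp ▸ htp)
    · haveI : Ring.KrullDimLE 1 (A ⧸ p) := Ring.krullDimLE_iff.mpr (by rw [hp]; rfl)
      have hq' : (q.map (Ideal.Quotient.mk p)).IsPrime :=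
        Ideal.map_isPrime_of_surjective Ideal.Quotient.mk_surjective
          (by rw [Ideal.mk_ker]; exact hpq)
      have hne : q.map (Ideal.Quotient.mk p) ≠ ⊥ := by
        intro h0
        apply hqp
        apply le_antisymm _ hpq
        have := Ideal.le_comap_map (f := Ideal.Quotient.mk p) (I := q)
        rw [h0, ← RingHom.ker_eq_comap_bot, Ideal.mk_ker] at this
        exact this
      have hmax := hq'.isMaximal_of_ne_bot hne
      have hqmax : q.IsMaximal := by
        have := Ideal.comap_isMaximal_of_surjective (Ideal.Quotient.mk p)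
          Ideal.Quotient.mk_surjective (K := q.map (Ideal.Quotient.mk p))
        rwa [Ideal.comap_map_of_surjective _ Ideal.Quotient.mk_surjective,
          ← RingHom.ker_eq_comap_bot, Ideal.mk_ker, sup_eq_left.mpr hpq] at this
      exact (IsLocalRing.eq_maximalIdeal hqmax).ge
  obtain ⟨k, hk⟩ := Ideal.exists_pow_le_of_le_radical_of_fg_radical hrad
    (IsNoetherian.noetherian _)
  obtain ⟨c, hc⟩ := Ideal.exists_pow_inf_eq_pow_smul (maximalIdeal A)
    (symb A p n : Submodule A A)
  obtain ⟨m₀, hm₀⟩ := Groth.Agent.LD.Chev.chevalley A (symb A p) (symb_antitone A p)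
    (iInf_symb A p) (c + k)
  refine ⟨max m₀ n, le_max_right _ _, ?_⟩
  intro x hx
  have hx1 : x ∈ maximalIdeal A ^ (c + k) := hm₀ (symb_antitone A p (le_max_left _ _) hx)
  have hx2 : x ∈ symb A p n := symb_antitone A p (le_max_right _ _) hx
  have hx3 : x ∈ (maximalIdeal A ^ (c + k) • ⊤ ⊓ (symb A p n : Submodule A A) :
      Submodule A A) := ⟨by simpa using hx1, hx2⟩
  rw [hc (c + k) (by omega)] at hx3
  have hck : c + k - c = k := by omega
  rw [hck] at hx3
  have hle : (maximalIdeal A ^ k • (maximalIdeal A ^ c • ⊤ ⊓ (symb A p n : Submodule A A)) :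
      Submodule A A) ≤ p ^ n := by
    rw [Submodule.smul_le]
    intro r hr s hs
    exact Submodule.mem_colon.mp (hk hr) s hs.2
  exact hle hx3

end Groth.Agent.H5.Symb
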