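import Groth.Prelude.Def_Omega3
import Mathlib.RingTheory.Unramified.Basic
import Mathlib.RingTheory.Kaehler.Polynomial
import Mathlib.RingTheory.Kaehler.Basic
import Mathlib.RingTheory.Derivation.ToSquareZero
import Mathlib.LinearAlgebra.TensorProduct.Basis

set_option autoImplicit false
universe u

open TensorProduct KaehlerDifferential MvPolynomial

namespace Groth.Agent.H5.CA

/-- a derivation on a polynomial ring is determined by the partial derivatives. -/
lemma derivation_eq_sum_pderiv {σ R M : Type*} [CommRing R] [AddCommGroup M] [Module R M]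
    [Module (MvPolynomial σ R) M] [IsScalarTower R (MvPolynomial σ R) M]
    (δ : Derivation R (MvPolynomial σ R) M) (p : MvPolynomial σ R) :
    δ p = ((mvPolynomialBasis R σ).repr (D R (MvPolynomial σ R) p)).sum
      (fun i c => c • δ (X i)) := by
  have h1 : δ p = δ.liftKaehlerDifferential (D R (MvPolynomial σ R) p) :=
    (Derivation.liftKaehlerDifferential_comp_D δ p).symm
  have h2 := (mvPolynomialBasis R σ).linearCombination_repr (D R (MvPolynomial σ R) p)
  rw [h1]
  conv_lhs => rw [← h2]
  rw [Finsupp.linearCombination_apply, map_finsuppSum]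
  refine Finsupp.sum_congr (fun i _ => ?_)
  rw [map_smul, mvPolynomialBasis_apply, Derivation.liftKaehlerDifferential_comp_D]

section

variable (R : Type u) [CommRing R] (S : Type u) [CommRing S] [Algebra R S]

/-- the canonical presentation. -/
noncomputable abbrev presMap : MvPolynomial S R →ₐ[R] S := aeval (fun s : S => s)

lemma presMap_surjective : Function.Surjective (presMap R S) := fun s => ⟨X s, by simp⟩

variable [Algebra.FormallyUnramified R S]

open scoped Classical in
/-- for a formally unramified algebra, each variable differential is, modulo the kernel, the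
differential of an element of the kernel. -/
lemma exists_mem_ker_pderiv (s : S) :
    ∃ y : MvPolynomial S R, presMap R S y = 0 ∧
      ∀ s' : S, presMap R S (pderiv s' y) = if s' = s then 1 else 0 := by
  letI : Algebra (MvPolynomial S R) S := (presMap R S).toRingHom.toAlgebra
  haveI : IsScalarTower R (MvPolynomial S R) S :=
    IsScalarTower.of_algebraMap_eq (fun r => ((presMap R S).commutes r).symm)
  have hsurj : Function.Surjective (algebraMap (MvPolynomial S R) S) := presMap_surjective R S
  have hex := exact_kerCotangentToTensor_mapBaseChange R (MvPolynomial S R) S hsurj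
  haveI : Subsingleton Ω[S⁄R] := inferInstance
  let ω : S ⊗[MvPolynomial S R] Ω[MvPolynomial S R⁄R] := 1 ⊗ₜ D R (MvPolynomial S R) (X s)
  obtain ⟨c, hc⟩ := (hex ω).mp (Subsingleton.elim _ _)
  obtain ⟨y, rfl⟩ := Ideal.toCotangent_surjective _ c
  rw [kerCotangentToTensor_toCotangent] at hc
  refine ⟨y.1, RingHom.mem_ker.mp y.2, fun s' => ?_⟩
  have h1 := congrArg
    (fun z => ((mvPolynomialBasis R S).baseChange S).repr z s') hc
  simp only [ω, Module.Basis.baseChange_repr_tmul, mvPolynomialBasis_repr_apply] at h1
  rw [Algebra.smul_def, Algebra.smul_def, mul_one, mul_one] at h1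
  rw [pderiv_X] at h1
  have h2 : presMap R S (pderiv s' y.1) = algebraMap (MvPolynomial S R) S (pderiv s' y.1) := rfl
  rw [h2, h1]
  by_cases hss : s' = s
  · subst hss
    simp
  · have : s ≠ s' := fun h => hss h.symm
    simp [Pi.single_apply, hss, this]

end

end Groth.Agent.H5.CA

namespace Groth.Agent.H5.CA

section

variable (R : Type u) [CommRing R] (S : Type u) [CommRing S] [Algebra R S]
  [Algebra.FormallyUnramified R S]

/-- chosen elements of the kernel whose differentials are the variable differentials. -/
noncomputable def ySec (s : S) : MvPolynomial S R := (exists_mem_ker_pderiv R S s).choose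

lemma presMap_ySec (s : S) : presMap R S (ySec R S s) = 0 :=
  (exists_mem_ker_pderiv R S s).choose_spec.1

open scoped Classical in
lemma presMap_pderiv_ySec (s s' : S) :
    presMap R S (pderiv s' (ySec R S s)) = if s' = s then 1 else 0 :=
  (exists_mem_ker_pderiv R S s).choose_spec.2 s'

/-- the key computation: two lifts which agree modulo a square zero ideal differ on `ySec s` as
they differ on `X s`. -/
lemma lift_sub_ySec {T : Type u} [CommRing T] [Algebra R T] (I : Ideal T) (hI : I ^ 2 = ⊥)
    (b₁ b₂ : MvPolynomial S R →ₐ[R] T)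
    (hb₂ : ∀ x, presMap R S x = 0 → b₂ x ∈ I) (h12 : ∀ x, b₁ x - b₂ x ∈ I) (s : S) :
    b₁ (ySec R S s) - b₂ (ySec R S s) = b₁ (X s) - b₂ (X s) := by
  classical
  letI : Algebra (MvPolynomial S R) T := b₂.toRingHom.toAlgebra
  haveI : IsScalarTower R (MvPolynomial S R) T :=
    IsScalarTower.of_algebraMap_eq (fun r => (b₂.commutes r).symm)
  have hmul : ∀ u v : T, u ∈ I → v ∈ I → u * v = 0 := by
    intro u v hu hv
    have : u * v ∈ I ^ 2 := by rw [pow_two]; exact Ideal.mul_mem_mul hu hv
    rwa [hI] at this
  have e : (Ideal.Quotient.mkₐ R I).comp b₁ =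
      IsScalarTower.toAlgHom R (MvPolynomial S R) (T ⧸ I) := by
    ext x
    show Ideal.Quotient.mk I (b₁ (X x)) = Ideal.Quotient.mk I (b₂ (X x))
    exact Ideal.Quotient.eq.mpr (h12 _)
  let δ := derivationToSquareZeroOfLift I hI b₁ e
  have hδ : ∀ x, ((δ x : I) : T) = b₁ x - b₂ x := fun x => rfl
  have hsum := derivation_eq_sum_pderiv δ (ySec R S s)
  have hcoe := congrArg (Subtype.val : I → T) hsum
  rw [hδ] at hcoe
  rw [hcoe]
  set f := (mvPolynomialBasis R S).repr (D R (MvPolynomial S R) (ySec R S s)) with hf
  rw [Finsupp.sum_of_support_subset f (Finset.subset_insert s f.support)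
    (fun i c => c • δ (X i)) (fun i _ => zero_smul _ _)]
  rw [AddSubmonoidClass.coe_finsetSum]
  have hterm : ∀ i ∈ insert s f.support,
      (((f i) • δ (X i) : I) : T) = if i = s then b₁ (X s) - b₂ (X s) else 0 := by
    intro i _
    have h1 : f i = pderiv i (ySec R S s) := mvPolynomialBasis_repr_apply R S _ i
    have h2 : (((f i) • δ (X i) : I) : T) = b₂ (f i) * (b₁ (X i) - b₂ (X i)) := by
      rw [Submodule.coe_smul_of_tower, hδ, Algebra.smul_def]
      rfl
    rw [h2, h1]
    have h3 : b₂ (pderiv i (ySec R S s)) - (if i = s then 1 else 0) ∈ I := by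
      have : presMap R S (pderiv i (ySec R S s) - (if i = s then 1 else 0)) = 0 := by
        rw [map_sub, presMap_pderiv_ySec]
        split_ifs <;> simp
      have h4 := hb₂ _ this
      rw [map_sub] at h4
      convert h4 using 2
      split_ifs <;> simp
    have h5 := hmul _ _ h3 (h12 (X i))
    rw [sub_mul, sub_eq_zero] at h5
    rw [h5]
    split_ifs with his
    · subst his; rw [one_mul]
    · rw [zero_mul]
  rw [Finset.sum_congr rfl hterm, Finset.sum_ite_eq' (insert s f.support) s]
  rw [if_pos (Finset.mem_insert_self s _)]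

end

end Groth.Agent.H5.CA
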