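import Groth.Agent.Lib.Helper5.CA.UnivThickExists

set_option autoImplicit false
universe u

open TensorProduct KaehlerDifferential MvPolynomial

namespace Groth.Agent.H5.CA

section

variable (R : Type u) [CommRing R] (S : Type u) [CommRing S] [Algebra R S]
  [Algebra.FormallyUnramified R S]

/-- the ideal cutting out the universal thickening inside the polynomial ring. -/
noncomputable def thickIdeal : Ideal (MvPolynomial S R) :=
  (RingHom.ker (presMap R S)) ^ 2 ⊔ Ideal.span (Set.range (ySec R S))

lemma thickIdeal_le_ker : thickIdeal R S ≤ RingHom.ker (presMap R S) := by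
  refine sup_le (Ideal.pow_le_self two_ne_zero) ?_
  rw [Ideal.span_le]
  rintro _ ⟨s, rfl⟩
  exact presMap_ySec R S s

lemma ySec_mem_thickIdeal (s : S) : ySec R S s ∈ thickIdeal R S :=
  Ideal.mem_sup_right (Ideal.subset_span ⟨s, rfl⟩)

lemma sq_le_thickIdeal : (RingHom.ker (presMap R S)) ^ 2 ≤ thickIdeal R S := le_sup_left

/-- the universal thickening. -/
abbrev Thick : Type u := MvPolynomial S R ⧸ thickIdeal R S

/-- the projection from the universal thickening. -/
noncomputable def thickMap : Thick R S →ₐ[R] S :=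
  Ideal.Quotient.liftₐ (thickIdeal R S) (presMap R S) (fun x hx => thickIdeal_le_ker R S hx)

@[simp] lemma thickMap_mk (x : MvPolynomial S R) :
    thickMap R S (Ideal.Quotient.mk _ x) = presMap R S x := rfl

lemma thickMap_surjective : Function.Surjective (thickMap R S) :=
  fun s => ⟨Ideal.Quotient.mk _ (X s), by simp⟩

lemma ker_thickMap_sq : RingHom.ker (thickMap R S).toRingHom ^ 2 = ⊥ := by
  have h : RingHom.ker (thickMap R S).toRingHom ≤
      Ideal.map (Ideal.Quotient.mk (thickIdeal R S)) (RingHom.ker (presMap R S)) := by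
    intro z hz
    obtain ⟨x, rfl⟩ := Ideal.Quotient.mk_surjective z
    exact Ideal.mem_map_of_mem _ (by simpa [RingHom.mem_ker] using hz)
  rw [← le_bot_iff]
  refine (Ideal.pow_right_mono h 2).trans ?_
  rw [← Ideal.map_pow, le_bot_iff, Ideal.map_eq_bot_iff_le_ker, Ideal.mk_ker]
  exact sq_le_thickIdeal R S

theorem isUnivThickeningRing_thick :
    OmegaSh.IsUnivThickeningRing R S (Thick R S) (thickMap R S) := by
  refine ⟨thickMap_surjective R S, ker_thickMap_sq R S, ?_⟩
  intro A _ _ I hI a
  have hmul : ∀ u v : A, u ∈ I → v ∈ I → u * v = 0 := by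
    intro u v hu hv
    have : u * v ∈ I ^ 2 := by rw [pow_two]; exact Ideal.mul_mem_mul hu hv
    rwa [hI] at this
  -- a first lift
  choose t ht using fun s : S => Ideal.Quotient.mk_surjective (a s)
  let b₀ : MvPolynomial S R →ₐ[R] A := aeval t
  have hb₀ : ∀ x, Ideal.Quotient.mk I (b₀ x) = a (presMap R S x) := by
    intro x
    have : (Ideal.Quotient.mkₐ R I).comp b₀ = a.comp (presMap R S) := by
      ext s
      simp [b₀, ht]
    exact DFunLike.congr_fun this x
  have hb₀I : ∀ x, presMap R S x = 0 → b₀ x ∈ I := by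
    intro x hx
    rw [← Ideal.Quotient.eq_zero_iff_mem, hb₀, hx, map_zero]
  let b : MvPolynomial S R →ₐ[R] A := aeval (fun s => t s - b₀ (ySec R S s))
  have hbb₀ : ∀ x, b x - b₀ x ∈ I := by
    intro x
    rw [← Ideal.Quotient.eq]
    have : (Ideal.Quotient.mkₐ R I).comp b = (Ideal.Quotient.mkₐ R I).comp b₀ := by
      ext s
      simp only [b, b₀, AlgHom.comp_apply, aeval_X, Ideal.Quotient.mkₐ_eq_mk, map_sub]
      rw [sub_eq_self, Ideal.Quotient.eq_zero_iff_mem]
      exact hb₀I _ (presMap_ySec R S s)
    exact DFunLike.congr_fun this x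
  have hb : ∀ x, Ideal.Quotient.mk I (b x) = a (presMap R S x) := by
    intro x
    rw [← hb₀, Ideal.Quotient.eq]
    exact hbb₀ x
  have hbI : ∀ x, presMap R S x = 0 → b x ∈ I := by
    intro x hx
    rw [← Ideal.Quotient.eq_zero_iff_mem, hb, hx, map_zero]
  have hby : ∀ s, b (ySec R S s) = 0 := by
    intro s
    have h := lift_sub_ySec R S I hI b b₀ hb₀I hbb₀ s
    have h2 : b (X s) - b₀ (X s) = - b₀ (ySec R S s) := by
      simp [b, b₀]
    rw [h2] at h
    linear_combination h
  have hbkill : ∀ x ∈ thickIdeal R S, b x = 0 := by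
    intro x hx
    have : thickIdeal R S ≤ RingHom.ker b.toRingHom := by
      refine sup_le ?_ ?_
      · rw [pow_two, Ideal.mul_le]
        intro u hu v hv
        rw [RingHom.mem_ker]
        show b (u * v) = 0
        rw [map_mul]
        exact hmul _ _ (hbI _ hu) (hbI _ hv)
      · rw [Ideal.span_le]
        rintro _ ⟨s, rfl⟩
        exact hby s
    exact this hx
  refine ⟨Ideal.Quotient.liftₐ (thickIdeal R S) b hbkill, ?_, ?_⟩
  · ext z
    obtain ⟨x, rfl⟩ := Ideal.Quotient.mk_surjective z
    show Ideal.Quotient.mk I (b x) = a (presMap R S x)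
    exact hb x
  · intro a'' ha''
    let b' : MvPolynomial S R →ₐ[R] A := a''.comp (Ideal.Quotient.mkₐ R (thickIdeal R S))
    have hb' : ∀ x, Ideal.Quotient.mk I (b' x) = a (presMap R S x) := by
      intro x
      exact DFunLike.congr_fun ha'' (Ideal.Quotient.mk _ x)
    have hb'b : ∀ x, b' x - b x ∈ I := by
      intro x
      rw [← Ideal.Quotient.eq, hb, hb']
    have hb'y : ∀ s, b' (ySec R S s) = 0 := by
      intro s
      show a'' (Ideal.Quotient.mk _ (ySec R S s)) = 0
      rw [Ideal.Quotient.eq_zero_iff_mem.mpr (ySec_mem_thickIdeal R S s), map_zero]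
    have hX : ∀ s, b' (X s) = b (X s) := by
      intro s
      have h := lift_sub_ySec R S I hI b' b hbI hb'b s
      rw [hb'y, hby, sub_self] at h
      exact (sub_eq_zero.mp h.symm)
    have hbb' : b' = b := MvPolynomial.algHom_ext hX
    ext z
    obtain ⟨x, rfl⟩ := Ideal.Quotient.mk_surjective z
    exact DFunLike.congr_fun hbb' x

end

end Groth.Agent.H5.CA
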