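import Groth.Prelude.Def_Omega3
import Mathlib.RingTheory.Unramified.Basic
import Mathlib.RingTheory.Localization.Basic
import Mathlib.RingTheory.Ideal.Quotient.Nilpotent

set_option autoImplicit false
universe u

namespace Groth.Agent.H5.CA

open OmegaSh

section Core

variable {A B B' : Type u} [CommRing A] [CommRing B] [CommRing B'] [Algebra A B] [Algebra A B']
  (π : B' →ₐ[A] B) (hπ : OmegaSh.IsUnivThickeningRing A B B' π)
  (M' : Submonoid B') (M : Submonoid B)
  (hM : ∀ c ∈ M, ∃ c' ∈ M', π c' = c) (hM' : ∀ c' ∈ M', π c' ∈ M)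
  (B₁ B'₁ : Type u) [CommRing B₁] [CommRing B'₁] [Algebra B B₁] [IsLocalization M B₁]
  [Algebra B' B'₁] [IsLocalization M' B'₁]
  [Algebra A B₁] [IsScalarTower A B B₁] [Algebra A B'₁] [IsScalarTower A B' B'₁]
  (π₁ : B'₁ →ₐ[A] B₁) (hπ₁ : ∀ x : B', π₁ (algebraMap B' B'₁ x) = algebraMap B B₁ (π x))

include hπ hM hM' hπ₁ in
/-- localization of a universal first order thickening (at compatible multiplicative sets). -/
theorem isUnivThickeningRing_localization : OmegaSh.IsUnivThickeningRing A B₁ B'₁ π₁ := by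
  obtain ⟨hsurj, hsq, huniv⟩ := hπ
  refine ⟨?_, ?_, ?_⟩
  · -- surjectivity
    intro y
    obtain ⟨⟨b, m⟩, hbm⟩ := IsLocalization.surj M y
    obtain ⟨b', rfl⟩ := hsurj b
    obtain ⟨m', hm', hm'm⟩ := hM m.1 m.2
    refine ⟨IsLocalization.mk' B'₁ b' ⟨m', hm'⟩, ?_⟩
    have hu : IsUnit (algebraMap B B₁ m.1) := IsLocalization.map_units B₁ m
    apply hu.mul_right_cancel
    rw [hbm, ← hm'm, ← hπ₁ m', ← map_mul]
    have : IsLocalization.mk' B'₁ b' ⟨m', hm'⟩ * algebraMap B' B'₁ m' = algebraMap B' B'₁ b' :=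
      IsLocalization.mk'_spec B'₁ b' ⟨m', hm'⟩
    rw [this, hπ₁]
  · -- square zero kernel
    have hker : RingHom.ker π₁.toRingHom ≤ (RingHom.ker π.toRingHom).map (algebraMap B' B'₁) := by
      intro x hx
      obtain ⟨⟨x', m'⟩, hxm⟩ := IsLocalization.surj M' x
      have h1 : algebraMap B B₁ (π x') = 0 := by
        rw [← hπ₁, ← hxm, map_mul]
        have : π₁ x = 0 := hx
        rw [this, zero_mul]
      obtain ⟨c, hc⟩ := (IsLocalization.map_eq_zero_iff M B₁ (π x')).mp h1
      obtain ⟨c', hc', hc'c⟩ := hM c.1 c.2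
      have h2 : c' * x' ∈ RingHom.ker π.toRingHom := by
        rw [RingHom.mem_ker]
        show π (c' * x') = 0
        rw [map_mul, hc'c]
        exact hc
      have hu : IsUnit (algebraMap B' B'₁ (c' * m'.1)) :=
        IsLocalization.map_units B'₁ (⟨c' * m'.1, M'.mul_mem hc' m'.2⟩ : M')
      obtain ⟨u, hu⟩ := hu
      have h3 : x = ↑u⁻¹ * algebraMap B' B'₁ (c' * x') := by
        rw [Units.eq_inv_mul_iff_mul_eq, hu, map_mul, map_mul, ← hxm]
        ring
      rw [h3]
      exact Ideal.mul_mem_left _ _ (Ideal.mem_map_of_mem _ h2)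
    rw [eq_bot_iff]
    calc RingHom.ker π₁.toRingHom ^ 2
        ≤ ((RingHom.ker π.toRingHom).map (algebraMap B' B'₁)) ^ 2 := Ideal.pow_right_mono hker 2
      _ = (RingHom.ker π.toRingHom ^ 2).map (algebraMap B' B'₁) := (Ideal.map_pow _ _ _).symm
      _ = ⊥ := by rw [hsq, Ideal.map_bot]
  · -- universal property
    intro T _ _ I hI a
    let a₀ : B →ₐ[A] T ⧸ I := a.comp (IsScalarTower.toAlgHom A B B₁)
    obtain ⟨a₀', ha₀', huniq⟩ := huniv T I hI a₀
    have ha₀'mk : ∀ x : B', Ideal.Quotient.mk I (a₀' x) = a (algebraMap B B₁ (π x)) := fun x =>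
      AlgHom.congr_fun ha₀' x
    have hunits : ∀ m' : M', IsUnit (a₀'.toRingHom m'.1) := by
      intro m'
      apply (IsNilpotent.isUnit_quotient_mk_iff (I := I) ⟨2, hI⟩).mp
      show IsUnit (Ideal.Quotient.mk I (a₀' m'.1))
      rw [ha₀'mk]
      exact (IsLocalization.map_units B₁ (⟨π m'.1, hM' m'.1 m'.2⟩ : M)).map a
    let a'r : B'₁ →+* T := IsLocalization.lift (M := M') (g := a₀'.toRingHom) hunits
    have ha'r : ∀ x : B', a'r (algebraMap B' B'₁ x) = a₀' x := fun x =>
      IsLocalization.lift_eq hunits x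
    let a' : B'₁ →ₐ[A] T :=
      { a'r with
        commutes' := fun r => by
          show a'r (algebraMap A B'₁ r) = algebraMap A T r
          rw [IsScalarTower.algebraMap_apply A B' B'₁, ha'r, AlgHom.commutes] }
    have ha'lift : (Ideal.Quotient.mkₐ A I).comp a' = a.comp π₁ := by
      have : ((Ideal.Quotient.mkₐ A I).comp a').toRingHom = (a.comp π₁).toRingHom := by
        apply IsLocalization.ringHom_ext M'
        ext x
        show Ideal.Quotient.mk I (a'r (algebraMap B' B'₁ x)) = a (π₁ (algebraMap B' B'₁ x))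
        rw [ha'r, ha₀'mk, hπ₁]
      exact AlgHom.ext (fun x => congrArg (fun f : B'₁ →+* T ⧸ I => f x) this)
    refine ⟨a', ha'lift, fun a'' ha'' => ?_⟩
    have h0 : a''.comp (IsScalarTower.toAlgHom A B' B'₁) = a₀' := by
      apply huniq
      ext x
      show Ideal.Quotient.mk I (a'' (algebraMap B' B'₁ x)) = a (algebraMap B B₁ (π x))
      have := AlgHom.congr_fun ha'' (algebraMap B' B'₁ x)
      rw [← hπ₁]
      exact this
    have : a''.toRingHom = a'.toRingHom := by
      apply IsLocalization.ringHom_ext M'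
      ext x
      show a'' (algebraMap B' B'₁ x) = a'r (algebraMap B' B'₁ x)
      rw [ha'r, ← h0]
      rfl
    exact AlgHom.ext (fun x => congrArg (fun f : B'₁ →+* T => f x) this)

end Core

end Groth.Agent.H5.CA

namespace Groth.Agent.H5.CA

open OmegaSh

/-- S9464. -/
theorem isUnivThickeningRing_isLocalization_comap (A B B' : Type u) [CommRing A] [CommRing B]
    [CommRing B'] [Algebra A B] [Algebra A B'] (π : B' →ₐ[A] B)
    (hπ : OmegaSh.IsUnivThickeningRing A B B' π) (S : Submonoid B)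
    (BS B'S : Type u) [CommRing BS] [CommRing B'S]
    [Algebra B BS] [IsLocalization S BS]
    [Algebra B' B'S] [IsLocalization (S.comap π.toRingHom.toMonoidHom) B'S]
    [Algebra A BS] [IsScalarTower A B BS] [Algebra A B'S] [IsScalarTower A B' B'S]
    (πS : B'S →ₐ[A] BS) (hπS : ∀ x : B', πS (algebraMap B' B'S x) = algebraMap B BS (π x)) :
    OmegaSh.IsUnivThickeningRing A BS B'S πS := by
  refine isUnivThickeningRing_localization π hπ (S.comap π.toRingHom.toMonoidHom) S ?_ ?_
    BS B'S πS hπS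
  · intro c hc
    obtain ⟨c', rfl⟩ := hπ.1 c
    exact ⟨c', hc, rfl⟩
  · intro c' hc'
    exact hc'

/-- S9463. -/
theorem isUnivThickeningRing_isLocalization_base (A B B' : Type u) [CommRing A] [CommRing B]
    [CommRing B'] [Algebra A B] [Algebra A B'] (π : B' →ₐ[A] B)
    (hπ : OmegaSh.IsUnivThickeningRing A B B' π) (S : Submonoid A)
    (AS BS B'S : Type u) [CommRing AS] [CommRing BS] [CommRing B'S]
    [Algebra A AS] [IsLocalization S AS]
    [Algebra B BS] [IsLocalization (Algebra.algebraMapSubmonoid B S) BS]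
    [Algebra B' B'S] [IsLocalization (Algebra.algebraMapSubmonoid B' S) B'S]
    [Algebra AS BS] [Algebra A BS] [IsScalarTower A AS BS] [IsScalarTower A B BS]
    [Algebra AS B'S] [Algebra A B'S] [IsScalarTower A AS B'S] [IsScalarTower A B' B'S]
    (πS : B'S →ₐ[AS] BS) (hπS : ∀ x : B', πS (algebraMap B' B'S x) = algebraMap B BS (π x)) :
    OmegaSh.IsUnivThickeningRing AS BS B'S πS := by
  have hA : OmegaSh.IsUnivThickeningRing A BS B'S (πS.restrictScalars A) := by
    refine isUnivThickeningRing_localization π hπ (Algebra.algebraMapSubmonoid B' S)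
      (Algebra.algebraMapSubmonoid B S) ?_ ?_ BS B'S (πS.restrictScalars A) hπS
    · rintro _ ⟨s, hs, rfl⟩
      exact ⟨algebraMap A B' s, ⟨s, hs, rfl⟩, π.commutes s⟩
    · rintro _ ⟨s, hs, rfl⟩
      exact ⟨s, hs, (π.commutes s).symm⟩
  obtain ⟨hsurj, hsq, huniv⟩ := hA
  refine ⟨hsurj, hsq, ?_⟩
  intro T _ _ I hI a
  letI : Algebra A T := Algebra.compHom T (algebraMap A AS)
  haveI : IsScalarTower A AS T := IsScalarTower.of_algebraMap_eq (fun _ => rfl)
  obtain ⟨a', ha', huniq⟩ := huniv T I hI (a.restrictScalars A)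
  have hcomm : ∀ r : AS, a' (algebraMap AS B'S r) = algebraMap AS T r := by
    have : (a'.toRingHom.comp (algebraMap AS B'S)) = algebraMap AS T := by
      apply IsLocalization.ringHom_ext S
      ext x
      show a' (algebraMap AS B'S (algebraMap A AS x)) = algebraMap AS T (algebraMap A AS x)
      rw [← IsScalarTower.algebraMap_apply A AS B'S, a'.commutes,
        IsScalarTower.algebraMap_apply A AS T]
    exact fun r => congrArg (fun f : AS →+* T => f r) this
  let a'S : B'S →ₐ[AS] T := { a'.toRingHom with commutes' := hcomm }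
  refine ⟨a'S, ?_, fun a'' ha'' => ?_⟩
  · ext x
    exact AlgHom.congr_fun ha' x
  · have : a''.restrictScalars A = a' := by
      apply huniq
      ext x
      exact AlgHom.congr_fun ha'' x
    ext x
    exact AlgHom.congr_fun this x

end Groth.Agent.H5.CA
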