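import Groth.Agent.Lib.Helper5.CA.WeakColimit
import Mathlib

set_option autoImplicit false

namespace Groth.Agent.H5.CA

open TensorProduct

namespace WeakColimit

variable {K : Type*} [CommRing K] {ι : Type*} {G : ι → Type*} [∀ i, CommRing (G i)]
  [∀ i, Algebra K (G i)] {A : Type*} [CommRing A] [Algebra K A] (W : WeakColimit K G A)
  (C : Type*) [CommRing C] [Algebra K C]

/-- Two maps from a finite type algebra to a stage which agree in the weak colimit agree at a
later stage. -/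
lemma exists_comp_eq [Algebra.FiniteType K C] {i : ι} (ρ₁ ρ₂ : C →ₐ[K] G i)
    (h : (W.g i).comp ρ₁ = (W.g i).comp ρ₂) :
    ∃ (j : ι) (φ : G i →ₐ[K] G j), W.Adm φ ∧ φ.comp ρ₁ = φ.comp ρ₂ := by
  obtain ⟨s, hs⟩ := (inferInstance : Algebra.FiniteType K C).out
  obtain ⟨j, φ, hφ, h1⟩ := W.exists_eq_family (σ := s) (fun c => ρ₁ c) (fun c => ρ₂ c)
    (fun c => AlgHom.congr_fun h c.1)
  refine ⟨j, φ, hφ, AlgHom.ext_of_adjoin_eq_top hs ?_⟩
  intro c hc
  exact h1 ⟨c, hc⟩

/-- A map from a finitely presented algebra to a weak colimit factors through a stage. -/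
lemma exists_factor [Algebra.FinitePresentation K C] (ρ : C →ₐ[K] A) (i₀ : ι) :
    ∃ (j : ι) (φ : G i₀ →ₐ[K] G j), W.Adm φ ∧ ∃ ρ' : C →ₐ[K] G j, (W.g j).comp ρ' = ρ := by
  obtain ⟨n, f, hf, hker⟩ := Algebra.FinitePresentation.out (R := K) (A := C)
  obtain ⟨t, ht⟩ := hker
  obtain ⟨j₁, φ₁, hφ₁, a, ha⟩ :=
    W.exists_lift_family i₀ (fun k : Fin n => ρ (f (MvPolynomial.X k)))
  let θ : MvPolynomial (Fin n) K →ₐ[K] G j₁ := MvPolynomial.aeval a
  have hθ : (W.g j₁).comp θ = ρ.comp f := by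
    apply MvPolynomial.algHom_ext
    intro k
    simp [θ, ha]
  obtain ⟨j₂, φ₂, hφ₂, hkill⟩ := W.exists_kill_family (σ := t) (fun p => θ p.1) (fun p => by
    have h1 : f p.1 = 0 := by
      have : p.1 ∈ RingHom.ker f.toRingHom := ht ▸ Ideal.subset_span p.2
      exact this
    have h2 := AlgHom.congr_fun hθ p.1
    simp only [AlgHom.coe_comp, Function.comp_apply] at h2
    rw [h2, h1, map_zero])
  have hle : RingHom.ker f.toRingHom ≤ RingHom.ker (φ₂.comp θ).toRingHom := by
    rw [← ht, Ideal.span_le]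
    intro p hp
    exact hkill ⟨p, hp⟩
  refine ⟨j₂, φ₂.comp φ₁, W.adm_comp _ _ hφ₁ hφ₂,
    AlgHom.liftOfSurjective f hf (φ₂.comp θ) hle, ?_⟩
  apply AlgHom.ext
  intro c
  obtain ⟨p, rfl⟩ := hf c
  simp only [AlgHom.coe_comp, Function.comp_apply, AlgHom.liftOfSurjective_apply]
  rw [W.g_adm φ₂ hφ₂]
  exact AlgHom.congr_fun hθ p

section Surjective

/-- Witness for surjectivity of `S → S ⊗ C`. -/
def SurjWit (S : Type*) [CommRing S] [Algebra K S] (s : Set C) : Prop :=
  ∀ c ∈ s, ∃ r : S, r ⊗ₜ[K] (1 : C) = (1 : S) ⊗ₜ[K] c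

variable {C}

omit W in
lemma SurjWit.map {S S' : Type*} [CommRing S] [Algebra K S] [CommRing S'] [Algebra K S']
    {s : Set C} (h : SurjWit (K := K) C S s) (ψ : S →ₐ[K] S') : SurjWit (K := K) C S' s := by
  intro c hc
  obtain ⟨r, hr⟩ := h c hc
  refine ⟨ψ r, ?_⟩
  have := congrArg (Algebra.TensorProduct.map ψ (AlgHom.id K C)) hr
  simpa using this

omit W in
lemma SurjWit.surjective {S : Type*} [CommRing S] [Algebra K S] {s : Set C}
    (hs : Algebra.adjoin K s = ⊤) (h : SurjWit (K := K) C S s) :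
    Function.Surjective (algebraMap S (S ⊗[K] C)) := by
  have h1 : (Algebra.ofId S (S ⊗[K] C)).range = ⊤ := by
    rw [eq_top_iff, ← Algebra.TensorProduct.adjoin_one_tmul_image_eq_top s hs, Algebra.adjoin_le_iff]
    rintro _ ⟨c, hc, rfl⟩
    obtain ⟨r, hr⟩ := h c hc
    exact ⟨r, by simp [Algebra.ofId_apply, Algebra.TensorProduct.algebraMap_apply, hr]⟩
  intro x
  have : x ∈ (Algebra.ofId S (S ⊗[K] C)).range := h1 ▸ Algebra.mem_top
  obtain ⟨r, hr⟩ := this
  exact ⟨r, hr⟩

include W in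
/-- Surjectivity of `A → A ⊗ C` descends to a stage (and all later stages). -/
theorem exists_surjective [Algebra.FiniteType K C]
    (h : Function.Surjective (algebraMap A (A ⊗[K] C))) :
    ∃ j : ι, ∀ (S : Type _) [CommRing S] [Algebra K S] (_ : G j →ₐ[K] S),
      Function.Surjective (algebraMap S (S ⊗[K] C)) := by
  obtain ⟨s, hs⟩ := (inferInstance : Algebra.FiniteType K C).out
  obtain ⟨i₀⟩ := W.nonempty
  choose r hr using fun c : s => h ((1 : A) ⊗ₜ[K] c.1)
  obtain ⟨i, -, -, r', hr'⟩ := W.exists_lift_family i₀ r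
  obtain ⟨j, Φ, ⟨φ, hφ, rfl⟩, hkill⟩ := (W.tensorRight C).exists_kill_family (σ := s)
    (fun c => r' c ⊗ₜ[K] (1 : C) - (1 : G i) ⊗ₜ[K] c.1) (fun c => by
      have := hr c
      simp only [Algebra.TensorProduct.algebraMap_apply, Algebra.algebraMap_self,
        RingHom.id_apply] at this
      simp [tensorRight, hr', this])
  have hwit : SurjWit (K := K) C (G j) (s : Set C) := by
    intro c hc
    refine ⟨φ (r' ⟨c, hc⟩), ?_⟩
    have := hkill ⟨c, hc⟩
    simpa [sub_eq_zero] using this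
  exact ⟨j, fun S _ _ ψ => (hwit.map ψ).surjective hs⟩

end Surjective

section Finite

open Polynomial

include W in
/-- Lifting finitely many monic polynomials to a common stage. -/
lemma exists_lift_monic_family {σ : Type*} [Finite σ] (i₀ : ι) (p : σ → A[X])
    (hp : ∀ s, (p s).Monic) :
    ∃ (j : ι) (φ : G i₀ →ₐ[K] G j), W.Adm φ ∧ ∃ q : σ → (G j)[X],
      (∀ s, (q s).Monic) ∧ ∀ s, (q s).map (W.g j).toRingHom = p s := by
  classical
  obtain ⟨j, φ, hφ, x, hx⟩ := W.exists_lift_family (σ := Σ s : σ, Fin (p s).natDegree) i₀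
    (fun z => (p z.1).coeff z.2)
  refine ⟨j, φ, hφ, fun s => X ^ (p s).natDegree + ∑ m : Fin (p s).natDegree, C (x ⟨s, m⟩) * X ^ (m : ℕ),
    fun s => monic_X_pow_add (degree_sum_fin_lt _), fun s => ?_⟩
  conv_rhs => rw [(hp s).as_sum]
  simp only [Polynomial.map_add, Polynomial.map_pow, Polynomial.map_X, Polynomial.map_sum,
    Polynomial.map_mul, Polynomial.map_C]
  rw [Finset.sum_range]
  congr 1
  refine Finset.sum_congr rfl fun m _ => ?_
  have := hx ⟨s, m⟩
  simp only [AlgHom.toRingHom_eq_coe, RingHom.coe_coe]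
  rw [this]

/-- Witness for finiteness of `S → S ⊗ C`. -/
def FinWit (S : Type*) [CommRing S] [Algebra K S] (s : Set C) : Prop :=
  ∀ c ∈ s, IsIntegral S ((1 : S) ⊗ₜ[K] c)

variable {C}

omit W in
lemma FinWit.map {S S' : Type*} [CommRing S] [Algebra K S] [CommRing S'] [Algebra K S']
    {s : Set C} (h : FinWit (K := K) C S s) (ψ : S →ₐ[K] S') : FinWit (K := K) C S' s := by
  intro c hc
  have := (h c hc).map_of_comp_eq ψ.toRingHom
    (Algebra.TensorProduct.map ψ (AlgHom.id K C)).toRingHom (by ext; simp)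
  simpa using this

omit W in
lemma FinWit.finite {S : Type*} [CommRing S] [Algebra K S] {s : Set C}
    (hs : Algebra.adjoin K s = ⊤) (hfin : s.Finite) (h : FinWit (K := K) C S s) :
    Module.Finite S (S ⊗[K] C) := by
  have h1 := Algebra.TensorProduct.adjoin_one_tmul_image_eq_top (A := S) s hs
  have h2 : (Algebra.adjoin S (((1 : S) ⊗ₜ[K] ·) '' s)).toSubmodule.FG :=
    fg_adjoin_of_finite (hfin.image _) (by
      rintro _ ⟨c, hc, rfl⟩
      exact h c hc)
  rw [h1, Algebra.top_toSubmodule] at h2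
  exact ⟨h2⟩

include W in
/-- Finiteness of `A → A ⊗ C` descends to a stage (and all later stages). -/
theorem exists_finite [Algebra.FiniteType K C] (h : Module.Finite A (A ⊗[K] C)) :
    ∃ j : ι, ∀ (S : Type _) [CommRing S] [Algebra K S] (_ : G j →ₐ[K] S),
      Module.Finite S (S ⊗[K] C) := by
  obtain ⟨s, hs⟩ := (inferInstance : Algebra.FiniteType K C).out
  obtain ⟨i₀⟩ := W.nonempty
  have hint : ∀ c : s, IsIntegral A ((1 : A) ⊗ₜ[K] c.1) := fun c =>
    Algebra.IsIntegral.isIntegral _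
  choose p hpm hp using hint
  obtain ⟨i, -, -, q, hqm, hq⟩ := W.exists_lift_monic_family i₀ p hpm
  obtain ⟨j, Φ, ⟨φ, hφ, rfl⟩, hkill⟩ := (W.tensorRight C).exists_kill_family (σ := s)
    (fun c => (q c).eval₂ (algebraMap (G i) (G i ⊗[K] C)) ((1 : G i) ⊗ₜ[K] c.1)) (fun c => by
      have h1 := hp c
      rw [← hq c, eval₂_map] at h1
      rw [← h1]
      change (Algebra.TensorProduct.map (W.g i) (AlgHom.id K C)).toRingHom _ = _
      rw [hom_eval₂]
      have e1 : (Algebra.TensorProduct.map (W.g i) (AlgHom.id K C)).toRingHom.comp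
          (algebraMap (G i) (G i ⊗[K] C)) =
          (algebraMap A (A ⊗[K] C)).comp (W.g i).toRingHom := by ext r; simp
      have e2 : (Algebra.TensorProduct.map (W.g i) (AlgHom.id K C)).toRingHom
          ((1 : G i) ⊗ₜ[K] c.1) = (1 : A) ⊗ₜ[K] c.1 := by simp
      rw [e1, e2])
  have hwit : FinWit (K := K) C (G j) (s : Set C) := by
    intro c hc
    refine ⟨(q ⟨c, hc⟩).map φ.toRingHom, (hqm _).map _, ?_⟩
    have h1 := hkill ⟨c, hc⟩
    change (Algebra.TensorProduct.map φ (AlgHom.id K C)).toRingHom _ = _ at h1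
    rw [hom_eval₂] at h1
    have e1 : (Algebra.TensorProduct.map φ (AlgHom.id K C)).toRingHom.comp
        (algebraMap (G i) (G i ⊗[K] C)) =
        (algebraMap (G j) (G j ⊗[K] C)).comp φ.toRingHom := by ext r; simp
    have e2 : (Algebra.TensorProduct.map φ (AlgHom.id K C)).toRingHom
        ((1 : G i) ⊗ₜ[K] c) = (1 : G j) ⊗ₜ[K] c := by simp
    rw [e1, e2] at h1
    rw [eval₂_map, h1]
  exact ⟨j, fun S _ _ ψ => (hwit.map ψ).finite hs s.finite_toSet⟩

end Finite

section Unramified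

open KaehlerDifferential

attribute [local instance] Algebra.TensorProduct.rightAlgebra

lemma exists_rTensor_kill_family (M : Type*) [AddCommGroup M] [Module K M] {σ : Type*} [Finite σ]
    {i : ι} (x : σ → G i ⊗[K] M) (hx : ∀ s, (W.g i).toLinearMap.rTensor M (x s) = 0) :
    ∃ (j : ι) (φ : G i →ₐ[K] G j), W.Adm φ ∧ ∀ s, φ.toLinearMap.rTensor M (x s) = 0 := by
  classical
  have := Fintype.ofFinite σ
  suffices h : ∀ t : Finset σ, ∃ (j : ι) (φ : G i →ₐ[K] G j), W.Adm φ ∧
      ∀ s ∈ t, φ.toLinearMap.rTensor M (x s) = 0 by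
    obtain ⟨j, φ, hφ, h1⟩ := h Finset.univ
    exact ⟨j, φ, hφ, fun s => h1 s (Finset.mem_univ s)⟩
  intro t
  induction t using Finset.induction with
  | empty => exact ⟨i, AlgHom.id K _, W.adm_id i, by simp⟩
  | insert a t _ ih =>
    obtain ⟨j, φ, hφ, h1⟩ := ih
    obtain ⟨k, ψ, hψ, h2⟩ := W.exists_rTensor_kill M (φ.toLinearMap.rTensor M (x a)) (by
      rw [← LinearMap.comp_apply, ← LinearMap.rTensor_comp]
      have : (W.g j).toLinearMap ∘ₗ φ.toLinearMap = (W.g i).toLinearMap := by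
        ext y; exact W.g_adm φ hφ y
      rw [this, hx])
    refine ⟨k, ψ.comp φ, W.adm_comp φ ψ hφ hψ, ?_⟩
    intro s hs
    have e : (ψ.comp φ).toLinearMap = ψ.toLinearMap ∘ₗ φ.toLinearMap := rfl
    rw [e, LinearMap.rTensor_comp, LinearMap.comp_apply]
    rw [Finset.mem_insert] at hs
    rcases hs with rfl | hs
    · exact h2
    · rw [h1 s hs, map_zero]

/-- Witness for formal unramifiedness of `S → S ⊗ C`. -/
def UnrWit (S : Type*) [CommRing S] [Algebra K S] (s : Set C) : Prop :=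
  ∀ c ∈ s, (1 : S) ⊗ₜ[K] (D K C c) = (0 : S ⊗[K] Ω[C⁄K])

variable {C}

omit W in
lemma UnrWit.map {S S' : Type*} [CommRing S] [Algebra K S] [CommRing S'] [Algebra K S']
    {s : Set C} (h : UnrWit (K := K) C S s) (ψ : S →ₐ[K] S') : UnrWit (K := K) C S' s := by
  intro c hc
  have := congrArg (LinearMap.rTensor Ω[C⁄K] ψ.toLinearMap) (h c hc)
  simpa using this

omit W in
lemma UnrWit.formallyUnramified {S : Type*} [CommRing S] [Algebra K S] {s : Set C}
    (hs : Algebra.adjoin K s = ⊤) (h : UnrWit (K := K) C S s) :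
    Algebra.FormallyUnramified S (S ⊗[K] C) := by
  constructor
  have hD : D S (S ⊗[K] C) = 0 := by
    apply Derivation.ext_of_adjoin_eq_top _
      (Algebra.TensorProduct.adjoin_one_tmul_image_eq_top (A := S) s hs)
    rintro _ ⟨c, hc, rfl⟩
    have h1 := congrArg (tensorKaehlerEquivBase K S C (S ⊗[K] C)) (h c hc)
    rw [tensorKaehlerEquivBase_tmul, map_zero, one_smul, map_D,
      Algebra.TensorProduct.right_algebraMap_apply] at h1
    exact h1
  have h2 := span_range_derivation S (S ⊗[K] C)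
  rw [hD] at h2
  have h3 : (⊤ : Submodule (S ⊗[K] C) Ω[S ⊗[K] C⁄S]) = ⊥ := by
    rw [← h2, Submodule.span_eq_bot]
    rintro _ ⟨y, rfl⟩
    rfl
  have : Subsingleton (Submodule (S ⊗[K] C) Ω[S ⊗[K] C⁄S]) := subsingleton_of_bot_eq_top h3.symm
  exact (Submodule.subsingleton_iff (S ⊗[K] C)).mp this

include W in
/-- Formal unramifiedness of `A → A ⊗ C` descends to a stage (and all later stages). -/
theorem exists_formallyUnramified [Algebra.FiniteType K C]
    (h : Algebra.FormallyUnramified A (A ⊗[K] C)) :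
    ∃ j : ι, ∀ (S : Type _) [CommRing S] [Algebra K S] (_ : G j →ₐ[K] S),
      Algebra.FormallyUnramified S (S ⊗[K] C) := by
  obtain ⟨s, hs⟩ := (inferInstance : Algebra.FiniteType K C).out
  obtain ⟨i₀⟩ := W.nonempty
  have hsub : Subsingleton (A ⊗[K] Ω[C⁄K]) :=
    (tensorKaehlerEquivBase K A C (A ⊗[K] C)).toEquiv.subsingleton
  obtain ⟨j, φ, hφ, hkill⟩ := W.exists_rTensor_kill_family Ω[C⁄K] (σ := s) (i := i₀)
    (fun c => (1 : G i₀) ⊗ₜ[K] (D K C c.1)) (fun c => Subsingleton.elim _ _)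
  have hwit : UnrWit (K := K) C (G j) (s : Set C) := by
    intro c hc
    have := hkill ⟨c, hc⟩
    simpa using this
  exact ⟨j, fun S _ _ ψ => (hwit.map ψ).formallyUnramified hs⟩

end Unramified

section Bijective

variable {C}

include W in
/-- Bijectivity of `A → A ⊗ C` descends to a stage (and all later stages). -/
theorem exists_bijective [Algebra.FinitePresentation K C]
    (h : Function.Bijective (algebraMap A (A ⊗[K] C))) :
    ∃ j : ι, ∀ (S : Type _) [CommRing S] [Algebra K S] (_ : G j →ₐ[K] S),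
      Function.Bijective (algebraMap S (S ⊗[K] C)) := by
  obtain ⟨j₁, h1⟩ := W.exists_surjective (C := C) h.2
  let e : A ≃ₐ[A] A ⊗[K] C := AlgEquiv.ofBijective (Algebra.ofId A (A ⊗[K] C)) h
  let ρ : C →ₐ[K] A := (e.symm.toAlgHom.restrictScalars K).comp Algebra.TensorProduct.includeRight
  obtain ⟨j, φ, hφ, ρ', -⟩ := W.exists_factor C ρ j₁
  refine ⟨j, fun S _ _ ψ => ⟨?_, h1 S (ψ.comp φ)⟩⟩
  let τ : S ⊗[K] C →ₐ[S] S := Algebra.TensorProduct.lift (AlgHom.id S S) (ψ.comp ρ')
    (fun _ _ => Commute.all _ _)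
  apply Function.LeftInverse.injective (g := τ)
  intro r
  simp [τ, Algebra.TensorProduct.algebraMap_apply]

end Bijective

section Smooth

variable {C}
variable {Q : Type*} [CommRing Q] [Algebra K Q] (π : Q →ₐ[K] C)

/-- Witness for formal smoothness of `S → S ⊗ C`: a section of `S ⊗ Q → S ⊗ C` on `C`, where
`Q → C` is a square-zero thickening inside a formally smooth algebra. -/
def SmWit (S : Type*) [CommRing S] [Algebra K S] : Prop :=
  ∃ σ : C →ₐ[K] S ⊗[K] Q,
    (Algebra.TensorProduct.map (AlgHom.id K S) π).comp σ = Algebra.TensorProduct.includeRight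

omit W in
lemma SmWit.map {S S' : Type*} [CommRing S] [Algebra K S] [CommRing S'] [Algebra K S']
    (h : SmWit π S) (ψ : S →ₐ[K] S') : SmWit π S' := by
  obtain ⟨σ, hσ⟩ := h
  refine ⟨(Algebra.TensorProduct.map ψ (AlgHom.id K _)).comp σ, ?_⟩
  have e : (Algebra.TensorProduct.map (AlgHom.id K S') π).comp
      (Algebra.TensorProduct.map ψ (AlgHom.id K _)) =
      (Algebra.TensorProduct.map ψ (AlgHom.id K C)).comp
        (Algebra.TensorProduct.map (AlgHom.id K S) π) := by
    apply Algebra.TensorProduct.ext'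
    intro a b
    simp
  rw [← AlgHom.comp_assoc, e, AlgHom.comp_assoc, hσ]
  ext c
  simp

omit W in
lemma SmWit.formallySmooth {P₀ : Type*} [CommRing P₀] [Algebra K P₀] [Algebra.FormallySmooth K P₀]
    (f₀ : P₀ →ₐ[K] C) (pr : P₀ →ₐ[K] Q) (hpr : Function.Surjective pr)
    (hπ : π.comp pr = f₀) (hker : RingHom.ker pr.toRingHom ≤ RingHom.ker f₀.toRingHom ^ 2)
    {S : Type*} [CommRing S] [Algebra K S]
    (h : SmWit π S) : Algebra.FormallySmooth S (S ⊗[K] C) := by
  obtain ⟨σ, hσ⟩ := h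
  let fS : S ⊗[K] P₀ →ₐ[S] S ⊗[K] C := Algebra.TensorProduct.map (AlgHom.id S S) f₀
  let ι₀ : P₀ →ₐ[K] (S ⊗[K] P₀) ⧸ RingHom.ker fS.toRingHom ^ 2 :=
    ((Ideal.Quotient.mkₐ S _).restrictScalars K).comp Algebra.TensorProduct.includeRight
  have hι₀ : RingHom.ker pr.toRingHom ≤ RingHom.ker ι₀.toRingHom := by
    refine hker.trans ?_
    have h1 : (RingHom.ker f₀.toRingHom).map
        (Algebra.TensorProduct.includeRight : P₀ →ₐ[K] S ⊗[K] P₀).toRingHom ≤
        RingHom.ker fS.toRingHom := by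
      rw [Ideal.map_le_iff_le_comap]
      intro x hx
      have hx' : f₀ x = 0 := hx
      simp [fS, RingHom.mem_ker, hx']
    intro x hx
    rw [RingHom.mem_ker]
    change Ideal.Quotient.mk _ ((1 : S) ⊗ₜ[K] x) = 0
    rw [Ideal.Quotient.eq_zero_iff_mem]
    refine Ideal.pow_right_mono h1 2 ?_
    rw [← Ideal.map_pow]
    exact Ideal.mem_map_of_mem _ hx
  let q₀ : Q →ₐ[K] (S ⊗[K] P₀) ⧸ RingHom.ker fS.toRingHom ^ 2 :=
    AlgHom.liftOfSurjective pr hpr ι₀ hι₀
  let τ : S ⊗[K] Q →ₐ[S] (S ⊗[K] P₀) ⧸ RingHom.ker fS.toRingHom ^ 2 :=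
    Algebra.TensorProduct.lift (Algebra.ofId S _) q₀ (fun _ _ => Commute.all _ _)
  let Sg : S ⊗[K] C →ₐ[S] S ⊗[K] Q :=
    Algebra.TensorProduct.lift (Algebra.ofId S _) σ (fun _ _ => Commute.all _ _)
  have : Algebra.FormallySmooth S (S ⊗[K] P₀) := inferInstance
  apply Algebra.FormallySmooth.of_split fS (τ.comp Sg)
  have e1 : ∀ z, fS.kerSquareLift (τ z) =
      Algebra.TensorProduct.map (AlgHom.id K S) π z := by
    intro z
    induction z using TensorProduct.induction_on with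
    | zero => simp only [map_zero]
    | tmul a q =>
      obtain ⟨p, rfl⟩ := hpr q
      have h2 : q₀ (pr p) = Ideal.Quotient.mk _ ((1 : S) ⊗ₜ[K] p) :=
        AlgHom.liftOfSurjective_apply pr hpr ι₀ hι₀ p
      have h3 : fS.kerSquareLift (Ideal.Quotient.mk _ ((1 : S) ⊗ₜ[K] p)) = (1 : S) ⊗ₜ[K] f₀ p := by
        rw [AlgHom.kerSquareLift_mk]; simp [fS]
      have h4 : π (pr p) = f₀ p := AlgHom.congr_fun hπ p
      simp only [τ, Algebra.TensorProduct.lift_tmul, Algebra.ofId_apply, map_mul,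
        Algebra.TensorProduct.map_tmul, AlgHom.coe_id, id_eq, h2, h3, h4, AlgHom.commutes,
        Algebra.TensorProduct.algebraMap_apply, Algebra.algebraMap_self, RingHom.id_apply,
        Algebra.TensorProduct.tmul_mul_tmul, mul_one, one_mul]
    | add x y hx hy => simp only [map_add, hx, hy]
  apply Algebra.TensorProduct.ext'
  intro a c
  have h4 : Sg (a ⊗ₜ[K] c) = algebraMap S _ a * σ c := by
    simp only [Sg, Algebra.TensorProduct.lift_tmul, Algebra.ofId_apply]
  simp only [AlgHom.coe_comp, Function.comp_apply, AlgHom.coe_id, id_eq]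
  rw [h4, map_mul, map_mul, AlgHom.commutes, AlgHom.commutes, e1]
  have h5 := AlgHom.congr_fun hσ c
  simp only [AlgHom.coe_comp, Function.comp_apply] at h5
  rw [h5]
  simp [Algebra.TensorProduct.algebraMap_apply]

include W in
/-- Core of the descent of formal smoothness, for an abstract square-zero thickening. -/
theorem exists_formallySmooth_aux [Algebra.FinitePresentation K C]
    {P₀ : Type*} [CommRing P₀] [Algebra K P₀] [Algebra.FormallySmooth K P₀]
    (f₀ : P₀ →ₐ[K] C) (pr : P₀ →ₐ[K] Q) (hpr : Function.Surjective pr)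
    (hπ : π.comp pr = f₀) (hker : RingHom.ker pr.toRingHom ≤ RingHom.ker f₀.toRingHom ^ 2)
    (hπs : Function.Surjective π) (hsq : RingHom.ker π.toRingHom ^ 2 = ⊥)
    (h : Algebra.FormallySmooth A (A ⊗[K] C)) :
    ∃ j : ι, ∀ (S : Type _) [CommRing S] [Algebra K S] (_ : G j →ₐ[K] S),
      Algebra.FormallySmooth S (S ⊗[K] C) := by
  let πA : A ⊗[K] Q →ₐ[A] A ⊗[K] C := Algebra.TensorProduct.map (AlgHom.id A A) π
  have hπA : Function.Surjective πA :=
    Algebra.TensorProduct.map_surjective _ _ (fun x => ⟨x, rfl⟩) hπs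
  have hnil : IsNilpotent (RingHom.ker (πA : A ⊗[K] Q →+* A ⊗[K] C)) := by
    refine ⟨2, ?_⟩
    have h1 : RingHom.ker (πA : A ⊗[K] Q →+* A ⊗[K] C) =
        RingHom.ker (Algebra.TensorProduct.map (AlgHom.id K A) π) := by
      ext x; rfl
    rw [h1, Algebra.TensorProduct.lTensor_ker π hπs, Ideal.zero_eq_bot, ← le_bot_iff]
    have h2 : RingHom.ker π ^ 2 = ⊥ := hsq
    have h3 := Ideal.map_pow (Algebra.TensorProduct.includeRight : Q →ₐ[K] A ⊗[K] Q)
      (RingHom.ker π) 2
    rw [← h3, h2, Ideal.map_bot]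
  let σA : A ⊗[K] C →ₐ[A] A ⊗[K] Q :=
    Algebra.FormallySmooth.liftOfSurjective (AlgHom.id A _) πA hπA hnil
  have hσA : ∀ x, πA (σA x) = x :=
    Algebra.FormallySmooth.liftOfSurjective_apply (AlgHom.id A _) πA hπA hnil
  let σ₀ : C →ₐ[K] A ⊗[K] Q := (σA.restrictScalars K).comp Algebra.TensorProduct.includeRight
  obtain ⟨i₀⟩ := W.nonempty
  obtain ⟨i, -, -, σ₁, hσ₁⟩ := (W.tensorRight Q).exists_factor C σ₀ i₀
  obtain ⟨j, Φ, ⟨φ, hφ, rfl⟩, hΦ⟩ := (W.tensorRight C).exists_comp_eq C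
    ((Algebra.TensorProduct.map (AlgHom.id K (G i)) π).comp σ₁)
    Algebra.TensorProduct.includeRight (by
      apply AlgHom.ext
      intro c
      have h1 := AlgHom.congr_fun hσ₁ c
      simp only [tensorRight, AlgHom.coe_comp, Function.comp_apply] at h1 ⊢
      have e : ∀ z, (Algebra.TensorProduct.map (W.g i) (AlgHom.id K C))
          ((Algebra.TensorProduct.map (AlgHom.id K (G i)) π) z) =
          πA ((Algebra.TensorProduct.map (W.g i) (AlgHom.id K Q)) z) := by
        intro z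
        induction z using TensorProduct.induction_on with
        | zero => simp
        | tmul a q => simp [πA]
        | add x y hx hy => simp only [map_add, hx, hy]
      rw [e, h1]
      simp only [σ₀, AlgHom.coe_comp, Function.comp_apply, AlgHom.coe_restrictScalars']
      rw [hσA]
      simp)
  have hwit : SmWit π (G j) := by
    refine ⟨(Algebra.TensorProduct.map φ (AlgHom.id K Q)).comp σ₁, ?_⟩
    apply AlgHom.ext
    intro c
    have h1 := AlgHom.congr_fun hΦ c
    simp only [AlgHom.coe_comp, Function.comp_apply] at h1 ⊢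
    have e : ∀ z, (Algebra.TensorProduct.map (AlgHom.id K (G j)) π)
        ((Algebra.TensorProduct.map φ (AlgHom.id K Q)) z) =
        (Algebra.TensorProduct.map φ (AlgHom.id K C))
          ((Algebra.TensorProduct.map (AlgHom.id K (G i)) π) z) := by
      intro z
      induction z using TensorProduct.induction_on with
      | zero => simp
      | tmul a q => simp
      | add x y hx hy => simp only [map_add, hx, hy]
    rw [e, h1]
    simp
  exact ⟨j, fun S _ _ ψ => (hwit.map π ψ).formallySmooth π f₀ pr hpr hπ hker⟩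

include W in
/-- Formal smoothness of `A → A ⊗ C` descends to a stage (and all later stages). -/
theorem exists_formallySmooth [Algebra.FinitePresentation K C]
    (h : Algebra.FormallySmooth A (A ⊗[K] C)) :
    ∃ j : ι, ∀ (S : Type _) [CommRing S] [Algebra K S] (_ : G j →ₐ[K] S),
      Algebra.FormallySmooth S (S ⊗[K] C) := by
  obtain ⟨n, f₀, hf₀, -⟩ := Algebra.FinitePresentation.out (R := K) (A := C)
  refine W.exists_formallySmooth_aux (Q := MvPolynomial (Fin n) K ⧸ RingHom.ker f₀.toRingHom ^ 2)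
    f₀.kerSquareLift f₀ (Ideal.Quotient.mkₐ K _) (Ideal.Quotient.mkₐ_surjective K _) ?_ ?_ ?_ ?_ h
  · apply AlgHom.ext
    intro p
    exact f₀.kerSquareLift_mk p
  · intro x hx
    have : Ideal.Quotient.mk (RingHom.ker f₀.toRingHom ^ 2) x = 0 := hx
    exact Ideal.Quotient.eq_zero_iff_mem.mp this
  · intro c
    obtain ⟨p, rfl⟩ := hf₀ c
    exact ⟨Ideal.Quotient.mk _ p, f₀.kerSquareLift_mk p⟩
  · rw [AlgHom.ker_kerSquareLift, Ideal.cotangentIdeal_square]

end Smooth

section Combine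

variable {C}

universe v

include W in
omit [CommRing C] [Algebra K C] in
/-- Two eventually-true properties of stages are eventually simultaneously true. -/
lemma exists_and {P₁ P₂ : ∀ (S : Type v) [CommRing S] [Algebra K S], Prop}
    (h₁ : ∃ j : ι, ∀ (S : Type v) [CommRing S] [Algebra K S] (_ : G j →ₐ[K] S), P₁ S)
    (h₂ : ∃ j : ι, ∀ (S : Type v) [CommRing S] [Algebra K S] (_ : G j →ₐ[K] S), P₂ S) :
    ∃ j : ι, ∀ (S : Type v) [CommRing S] [Algebra K S] (_ : G j →ₐ[K] S), P₁ S ∧ P₂ S := by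
  obtain ⟨j₁, h₁⟩ := h₁
  obtain ⟨j₂, h₂⟩ := h₂
  obtain ⟨k, φ, ψ, -, -⟩ := W.directed j₁ j₂
  exact ⟨k, fun S _ _ θ => ⟨h₁ S (θ.comp φ), h₂ S (θ.comp ψ)⟩⟩

include W in
theorem exists_unramified [Algebra.FiniteType K C] (h : Algebra.Unramified A (A ⊗[K] C)) :
    ∃ j : ι, ∀ (S : Type v) [CommRing S] [Algebra K S] (_ : G j →ₐ[K] S),
      Algebra.Unramified S (S ⊗[K] C) := by
  obtain ⟨j, hj⟩ := W.exists_formallyUnramified h.formallyUnramified
  exact ⟨j, fun S _ _ ψ => { formallyUnramified := hj S ψ, finiteType := inferInstance }⟩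

include W in
theorem exists_smooth [Algebra.FinitePresentation K C] (h : Algebra.Smooth A (A ⊗[K] C)) :
    ∃ j : ι, ∀ (S : Type v) [CommRing S] [Algebra K S] (_ : G j →ₐ[K] S),
      Algebra.Smooth S (S ⊗[K] C) := by
  obtain ⟨j, hj⟩ := W.exists_formallySmooth h.formallySmooth
  exact ⟨j, fun S _ _ ψ => { formallySmooth := hj S ψ, finitePresentation := inferInstance }⟩

include W in
theorem exists_etale [Algebra.FinitePresentation K C] (h : Algebra.Etale A (A ⊗[K] C)) :
    ∃ j : ι, ∀ (S : Type v) [CommRing S] [Algebra K S] (_ : G j →ₐ[K] S),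
      Algebra.Etale S (S ⊗[K] C) := by
  have h' := h.formallyEtale
  rw [Algebra.FormallyEtale.iff_formallyUnramified_and_formallySmooth] at h'
  obtain ⟨j, hj⟩ := W.exists_and (W.exists_formallyUnramified h'.1)
    (W.exists_formallySmooth h'.2)
  refine ⟨j, fun S _ _ ψ => ?_⟩
  have := hj S ψ
  exact { formallyEtale := Algebra.FormallyEtale.iff_formallyUnramified_and_formallySmooth.mpr this
          finitePresentation := inferInstance }

end Combine

end WeakColimit

end Groth.Agent.H5.CA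

namespace Groth.Agent.H5.CA

/-- The weak colimit structure from a (not necessarily functorial) directed family with compatible
maps to `A` which are jointly surjective and whose kernels die. -/
def WeakColimit.ofDirected {ι : Type*} [Preorder ι] [IsDirected ι (· ≤ ·)] [Nonempty ι]
    (A₀ : Type*) [CommRing A₀] (G : ι → Type*) [∀ i, CommRing (G i)] [∀ i, Algebra A₀ (G i)]
    (f : ∀ i j, i ≤ j → (G i →ₐ[A₀] G j)) (A : Type*) [CommRing A] [Algebra A₀ A]
    (g : ∀ i, G i →ₐ[A₀] A) (hg : ∀ i j (h : i ≤ j), (g j).comp (f i j h) = g i)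
    (hsurj : ∀ a : A, ∃ i, ∃ x : G i, g i x = a)
    (hker : ∀ i (x : G i), g i x = 0 → ∃ j, ∃ h : i ≤ j, f i j h x = 0) :
    WeakColimit A₀ G A where
  g := g
  Adm i j φ := (g j).comp φ = g i
  adm_id i := AlgHom.comp_id _
  adm_comp _ _ _ φ ψ hφ hψ := by rw [← AlgHom.comp_assoc, hψ, hφ]
  adm_compat _ _ φ h := h
  nonempty := inferInstance
  directed i j := by
    obtain ⟨k, hik, hjk⟩ := exists_ge_ge i j
    exact ⟨k, f i k hik, f j k hjk, hg _ _ _, hg _ _ _⟩
  surj := hsurj
  ker i x hx := by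
    obtain ⟨j, h, hj⟩ := hker i x hx
    exact ⟨j, f i j h, hg i j h, hj⟩

end Groth.Agent.H5.CA
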