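import Groth.Agent.Lib.Helper5.CA.WeakColimitDescent

set_option autoImplicit false

namespace Groth.Agent.H5.CA

open TensorProduct

namespace WeakColimit

variable {K : Type*} [CommRing K] {ι : Type*} {G : ι → Type*} [∀ i, CommRing (G i)]
  [∀ i, Algebra K (G i)] {A : Type*} [CommRing A] [Algebra K A] (W : WeakColimit K G A)

lemma rTensor_g_adm (N : Type*) [AddCommGroup N] [Module K N] {i j : ι} (φ : G i →ₐ[K] G j)
    (hφ : W.Adm φ) (x : G i ⊗[K] N) :
    (W.g j).toLinearMap.rTensor N (φ.toLinearMap.rTensor N x) =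
      (W.g i).toLinearMap.rTensor N x := by
  rw [← LinearMap.comp_apply, ← LinearMap.rTensor_comp]
  have : (W.g j).toLinearMap ∘ₗ φ.toLinearMap = (W.g i).toLinearMap := by
    ext y; exact W.g_adm φ hφ y
  rw [this]

lemma exists_rTensor_lift_family (N : Type*) [AddCommGroup N] [Module K N] {σ : Type*} [Finite σ]
    (i₀ : ι) (y : σ → A ⊗[K] N) :
    ∃ (j : ι) (φ : G i₀ →ₐ[K] G j), W.Adm φ ∧
      ∃ x : σ → G j ⊗[K] N, ∀ s, (W.g j).toLinearMap.rTensor N (x s) = y s := by
  classical
  have := Fintype.ofFinite σ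
  suffices h : ∀ t : Finset σ, ∃ (j : ι) (φ : G i₀ →ₐ[K] G j), W.Adm φ ∧
      ∃ x : σ → G j ⊗[K] N, ∀ s ∈ t, (W.g j).toLinearMap.rTensor N (x s) = y s by
    obtain ⟨j, φ, hφ, x, hx⟩ := h Finset.univ
    exact ⟨j, φ, hφ, x, fun s => hx s (Finset.mem_univ s)⟩
  intro t
  induction t using Finset.induction with
  | empty => exact ⟨i₀, AlgHom.id K _, W.adm_id i₀, fun _ => 0, by simp⟩
  | insert a t _ ih =>
    obtain ⟨j, φ, hφ, x, hx⟩ := ih
    obtain ⟨k, ψ, hψ, z, hz⟩ := W.exists_rTensor_lift N j (y a)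
    refine ⟨k, ψ.comp φ, W.adm_comp φ ψ hφ hψ,
      fun s => if s = a then z else ψ.toLinearMap.rTensor N (x s), ?_⟩
    intro s hs
    rw [Finset.mem_insert] at hs
    by_cases hsa : s = a
    · subst hsa; simp [hz]
    · simp only [hsa, if_false]
      rw [W.rTensor_g_adm N ψ hψ]
      exact hx s (hs.resolve_left hsa)

/-- two linear maps from a finite module into `G i ⊗ N` which agree in `A ⊗ N` agree at a later
stage. -/
theorem exists_eq_linearMap {M : Type*} [AddCommGroup M] [Module K M] [Module.Finite K M]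
    (N : Type*) [AddCommGroup N] [Module K N] {i : ι} (ν ν' : M →ₗ[K] G i ⊗[K] N)
    (h : ∀ m, (W.g i).toLinearMap.rTensor N (ν m) = (W.g i).toLinearMap.rTensor N (ν' m)) :
    ∃ (j : ι) (φ : G i →ₐ[K] G j), W.Adm φ ∧
      ∀ m, φ.toLinearMap.rTensor N (ν m) = φ.toLinearMap.rTensor N (ν' m) := by
  obtain ⟨s, hs⟩ := (Module.Finite.fg_top : (⊤ : Submodule K M).FG)
  obtain ⟨j, φ, hφ, hkill⟩ := W.exists_rTensor_kill_family N (σ := s)
    (fun m => ν m.1 - ν' m.1) (fun m => by rw [map_sub, h, sub_self])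
  refine ⟨j, φ, hφ, fun m => ?_⟩
  have : (φ.toLinearMap.rTensor N) ∘ₗ ν = (φ.toLinearMap.rTensor N) ∘ₗ ν' := by
    apply LinearMap.ext_on_range (v := fun m : s => m.1)
    · have : (Set.range fun m : s => (m.1 : M)) = (s : Set M) := Subtype.range_coe
      rw [this]; exact hs
    · intro m
      have := hkill m
      rw [map_sub, sub_eq_zero] at this
      exact this
  exact LinearMap.congr_fun this m

/-- a linear map from a finitely presented module into `A ⊗ N` lifts to some `G j ⊗ N`. -/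
theorem exists_lift_linearMap {M : Type*} [AddCommGroup M] [Module K M]
    [Module.FinitePresentation K M] (N : Type*) [AddCommGroup N] [Module K N] (i₀ : ι)
    (ν : M →ₗ[K] A ⊗[K] N) :
    ∃ (j : ι) (φ : G i₀ →ₐ[K] G j), W.Adm φ ∧ ∃ ν' : M →ₗ[K] G j ⊗[K] N,
      ∀ m, (W.g j).toLinearMap.rTensor N (ν' m) = ν m := by
  classical
  obtain ⟨n, r, f, g, hf, hex⟩ := Module.FinitePresentation.exists_fin' K M
  obtain ⟨j, φ, hφ, x, hx⟩ := W.exists_rTensor_lift_family N i₀
    (fun i : Fin n => ν (f (Pi.single i 1)))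
  -- the map on the free module
  let μ : (Fin n → K) →ₗ[K] G j ⊗[K] N := Fintype.linearCombination K x
  have hμ : ∀ v, (W.g j).toLinearMap.rTensor N (μ v) = ν (f v) := by
    intro v
    have : ((W.g j).toLinearMap.rTensor N) ∘ₗ μ = ν ∘ₗ f := by
      apply LinearMap.pi_ext'
      intro i
      ext
      simp [μ, Fintype.linearCombination_apply_single, hx]
    exact LinearMap.congr_fun this v
  obtain ⟨k, ψ, hψ, hkill⟩ := W.exists_rTensor_kill_family N (σ := Fin r)
    (fun l => μ (g (Pi.single l 1))) (fun l => by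
      rw [hμ, hex.apply_apply_eq_zero, map_zero])
  let μ' : (Fin n → K) →ₗ[K] G k ⊗[K] N := (ψ.toLinearMap.rTensor N) ∘ₗ μ
  have hμ'g : μ' ∘ₗ g = 0 := by
    apply LinearMap.pi_ext'
    intro l
    ext
    simpa [μ'] using hkill l
  have hker : LinearMap.ker f ≤ LinearMap.ker μ' := by
    intro v hv
    obtain ⟨w, rfl⟩ := (hex v).1 hv
    exact LinearMap.congr_fun hμ'g w
  let e := LinearMap.quotKerEquivOfSurjective f hf
  let ν' : M →ₗ[K] G k ⊗[K] N := (Submodule.liftQ (LinearMap.ker f) μ' hker) ∘ₗ e.symm.toLinearMap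
  have hν' : ∀ v, ν' (f v) = μ' v := by
    intro v
    have : e.symm (f v) = Submodule.Quotient.mk v := by
      rw [LinearEquiv.symm_apply_eq]
      rfl
    simp only [ν', LinearMap.comp_apply, LinearEquiv.coe_coe, this, Submodule.liftQ_apply]
  refine ⟨k, ψ.comp φ, W.adm_comp φ ψ hφ hψ, ν', fun m => ?_⟩
  obtain ⟨v, rfl⟩ := hf m
  rw [hν']
  simp only [μ', LinearMap.comp_apply]
  rw [W.rTensor_g_adm N ψ hψ, hμ]

end WeakColimit

end Groth.Agent.H5.CA

namespace Groth.Agent.H5.CA

open TensorProduct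

/-- a retraction criterion for projectivity of a base change. -/
lemma projective_baseChange_of_section {R : Type*} [CommRing R] (S : Type*) [CommRing S]
    [Algebra R S] {M : Type*} [AddCommGroup M] [Module R M] {n : ℕ} (f : (Fin n → R) →ₗ[R] M)
    (ν : M →ₗ[R] S ⊗[R] (Fin n → R)) (h : ∀ m, f.lTensor S (ν m) = 1 ⊗ₜ m) :
    Module.Projective S (S ⊗[R] M) := by
  refine Module.Projective.of_split (ν.liftBaseChange S) (f.baseChange S) ?_
  apply TensorProduct.AlgebraTensorModule.curry_injective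
  ext m
  simp only [TensorProduct.AlgebraTensorModule.curry_apply, LinearMap.restrictScalars_comp,
    TensorProduct.curry_apply, LinearMap.coe_comp, LinearMap.coe_restrictScalars,
    Function.comp_apply, LinearMap.liftBaseChange_tmul, one_smul, LinearMap.id_coe, id_eq]
  rw [LinearMap.baseChange_eq_ltensor]
  exact h m

namespace WeakColimit

variable {K : Type*} [CommRing K] {ι : Type*} {G : ι → Type*} [∀ i, CommRing (G i)]
  [∀ i, Algebra K (G i)] {A : Type*} [CommRing A] [Algebra K A] (W : WeakColimit K G A)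

/-- projectivity of the base change of a finitely presented module descends to a finite stage. -/
theorem exists_projective_baseChange {M : Type*} [AddCommGroup M] [Module K M]
    [Module.FinitePresentation K M] (i₀ : ι) (h : Module.Projective A (A ⊗[K] M)) :
    ∃ (j : ι) (φ : G i₀ →ₐ[K] G j), W.Adm φ ∧ Module.Projective (G j) (G j ⊗[K] M) := by
  obtain ⟨n, r, f, g, hf, -⟩ := Module.FinitePresentation.exists_fin' K M
  have hfA : Function.Surjective (f.baseChange A) := by
    rw [LinearMap.baseChange_eq_ltensor]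
    exact LinearMap.lTensor_surjective A hf
  obtain ⟨s, hs⟩ := Module.projective_lifting_property (f.baseChange A) LinearMap.id hfA
  let ν : M →ₗ[K] A ⊗[K] (Fin n → K) :=
    (s.restrictScalars K) ∘ₗ (TensorProduct.mk K A M 1)
  have hν : ∀ m, f.lTensor A (ν m) = 1 ⊗ₜ m := by
    intro m
    have := LinearMap.congr_fun hs ((1 : A) ⊗ₜ[K] m)
    simp only [LinearMap.comp_apply, LinearMap.id_apply] at this
    rw [LinearMap.baseChange_eq_ltensor] at this
    exact this
  obtain ⟨j, φ, hφ, ν', hν'⟩ := W.exists_lift_linearMap (Fin n → K) i₀ ν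
  obtain ⟨k, ψ, hψ, hk⟩ := W.exists_eq_linearMap M ((f.lTensor (G j)) ∘ₗ ν')
    (TensorProduct.mk K (G j) M 1) (fun m => by
      simp only [LinearMap.comp_apply, TensorProduct.mk_apply, LinearMap.rTensor_tmul,
        AlgHom.toLinearMap_apply, map_one]
      rw [← LinearMap.comp_apply, LinearMap.rTensor_comp_lTensor, ← LinearMap.lTensor_comp_rTensor,
        LinearMap.comp_apply, hν', hν])
  refine ⟨k, ψ.comp φ, W.adm_comp φ ψ hφ hψ, ?_⟩
  refine projective_baseChange_of_section (G k) f ((ψ.toLinearMap.rTensor (Fin n → K)) ∘ₗ ν')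
    (fun m => ?_)
  have := hk m
  simp only [LinearMap.comp_apply, TensorProduct.mk_apply, LinearMap.rTensor_tmul,
    AlgHom.toLinearMap_apply, map_one] at this
  rw [LinearMap.comp_apply, ← LinearMap.comp_apply, LinearMap.lTensor_comp_rTensor,
    ← LinearMap.rTensor_comp_lTensor, LinearMap.comp_apply]
  exact this

end WeakColimit

end Groth.Agent.H5.CA
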