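import Mathlib

set_option autoImplicit false
universe u

open TensorProduct

namespace Groth.Agent.H5.ZJ

variable {B C : Type u} [CommRing B] [CommRing C] [Algebra B C]

/-- the `B`-linear identification of residue fields `κ(q) ≃ κ(p)` for `q` the contraction of `p`
along a surjection. -/
noncomputable def residueEquiv (hsurj : Function.Surjective (algebraMap B C)) (p : Ideal C)
    [p.IsPrime] (q : Ideal B) [q.IsPrime] (hqp : q = p.comap (algebraMap B C)) :
    q.ResidueField ≃ₗ[B] p.ResidueField :=
  LinearEquiv.ofBijective
    { toFun := Ideal.ResidueField.map q p (algebraMap B C) hqp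
      map_add' := map_add _
      map_smul' := fun b x => by
        simp only [RingHom.id_apply]
        rw [Algebra.smul_def, map_mul, Ideal.ResidueField.map_algebraMap, Algebra.smul_def,
          ← IsScalarTower.algebraMap_apply] }
    ((RingHom.surjectiveOnStalks_of_surjective hsurj).residueFieldMap_bijective q p hqp)

theorem injective_lTensor_residueField_iff (hsurj : Function.Surjective (algebraMap B C))
    (p : Ideal C) [p.IsPrime] (q : Ideal B) [q.IsPrime] (hqp : q = p.comap (algebraMap B C))
    {M N : Type u} [AddCommGroup M] [AddCommGroup N] [Module B M] [Module B N] (u : M →ₗ[B] N) :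
    Function.Injective (u.lTensor p.ResidueField) ↔ Function.Injective (u.lTensor q.ResidueField) := by
  let e := residueEquiv hsurj p q hqp
  have hcomm : (u.lTensor p.ResidueField) ∘ₗ (e.rTensor M).toLinearMap =
      (e.rTensor N).toLinearMap ∘ₗ (u.lTensor q.ResidueField) := by
    ext x m
    simp
  constructor
  · intro h x y hxy
    apply (e.rTensor M).injective
    apply h
    have h1 := DFunLike.congr_fun hcomm x
    have h2 := DFunLike.congr_fun hcomm y
    simp only [LinearMap.comp_apply, LinearEquiv.coe_coe] at h1 h2
    rw [h1, h2, hxy]
  · intro h x y hxy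
    obtain ⟨x, rfl⟩ := (e.rTensor M).surjective x
    obtain ⟨y, rfl⟩ := (e.rTensor M).surjective y
    have h1 := DFunLike.congr_fun hcomm x
    have h2 := DFunLike.congr_fun hcomm y
    simp only [LinearMap.comp_apply, LinearEquiv.coe_coe] at h1 h2
    rw [h1, h2] at hxy
    rw [h ((e.rTensor N).injective hxy)]

end Groth.Agent.H5.ZJ
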