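import Mathlib

set_option autoImplicit false
universe u

open TensorProduct IsLocalRing

namespace Groth.Agent.H5.ZJ

variable {B : Type u} [CommRing B]

/-- common denominators in the residue field at a prime. -/
theorem exists_common_denom (q : Ideal B) [q.IsPrime] {ι : Type*} [Finite ι]
    (c : ι → q.ResidueField) :
    ∃ t : B, t ∉ q ∧ ∃ b : ι → B,
      ∀ i, algebraMap B q.ResidueField t * c i = algebraMap B q.ResidueField (b i) := by
  choose x hx using fun i => IsLocalRing.residue_surjective (c i)
  obtain ⟨t, ht⟩ := IsLocalization.exist_integer_multiples_of_finite q.primeCompl x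
  choose b hb using ht
  refine ⟨t.1, t.2, b, fun i => ?_⟩
  have h1 : algebraMap B (Localization.AtPrime q) (b i) =
      algebraMap B (Localization.AtPrime q) t.1 * x i := by
    rw [hb i, Algebra.smul_def]
  rw [IsScalarTower.algebraMap_apply B (Localization.AtPrime q) q.ResidueField,
    IsScalarTower.algebraMap_apply B (Localization.AtPrime q) q.ResidueField, h1, map_mul]
  congr 1
  exact (hx i).symm

/-- clearing denominators for membership in a localized span. -/
theorem exists_mul_mem_span (q : Ideal B) [q.IsPrime] {m : ℕ} (f : Fin m → B) (I : Ideal B)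
    (h : I.map (algebraMap B (Localization.AtPrime q)) ≤
      Ideal.span (Set.range fun i => algebraMap B (Localization.AtPrime q) (f i)))
    (x : B) (hx : x ∈ I) : ∃ s : B, s ∉ q ∧ s * x ∈ Ideal.span (Set.range f) := by
  have h1 : algebraMap B (Localization.AtPrime q) x ∈
      (Ideal.span (Set.range f)).map (algebraMap B (Localization.AtPrime q)) := by
    rw [Ideal.map_span, ← Set.range_comp]
    exact h (Ideal.mem_map_of_mem _ hx)
  rw [IsLocalization.mem_map_algebraMap_iff q.primeCompl] at h1
  obtain ⟨⟨a, s₁⟩, h2⟩ := h1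
  rw [← map_mul, IsLocalization.eq_iff_exists q.primeCompl] at h2
  obtain ⟨s₂, h3⟩ := h2
  refine ⟨s₂.1 * s₁.1, (s₂ * s₁).2, ?_⟩
  have : s₂.1 * s₁.1 * x = s₂.1 * a.1 := by
    rw [← h3]; ring
  rw [this]
  exact Ideal.mul_mem_left _ _ a.2

end Groth.Agent.H5.ZJ
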