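import Mathlib
import Groth.Agent.Lib.Helper5.CA.ZJ2

set_option autoImplicit false
universe u

open TensorProduct IsLocalRing KaehlerDifferential

namespace Groth.Agent.H5.ZJ

section span

variable {B : Type u} [CommRing B]

theorem span_tmul_eq_top (q : Ideal B) [q.IsPrime] (I : Ideal B) {m : ℕ} (f : Fin m → I)
    (h : I.map (algebraMap B (Localization.AtPrime q)) ≤
      Ideal.span (Set.range fun i => algebraMap B (Localization.AtPrime q) (f i : B))) :
    Submodule.span q.ResidueField
      (Set.range fun i => (1 : q.ResidueField) ⊗ₜ[B] I.toCotangent (f i)) = ⊤ := by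
  rw [eq_top_iff]
  rintro ξ -
  induction ξ using TensorProduct.induction_on with
  | zero => exact zero_mem _
  | add x y hx hy => exact add_mem hx hy
  | tmul c mm =>
    obtain ⟨x, rfl⟩ := Ideal.toCotangent_surjective I mm
    obtain ⟨s, hs, hsx⟩ := exists_mul_mem_span q (fun i => (f i : B)) I h x.1 x.2
    obtain ⟨b, hb⟩ := (Ideal.mem_span_range_iff_exists_fun).mp hsx
    have hsub : s • x = ∑ i, b i • f i := by
      apply Subtype.ext
      simp only [Submodule.coe_smul, smul_eq_mul, Submodule.coe_sum]
      exact hb.symm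
    have hs0 : algebraMap B q.ResidueField s ≠ 0 := by
      rw [Ne, Ideal.algebraMap_residueField_eq_zero]; exact hs
    have key : (1 : q.ResidueField) ⊗ₜ[B] I.toCotangent x =
        (algebraMap B q.ResidueField s)⁻¹ •
          ∑ i, algebraMap B q.ResidueField (b i) • ((1 : q.ResidueField) ⊗ₜ[B] I.toCotangent (f i)) := by
      have h1 : algebraMap B q.ResidueField s • ((1 : q.ResidueField) ⊗ₜ[B] I.toCotangent x) =
          ∑ i, algebraMap B q.ResidueField (b i) •
            ((1 : q.ResidueField) ⊗ₜ[B] I.toCotangent (f i)) := by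
        rw [algebraMap_smul, ← TensorProduct.tmul_smul, ← map_smul, hsub, map_sum,
          TensorProduct.tmul_sum]
        refine Finset.sum_congr rfl fun i _ => ?_
        rw [map_smul, TensorProduct.tmul_smul, algebraMap_smul]
      rw [← h1, smul_smul, inv_mul_cancel₀ hs0, one_smul]
    have h2 : c ⊗ₜ[B] I.toCotangent x = c • ((1 : q.ResidueField) ⊗ₜ[B] I.toCotangent x) := by
      rw [TensorProduct.smul_tmul', smul_eq_mul, mul_one]
    rw [h2, key]
    refine Submodule.smul_mem _ _ (Submodule.smul_mem _ _ (Submodule.sum_mem _ fun i _ => ?_))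
    exact Submodule.smul_mem _ _ (Submodule.subset_span ⟨i, rfl⟩)

end span

end Groth.Agent.H5.ZJ
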