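import Mathlib
import Groth.Agent.Lib.Helper5.CA.ZJ3

set_option autoImplicit false
universe u

open TensorProduct IsLocalRing KaehlerDifferential

namespace Groth.Agent.H5.ZJ

variable {A B C : Type u} [CommRing A] [CommRing B] [CommRing C] [Algebra A B] [Algebra B C]
  [Algebra A C] [IsScalarTower A B C]

/-- the ring map `C → κ(q)` for `q ⊇ ker (B → C)`. -/
noncomputable def rho (hsurj : Function.Surjective (algebraMap B C)) (q : Ideal B) [q.IsPrime]
    (hJq : RingHom.ker (algebraMap B C) ≤ q) : C →+* q.ResidueField :=
  (algebraMap B C).liftOfSurjective hsurj ⟨algebraMap B q.ResidueField, fun x hx => by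
    rw [RingHom.mem_ker, Ideal.algebraMap_residueField_eq_zero]
    exact hJq hx⟩

theorem rho_algebraMap (hsurj : Function.Surjective (algebraMap B C)) (q : Ideal B) [q.IsPrime]
    (hJq : RingHom.ker (algebraMap B C) ≤ q) (b : B) :
    rho hsurj q hJq (algebraMap B C b) = algebraMap B q.ResidueField b :=
  RingHom.liftOfRightInverse_comp_apply _ _ _ _ b

theorem injective_of_jacobian (hsurj : Function.Surjective (algebraMap B C)) (q : Ideal B)
    [q.IsPrime] (hJq : RingHom.ker (algebraMap B C) ≤ q) {m : ℕ}
    (f : Fin m → RingHom.ker (algebraMap B C)) (D : Fin m → Derivation A B B)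
    (hspan : (RingHom.ker (algebraMap B C)).map (algebraMap B (Localization.AtPrime q)) ≤
      Ideal.span (Set.range fun i => algebraMap B (Localization.AtPrime q) (f i : B)))
    (hdet : Matrix.det (Matrix.of fun i j => D j (f i : B)) ∉ q) :
    Function.Injective ((kerCotangentToTensor A B C).lTensor q.ResidueField) := by
  letI : Algebra C q.ResidueField := (rho hsurj q hJq).toAlgebra
  haveI : IsScalarTower B C q.ResidueField := IsScalarTower.of_algebraMap_eq (fun b => by
    rw [RingHom.algebraMap_toAlgebra, rho_algebraMap])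
  -- functionals
  let φ : Fin m → (C ⊗[B] Ω[B⁄A] →ₗ[C] q.ResidueField) := fun j =>
    LinearMap.liftBaseChange C ((Algebra.linearMap B q.ResidueField) ∘ₗ (D j).liftKaehlerDifferential)
  let Φ : Fin m → (q.ResidueField ⊗[B] (C ⊗[B] Ω[B⁄A]) →ₗ[q.ResidueField] q.ResidueField) :=
    fun j => LinearMap.liftBaseChange q.ResidueField ((φ j).restrictScalars B)
  have hΦ : ∀ j (x : RingHom.ker (algebraMap B C)),
      Φ j ((kerCotangentToTensor A B C).baseChange q.ResidueField
        ((1 : q.ResidueField) ⊗ₜ[B] Ideal.toCotangent _ x)) =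
        algebraMap B q.ResidueField (D j (x : B)) := by
    intro j x
    rw [LinearMap.baseChange_tmul, kerCotangentToTensor_toCotangent]
    show (1 : q.ResidueField) • (φ j) ((1 : C) ⊗ₜ[B] (KaehlerDifferential.D A B) x.1) = _
    rw [one_smul]
    show (1 : C) • ((Algebra.linearMap B q.ResidueField) ∘ₗ (D j).liftKaehlerDifferential)
      ((KaehlerDifferential.D A B) x.1) = _
    rw [one_smul, LinearMap.comp_apply, Derivation.liftKaehlerDifferential_comp_D,
      Algebra.linearMap_apply]
  have hspanκ := span_tmul_eq_top q (RingHom.ker (algebraMap B C)) f hspan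
  -- the matrix over κ
  let Mκ : Matrix (Fin m) (Fin m) q.ResidueField :=
    (algebraMap B q.ResidueField).mapMatrix (Matrix.of fun i j => D j (f i : B))
  have hMdet : Mκ.det ≠ 0 := by
    rw [← RingHom.map_det, Ne, Ideal.algebraMap_residueField_eq_zero]
    exact hdet
  have hinj : Function.Injective ((kerCotangentToTensor A B C).baseChange q.ResidueField) := by
    rw [injective_iff_map_eq_zero]
    intro ξ hξ
    have hmem : ξ ∈ Submodule.span q.ResidueField
        (Set.range fun i => (1 : q.ResidueField) ⊗ₜ[B]
          (RingHom.ker (algebraMap B C)).toCotangent (f i)) := by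
      rw [hspanκ]; trivial
    obtain ⟨a, rfl⟩ := (Submodule.mem_span_range_iff_exists_fun _).mp hmem
    have hvec : Matrix.vecMul a Mκ = 0 := by
      ext j
      have h1 := congrArg (Φ j) hξ
      rw [map_sum, map_sum, map_zero] at h1
      simp only [map_smul, hΦ] at h1
      rw [Matrix.vecMul, dotProduct]
      simpa [Mκ, Matrix.of_apply] using h1
    have ha : a = 0 := Matrix.eq_zero_of_vecMul_eq_zero hMdet hvec
    rw [ha]
    simp
  exact hinj

end Groth.Agent.H5.ZJ
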