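import Mathlib
import Groth.Agent.Lib.Helper5.CA.ZJ4
import Groth.Agent.Lib.Helper5.CA.LI4

set_option autoImplicit false
universe u

open TensorProduct IsLocalRing KaehlerDifferential

namespace Groth.Agent.H5.ZJ

variable {B : Type u} [CommRing B]

/-- K3'. -/
theorem algebraMap_mem_smul_of_tmul_eq_zero (q : Ideal B) [q.IsPrime] (I : Ideal B) (hIq : I ≤ q)
    (y : I) (hy : (1 : q.ResidueField) ⊗ₜ[B] I.toCotangent y = 0) :
    algebraMap B (Localization.AtPrime q) y ∈
      maximalIdeal (Localization.AtPrime q) • I.map (algebraMap B (Localization.AtPrime q)) := by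
  let θ₁ : I →ₗ[B] q.ResidueField ⊗[Localization.AtPrime q]
      (I.map (algebraMap B (Localization.AtPrime q))) :=
    { toFun := fun x => (1 : q.ResidueField) ⊗ₜ[Localization.AtPrime q]
        (Algebra.idealMap (Localization.AtPrime q) I x)
      map_add' := fun x x' => by rw [map_add, TensorProduct.tmul_add]
      map_smul' := fun b x => by
        simp only [RingHom.id_apply]
        rw [map_smul, ← algebraMap_smul (Localization.AtPrime q) b
          (Algebra.idealMap (Localization.AtPrime q) I x), ← TensorProduct.smul_tmul,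
          TensorProduct.smul_tmul', algebraMap_smul] }
  have hker : (I • ⊤ : Submodule B I) ≤ LinearMap.ker θ₁ := by
    rw [Submodule.smul_le]
    intro a ha x _
    rw [LinearMap.mem_ker, map_smul]
    show a • ((1 : q.ResidueField) ⊗ₜ[Localization.AtPrime q] _) = 0
    rw [TensorProduct.smul_tmul', Algebra.smul_def, mul_one,
      (Ideal.algebraMap_residueField_eq_zero).mpr (hIq ha), TensorProduct.zero_tmul]
  let θ : I.Cotangent →ₗ[B] q.ResidueField ⊗[Localization.AtPrime q]
      (I.map (algebraMap B (Localization.AtPrime q))) := Submodule.liftQ _ θ₁ hker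
  let Θ := θ.liftBaseChange q.ResidueField
  have h1 : Θ ((1 : q.ResidueField) ⊗ₜ[B] I.toCotangent y) =
      (1 : q.ResidueField) ⊗ₜ[Localization.AtPrime q]
        (Algebra.idealMap (Localization.AtPrime q) I y) := by
    rw [LinearMap.liftBaseChange_tmul, one_smul]
    rfl
  rw [hy, map_zero] at h1
  have h2 : Algebra.idealMap (Localization.AtPrime q) I y ∈
      LinearMap.ker (TensorProduct.mk (Localization.AtPrime q) q.ResidueField
        (I.map (algebraMap B (Localization.AtPrime q))) 1) := by
    rw [LinearMap.mem_ker, TensorProduct.mk_apply]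
    exact h1.symm
  have h3 := LI.ker_mk_residueField_le (R := Localization.AtPrime q)
    (I.map (algebraMap B (Localization.AtPrime q))) h2
  rw [Submodule.mem_smul_top_iff] at h3
  exact h3

/-- Nakayama: a family spanning `κ(q) ⊗ I/I²` generates `I B_q`. -/
theorem map_le_span_of_span_tmul_eq_top (q : Ideal B) [q.IsPrime] (I : Ideal B) (hfg : I.FG)
    (hIq : I ≤ q) {m : ℕ} (f : Fin m → I)
    (hspan : Submodule.span q.ResidueField
      (Set.range fun i => (1 : q.ResidueField) ⊗ₜ[B] I.toCotangent (f i)) = ⊤) :
    I.map (algebraMap B (Localization.AtPrime q)) ≤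
      Ideal.span (Set.range fun i => algebraMap B (Localization.AtPrime q) (f i : B)) := by
  have hN : (I.map (algebraMap B (Localization.AtPrime q))).FG := hfg.map _
  refine Submodule.le_of_le_smul_of_le_jacobson_bot hN
    (IsLocalRing.maximalIdeal_le_jacobson ⊥) ?_
  rw [Ideal.map_le_iff_le_comap]
  intro x hx
  rw [Ideal.mem_comap]
  have hmem : (1 : q.ResidueField) ⊗ₜ[B] I.toCotangent ⟨x, hx⟩ ∈ Submodule.span q.ResidueField
      (Set.range fun i => (1 : q.ResidueField) ⊗ₜ[B] I.toCotangent (f i)) := by
    rw [hspan]; trivial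
  obtain ⟨a, ha⟩ := (Submodule.mem_span_range_iff_exists_fun _).mp hmem
  obtain ⟨t, ht, b, hb⟩ := exists_common_denom q a
  let y : I := t • ⟨x, hx⟩ - ∑ i, b i • f i
  have hy : (1 : q.ResidueField) ⊗ₜ[B] I.toCotangent y = 0 := by
    show (1 : q.ResidueField) ⊗ₜ[B] I.toCotangent (t • ⟨x, hx⟩ - ∑ i, b i • f i) = 0
    rw [map_sub, map_smul, map_sum, TensorProduct.tmul_sub, TensorProduct.tmul_smul,
      TensorProduct.tmul_sum, ← ha, ← algebraMap_smul q.ResidueField t, Finset.smul_sum,
      ← Finset.sum_sub_distrib]
    refine Finset.sum_eq_zero fun i _ => ?_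
    rw [map_smul, TensorProduct.tmul_smul, ← algebraMap_smul q.ResidueField (b i), smul_smul,
      hb i, sub_self]
  have h1 := algebraMap_mem_smul_of_tmul_eq_zero q I hIq y hy
  have hyval : (y : B) = t * x - ∑ i, b i * (f i : B) := by
    simp [y]
  rw [hyval, map_sub, map_mul, map_sum] at h1
  have hunit : IsUnit (algebraMap B (Localization.AtPrime q) t) :=
    IsLocalization.map_units (M := q.primeCompl) (Localization.AtPrime q) ⟨t, ht⟩
  have h2 : algebraMap B (Localization.AtPrime q) t * algebraMap B (Localization.AtPrime q) x ∈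
      Ideal.span (Set.range fun i => algebraMap B (Localization.AtPrime q) (f i : B)) ⊔
      maximalIdeal (Localization.AtPrime q) • I.map (algebraMap B (Localization.AtPrime q)) := by
    have h3 : algebraMap B (Localization.AtPrime q) t * algebraMap B (Localization.AtPrime q) x =
        (∑ i, algebraMap B (Localization.AtPrime q) (b i * (f i : B))) +
        (algebraMap B (Localization.AtPrime q) t * algebraMap B (Localization.AtPrime q) x -
          ∑ i, algebraMap B (Localization.AtPrime q) (b i * (f i : B))) := by ring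
    rw [h3]
    refine Submodule.add_mem_sup (Submodule.sum_mem _ fun i _ => ?_) h1
    rw [map_mul]
    exact Ideal.mul_mem_left _ _ (Ideal.subset_span ⟨i, rfl⟩)
  obtain ⟨v, hv⟩ := hunit
  have h4 := Ideal.mul_mem_left _ (↑v⁻¹ : Localization.AtPrime q) h2
  rw [← hv, ← mul_assoc, Units.inv_mul, one_mul] at h4
  exact h4

end Groth.Agent.H5.ZJ
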