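import Mathlib
import Groth.Agent.Lib.Helper5.CA.ZJ5

set_option autoImplicit false
universe u

open TensorProduct IsLocalRing KaehlerDifferential

namespace Groth.Agent.H5.ZJ

/-- lifting finitely many values of residue-field-valued functionals on a projective module to
genuine functionals, up to a common denominator. -/
theorem exists_lift_functionals {B : Type u} [CommRing B] (q : Ideal B) [q.IsPrime]
    (Ω : Type u) [AddCommGroup Ω] [Module B Ω] [Module.Projective B Ω] {m : ℕ}
    (ω : Fin m → Ω) (lam : Fin m → (Ω →ₗ[B] q.ResidueField)) :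
    ∃ t : B, t ∉ q ∧ ∃ μ : Fin m → (Ω →ₗ[B] B),
      ∀ i j, algebraMap B q.ResidueField (μ j (ω i)) =
        algebraMap B q.ResidueField t * lam j (ω i) := by
  classical
  obtain ⟨s, hs⟩ := (Module.projective_def'.mp (inferInstance : Module.Projective B Ω))
  let I₀ : Finset Ω := Finset.univ.biUnion (fun i => (s (ω i)).support)
  let c : Fin m × I₀ → q.ResidueField := fun x => lam x.1 x.2.1
  obtain ⟨t, ht, b, hb⟩ := exists_common_denom q c
  let β : Fin m → Ω → B := fun j w => if h : w ∈ I₀ then b (j, ⟨w, h⟩) else 0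
  have hβ : ∀ j (w : Ω), w ∈ I₀ →
      algebraMap B q.ResidueField (β j w) = algebraMap B q.ResidueField t * lam j w := by
    intro j w hw
    simp only [β, dif_pos hw]
    exact (hb (j, ⟨w, hw⟩)).symm
  refine ⟨t, ht, fun j => (Finsupp.linearCombination B (β j)) ∘ₗ s, fun i j => ?_⟩
  have hsupp : ∀ w ∈ (s (ω i)).support, w ∈ I₀ := fun w hw =>
    Finset.mem_biUnion.mpr ⟨i, Finset.mem_univ _, hw⟩
  have h1 : ω i = ∑ w ∈ (s (ω i)).support, (s (ω i)) w • w := by
    have := DFunLike.congr_fun hs (ω i)
    rw [LinearMap.comp_apply, LinearMap.id_apply, Finsupp.linearCombination_apply,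
      Finsupp.sum] at this
    exact this.symm
  rw [LinearMap.comp_apply, Finsupp.linearCombination_apply, Finsupp.sum, map_sum]
  conv_rhs => rw [h1, map_sum, Finset.mul_sum]
  refine Finset.sum_congr rfl fun w hw => ?_
  rw [smul_eq_mul, map_mul, hβ j w (hsupp w hw), map_smul, Algebra.smul_def]
  ring

end Groth.Agent.H5.ZJ
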