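import Mathlib
import Groth.Agent.Lib.Helper5.CA.ZJ6

set_option autoImplicit false
universe u

open TensorProduct IsLocalRing KaehlerDifferential

namespace Groth.Agent.H5.ZJ

section basis

variable {B : Type u} [CommRing B]

theorem span_one_tmul_eq_top (q : Ideal B) [q.IsPrime] (I : Ideal B) :
    Submodule.span q.ResidueField
      (Set.range fun x : I => (1 : q.ResidueField) ⊗ₜ[B] I.toCotangent x) = ⊤ := by
  rw [eq_top_iff]
  rintro ξ -
  induction ξ using TensorProduct.induction_on with
  | zero => exact zero_mem _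
  | add x y hx hy => exact add_mem hx hy
  | tmul c mm =>
    obtain ⟨x, rfl⟩ := Ideal.toCotangent_surjective I mm
    have h2 : c ⊗ₜ[B] I.toCotangent x = c • ((1 : q.ResidueField) ⊗ₜ[B] I.toCotangent x) := by
      rw [TensorProduct.smul_tmul', smul_eq_mul, mul_one]
    rw [h2]
    exact Submodule.smul_mem _ _ (Submodule.subset_span ⟨x, rfl⟩)

theorem exists_basis_family (q : Ideal B) [q.IsPrime] (I : Ideal B) (hfg : I.FG) :
    ∃ (m : ℕ) (f : Fin m → I),
      Submodule.span q.ResidueField
        (Set.range fun i => (1 : q.ResidueField) ⊗ₜ[B] I.toCotangent (f i)) = ⊤ ∧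
      LinearIndependent q.ResidueField
        (fun i => (1 : q.ResidueField) ⊗ₜ[B] I.toCotangent (f i)) := by
  haveI : Module.Finite B I := Module.Finite.iff_fg.mpr hfg
  haveI : Module.Finite B I.Cotangent :=
    Module.Finite.of_surjective _ (Ideal.toCotangent_surjective _)
  have htop := span_one_tmul_eq_top q I
  obtain ⟨g, hg_mem, hg_span, hg_li⟩ := Submodule.exists_fun_fin_finrank_span_eq q.ResidueField
    (Set.range fun x : I => (1 : q.ResidueField) ⊗ₜ[B] I.toCotangent x)
  choose f hf using hg_mem
  have hgf : g = fun i => (1 : q.ResidueField) ⊗ₜ[B] I.toCotangent (f i) :=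
    funext fun i => (hf i).symm
  refine ⟨_, f, ?_, ?_⟩
  · rw [← hgf]; exact hg_span.trans htop
  · rw [← hgf]; exact hg_li

end basis

variable {A B C : Type u} [CommRing A] [CommRing B] [CommRing C] [Algebra A B] [Algebra B C]
  [Algebra A C] [IsScalarTower A B C]

theorem exists_jacobian_of_injective [Module.Projective B Ω[B⁄A]] (q : Ideal B) [q.IsPrime]
    (hJq : RingHom.ker (algebraMap B C) ≤ q) (hfg : (RingHom.ker (algebraMap B C)).FG)
    (hinj : Function.Injective ((kerCotangentToTensor A B C).lTensor q.ResidueField)) :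
    ∃ (m : ℕ) (f : Fin m → RingHom.ker (algebraMap B C)) (D : Fin m → Derivation A B B),
      (RingHom.ker (algebraMap B C)).map (algebraMap B (Localization.AtPrime q)) ≤
        Ideal.span (Set.range fun i => algebraMap B (Localization.AtPrime q) (f i : B)) ∧
      Matrix.det (Matrix.of fun i j => D j (f i : B)) ∉ q := by
  classical
  obtain ⟨m, f, hf_span, hf_li⟩ := exists_basis_family q (RingHom.ker (algebraMap B C)) hfg
  refine ⟨m, f, ?_⟩
  -- (ii) Nakayama
  have hspan := map_le_span_of_span_tmul_eq_top q (RingHom.ker (algebraMap B C)) hfg hJq f hf_span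
  -- (iii) independent images and dual functionals
  have hinj' : Function.Injective ((kerCotangentToTensor A B C).baseChange q.ResidueField) := hinj
  have hw_li : LinearIndependent q.ResidueField
      (fun i => (kerCotangentToTensor A B C).baseChange q.ResidueField
        ((1 : q.ResidueField) ⊗ₜ[B] (RingHom.ker (algebraMap B C)).toCotangent (f i))) :=
    hf_li.map' _ (LinearMap.ker_eq_bot.mpr hinj')
  have hLinj := (linearIndependent_iff_injective_fintypeLinearCombination).mp hw_li
  obtain ⟨ψ, hψ⟩ := LinearMap.exists_leftInverse_of_injective _ (LinearMap.ker_eq_bot.mpr hLinj)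
  have hψw : ∀ i, ψ ((1 : q.ResidueField) ⊗ₜ[B]
      ((1 : C) ⊗ₜ[B] KaehlerDifferential.D A B (f i : B))) = Pi.single i 1 := by
    intro i
    have h1 := DFunLike.congr_fun hψ (Pi.single i 1)
    rw [LinearMap.comp_apply, LinearMap.id_apply, Fintype.linearCombination_apply_single,
      one_smul, LinearMap.baseChange_tmul, kerCotangentToTensor_toCotangent] at h1
    exact h1
  -- (iv) lift to derivations
  let lam : Fin m → (Ω[B⁄A] →ₗ[B] q.ResidueField) := fun j =>
    ((LinearMap.proj j : (Fin m → q.ResidueField) →ₗ[q.ResidueField] q.ResidueField).restrictScalars B) ∘ₗ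
      (ψ.restrictScalars B) ∘ₗ (TensorProduct.mk B q.ResidueField (C ⊗[B] Ω[B⁄A]) 1) ∘ₗ
      (TensorProduct.mk B C Ω[B⁄A] 1)
  have hlam : ∀ i j, lam j (KaehlerDifferential.D A B (f i : B)) =
      (Pi.single i 1 : Fin m → q.ResidueField) j := by
    intro i j
    show (ψ ((1 : q.ResidueField) ⊗ₜ[B] ((1 : C) ⊗ₜ[B] KaehlerDifferential.D A B (f i : B)))) j = _
    rw [hψw]
  obtain ⟨t, ht, μ, hμ⟩ := exists_lift_functionals q Ω[B⁄A]
    (fun i => KaehlerDifferential.D A B (f i : B)) lam
  refine ⟨fun j => (μ j).compDer (KaehlerDifferential.D A B), hspan, ?_⟩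
  have ht0 : algebraMap B q.ResidueField t ≠ 0 := by
    rw [Ne, Ideal.algebraMap_residueField_eq_zero]; exact ht
  rw [← Ideal.algebraMap_residueField_eq_zero, RingHom.map_det]
  have hmat : (algebraMap B q.ResidueField).mapMatrix
      (Matrix.of fun i j => ((μ j).compDer (KaehlerDifferential.D A B)) (f i : B)) =
      algebraMap B q.ResidueField t • (1 : Matrix (Fin m) (Fin m) q.ResidueField) := by
    ext i j
    simp only [RingHom.mapMatrix_apply, Matrix.map_apply, Matrix.of_apply, Matrix.smul_apply]
    have hcd : ((μ j).compDer (KaehlerDifferential.D A B)) (f i : B) =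
        μ j (KaehlerDifferential.D A B (f i : B)) := rfl
    rw [hcd, hμ i j, hlam, Matrix.one_apply, smul_eq_mul, Pi.single_apply]
    by_cases hij : i = j
    · rw [if_pos hij, if_pos hij.symm]
    · rw [if_neg hij, if_neg (Ne.symm hij)]
  rw [hmat, Matrix.det_smul, Matrix.det_one, mul_one]
  exact pow_ne_zero _ ht0

end Groth.Agent.H5.ZJ
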