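import Mathlib
import Groth.Agent.Lib.Helper5.CA.ZJ7
import Groth.Agent.Lib.Helper5.CA.ZJ1
import Groth.Agent.Lib.Helper5.CA.FSL4

set_option autoImplicit false
universe u

open TensorProduct IsLocalRing KaehlerDifferential

namespace Groth.Agent.H5.ZJ

/-- Zariski's Jacobian criterion (EGA 0_IV 22.7.3-style), general formally smooth Noetherian `B`. -/
theorem formallySmooth_atPrime_iff_jacobian {A B : Type u} [CommRing A] [CommRing B] [Algebra A B]
    [Algebra.FormallySmooth A B] [IsNoetherianRing B]
    (J q : Ideal B) [q.IsPrime] (hJq : J ≤ q) [(q.map (Ideal.Quotient.mk J)).IsPrime] :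
    Algebra.FormallySmooth A (Localization.AtPrime (q.map (Ideal.Quotient.mk J))) ↔
      ∃ (m : ℕ) (f : Fin m → B) (D : Fin m → Derivation A B B),
        (∀ i, f i ∈ J) ∧
        J.map (algebraMap B (Localization.AtPrime q)) =
          Ideal.span (Set.range fun i => algebraMap B (Localization.AtPrime q) (f i)) ∧
        Matrix.det (Matrix.of fun i j => D j (f i)) ∉ q := by
  have hsurj : Function.Surjective (algebraMap B (B ⧸ J)) := Ideal.Quotient.mk_surjective
  have hK : RingHom.ker (algebraMap B (B ⧸ J)) = J := by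
    rw [Ideal.Quotient.algebraMap_eq, Ideal.mk_ker]
  have hqp : q = (q.map (Ideal.Quotient.mk J)).comap (algebraMap B (B ⧸ J)) := by
    rw [Ideal.Quotient.algebraMap_eq, Ideal.comap_map_of_surjective _ Ideal.Quotient.mk_surjective,
      ← RingHom.ker_eq_comap_bot, Ideal.mk_ker]
    exact (sup_eq_left.mpr hJq).symm
  have hKq : RingHom.ker (algebraMap B (B ⧸ J)) ≤ q := by rw [hK]; exact hJq
  haveI : Module.Finite B (RingHom.ker (algebraMap B (B ⧸ J))).Cotangent :=
    Module.Finite.of_surjective _ (Ideal.toCotangent_surjective _)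
  have h01 := (FSL.formallySmooth_atPrime_tfae (A := A) hsurj (q.map (Ideal.Quotient.mk J))).out 0 1
  rw [h01, injective_lTensor_residueField_iff hsurj (q.map (Ideal.Quotient.mk J)) q hqp]
  constructor
  · intro hinj
    obtain ⟨m, f, D, hspan, hdet⟩ := exists_jacobian_of_injective q hKq
      (IsNoetherian.noetherian _) hinj
    have hfJ : ∀ i, (f i : B) ∈ J := fun i => hK.le (f i).2
    refine ⟨m, fun i => (f i : B), D, hfJ, ?_, hdet⟩
    apply le_antisymm
    · exact (Ideal.map_mono hK.ge).trans hspan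
    · rw [Ideal.span_le]
      rintro _ ⟨i, rfl⟩
      exact Ideal.mem_map_of_mem _ (hfJ i)
  · rintro ⟨m, f, D, hf, hspan, hdet⟩
    have hfK : ∀ i, f i ∈ RingHom.ker (algebraMap B (B ⧸ J)) := fun i => by rw [hK]; exact hf i
    refine injective_of_jacobian hsurj q hKq (fun i => ⟨f i, hfK i⟩) D ?_ hdet
    show (RingHom.ker (algebraMap B (B ⧸ J))).map (algebraMap B (Localization.AtPrime q)) ≤
      Ideal.span (Set.range fun i => algebraMap B (Localization.AtPrime q) (f i))
    rw [hK, hspan]

end Groth.Agent.H5.ZJ
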